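import Groth.Agent.VarietyLib.GeomComponents

/-!
# Connected components through a rational point are geometrically connected
-/

set_option autoImplicit false
set_option backward.isDefEq.respectTransparency.types false

universe u

open CategoryTheory Limits AlgebraicGeometry

namespace Groth.Agent.SGA3cLib

/-- A connected closed subscheme containing a rational point is geometrically connected. -/
theorem geometricallyConnected_of_rational_point (k : Type u) [Field k] {X D : Scheme.{u}}
    (f : X ⟶ Spec (CommRingCat.of k)) (j : D ⟶ X) [IsClosedImmersion j] [ConnectedSpace D]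
    (x : Spec (CommRingCat.of k) ⟶ X) (hx : x ≫ f = 𝟙 _) (hxj : Set.range x.base ⊆ Set.range j.base) :
    GeometricallyConnected (j ≫ f) := by
  let K := SeparableClosure k
  let s : Spec (CommRingCat.of K) ⟶ Spec (CommRingCat.of k) :=
    Spec.map (CommRingCat.ofHom (algebraMap k K))
  haveI : IsIntegralHom s := IsIntegralHom.SpecMap_iff.mpr (Algebra.IsIntegral.isIntegral (R := k))
  set p := pullback.fst f s with hp
  let e : pullback x p ≅ Spec (CommRingCat.of K) :=
    haveI : IsIso (x ≫ f) := by rw [hx]; infer_instance
    pullbackRightPullbackFstIso f s x ≪≫ asIso (pullback.snd (x ≫ f) s)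
  have hs : Subsingleton ↥(pullback x p) := e.hom.homeomorph.injective.subsingleton
  obtain ⟨w⟩ : Nonempty ↥(pullback x p) := e.hom.homeomorph.toEquiv.nonempty
  let z := (pullback.snd x p).base w
  have hfib : ∀ z' : ↥(pullback f s), p.base z' ∈ Set.range x.base → z' = z := by
    intro z' hz'
    have : z' ∈ Set.range (pullback.snd x p).base := by
      rw [Scheme.Pullback.range_snd]; exact hz'
    obtain ⟨w', rfl⟩ := this
    rw [Subsingleton.elim w' w]
  have hz : p.base z ∈ Set.range x.base := by
    have : z ∈ Set.range (pullback.snd x p).base := ⟨w, rfl⟩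
    rw [Scheme.Pullback.range_snd] at this; exact this
  set q := pullback.fst j p with hq
  let m := pullback.snd j p
  have hmq : ∀ a, p.base (m.base a) = j.base (q.base a) := fun a => by
    change (m ≫ p).base a = (q ≫ j).base a
    rw [pullback.condition]
  obtain ⟨a₀, ha₀⟩ : z ∈ Set.range m.base := by
    rw [Scheme.Pullback.range_snd]; exact hxj hz
  haveI : ConnectedSpace ↥(pullback j p) := by
    have hcl : ∀ C : Set ↥(pullback j p), IsClopen C → C.Nonempty → a₀ ∈ C := by
      intro C hC hne
      have himg : IsClopen (q.base '' C) := ⟨q.isClosedMap _ hC.1, q.isOpenMap _ hC.2⟩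
      obtain ⟨c, hc, hc'⟩ : q.base a₀ ∈ q.base '' C := by
        rw [IsClopen.eq_univ himg (hne.image _)]; trivial
      have : m.base c = z := hfib _ (by rw [hmq, hc', ← hmq, ha₀]; exact hz)
      exact m.isClosedEmbedding.injective (this.trans ha₀.symm) ▸ hc
    rw [connectedSpace_iff_clopen]
    refine ⟨⟨a₀⟩, fun C hC => ?_⟩
    by_contra hcon
    simp only [not_or] at hcon
    exact hcl Cᶜ hC.compl (Set.nonempty_compl.mpr hcon.2)
      (hcl C hC (Set.nonempty_iff_ne_empty.mpr hcon.1))
  haveI : ConnectedSpace ↥(pullback (j ≫ f) s) :=
    (pullbackRightPullbackFstIso f s j).hom.homeomorph.connectedSpace_iff.mp this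
  exact VarietyLib.geometricallyConnected_of_connectedSpace k (j ≫ f)

/-- The preimage of the connected component of a rational point in any field extension is connected. -/
theorem isPreconnected_preimage_connectedComponent (k : Type u) [Field k] {X : Scheme.{u}}
    (f : X ⟶ Spec (CommRingCat.of k)) (x : Spec (CommRingCat.of k) ⟶ X) (hx : x ≫ f = 𝟙 _)
    (x₀ : X) (hx₀ : x₀ ∈ Set.range x.base)
    {K : Scheme.{u}} [ConnectedSpace K] (g : K ⟶ Spec (CommRingCat.of k)) :
    _root_.IsPreconnected ((pullback.fst f g).base ⁻¹' connectedComponent x₀) := by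
  let Z : TopologicalSpace.Closeds X := ⟨connectedComponent x₀, isClosed_connectedComponent⟩
  let I := Scheme.IdealSheafData.vanishingIdeal Z
  let j := I.subschemeι
  have hr : Set.range j.base = connectedComponent x₀ := by
    rw [Scheme.IdealSheafData.range_subschemeι]
    exact Scheme.IdealSheafData.coe_support_vanishingIdeal Z
  haveI : ConnectedSpace ↥I.subscheme := by
    haveI : Nonempty ↥I.subscheme := by
      obtain ⟨d, -⟩ := hr.ge (mem_connectedComponent (x := x₀))
      exact ⟨d⟩
    haveI : PreconnectedSpace ↥I.subscheme := by
      refine ⟨j.isClosedEmbedding.isInducing.isPreconnected_image.mp ?_⟩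
      rw [Set.image_univ, hr]
      exact isPreconnected_connectedComponent
    exact ⟨inferInstance⟩
  have hxj : Set.range x.base ⊆ Set.range j.base := by
    rw [hr]
    have hpre : _root_.IsPreconnected (Set.range x.base) := isPreconnected_range x.continuous
    exact hpre.subset_connectedComponent hx₀
  haveI := geometricallyConnected_of_rational_point k f j x hx hxj
  haveI : ConnectedSpace ↥(pullback (j ≫ f) g) := inferInstance
  haveI : ConnectedSpace ↥(pullback j (pullback.fst f g)) :=
    (pullbackRightPullbackFstIso f g j).hom.homeomorph.connectedSpace_iff.mpr inferInstance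
  have := isPreconnected_range (pullback.snd j (pullback.fst f g)).continuous
  rwa [Scheme.Pullback.range_snd, hr] at this

end Groth.Agent.SGA3cLib
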