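import Groth.Prelude.Def_AlgGrp
import Mathlib.AlgebraicGeometry.PullbackCarrier
import Mathlib.AlgebraicGeometry.Morphisms.UnderlyingMap
import Mathlib.CategoryTheory.Monoidal.Cartesian.Over
import Mathlib.FieldTheory.IsAlgClosed.AlgebraicClosure

/-!
# Point calculus for transitive actions of group schemes
-/

set_option autoImplicit false
set_option backward.isDefEq.respectTransparency.types false

universe u

open CategoryTheory Limits AlgebraicGeometry MonoidalCategory CartesianMonoidalCategory MonObj GrpObj

namespace Groth.Agent.SGA3cLib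

variable {S : Scheme.{u}} {G X : Over S} [GrpObj G] (a : AlgGrp.Action G X)

/-- The left-regular action. -/
noncomputable def regAction (G : Over S) [GrpObj G] : AlgGrp.Action G G where
  act := μ
  one_act := MonObj.one_mul G
  mul_act := MonObj.mul_assoc G

/-- The action on points. -/
noncomputable def smulPt {Y : Over S} (g : Y ⟶ G) (x : Y ⟶ X) : Y ⟶ X := lift g x ≫ a.act

theorem comp_smulPt {Y Y' : Over S} (t : Y' ⟶ Y) (g : Y ⟶ G) (x : Y ⟶ X) :
    t ≫ smulPt a g x = smulPt a (t ≫ g) (t ≫ x) := by
  simp [smulPt, comp_lift_assoc]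

theorem one_smulPt {Y : Over S} (x : Y ⟶ X) : smulPt a 1 x = x := by
  have h : lift (1 : Y ⟶ G) x = lift (toUnit Y) x ≫ (η[G] ▷ X) := by
    rw [lift_whiskerRight, Hom.one_def]
  rw [smulPt, h, Category.assoc, a.one_act, lift_leftUnitor_hom]

theorem mul_smulPt {Y : Over S} (g h : Y ⟶ G) (x : Y ⟶ X) :
    smulPt a (g * h) x = smulPt a g (smulPt a h x) := by
  have h1 : lift (g * h) x = lift (lift g h) x ≫ (μ[G] ▷ X) := by
    rw [lift_whiskerRight, Hom.mul_def]
  rw [smulPt, h1, Category.assoc, a.mul_act, lift_lift_associator_hom_assoc, lift_whiskerLeft_assoc]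
  rfl

theorem inv_smulPt {Y : Over S} (g : Y ⟶ G) (x : Y ⟶ X) :
    smulPt a g⁻¹ (smulPt a g x) = x := by
  rw [← mul_smulPt, inv_mul_cancel, one_smulPt]

theorem smulPt_injective {Y : Over S} (g : Y ⟶ G) : Function.Injective (smulPt a g) :=
  fun x y h => by rw [← inv_smulPt a g x, h, inv_smulPt]

/-- Translation of `X ×_S T` by a `T`-point of `G`. -/
noncomputable def translate {T : Over S} (g : T ⟶ G) : X ⊗ T ⟶ X ⊗ T :=
  lift (smulPt a (snd X T ≫ g) (fst X T)) (snd X T)

theorem translate_snd {T : Over S} (g : T ⟶ G) : translate a g ≫ snd X T = snd X T := lift_snd _ _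

theorem translate_comp {T : Over S} (g h : T ⟶ G) :
    translate a g ≫ translate a h = translate a (h * g) := by
  apply CartesianMonoidalCategory.hom_ext
  · simp only [translate, Category.assoc, lift_fst, comp_smulPt, lift_snd_assoc, MonObj.comp_mul,
      mul_smulPt]
  · simp [translate]

theorem translate_one {T : Over S} : translate a (1 : T ⟶ G) = 𝟙 _ := by
  apply CartesianMonoidalCategory.hom_ext
  · simp [translate, MonObj.comp_one, one_smulPt]
  · simp [translate]

theorem isIso_translate {T : Over S} (g : T ⟶ G) : IsIso (translate a g) :=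
  ⟨translate a g⁻¹, by rw [translate_comp, inv_mul_cancel, translate_one],
    by rw [translate_comp, mul_inv_cancel, translate_one]⟩

theorem lift_translate {T : Over S} (g : T ⟶ G) (x : T ⟶ X) :
    lift x (𝟙 T) ≫ translate a g = lift (smulPt a g x) (𝟙 T) := by
  apply CartesianMonoidalCategory.hom_ext
  · simp [translate, comp_smulPt]
  · simp [translate]

/-- The translation, as a homeomorphism. -/
noncomputable def translateHomeo {T : Over S} (g : T ⟶ G) : ↥(X ⊗ T).left ≃ₜ ↥(X ⊗ T).left :=
  haveI := isIso_translate a g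
  haveI : IsIso (translate a g).left := inferInstanceAs (IsIso ((Over.forget S).map (translate a g)))
  Scheme.Hom.homeomorph (translate a g).left

theorem translateHomeo_apply {T : Over S} (g : T ⟶ G) (p : ↥(X ⊗ T).left) :
    translateHomeo a g p = (translate a g).left.base p := rfl

/-- Over a field-valued point, any two points of a homogeneous space are translates of each other
after an algebraically closed extension. -/
theorem exists_smulPt_eq (hΦ : Surjective (lift a.act (snd G X)).left)
    (K : Type u) [Field K] (j : Spec (CommRingCat.of K) ⟶ S)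
    (x y : Over.mk j ⟶ X) :
    ∃ (L : Type u) (_ : Field L) (_ : IsAlgClosed L) (i : Spec (CommRingCat.of L) ⟶ Spec (CommRingCat.of K))
      (g : Over.mk (i ≫ j) ⟶ G),
      smulPt a g ((Over.homMk i : Over.mk (i ≫ j) ⟶ Over.mk j) ≫ x) =
        (Over.homMk i : Over.mk (i ≫ j) ⟶ Over.mk j) ≫ y := by
  let Φ := lift a.act (snd G X)
  let v : Over.mk j ⟶ X ⊗ X := lift y x
  haveI : Surjective (pullback.snd Φ.left v.left) := by
    haveI := hΦ
    infer_instance
  obtain ⟨p, -⟩ := (pullback.snd Φ.left v.left).surjective (Classical.arbitrary ↥(Spec (CommRingCat.of K)))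
  let P := pullback Φ.left v.left
  let L := AlgebraicClosure (P.residueField p)
  let q : Spec (CommRingCat.of L) ⟶ P :=
    Spec.map (CommRingCat.ofHom (algebraMap (P.residueField p) L)) ≫ P.fromSpecResidueField p
  let i : Spec (CommRingCat.of L) ⟶ Spec (CommRingCat.of K) := q ≫ pullback.snd Φ.left v.left
  let t : Over.mk (i ≫ j) ⟶ Over.mk j := Over.homMk i
  have hc : pullback.fst Φ.left v.left ≫ Φ.left = pullback.snd Φ.left v.left ≫ v.left := pullback.condition
  let z : Over.mk (i ≫ j) ⟶ G ⊗ X := Over.homMk (q ≫ pullback.fst Φ.left v.left) (by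
    have hcw : pullback.fst Φ.left v.left ≫ (Φ.left ≫ (X ⊗ X).hom) = pullback.snd Φ.left v.left ≫ j :=
      (Category.assoc _ _ _).symm.trans ((congrArg (· ≫ (X ⊗ X).hom) hc).trans
        ((Category.assoc _ _ _).trans (congrArg (pullback.snd Φ.left v.left ≫ ·) (Over.w v))))
    rw [← Over.w Φ]
    exact (Category.assoc _ _ _).trans ((congrArg (q ≫ ·) hcw).trans (Category.assoc _ _ _).symm))
  have hz : z ≫ Φ = t ≫ v := by
    apply Over.OverMorphism.ext
    simp only [Over.comp_left, z, t, Over.homMk_left, i, Category.assoc, hc]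
  have h2 : z ≫ snd G X = t ≫ x := by
    have := congrArg (· ≫ snd X X) hz
    simpa [Φ, v] using this
  refine ⟨L, inferInstance, inferInstance, i, z ≫ fst G X, ?_⟩
  change smulPt a (z ≫ fst G X) (t ≫ x) = t ≫ y
  have h1 : z ≫ a.act = t ≫ y := by
    have := congrArg (· ≫ fst X X) hz
    simpa [Φ, v] using this
  rw [← h2, smulPt, ← comp_lift_assoc, lift_fst_snd, Category.id_comp, h1]

/-- The orbit map of a `T`-point is surjective. -/
theorem surjective_orbit (hΦ : Surjective (lift a.act (snd G X)).left) {T : Over S} (z : T ⟶ X) :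
    Surjective (lift (smulPt a (fst G T) (snd G T ≫ z)) (snd G T)).left := by
  let o : G ⊗ T ⟶ X ⊗ T := lift (smulPt a (fst G T) (snd G T ≫ z)) (snd G T)
  have ho : IsPullback (lift (fst G T) (snd G T ≫ z)) o (lift a.act (snd G X))
      (lift (fst X T) (snd X T ≫ z)) := by
    refine ⟨⟨?_⟩, ⟨PullbackCone.IsLimit.mk ?_ (fun c => lift (c.fst ≫ fst G X) (c.snd ≫ snd X T))
      (fun c => ?_) (fun c => ?_) (fun c m h1 h2 => ?_)⟩⟩
    · apply CartesianMonoidalCategory.hom_ext <;> simp [o, smulPt]
    · apply CartesianMonoidalCategory.hom_ext <;> simp [o, smulPt]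
    · have h := congrArg (· ≫ snd X X) c.condition
      simp only [Category.assoc, lift_snd] at h
      apply CartesianMonoidalCategory.hom_ext
      · simp
      · simpa using h.symm
    · have h := congrArg (· ≫ fst X X) c.condition
      have h' := congrArg (· ≫ snd X X) c.condition
      simp only [Category.assoc, lift_fst, lift_snd] at h h'
      apply CartesianMonoidalCategory.hom_ext
      · simp only [o, Category.assoc, lift_fst, comp_smulPt, lift_snd_assoc]
        rw [← h', smulPt, ← comp_lift_assoc, lift_fst_snd, Category.id_comp, h]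
      · simp [o]
    · apply CartesianMonoidalCategory.hom_ext
      · rw [← h1]; simp
      · rw [← h2]; simp [o]
  exact MorphismProperty.of_isPullback (P := @Surjective) (ho.map (Over.forget _)) hΦ

end Groth.Agent.SGA3cLib
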