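import Groth.Agent.SGA3cLib.FpqcCov
import Mathlib.AlgebraicGeometry.Sites.Fpqc

/-!
# Morphisms with a section along an fpqc covering are effective epimorphisms
-/

set_option autoImplicit false
set_option backward.isDefEq.respectTransparency.types false

universe u

open CategoryTheory Limits AlgebraicGeometry

namespace Groth.Agent.SGA3cLib

namespace IsFpqcCov

variable {Z Y : Scheme.{u}} {q : Z ⟶ Y}

theorem exists_sub (hq : IsFpqcCov q) (y : Y) (U : Y.Opens) (hy : y ∈ U) :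
    ∃ V : Y.Opens, y ∈ V ∧ V ≤ U ∧ IsAffineOpen V ∧
      ∃ W : Z.Opens, IsCompact (W : Set Z) ∧ q.base '' (W : Set Z) = (V : Set Y) := by
  obtain ⟨V, hyV, hV, W, e, hW, ⟨⟨hs, hfl⟩, hqc⟩⟩ := hq.exists_resLE y
  obtain ⟨V', hV', hy', hV'V⟩ := exists_isAffineOpen_mem_and_subset (U := U ⊓ V) (x := y) ⟨hy, hyV⟩
  refine ⟨V', hy', fun a ha => (hV'V ha).1, hV', W ⊓ q ⁻¹ᵁ V', ?_, ?_⟩
  · have hc : IsCompact ((q.resLE V W e).base ⁻¹' (V.ι.base ⁻¹' (V' : Set Y))) := by
      refine (q.resLE V W e).isCompact_preimage (U := V.ι ⁻¹ᵁ V') ?_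
      refine V.ι.isOpenEmbedding.isInducing.isCompact_preimage' hV'.isCompact ?_
      rw [V.range_ι]; exact fun a ha => (hV'V ha).2
    have heq : ((W ⊓ q ⁻¹ᵁ V' : Z.Opens) : Set Z) =
        W.ι.base '' ((q.resLE V W e).base ⁻¹' (V.ι.base ⁻¹' (V' : Set Y))) := by
      ext z
      constructor
      · rintro ⟨hz, hz'⟩
        exact ⟨⟨z, hz⟩, show (q.resLE V W e ≫ V.ι).base ⟨z, hz⟩ ∈ (V' : Set Y) by
          rw [Scheme.Hom.resLE_comp_ι]; exact hz', rfl⟩
      · rintro ⟨w, hw, rfl⟩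
        refine ⟨w.2, ?_⟩
        change (W.ι ≫ q).base w ∈ (V' : Set Y)
        rw [← Scheme.Hom.resLE_comp_ι q e]; exact hw
    rw [heq]
    exact hc.image W.ι.continuous
  · apply Set.Subset.antisymm
    · rintro _ ⟨z, ⟨-, hz⟩, rfl⟩; exact hz
    · intro a ha
      obtain ⟨w, hw⟩ := (q.resLE V W e).surjective ⟨a, (hV'V ha).2⟩
      have hqa : q.base (W.ι.base w) = a := by
        change (W.ι ≫ q).base w = a
        rw [← Scheme.Hom.resLE_comp_ι q e]
        change V.ι.base ((q.resLE V W e).base w) = a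
        rw [hw]; rfl
      exact ⟨W.ι.base w, ⟨w.2, show q.base _ ∈ (V' : Set Y) by rw [hqa]; exact ha⟩, hqa⟩

theorem comp (hq : IsFpqcCov q) {Z' : Scheme.{u}} {q' : Z' ⟶ Z} (hq' : IsFpqcCov q') : IsFpqcCov (q' ≫ q) := by
  haveI := hq.1
  haveI := hq'.1
  refine ⟨inferInstance, fun y => ?_⟩
  obtain ⟨V, hyV, hV, W, hW, hWV⟩ := hq.2 y
  choose V' hzV' hV'W hV' W' hW' hWV' using fun z : (W : Set Z) => hq'.exists_sub z.1 W z.2
  obtain ⟨t, ht⟩ := hW.elim_finite_subcover (fun z => (V' z : Set Z)) (fun z => (V' z).isOpen)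
    fun z hz => Set.mem_iUnion.2 ⟨⟨z, hz⟩, hzV' ⟨z, hz⟩⟩
  refine ⟨V, hyV, hV, ⨆ z ∈ t, W' z, ?_, ?_⟩
  · simp only [TopologicalSpace.Opens.coe_iSup]
    exact t.finite_toSet.isCompact_biUnion fun z _ => hW' z
  · have : q'.base '' ((⨆ z ∈ t, W' z : Z'.Opens) : Set Z') = (W : Set Z) := by
      simp only [TopologicalSpace.Opens.coe_iSup, Set.image_iUnion, hWV']
      exact Set.Subset.antisymm (Set.iUnion₂_subset fun z _ => hV'W z) ht
    change (q.base ∘ q'.base) '' _ = _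
    rw [Set.image_comp, this, hWV]

theorem singleton_mem (hq : IsFpqcCov q) : Presieve.singleton q ∈ Scheme.fpqcPrecoverage Y := by
  haveI := hq.1
  haveI := hq.surjective
  refine ⟨?_, ?_⟩
  · rw [Scheme.qcPrecoverage, PreZeroHypercoverFamily.mem_precoverage_iff]
    refine ⟨(q.cover (P := ⊤) trivial).toPreZeroHypercover, ?_, by simp⟩
    simp only [Scheme.qcCoverFamily_property, Scheme.quasiCompactCover_iff]
    refine ⟨fun {U} hU => .of_isCompact_of_forall_exists_isCompactOpenCovered hU.isCompact fun x hx => ?_⟩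
    obtain ⟨V, hxV, hVU, -, W, hW, hWV⟩ := hq.exists_sub x U hx
    refine ⟨V, hVU, hxV, V.isOpen, ?_⟩
    rw [← hWV]
    exact IsCompactOpenCovered.image (f := fun i => (q.cover (P := ⊤) trivial).f i) (i := PUnit.unit) W hW
  · rw [← Presieve.ofArrows_pUnit.{0}]
    exact (q.cover (P := @Flat) inferInstance).mem₀

theorem effectiveEpi (hq : IsFpqcCov q) : EffectiveEpi q := by
  rw [← Sieve.effectiveEpimorphic_singleton, Presieve.EffectiveEpimorphic.iff_forall_isSheafFor_yoneda]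
  intro X
  exact (GrothendieckTopology.Subcanonical.isSheaf_of_isRepresentable _).isSheafFor _
    (Precoverage.generate_mem_toGrothendieck hq.singleton_mem)

theorem epi (hq : IsFpqcCov q) : Epi q := by
  haveI := hq.effectiveEpi
  infer_instance

end IsFpqcCov

/-- A morphism through which an fpqc covering of its target factors. -/
def HasCovLift {X Y : Scheme.{u}} (f : X ⟶ Y) : Prop :=
  ∃ (Z : Scheme.{u}) (q : Z ⟶ Y) (r : Z ⟶ X), r ≫ f = q ∧ IsFpqcCov q

namespace HasCovLift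

variable {X Y : Scheme.{u}} {f : X ⟶ Y}

theorem comp (hf : HasCovLift f) {W : Scheme.{u}} {f' : Y ⟶ W} (hf' : HasCovLift f') : HasCovLift (f ≫ f') := by
  obtain ⟨Z, q, r, hr, hq⟩ := hf
  obtain ⟨Z', q', r', hr', hq'⟩ := hf'
  refine ⟨pullback q r', pullback.snd q r' ≫ q', pullback.fst q r' ≫ r, ?_, hq'.comp (hq.pullback_snd r')⟩
  rw [Category.assoc, reassoc_of% hr, pullback.condition_assoc, hr']

theorem of_isPullback (hf : HasCovLift f) {P Y' : Scheme.{u}} {g : Y' ⟶ Y} {g' : P ⟶ X} {f' : P ⟶ Y'}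
    (h : IsPullback g' f' f g) : HasCovLift f' := by
  obtain ⟨Z, q, r, hr, hq⟩ := hf
  exact ⟨pullback q g, pullback.snd q g, h.lift (pullback.fst q g ≫ r) (pullback.snd q g)
    (by rw [Category.assoc, hr, pullback.condition]), h.lift_snd _ _ _, hq.pullback_snd g⟩

theorem epi (hf : HasCovLift f) : Epi f := by
  obtain ⟨Z, q, r, hr, hq⟩ := hf
  haveI : Epi (r ≫ f) := by rw [hr]; exact hq.epi
  exact epi_of_epi r f

/-- Morphisms equalising the kernel pair descend. -/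
theorem exists_desc (hf : HasCovLift f) {W : Scheme.{u}} (g : X ⟶ W)
    (h : ∀ {T : Scheme.{u}} (a b : T ⟶ X), a ≫ f = b ≫ f → a ≫ g = b ≫ g) : ∃ m, f ≫ m = g := by
  obtain ⟨Z, q, r, hr, hq⟩ := hf
  haveI := hq.effectiveEpi
  have hw : ∀ {T : Scheme.{u}} (a b : T ⟶ Z), a ≫ q = b ≫ q → a ≫ r ≫ g = b ≫ r ≫ g := fun a b hab => by
    rw [← Category.assoc, ← Category.assoc]
    exact h _ _ (by rw [Category.assoc, Category.assoc, hr, hab])
  refine ⟨EffectiveEpi.desc q (r ≫ g) hw, ?_⟩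
  haveI := (hq.pullback_snd f).epi
  rw [← cancel_epi (pullback.snd q f), ← Category.assoc, ← pullback.condition, Category.assoc, EffectiveEpi.fac,
    ← Category.assoc]
  exact h _ _ (by rw [Category.assoc, hr, pullback.condition])

end HasCovLift

end Groth.Agent.SGA3cLib
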