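import Groth.Agent.SGA3cLib.GrpBC
import Groth.Agent.SGA3cLib.FpqcEpi
import Groth.Prelude.Def_Red2
import Groth.Prelude.Def_TwC
import Mathlib.CategoryTheory.Comma.Over.Pullback

/-! Points of base changed groups, multiplicative type and base change, homomorphisms from their effect on points. -/

set_option autoImplicit false

universe u

open CategoryTheory CategoryTheory.Limits MonoidalCategory CartesianMonoidalCategory MonObj AlgebraicGeometry

noncomputable section

namespace Groth.Agent.SGA3cLib.BCPoints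

/-- A morphism multiplicative on points is a homomorphism. -/
theorem isMonHom_of_mul {C : Type*} [Category C] [CartesianMonoidalCategory C] {M N : C} [GrpObj M] [GrpObj N]
    (φ : M ⟶ N) (h : ∀ (X : C) (x y : X ⟶ M), (x * y) ≫ φ = (x ≫ φ) * (y ≫ φ)) : IsMonHom φ where
  one_hom := by
    have h1 := h (𝟙_ C) 1 1
    rw [_root_.one_mul] at h1
    have h2 : (1 : 𝟙_ C ⟶ M) ≫ φ = 1 := left_eq_mul.mp h1
    rw [Hom.one_def, Hom.one_def, show toUnit (𝟙_ C) = 𝟙 _ from toUnit_unique _ _, Category.id_comp, Category.id_comp] at h2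
    exact h2
  mul_hom := by
    have h1 := h (M ⊗ M) (fst M M) (snd M M)
    rw [Hom.mul_def, Hom.mul_def, lift_fst_snd, Category.id_comp] at h1
    rw [h1, ← lift_map, lift_fst_snd, Category.id_comp]

section

variable {S S' : Scheme.{u}} (f : S' ⟶ S) {X' Y' : Over S'} {G H : Over S}

/-- Points of the base change are points above `f`. -/
def pt (G : Over S) (X' : Over S') : ((Over.map f).obj X' ⟶ G) ≃ (X' ⟶ Red.bc f G) :=
  (Over.mapPullbackAdj f).homEquiv X' G

theorem pt_mul [GrpObj G] (a b : (Over.map f).obj X' ⟶ G) : pt f G X' (a * b) = pt f G X' a * pt f G X' b := by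
  simp only [pt, Adjunction.homEquiv_unit]
  rw [Functor.map_mul, MonObj.comp_mul]

theorem pt_inv [GrpObj G] (a : (Over.map f).obj X' ⟶ G) : pt f G X' a⁻¹ = (pt f G X' a)⁻¹ :=
  map_inv (MonoidHom.mk' (pt f G X') (pt_mul f)) a

theorem pt_comp (a : (Over.map f).obj X' ⟶ H) (u : H ⟶ G) :
    pt f G X' (a ≫ u) = pt f H X' a ≫ (Over.pullback f).map u :=
  (Over.mapPullbackAdj f).homEquiv_naturality_right a u

theorem pt_map_comp (t : X' ⟶ Y') (a : (Over.map f).obj Y' ⟶ G) :
    pt f G X' ((Over.map f).map t ≫ a) = t ≫ pt f G Y' a :=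
  (Over.mapPullbackAdj f).homEquiv_naturality_left t a

end

/-- For a covering every affine open is the image of a quasi-compact open. -/
theorem forall_affine {Z Y : Scheme.{u}} {q : Z ⟶ Y} (hq : IsFpqcCov q) (V : Y.Opens) (hV : IsAffineOpen V) :
    ∃ W : Z.Opens, IsCompact (W : Set Z) ∧ q.base '' (W : Set Z) = (V : Set Y) := by
  choose V' hyV' hV'V hV' W' hW' hWV' using fun y : (V : Set Y) => hq.exists_sub y.1 V y.2
  obtain ⟨t, ht⟩ := hV.isCompact.elim_finite_subcover (fun y => (V' y : Set Y)) (fun y => (V' y).isOpen)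
    fun y hy => Set.mem_iUnion.2 ⟨⟨y, hy⟩, hyV' ⟨y, hy⟩⟩
  refine ⟨⨆ y ∈ t, W' y, ?_, ?_⟩
  · simp only [TopologicalSpace.Opens.coe_iSup]
    exact t.finite_toSet.isCompact_biUnion fun y _ => hW' y
  · simp only [TopologicalSpace.Opens.coe_iSup, Set.image_iUnion, hWV']
    exact Set.Subset.antisymm (Set.iUnion₂_subset fun y _ => hV'V y) ht

/-- Multiplicative type is stable under base change. -/
theorem locally_bc {S S' : Scheme.{u}} (f : S' ⟶ S) (H : Over S) [GrpObj H]
    (hH : TwC.Locally S TwC.Topology.fpqc (fun T g => ∃ (M : Type) (_ : AddCommGroup M),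
      Nonempty (Grp.mk (Red.bc g H) ≅ Grp.mk (Red.DS T M)))) :
    TwC.Locally S' TwC.Topology.fpqc (fun T g => ∃ (M : Type) (_ : AddCommGroup M),
      Nonempty (Grp.mk (Red.bc g (Red.bc f H)) ≅ Grp.mk (Red.DS T M))) := by
  obtain ⟨Q, q, hfl, hsu, hq, hU⟩ := hH
  haveI := hfl
  have hcov := (IsFpqcCov.of_forall q hq).pullback_snd f
  refine ⟨pullback q f, pullback.snd q f, hcov.1, hcov.surjective, fun V hV => forall_affine hcov V hV, fun z => ?_⟩
  obtain ⟨U, hzU, M, _, ⟨e⟩⟩ := hU ((pullback.fst q f).base z)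
  refine ⟨pullback.fst q f ⁻¹ᵁ U, hzU, M, inferInstance, ?_⟩
  let g : (pullback.fst q f ⁻¹ᵁ U : Scheme.{u}) ⟶ S' := (pullback.fst q f ⁻¹ᵁ U).ι ≫ pullback.snd q f
  obtain ⟨i, hi, hi'⟩ := GrpBC.nonempty_iso_restrict (U.ι ≫ q) ((pullback.fst q f).resLE U _ le_rfl) (g ≫ f) (by
    rw [Scheme.Hom.resLE_comp_ι_assoc, pullback.condition, Category.assoc]) H e
  let α := GrpBC.bcCongr f g (g ≫ f) rfl
  obtain ⟨h₁, h₂⟩ := GrpBC.isMonHom_app α H
  let a : Red.bc g (Red.bc f H) ≅ Red.bc (g ≫ f) H := α.app H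
  haveI : IsMonHom a.hom := h₁
  haveI := hi
  haveI : IsMonHom (a ≪≫ i).hom := by show IsMonHom (a.hom ≫ i.hom); infer_instance
  exact ⟨Grp.mkIso (a ≪≫ i) (IsMonHom.one_hom _) (IsMonHom.mul_hom _)⟩

end Groth.Agent.SGA3cLib.BCPoints
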