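import Groth.Agent.SGA3cLib.Components
import Groth.Agent.SGA3cLib.GeomConn
import Groth.Prelude.Def_Red
import Mathlib.AlgebraicGeometry.Noetherian
import Mathlib.AlgebraicGeometry.Morphisms.UniversallyOpen
import Mathlib.FieldTheory.IsAlgClosed.Basic

/-! Irreducibility of connected groups over a field; geometric fibres of reductive groups. -/

set_option linter.style.haveILetI false
set_option autoImplicit false

universe u

open CategoryTheory CategoryTheory.Limits MonoidalCategory CartesianMonoidalCategory MonObj AlgebraicGeometry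

noncomputable section

namespace Groth.Agent.SGA3cLib

theorem irreducibleSpace_of_connected {k : Type u} [Field k] (G : Over (Spec (CommRingCat.of k))) [GrpObj G]
    [LocallyOfFiniteType G.hom] [ConnectedSpace G.left] : IrreducibleSpace G.left := by
  have huniq : ∀ x : G.left, ∃! C, C ∈ irreducibleComponents ↥G.left ∧ x ∈ C :=
    fun x => existsUnique_irreducibleComponent (regAction G) (surjective_regAction G) x
  haveI : IsLocallyNoetherian G.left := LocallyOfFiniteType.isLocallyNoetherian G.hom
  have hopen : ∀ C ∈ irreducibleComponents ↥G.left, IsOpen C := by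
    intro C hC
    refine isOpen_iff_forall_mem_open.mpr fun x hx => ?_
    obtain ⟨U, hU, hxU, -⟩ := exists_isAffineOpen_mem_and_subset (U := (⊤ : G.left.Opens)) (x := x) trivial
    haveI : IsNoetherianRing Γ(G.left, U) := IsLocallyNoetherian.component_noetherian ⟨U, hU⟩
    haveI : TopologicalSpace.NoetherianSpace ↥U :=
      (AlgebraicGeometry.noetherianSpace_of_isAffineOpen U hU)
    have hfin : (irreducibleComponents ↥U).Finite := TopologicalSpace.NoetherianSpace.finite_irreducibleComponents
    let bad : Set (Set ↥U) := {D ∈ irreducibleComponents ↥U | ¬ Subtype.val '' D ⊆ C}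
    refine ⟨Subtype.val '' (⋃₀ bad)ᶜ, ?_, U.isOpen.isOpenMap_subtype_val _ ?_, ?_⟩
    · rintro _ ⟨y, hy, rfl⟩
      by_contra hyC
      apply hy
      exact ⟨irreducibleComponent y, ⟨irreducibleComponent_mem_irreducibleComponents y,
        fun h => hyC (h ⟨y, mem_irreducibleComponent, rfl⟩)⟩, mem_irreducibleComponent⟩
    · refine isOpen_compl_iff.mpr ?_
      rw [Set.sUnion_eq_biUnion]
      exact (hfin.subset fun D hD => hD.1).isClosed_biUnion fun D hD => isClosed_of_mem_irreducibleComponents D hD.1
    · refine ⟨⟨x, hxU⟩, ?_, rfl⟩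
      rintro ⟨D, hD, hxD⟩
      apply hD.2
      have hirr : IsIrreducible (Subtype.val '' D : Set G.left) :=
        hD.1.1.image _ continuous_subtype_val.continuousOn
      obtain ⟨C', hC', hCC'⟩ : ∃ C' ∈ irreducibleComponents ↥G.left, (Subtype.val '' D : Set G.left) ⊆ C' := by
        obtain ⟨m, h1, h2⟩ := exists_preirreducible _ hirr.isPreirreducible
        refine ⟨m, ⟨⟨hirr.nonempty.mono h2.1, h1⟩, fun Z hZ hle => ?_⟩, h2.1⟩
        exact (h2.2 Z hZ.isPreirreducible hle).le
      exact (huniq x).unique ⟨hC', hCC' ⟨⟨x, hxU⟩, hxD, rfl⟩⟩ ⟨hC, hx⟩ ▸ hCC'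
  obtain ⟨x⟩ := (inferInstance : Nonempty G.left)
  have hC := irreducibleComponent_mem_irreducibleComponents x
  have h : irreducibleComponent x = Set.univ :=
    IsClopen.eq_univ ⟨isClosed_irreducibleComponent, hopen _ hC⟩ ⟨x, mem_irreducibleComponent⟩
  exact irreducibleSpace_def _ |>.mpr (by rw [Set.top_eq_univ, ← h]; exact hC.1)

/-- A fibre of a reductive group at any point with values in an algebraically closed field is irreducible. -/
theorem irreducibleSpace_geometric_fibre {S : Scheme.{u}} {G : Over S} [GrpObj G] (hG : Red.IsReductive G)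
    {K : Type u} [Field K] [IsAlgClosed K] (x : Spec (CommRingCat.of K) ⟶ S) :
    IrreducibleSpace ↥(Red.bc x G).left := by
  haveI := hG.2.1
  obtain ⟨⟨s, φ⟩, rfl⟩ := (Scheme.SpecToEquivOfField K S).symm.surjective x
  let k := S.residueField s
  letI : Algebra k K := φ.hom.toAlgebra
  let σ : AlgebraicClosure k →ₐ[k] K := IsAlgClosed.lift
  let σ' : CommRingCat.of (AlgebraicClosure k) ⟶ CommRingCat.of K := CommRingCat.ofHom σ.toRingHom
  have hσ : Spec.map σ' ≫ Red.geomPt s = (Scheme.SpecToEquivOfField K S).symm ⟨s, φ⟩ := by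
    show Spec.map σ' ≫ Spec.map _ ≫ S.fromSpecResidueField s = Spec.map φ ≫ S.fromSpecResidueField s
    rw [← Spec.map_comp_assoc]
    congr 2
    ext a
    exact σ.commutes a
  haveI : ConnectedSpace ↥(Red.geomFibre s G).left := (hG.2.2 s).2.2.1
  haveI := geometricallyConnected_of_rational_point (AlgebraicClosure k) (Red.geomFibre s G).hom (𝟙 _)
    η[Red.geomFibre s G].left (Over.w η[Red.geomFibre s G]) (fun y _ => ⟨y, rfl⟩)
  rw [Category.id_comp] at this
  haveI := this
  haveI : Smooth (Red.geomFibre s G).hom := inferInstanceAs (Smooth (pullback.snd G.hom (Red.geomPt s)))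
  haveI : ConnectedSpace ↥(pullback (Red.geomFibre s G).hom (Spec.map σ')) := inferInstance
  let e : pullback (pullback.snd G.hom (Red.geomPt s)) (Spec.map σ') ≅
      pullback G.hom ((Scheme.SpecToEquivOfField K S).symm ⟨s, φ⟩) :=
    pullbackLeftPullbackSndIso G.hom (Red.geomPt s) (Spec.map σ') ≪≫ pullback.congrHom rfl hσ
  haveI : ConnectedSpace ↥(Red.bc ((Scheme.SpecToEquivOfField K S).symm ⟨s, φ⟩) G).left :=
    e.hom.homeomorph.connectedSpace_iff.mp (inferInstanceAs (ConnectedSpace ↥(pullback (Red.geomFibre s G).hom (Spec.map σ'))))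
  haveI : LocallyOfFiniteType (Red.bc ((Scheme.SpecToEquivOfField K S).symm ⟨s, φ⟩) G).hom :=
    inferInstanceAs (LocallyOfFiniteType (pullback.snd G.hom _))
  exact irreducibleSpace_of_connected _

end Groth.Agent.SGA3cLib
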