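import Groth.Agent.SGA3cLib.DiagPoints
import Mathlib.Algebra.MonoidAlgebra.Lift

/-! Characters of split tori, evaluated on points. -/

set_option linter.style.haveILetI false
set_option autoImplicit false

universe u

open CategoryTheory CategoryTheory.Limits MonoidalCategory CartesianMonoidalCategory MonObj AlgebraicGeometry

noncomputable section

namespace Groth.Agent.SGA3cLib

variable {U S : Scheme.{u}} {M : Type} [AddCommGroup M]

/-- The character with values in global functions attached to a point of `D(M)`. -/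
def dsFn {W : Over U} (p : W ⟶ Red.DS U M) : Multiplicative M →* Γ(W.left, ⊤) :=
  (fn p).toMonoidHom.comp (MonoidAlgebra.of (ULift.{u} ℤ) (Multiplicative M))

theorem dsFn_comp {W W' : Over U} (f : W' ⟶ W) (p : W ⟶ Red.DS U M) (m : Multiplicative M) :
    dsFn (f ≫ p) m = f.left.appTop (dsFn p m) := rfl

theorem dsFn_injective {W : Over U} {p p' : W ⟶ Red.DS U M} (h : dsFn p = dsFn p') : p = p' := by
  refine fn_injective (MonoidAlgebra.ringHom_ext (fun r => ?_) (fun m => DFunLike.congr_fun h m))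
  exact DFunLike.congr_fun (r₀_hom_ext ((fn p).comp MonoidAlgebra.singleOneRingHom)
    ((fn p').comp MonoidAlgebra.singleOneRingHom)) r

theorem exists_dsPt {W : Over U} (φ : Multiplicative M →* Γ(W.left, ⊤)) :
    ∃ p : W ⟶ Red.DS U M, dsFn p = φ := by
  letI := algR₀ Γ(W.left, ⊤)
  obtain ⟨p, hp⟩ := fn_surjective (S := U) (X := W) (A := MonoidAlgebra (ULift.{u} ℤ) (Multiplicative M))
    (MonoidAlgebra.lift (ULift.{u} ℤ) Γ(W.left, ⊤) (Multiplicative M) φ).toRingHom
  refine ⟨p, MonoidHom.ext fun m => ?_⟩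
  show fn p _ = φ m
  rw [hp]
  exact MonoidAlgebra.lift_of φ m

theorem dsFn_mul {W : Over U} (p p' : W ⟶ Red.DS U M) (m : Multiplicative M) :
    dsFn (p * p') m = dsFn p m * dsFn p' m :=
  fn_mul_of_groupLike p p' (by simp [MonoidAlgebra.comul_single])

theorem dsFn_one {W : Over U} (m : Multiplicative M) : dsFn (1 : W ⟶ Red.DS U M) m = 1 := by
  have hu : IsUnit (dsFn (1 : W ⟶ Red.DS U M) m) := (Group.isUnit m).map _
  have h := dsFn_mul (1 : W ⟶ Red.DS U M) 1 m
  replace h := (congrArg (fun q => dsFn q m) (_root_.mul_one (1 : W ⟶ Red.DS U M))).symm.trans h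
  exact hu.mul_eq_left.mp h.symm

variable (g : U ⟶ S) {Q : Over S} [GrpObj Q]

theorem homEquiv_mul {W : Over U} (a b : (Over.map g).obj W ⟶ Q) :
    (Over.mapPullbackAdj g).homEquiv W Q (a * b) =
      (Over.mapPullbackAdj g).homEquiv W Q a * (Over.mapPullbackAdj g).homEquiv W Q b := by
  rw [Adjunction.homEquiv_unit, Adjunction.homEquiv_unit, Adjunction.homEquiv_unit, Functor.map_mul,
    MonObj.comp_mul]

variable (e : Red.bc g Q ≅ Red.DS U M)

/-- The point of `Q` corresponding to a point of the splitting `D(M)`. -/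
def toPt {W : Over U} (p : W ⟶ Red.DS U M) : (Over.map g).obj W ⟶ Q :=
  ((Over.mapPullbackAdj g).homEquiv W Q).symm (p ≫ e.inv)

theorem toPt_surjective {W : Over U} (t : (Over.map g).obj W ⟶ Q) : ∃ p, toPt g e p = t :=
  ⟨(Over.mapPullbackAdj g).homEquiv W Q t ≫ e.hom, by
    unfold toPt
    rw [Category.assoc, Iso.hom_inv_id, Category.comp_id, Equiv.symm_apply_apply]⟩

theorem toPt_comp {W W' : Over U} (f : W' ⟶ W) (p : W ⟶ Red.DS U M) :
    toPt g e (f ≫ p) = (Over.map g).map f ≫ toPt g e p := by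
  unfold toPt
  rw [Category.assoc, Adjunction.homEquiv_naturality_left_symm]

theorem toPt_mul [IsMonHom e.inv] {W : Over U} (p p' : W ⟶ Red.DS U M) :
    toPt g e (p * p') = toPt g e p * toPt g e p' := by
  apply ((Over.mapPullbackAdj g).homEquiv W Q).injective
  unfold toPt
  rw [homEquiv_mul, Equiv.apply_symm_apply, Equiv.apply_symm_apply, Equiv.apply_symm_apply, MonObj.mul_comp]

variable (χ : Q ⟶ Red.Gm S)

/-- The value of a character on a point of the splitting. -/
def psi {W : Over U} (p : W ⟶ Red.DS U M) : Γ(W.left, ⊤) := Red.gmFn (X := (Over.map g).obj W) (toPt g e p ≫ χ)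

theorem psi_comp {W W' : Over U} (f : W' ⟶ W) (p : W ⟶ Red.DS U M) :
    psi g e χ (f ≫ p) = f.left.appTop (psi g e χ p) := by
  unfold psi
  rw [toPt_comp, Category.assoc, gmFn_comp]
  rfl

theorem psi_mul [IsMonHom e.inv] [IsMonHom χ] {W : Over U} (p p' : W ⟶ Red.DS U M) :
    psi g e χ (p * p') = psi g e χ p * psi g e χ p' := by
  unfold psi
  rw [toPt_mul]
  exact (congrArg Red.gmFn (MonObj.mul_comp (toPt g e p) (toPt g e p') χ)).trans (gmFn_mul _ _)

theorem psi_one [IsMonHom e.inv] [IsMonHom χ] {W : Over U} : psi g e χ (1 : W ⟶ Red.DS U M) = 1 := by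
  have hu : IsUnit (psi g e χ (1 : W ⟶ Red.DS U M)) := isUnit_gmFn _
  have h := psi_mul g e χ (1 : W ⟶ Red.DS U M) 1
  replace h := (congrArg (psi g e χ) (_root_.mul_one (1 : W ⟶ Red.DS U M))).symm.trans h
  exact hu.mul_eq_left.mp h.symm

variable {R : CommRingCat.{u}} (v : Spec R ⟶ U)

/-- The structure map of global functions attached to a map to an affine scheme. -/
abbrev theta {W : Scheme.{u}} (w : W ⟶ Spec R) : R →+* Γ(W, ⊤) := ((Scheme.ΓSpecIso R).inv ≫ w.appTop).hom

theorem toSpecΓ_SpecMap_theta {W : Scheme.{u}} (w : W ⟶ Spec R) :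
    W.toSpecΓ ≫ Spec.map (CommRingCat.ofHom (theta w)) = w := by
  rw [show CommRingCat.ofHom (theta w) = (Scheme.ΓSpecIso R).inv ≫ w.appTop from rfl, Spec.map_comp]
  erw [← Scheme.toSpecΓ_naturality_assoc]
  erw [← SpecMap_ΓSpecIso_hom, ← Spec.map_comp, Iso.inv_hom_id, Spec.map_id, Category.comp_id]

theorem appTop_toSpecΓ_SpecMap {W : Scheme.{u}} {A : CommRingCat.{u}} (L : A ⟶ Γ(W, ⊤)) (a : A) :
    (W.toSpecΓ ≫ Spec.map L).appTop ((Scheme.ΓSpecIso A).inv a) = L a := by
  rw [Scheme.Hom.comp_appTop, CommRingCat.comp_apply,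
    show (Spec.map L).appTop ((Scheme.ΓSpecIso A).inv a) = (Scheme.ΓSpecIso Γ(W, ⊤)).inv (L a) from
      (congrArg (fun q => q.hom a) (Scheme.ΓSpecIso_inv_naturality L)).symm,
    Scheme.toSpecΓ_appTop]
  exact Iso.inv_hom_id_apply _ _

theorem theta_SpecMap {A : CommRingCat.{u}} (φ : R ⟶ A) (r : R) :
    theta (Spec.map φ) r = (Scheme.ΓSpecIso A).inv (φ r) :=
  (congrArg (fun q => q.hom r) (Scheme.ΓSpecIso_inv_naturality φ)).symm

variable [IsMonHom e.inv] [IsMonHom χ]

/-- Over an affine base, a character of a split torus is `Σ a_m m` for orthogonal idempotents `a_m`. -/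
theorem exists_psi_coeff :
    ∃ (s : Finset (Multiplicative M)) (a : Multiplicative M → R),
      (∀ m, a m * a m = a m) ∧ (∀ m n, m ≠ n → a m * a n = 0) ∧ ∑ m ∈ s, a m = 1 ∧
      ∀ (W : Over U) (w : W.left ⟶ Spec R), w ≫ v = W.hom → ∀ p : W ⟶ Red.DS U M,
        psi g e χ p = ∑ m ∈ s, theta w (a m) * dsFn p m := by
  classical
  let A : CommRingCat.{u} := CommRingCat.of (MonoidAlgebra R (Multiplicative M))
  let C : R ⟶ A := CommRingCat.ofHom MonoidAlgebra.singleOneRingHom
  let W₁ : Over U := Over.mk (Spec.map C ≫ v)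
  obtain ⟨tu, htu⟩ := exists_dsPt (W := W₁)
    ((Scheme.ΓSpecIso A).inv.hom.toMonoidHom.comp (MonoidAlgebra.of R (Multiplicative M)))
  let u : MonoidAlgebra R (Multiplicative M) := (Scheme.ΓSpecIso A).hom (psi g e χ tu)
  let a : Multiplicative M → R := fun m => u.coeff m
  let s : Finset (Multiplicative M) := u.coeff.support
  have formula : ∀ (W : Over U) (w : W.left ⟶ Spec R), w ≫ v = W.hom → ∀ p : W ⟶ Red.DS U M,
      psi g e χ p = ∑ m ∈ s, theta w (a m) * dsFn p m := by
    intro W w hw p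
    letI := (theta w).toAlgebra
    let L : MonoidAlgebra R (Multiplicative M) →+* Γ(W.left, ⊤) :=
      (MonoidAlgebra.lift R Γ(W.left, ⊤) (Multiplicative M) (dsFn p)).toRingHom
    have hC : C ≫ CommRingCat.ofHom L = CommRingCat.ofHom (theta w) := by
      ext r
      exact (MonoidAlgebra.lift R Γ(W.left, ⊤) (Multiplicative M) (dsFn p)).commutes r
    let f : W ⟶ W₁ := Over.homMk (W.left.toSpecΓ ≫ Spec.map (CommRingCat.ofHom L)) (by
      show (W.left.toSpecΓ ≫ Spec.map (CommRingCat.ofHom L)) ≫ Spec.map C ≫ v = W.hom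
      rw [Category.assoc, ← Spec.map_comp_assoc, hC, ← Category.assoc, toSpecΓ_SpecMap_theta, hw])
    have hfp : f ≫ tu = p := by
      refine dsFn_injective (MonoidHom.ext fun m => ?_)
      rw [dsFn_comp, htu]
      refine (appTop_toSpecΓ_SpecMap (CommRingCat.ofHom L) _).trans ?_
      exact MonoidAlgebra.lift_of (dsFn p) m
    have hu : psi g e χ tu = (Scheme.ΓSpecIso A).inv u := (Iso.hom_inv_id_apply _ _).symm
    rw [← hfp, psi_comp, hu, hfp]
    refine (appTop_toSpecΓ_SpecMap (CommRingCat.ofHom L) u).trans ?_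
    show MonoidAlgebra.lift R Γ(W.left, ⊤) (Multiplicative M) (dsFn p) u = _
    rw [MonoidAlgebra.lift_apply]
    exact Finset.sum_congr rfl fun m _ => Algebra.smul_def _ _
  -- multiplicativity
  let A₂ : CommRingCat.{u} := CommRingCat.of (MonoidAlgebra R (Multiplicative M × Multiplicative M))
  let C₂ : R ⟶ A₂ := CommRingCat.ofHom MonoidAlgebra.singleOneRingHom
  let W₂ : Over U := Over.mk (Spec.map C₂ ≫ v)
  obtain ⟨p₁, hp₁⟩ := exists_dsPt (W := W₂) ((Scheme.ΓSpecIso A₂).inv.hom.toMonoidHom.comp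
    ((MonoidAlgebra.of R _).comp (MonoidHom.inl (Multiplicative M) (Multiplicative M))))
  obtain ⟨p₂, hp₂⟩ := exists_dsPt (W := W₂) ((Scheme.ΓSpecIso A₂).inv.hom.toMonoidHom.comp
    ((MonoidAlgebra.of R _).comp (MonoidHom.inr (Multiplicative M) (Multiplicative M))))
  have key : ∑ m ∈ s, MonoidAlgebra.single (m, m) (a m) =
      ∑ m ∈ s, ∑ n ∈ s, MonoidAlgebra.single ((m, n) : Multiplicative M × Multiplicative M) (a m * a n) := by
    have h := psi_mul g e χ p₁ p₂
    rw [formula W₂ (Spec.map C₂) rfl, formula W₂ (Spec.map C₂) rfl, formula W₂ (Spec.map C₂) rfl] at h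
    simp only [dsFn_mul, hp₁, hp₂, theta_SpecMap] at h
    apply (ConcreteCategory.bijective_of_isIso (Scheme.ΓSpecIso A₂).inv).1
    let i₂ : A₂ →+* Γ(Spec A₂, ⊤) := (Scheme.ΓSpecIso A₂).inv.hom
    have hθ : ∀ r, theta (Spec.map C₂) r = i₂ (MonoidAlgebra.single 1 r) := fun r => theta_SpecMap C₂ r
    refine Eq.trans ?_ (h.trans ?_)
    · show i₂ _ = _
      rw [map_sum]
      refine Finset.sum_congr rfl fun m _ => ?_
      erw [hθ]
      show _ = i₂ (MonoidAlgebra.single 1 (a m)) *
        (i₂ (MonoidAlgebra.single (m, 1) 1) * i₂ (MonoidAlgebra.single (1, m) 1))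
      rw [← map_mul i₂, ← map_mul i₂, MonoidAlgebra.single_mul_single, MonoidAlgebra.single_mul_single]
      simp
    · show _ = i₂ _
      rw [Finset.sum_mul_sum, map_sum]
      refine Finset.sum_congr rfl fun m _ => ?_
      rw [map_sum]
      refine Finset.sum_congr rfl fun n _ => ?_
      erw [hθ, hθ]
      show i₂ (MonoidAlgebra.single 1 (a m)) * i₂ (MonoidAlgebra.single (m, 1) 1) *
        (i₂ (MonoidAlgebra.single 1 (a n)) * i₂ (MonoidAlgebra.single (1, n) 1)) = _
      rw [← map_mul i₂, ← map_mul i₂, ← map_mul i₂]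
      congr 1
      erw [MonoidAlgebra.single_mul_single, MonoidAlgebra.single_mul_single, MonoidAlgebra.single_mul_single]
      simp
  have hcoef : ∀ m n, a m * a n = if m = n then a m else 0 := by
    intro m n
    have h := congrArg (fun x => x.coeff (m, n)) key
    simp [MonoidAlgebra.coeff_sum, Finsupp.single_apply] at h
    by_cases hm : m ∈ s
    · by_cases hn : n ∈ s
      · by_cases hmn : m = n
        · subst hmn; simpa [Finset.sum_ite_eq', hm, hn, ite_and] using h.symm
        · simpa [Finset.sum_ite_eq', hm, hn, hmn, ite_and] using h.symm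
      · have : a n = 0 := Finsupp.notMem_support_iff.mp hn
        split <;> simp_all
    · have : a m = 0 := Finsupp.notMem_support_iff.mp hm
      split <;> simp_all
  refine ⟨s, a, fun m => by rw [hcoef, if_pos rfl], fun m n hmn => by rw [hcoef, if_neg hmn], ?_, formula⟩
  have h := formula (Over.mk v) (𝟙 _) (Category.id_comp v) 1
  rw [psi_one] at h
  simp only [dsFn_one, _root_.mul_one] at h
  rw [← map_sum] at h
  refine (ConcreteCategory.bijective_of_isIso (Scheme.ΓSpecIso R).inv).1 (Eq.trans ?_ (map_one _).symm)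
  exact h.symm

end Groth.Agent.SGA3cLib
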