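import Groth.Agent.SGA3cLib.Components
import Mathlib.AlgebraicGeometry.Morphisms.Immersion
import Mathlib.AlgebraicGeometry.Morphisms.UniversallyOpen

/-!
# Immersed subgroups over a field are closed
-/

set_option autoImplicit false
set_option backward.isDefEq.respectTransparency.types false

universe u

open CategoryTheory Limits AlgebraicGeometry MonoidalCategory CartesianMonoidalCategory MonObj GrpObj

namespace Groth.Agent.SGA3cLib

/-- A field-valued point lying in the range of an immersion factors through it. -/
theorem exists_lift_of_mem_range {S : Scheme.{u}} {X Y : Over S} (f : X ⟶ Y) [IsPreimmersion f.left]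
    (L : Type u) [Field L] (j : Spec (CommRingCat.of L) ⟶ S) (y : Over.mk j ⟶ Y)
    (h : y.left.base (IsLocalRing.closedPoint L) ∈ Set.range f.left.base) :
    ∃ x : Over.mk j ⟶ X, x ≫ f = y := by
  haveI : IsPreimmersion (pullback.snd f.left y.left) := inferInstance
  have hr : Set.range (pullback.snd f.left y.left).base = Set.univ := by
    rw [Scheme.Pullback.range_snd, Set.eq_univ_iff_forall]
    intro t
    rw [Set.mem_preimage, Subsingleton.elim (α := ↥(Spec (CommRingCat.of L))) t (IsLocalRing.closedPoint L)]
    exact h
  haveI : IsClosedImmersion (pullback.snd f.left y.left) :=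
    IsClosedImmersion.of_isPreimmersion _ (hr ▸ isClosed_univ)
  haveI : Surjective (pullback.snd f.left y.left) := ⟨Set.range_eq_univ.1 hr⟩
  haveI : AlgebraicGeometry.IsReduced (Over.mk j).left :=
    inferInstanceAs (AlgebraicGeometry.IsReduced (Spec (CommRingCat.of L)))
  haveI := isIso_of_isClosedImmersion_of_surjective (pullback.snd f.left y.left)
  let x := inv (pullback.snd f.left y.left) ≫ pullback.fst f.left y.left
  have hx : x ≫ f.left = y.left := by simp [x, pullback.condition]
  refine ⟨Over.homMk x ?_, Over.OverMorphism.ext hx⟩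
  rw [← Over.w f, ← Category.assoc, hx]
  exact Over.w y

/-- An immersed subgroup scheme over a field has closed image. -/
theorem isClosed_range_of_isImmersion {k : Type u} [Field k] {G H : Over (Spec (CommRingCat.of k))}
    [GrpObj G] [GrpObj H] (f : H ⟶ G) [IsMonHom f] [IsImmersion f.left] :
    IsClosed (Set.range f.left.base) := by
  refine isClosed_of_closure_subset fun z hz => ?_
  let L := AlgebraicClosure (G.left.residueField z)
  let q₀ : Spec (CommRingCat.of L) ⟶ G.left :=
    Spec.map (CommRingCat.ofHom (algebraMap (G.left.residueField z) L)) ≫ G.left.fromSpecResidueField z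
  let j := q₀ ≫ G.hom
  let T := Over.mk j
  let pt : ↥(Spec (CommRingCat.of L)) := IsLocalRing.closedPoint L
  let zT : T ⟶ G := Over.homMk q₀
  have hz0 : zT.left.base pt = z := (G.left.range_fromSpecResidueField z).le ⟨_, rfl⟩
  let p := (fst G T).left
  have hopen : IsOpenMap p.base := by
    haveI : UniversallyOpen p :=
      MorphismProperty.pullback_fst (P := @UniversallyOpen) (f := G.hom) (g := j) (show UniversallyOpen j from inferInstance)
    exact p.isOpenMap
  let R : Set ↥(G ⊗ T).left := p.base ⁻¹' Set.range f.left.base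
  let ZT : Set ↥(G ⊗ T).left := p.base ⁻¹' closure (Set.range f.left.base)
  let O : Set ↥(G ⊗ T).left := p.base ⁻¹' coborder (Set.range f.left.base)
  have hR : ∀ r, r ∈ O → r ∈ ZT → r ∈ R := fun r h1 h2 => by
    have := (coborder_inter_closure (s := Set.range f.left.base)).le ⟨h1, h2⟩
    exact this
  have hclo : ZT = closure R := hopen.preimage_closure_eq_closure_preimage p.continuous _
  have hOopen : IsOpen O := f.left.isLocallyClosed_range.isOpen_coborder.preimage p.continuous
  -- inversion preserves the closure
  have hinv : ∀ y ∈ closure (Set.range f.left.base), (ι[G]).left.base y ∈ closure (Set.range f.left.base) := by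
    intro y hy
    refine closure_mono ?_ (image_closure_subset_closure_image (ι[G]).left.continuous ⟨y, hy, rfl⟩)
    rintro _ ⟨_, ⟨x, rfl⟩, rfl⟩
    refine ⟨(ι[H]).left.base x, ?_⟩
    change (ι[H] ≫ f).left.base x = (f ≫ ι[G]).left.base x
    have : ι[H] ≫ f = f ≫ ι[G] := by
      rw [GrpObj.inv_eq_inv, GrpObj.inv_eq_inv, GrpObj.inv_comp, GrpObj.comp_inv, Category.id_comp, Category.comp_id]
    rw [this]
  -- left translation by a point of the closure
  have key : ∀ y : T ⟶ G, y.left.base pt ∈ closure (Set.range f.left.base) →
      ∀ r ∈ ZT, (translate (regAction G) y).left.base r ∈ ZT := by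
    intro y hy
    have hsub : ∀ r ∈ R, (translate (regAction G) y).left.base r ∈ ZT := by
      intro r hr
      let M := AlgebraicClosure ((G ⊗ T).left.residueField r)
      let qM : Spec (CommRingCat.of M) ⟶ (G ⊗ T).left :=
        Spec.map (CommRingCat.ofHom (algebraMap ((G ⊗ T).left.residueField r) M)) ≫
          (G ⊗ T).left.fromSpecResidueField r
      let T' := Over.mk (qM ≫ (G ⊗ T).hom)
      let ptM : ↥(Spec (CommRingCat.of M)) := IsLocalRing.closedPoint M
      let v : T' ⟶ G ⊗ T := Over.homMk qM
      have hv : v.left.base ptM = r := ((G ⊗ T).left.range_fromSpecResidueField r).le ⟨_, rfl⟩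
      let g : T' ⟶ G := v ≫ fst G T
      let y' : T' ⟶ G := (v ≫ snd G T) ≫ y
      obtain ⟨h, hh⟩ := exists_lift_of_mem_range f M _ g (show g.left.base ptM ∈ _ by
        change p.base (v.left.base ptM) ∈ _
        rw [hv]; exact hr)
      -- right translation by `h` on the base change to `T'`
      let p' := (fst G T').left
      have hopen' : IsOpenMap p'.base := by
        haveI : UniversallyOpen p' :=
          MorphismProperty.pullback_fst (P := @UniversallyOpen) (f := G.hom) (g := qM ≫ (G ⊗ T).hom)
            (show UniversallyOpen (qM ≫ (G ⊗ T).hom) from inferInstance)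
        exact p'.isOpenMap
      let m : H ⊗ T' ⟶ G ⊗ T' := f ▷ T'
      have hm : Set.range m.left.base = p'.base ⁻¹' Set.range f.left.base := by
        have hp : IsPullback (fst H T') m f (fst G T') := by
          refine ⟨⟨by simp [m]⟩, ⟨PullbackCone.IsLimit.mk (by simp [m]) (fun c => lift c.fst (c.snd ≫ snd G T'))
            (fun c => by simp) (fun c => ?_) (fun c s h1 h2 => ?_)⟩⟩
          · apply CartesianMonoidalCategory.hom_ext
            · simp [m, c.condition]
            · simp [m]
          · apply CartesianMonoidalCategory.hom_ext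
            · rw [← h1]; simp
            · rw [← h2]; simp [m]
        have hp' := hp.map (Over.forget _)
        rw [← Scheme.Pullback.range_snd (f := f.left) (g := p')]
        have e : m.left = hp'.isoPullback.hom ≫ pullback.snd f.left p' := (hp'.isoPullback_hom_snd).symm
        rw [e]
        exact Function.Surjective.range_comp hp'.isoPullback.hom.homeomorph.surjective _
      let rt : G ⊗ T' ⟶ G ⊗ T' := lift (fst G T' * (snd G T' ≫ g)) (snd G T')
      have hcomm : m ≫ rt = lift (fst H T' * (snd H T' ≫ h)) (snd H T') ≫ m := by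
        apply CartesianMonoidalCategory.hom_ext
        · simp only [m, rt, Category.assoc, lift_fst, MonObj.comp_mul, whiskerRight_fst, whiskerRight_snd_assoc,
            lift_fst_assoc, MonObj.mul_comp, ← hh]
        · simp [m, rt]
      let yT' : ↥(G ⊗ T').left := (lift y' (𝟙 T')).left.base ptM
      have hyT' : yT' ∈ closure (Set.range m.left.base) := by
        rw [hm, ← hopen'.preimage_closure_eq_closure_preimage p'.continuous, Set.mem_preimage]
        change (lift y' (𝟙 T') ≫ fst G T').left.base ptM ∈ _
        rw [lift_fst]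
        change y.left.base ((v ≫ snd G T).left.base ptM) ∈ _
        rwa [Subsingleton.elim (α := ↥(Spec (CommRingCat.of L))) ((v ≫ snd G T).left.base ptM) pt]
      have h2 : rt.left.base yT' ∈ closure (Set.range m.left.base) := by
        refine closure_mono ?_ (image_closure_subset_closure_image rt.left.continuous ⟨yT', hyT', rfl⟩)
        rintro _ ⟨_, ⟨x, rfl⟩, rfl⟩
        refine ⟨(lift (fst H T' * (snd H T' ≫ h)) (snd H T')).left.base x, ?_⟩
        change (lift (fst H T' * (snd H T' ≫ h)) (snd H T') ≫ m).left.base x = (m ≫ rt).left.base x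
        rw [hcomm]
      rw [hm, ← hopen'.preimage_closure_eq_closure_preimage p'.continuous, Set.mem_preimage] at h2
      rw [← hv]
      change (v ≫ translate (regAction G) y ≫ fst G T).left.base ptM ∈ closure (Set.range f.left.base)
      have e1 : v ≫ translate (regAction G) y ≫ fst G T = y' * g := by
        simp only [translate, lift_fst, comp_smulPt]
        change lift _ _ ≫ μ[G] = _
        rw [← Hom.mul_def]
        simp only [y', g, Category.assoc]
      rw [e1]
      change (lift y' (𝟙 T') ≫ rt ≫ fst G T').left.base ptM ∈ _ at h2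
      simpa [rt, MonObj.comp_mul] using h2
    intro r hr
    rw [hclo] at hr
    exact closure_minimal (show R ⊆ (translate (regAction G) y).left.base ⁻¹' ZT from hsub)
      ((isClosed_closure.preimage p.continuous).preimage (translate (regAction G) y).left.continuous) hr
  -- a point of the subgroup translated into the subgroup
  let L₀ := translateHomeo (regAction G) zT
  let eT : ↥(G ⊗ T).left := (lift (1 : T ⟶ G) (𝟙 T)).left.base pt
  have heR : eT ∈ R := by
    change (lift (1 : T ⟶ G) (𝟙 T) ≫ fst G T).left.base pt ∈ Set.range f.left.base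
    rw [lift_fst]
    refine ⟨(1 : T ⟶ H).left.base pt, ?_⟩
    change ((1 : T ⟶ H) ≫ f).left.base pt = _
    rw [MonObj.one_comp]
  have hsym : L₀.symm eT ∈ ZT := by
    have hzinv : (zT⁻¹ : T ⟶ G).left.base pt ∈ closure (Set.range f.left.base) := by
      change (ι[G]).left.base (zT.left.base pt) ∈ _
      rw [hz0]; exact hinv z hz
    have h1 := key zT⁻¹ hzinv eT (subset_closure heR)
    have h2 : L₀.symm eT = (translate (regAction G) zT⁻¹).left.base eT := by
      rw [Homeomorph.symm_apply_eq, translateHomeo_apply]
      change eT = (translate (regAction G) zT⁻¹ ≫ translate (regAction G) zT).left.base eT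
      rw [translate_comp, mul_inv_cancel, translate_one]
      rfl
    rw [h2]; exact h1
  have hmem : L₀.symm eT ∈ closure R := hclo ▸ hsym
  obtain ⟨r, hrO, hrR⟩ := mem_closure_iff.1 hmem (L₀ ⁻¹' O) (hOopen.preimage L₀.continuous)
    (by
      rw [Set.mem_preimage, L₀.apply_symm_apply]
      exact subset_coborder heR)
  have hLr : L₀ r ∈ R := hR _ hrO (key zT (hz0.symm ▸ hz) r (subset_closure hrR))
  -- conclude on a field point
  let M := AlgebraicClosure ((G ⊗ T).left.residueField r)
  let qM : Spec (CommRingCat.of M) ⟶ (G ⊗ T).left :=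
    Spec.map (CommRingCat.ofHom (algebraMap ((G ⊗ T).left.residueField r) M)) ≫
      (G ⊗ T).left.fromSpecResidueField r
  let T' := Over.mk (qM ≫ (G ⊗ T).hom)
  let ptM : ↥(Spec (CommRingCat.of M)) := IsLocalRing.closedPoint M
  let v : T' ⟶ G ⊗ T := Over.homMk qM
  have hv : v.left.base ptM = r := ((G ⊗ T).left.range_fromSpecResidueField r).le ⟨_, rfl⟩
  let g : T' ⟶ G := v ≫ fst G T
  let z' : T' ⟶ G := (v ≫ snd G T) ≫ zT
  obtain ⟨h₁, hh₁⟩ := exists_lift_of_mem_range f M _ g (show g.left.base ptM ∈ _ by
    change p.base (v.left.base ptM) ∈ _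
    rw [hv]; exact hrR)
  have e1 : v ≫ translate (regAction G) zT ≫ fst G T = z' * g := by
    simp only [translate, lift_fst, comp_smulPt]
    change lift _ _ ≫ μ[G] = _
    rw [← Hom.mul_def]
    simp only [z', g, Category.assoc]
  obtain ⟨h₂, hh₂⟩ := exists_lift_of_mem_range f M _ (z' * g) (show (z' * g).left.base ptM ∈ _ by
    rw [← e1]
    change p.base ((translate (regAction G) zT).left.base (v.left.base ptM)) ∈ _
    rw [hv]; exact hLr)
  refine ⟨(h₂ * h₁⁻¹).left.base ptM, ?_⟩
  change ((h₂ * h₁⁻¹) ≫ f).left.base ptM = z
  rw [MonObj.mul_comp, GrpObj.inv_comp, hh₂, hh₁, mul_inv_cancel_right]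
  change zT.left.base ((v ≫ snd G T).left.base ptM) = z
  rw [Subsingleton.elim (α := ↥(Spec (CommRingCat.of L))) ((v ≫ snd G T).left.base ptM) pt]
  exact hz0

end Groth.Agent.SGA3cLib
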