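import Groth.Agent.SGA3cLib.Homogeneous
import Groth.Agent.SGA3cLib.SubgroupClosed
import Groth.Agent.VarietyLib.GeomComponents
import Groth.Agent.Et18.Descent
import Mathlib.AlgebraicGeometry.ZariskisMainTheorem
import Mathlib.AlgebraicGeometry.AlgClosed.Basic

/-!
# Quasi-compact monomorphisms of group schemes over a field are closed immersions
-/

set_option autoImplicit false
set_option backward.isDefEq.respectTransparency.types false

universe u

open CategoryTheory CategoryTheory.Limits MonoidalCategory CartesianMonoidalCategory MonObj GrpObj AlgebraicGeometry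

namespace Groth.Agent.SGA3cLib

/-- Two comparable points in a fibre of an integral morphism are equal. -/
theorem eq_of_specializes_of_isIntegralHom {X Y : Scheme.{u}} (f : X ⟶ Y) [IsIntegralHom f] {a b : X}
    (hab : a ⤳ b) (h : f.base a = f.base b) : a = b := by
  obtain ⟨U, hU, hbU, -⟩ := exists_isAffineOpen_mem_and_subset (U := ⊤) (x := f.base b) trivial
  have hb : b ∈ f ⁻¹ᵁ U := hbU
  have ha : a ∈ f ⁻¹ᵁ U := hab.mem_open (f ⁻¹ᵁ U).isOpen hb
  have hW : IsAffineOpen (f ⁻¹ᵁ U) := hU.preimage f
  let I := hW.primeIdealOf ⟨a, ha⟩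
  let J := hW.primeIdealOf ⟨b, hb⟩
  have hIJ : I ≤ J := by
    rw [PrimeSpectrum.le_iff_specializes]
    exact ((subtype_specializes_iff _ _).2 hab).map hW.isoSpec.hom.continuous
  have hc : I.asIdeal.comap (f.app U).hom = J.asIdeal.comap (f.app U).hom := by
    have h1 := IsAffineOpen.comap_primeIdealOf_appLE U hU (f ⁻¹ᵁ U) hW le_rfl ha
    have h2 := IsAffineOpen.comap_primeIdealOf_appLE U hU (f ⁻¹ᵁ U) hW le_rfl hb
    rw [← Scheme.Hom.app_eq_appLE] at h1 h2
    have h3 : hU.primeIdealOf ⟨f.base a, ha⟩ = hU.primeIdealOf ⟨f.base b, hb⟩ := by congr 2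
    exact congrArg PrimeSpectrum.asIdeal (h1.trans (h3.trans h2.symm))
  have hJI : J ≤ I := fun x hx => by
    by_contra hn
    letI := (f.app U).hom.toAlgebra
    exact (Ideal.comap_lt_comap_of_integral_mem_sdiff (R := Γ(Y, U)) hIJ ⟨hx, hn⟩
      (f.isIntegral_app U hU x)).ne hc
  have hinj : Function.Injective hW.primeIdealOf := hW.isoSpec.hom.homeomorph.injective
  exact congrArg Subtype.val (hinj (le_antisymm hIJ hJI))

/-- A quasi-compact monomorphism locally of finite type is a closed immersion near every maximal point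
of the closure of its image. -/
theorem exists_isClosedImmersion_morphismRestrict {X Y : Scheme.{u}} (f : X ⟶ Y) [Mono f]
    [LocallyOfFiniteType f] [QuasiCompact f] (ξ : Y) (hξ : ξ ∈ closure (Set.range f.base))
    (hmax : ∀ y ∈ closure (Set.range f.base), y ⤳ ξ → y = ξ) :
    ∃ V : Y.Opens, ξ ∈ V ∧ IsClosedImmersion (f ∣_ V) := by
  let j := f.toNormalization
  let ν := f.fromNormalization
  haveI : IsOpenImmersion j := inferInstance
  haveI : QuasiCompact (j ≫ ν) := by rw [f.toNormalization_fromNormalization]; infer_instance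
  haveI : QuasiCompact j := QuasiCompact.of_comp j ν
  let B : Set f.normalization := (Set.range j.base)ᶜ
  have hB : IsClosed B := j.isOpenEmbedding.isOpen_range.isClosed_compl
  have hret : IsRetrocompact (j.opensRange : Set f.normalization) := fun W hW hW' => by
    change IsCompact (Set.range j.base ∩ W)
    rw [Set.inter_comm, ← Set.image_preimage_eq_inter_range]
    exact (j.isCompact_preimage (U := ⟨W, hW'⟩) hW).image j.continuous
  have hξB : ξ ∉ ν.base '' B := by
    rintro ⟨b, hb, hbξ⟩
    obtain ⟨y, hy, hyb⟩ := exists_specializes_of_mem_closure j.opensRange hret (v := b)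
      ((dense_iff_closure_eq.1 (j.denseRange)).ge trivial)
    have hy' := hy
    obtain ⟨x, rfl⟩ : y ∈ Set.range j.base := hy
    have hν : ν.base (j.base x) = f.base x := by
      change (j ≫ ν).base x = _
      rw [f.toNormalization_fromNormalization]
    have hsp : ν.base (j.base x) ⤳ ξ := hbξ ▸ hyb.map ν.continuous
    have heq : ν.base (j.base x) = ξ := hmax _ (subset_closure ⟨x, hν.symm⟩) hsp
    exact hb (eq_of_specializes_of_isIntegralHom ν hyb (heq.trans hbξ.symm) ▸ ⟨x, rfl⟩)
  let V : Y.Opens := ⟨(ν.base '' B)ᶜ, (ν.isClosedMap _ hB).isOpen_compl⟩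
  refine ⟨V, hξB, ?_⟩
  haveI : Surjective (j ∣_ (ν ⁻¹ᵁ V)) := ⟨fun p => by
    obtain ⟨x, hx⟩ : p.1 ∈ Set.range j.base := by
      by_contra hn
      exact p.2 ⟨p.1, hn, rfl⟩
    refine ⟨⟨x, ?_⟩, Subtype.ext ?_⟩
    · change j.base x ∈ ν ⁻¹ᵁ V
      rw [hx]; exact p.2
    · rw [morphismRestrict_base]; exact hx⟩
  haveI : IsIso (j ∣_ (ν ⁻¹ᵁ V)) := (isIso_iff_isOpenImmersion_and_surjective _).mpr ⟨inferInstance, inferInstance⟩
  haveI hint : IsIntegralHom ((j ≫ ν) ∣_ V) := by
    rw [morphismRestrict_comp]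
    exact (MorphismProperty.cancel_left_of_respectsIso @IsIntegralHom (j ∣_ (ν ⁻¹ᵁ V)) (ν ∣_ V)).2 inferInstance
  rw [f.toNormalization_fromNormalization] at hint
  haveI : Mono (f ∣_ V) := by
    haveI : Mono (f ∣_ V ≫ V.ι) := by rw [morphismRestrict_ι]; infer_instance
    exact mono_of_mono (f ∣_ V) V.ι
  haveI : IsFinite (f ∣_ V) :=
    (IsFinite.iff_isIntegralHom_and_locallyOfFiniteType _).mpr ⟨hint, inferInstance⟩
  exact (IsClosedImmersion.iff_isFinite_and_mono _).mpr ⟨inferInstance, inferInstance⟩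

variable {k : Type u} [Field k]

/-- A monomorphism of group schemes over an algebraically closed field is a closed immersion, when it is
quasi-compact and locally of finite type. -/
theorem isClosedImmersion_of_mono_of_isAlgClosed [IsAlgClosed k] {G H : Over (Spec (CommRingCat.of k))}
    [GrpObj G] [GrpObj H] [LocallyOfFiniteType G.hom] [LocallyOfFiniteType H.hom]
    (f : G ⟶ H) [IsMonHom f] [Mono f] [QuasiCompact f.left] : IsClosedImmersion f.left := by
  haveI : Mono f.left := inferInstance
  haveI : LocallyOfFiniteType (f.left ≫ H.hom) := by rw [Over.w f]; infer_instance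
  haveI : LocallyOfFiniteType f.left := locallyOfFiniteType_of_comp f.left H.hom
  haveI := LocallyOfFiniteType.jacobsonSpace G.hom
  let pt : ↥(Spec (CommRingCat.of k)) := IsLocalRing.closedPoint k
  let Zc : TopologicalSpace.Closeds H.left := ⟨closure (Set.range f.left.base), isClosed_closure⟩
  let Z := (Scheme.IdealSheafData.vanishingIdeal Zc).subscheme
  let i := (Scheme.IdealSheafData.vanishingIdeal Zc).subschemeι
  have hi : Set.range i.base = closure (Set.range f.left.base) := by
    rw [Scheme.IdealSheafData.range_subschemeι]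
    exact Scheme.IdealSheafData.coe_support_vanishingIdeal Zc
  obtain ⟨zu, hzu⟩ := hi.ge (subset_closure ⟨η[G].left.base pt, rfl⟩)
  obtain ⟨ξ', hξ', -⟩ := VarietyLib.exists_genericPoints_specializes zu
  obtain ⟨V, hξV, hV⟩ := exists_isClosedImmersion_morphismRestrict f.left (i.base ξ') (hi.le ⟨ξ', rfl⟩)
    (fun y hy hyξ => by
      obtain ⟨y', rfl⟩ := hi.ge hy
      have h1 : y' ⤳ ξ' := i.isClosedEmbedding.isInducing.specializes_iff.1 hyξ
      exact congrArg i.base ((VarietyLib.mem_genericPoints_iff).1 hξ' y' h1))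
  obtain ⟨_, hwV, w, rfl⟩ := mem_closure_iff.1 (hi.le ⟨ξ', rfl⟩) V V.isOpen hξV
  obtain ⟨g₀, hg₀, hg₀c⟩ := nonempty_inter_closedPoints (Z := ((f.left ⁻¹ᵁ V : G.left.Opens) : Set G.left))
    ⟨w, hwV⟩ (f.left ⁻¹ᵁ V).isOpen.isLocallyClosed
  have hgood : ∀ g ∈ closedPoints G.left, ∃ W : H.left.Opens, f.left.base g ∈ W ∧ IsClosedImmersion (f.left ∣_ W) := by
    intro g hg
    let p : 𝟙_ (Over (Spec (CommRingCat.of k))) ⟶ G :=
      Over.homMk (pointOfClosedPoint G.hom g hg) (pointOfClosedPoint_comp _ _ _)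
    let p₀ : 𝟙_ (Over (Spec (CommRingCat.of k))) ⟶ G :=
      Over.homMk (pointOfClosedPoint G.hom g₀ hg₀c) (pointOfClosedPoint_comp _ _ _)
    let a := p₀ * p⁻¹
    let σ : G ⟶ G := (toUnit G ≫ a) * 𝟙 G
    let τ : H ⟶ H := (toUnit H ≫ (a ≫ f)) * 𝟙 H
    haveI : IsIso σ := ⟨(toUnit G ≫ a⁻¹) * 𝟙 G, by
      simp only [σ, MonObj.comp_mul, Category.comp_id, comp_toUnit_assoc, GrpObj.comp_inv]
      group, by
      simp only [σ, MonObj.comp_mul, Category.comp_id, comp_toUnit_assoc, GrpObj.comp_inv]
      group⟩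
    haveI : IsIso τ := ⟨(toUnit H ≫ (a ≫ f)⁻¹) * 𝟙 H, by
      simp only [τ, MonObj.comp_mul, Category.comp_id, comp_toUnit_assoc, GrpObj.comp_inv]
      group, by
      simp only [τ, MonObj.comp_mul, Category.comp_id, comp_toUnit_assoc, GrpObj.comp_inv]
      group⟩
    have hστ : σ ≫ f = f ≫ τ := by
      simp only [σ, τ, MonObj.mul_comp, MonObj.comp_mul, Category.id_comp, Category.comp_id,
        comp_toUnit_assoc, Category.assoc]
    haveI : IsIso σ.left := inferInstanceAs (IsIso ((Over.forget _).map σ))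
    haveI : IsIso τ.left := inferInstanceAs (IsIso ((Over.forget _).map τ))
    have hp : p ≫ σ = p₀ := by
      simp [σ, a, MonObj.comp_mul]
    refine ⟨τ.left ⁻¹ᵁ V, ?_, ?_⟩
    · change (f ≫ τ).left.base g ∈ V
      rw [← hστ]
      have hpg : g = p.left.base pt := (pointOfClosedPoint_apply G.hom g hg pt).symm
      rw [hpg]
      change (p ≫ σ ≫ f).left.base pt ∈ V
      rw [← Category.assoc, hp]
      change f.left.base ((pointOfClosedPoint G.hom g₀ hg₀c).base pt) ∈ V
      rw [pointOfClosedPoint_apply]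
      exact hg₀
    · have h1 : IsClosedImmersion ((σ.left ≫ f.left) ∣_ V) := by
        rw [morphismRestrict_comp]
        exact MorphismProperty.comp_mem @IsClosedImmersion _ _ (IsZariskiLocalAtTarget.restrict (P := @IsClosedImmersion) (inferInstanceAs (IsClosedImmersion σ.left)) _) hV
      rw [show σ.left ≫ f.left = f.left ≫ τ.left from congrArg CommaMorphism.left hστ,
        morphismRestrict_comp] at h1
      exact MorphismProperty.of_postcomp @IsClosedImmersion (W' := @IsSeparated) _ (τ.left ∣_ V)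
        (IsZariskiLocalAtTarget.restrict (P := @IsSeparated) inferInstance _) h1
  choose W hWg hW using hgood
  let W₀ : H.left.Opens := ⨆ g : closedPoints G.left, W g.1 g.2
  have hrange : ∀ x : G.left, f.left.base x ∈ W₀ := fun x => by
    by_contra hn
    obtain ⟨g, hgn, hgc⟩ := nonempty_inter_closedPoints (Z := (f.left.base ⁻¹' (W₀ : Set H.left)ᶜ))
      ⟨x, hn⟩ ((W₀.isOpen.isClosed_compl).preimage f.left.continuous).isLocallyClosed
    exact hgn (TopologicalSpace.Opens.mem_iSup.2 ⟨⟨g, hgc⟩, hWg g hgc⟩)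
  haveI : IsImmersion f.left := by
    haveI : IsImmersion (f.left ∣_ W₀) := by
      refine (IsZariskiLocalAtTarget.iff_of_iSup_eq_top (P := @IsImmersion)
        (fun g : closedPoints G.left => W₀.ι ⁻¹ᵁ W g.1 g.2) ?_).2 fun g => ?_
      · rw [eq_top_iff]
        rintro ⟨y, hy⟩ -
        obtain ⟨g, hg⟩ := TopologicalSpace.Opens.mem_iSup.1 hy
        exact TopologicalSpace.Opens.mem_iSup.2 ⟨g, hg⟩
      · have himg : W₀.ι ''ᵁ (W₀.ι ⁻¹ᵁ W g.1 g.2) = W g.1 g.2 := by
          rw [Scheme.Hom.image_preimage_eq_opensRange_inf, Scheme.Opens.opensRange_ι]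
          exact inf_eq_right.2 (le_iSup (fun g : closedPoints G.left => W g.1 g.2) g)
        rw [MorphismProperty.arrow_mk_iso_iff @IsImmersion
          (morphismRestrictRestrict f.left W₀ _ ≪≫ morphismRestrictEq f.left himg)]
        haveI := hW g.1 g.2
        infer_instance
    have htop : f.left ⁻¹ᵁ W₀ = ⊤ := by
      rw [eq_top_iff]; exact fun x _ => hrange x
    haveI : IsImmersion ((f.left ⁻¹ᵁ W₀).ι ≫ f.left) := by
      rw [← morphismRestrict_ι]; infer_instance
    haveI : IsIso (f.left ⁻¹ᵁ W₀).ι := by rw [htop]; exact inferInstanceAs (IsIso (Scheme.topIso G.left).hom)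
    exact (MorphismProperty.cancel_left_of_respectsIso @IsImmersion (f.left ⁻¹ᵁ W₀).ι f.left).1 inferInstance
  exact IsClosedImmersion.of_isPreimmersion _ (isClosed_range_of_isImmersion f)

/-- A quasi-compact monomorphism of group schemes locally of finite type over a field is a closed
immersion. -/
theorem isClosedImmersion_of_mono {G H : Over (Spec (CommRingCat.of k))}
    [GrpObj G] [GrpObj H] [LocallyOfFiniteType G.hom] [LocallyOfFiniteType H.hom]
    (f : G ⟶ H) [IsMonHom f] [Mono f] [QuasiCompact f.left] : IsClosedImmersion f.left := by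
  let Ω := AlgebraicClosure k
  let s : Spec (CommRingCat.of Ω) ⟶ Spec (CommRingCat.of k) :=
    Spec.map (CommRingCat.ofHom (algebraMap k Ω))
  let F := Over.pullback s
  letI : GrpObj (F.obj G) := F.grpObjObj
  letI : GrpObj (F.obj H) := F.grpObjObj
  haveI : LocallyOfFiniteType (F.obj G).hom := MorphismProperty.pullback_snd (P := @LocallyOfFiniteType) _ _ inferInstance
  haveI : LocallyOfFiniteType (F.obj H).hom := MorphismProperty.pullback_snd (P := @LocallyOfFiniteType) _ _ inferInstance
  have hsq : IsPullback (pullback.fst G.hom s) (F.map f).left f.left (pullback.fst H.hom s) := by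
    refine IsPullback.of_bot ?_ ?_ (IsPullback.of_hasPullback H.hom s)
    · have e1 : (F.map f).left ≫ pullback.snd H.hom s = pullback.snd G.hom s := pullback.lift_snd _ _ _
      have e2 : f.left ≫ H.hom = G.hom := Over.w f
      rw [e1, e2]
      exact IsPullback.of_hasPullback G.hom s
    · exact (pullback.lift_fst _ _ _).symm
  haveI : QuasiCompact (F.map f).left := MorphismProperty.of_isPullback (P := @QuasiCompact) hsq inferInstance
  haveI : Mono (F.map f) := inferInstance
  haveI : IsMonHom (F.map f) := inferInstance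
  haveI := isClosedImmersion_of_mono_of_isAlgClosed (F.map f)
  refine @MorphismProperty.DescendsAlong.of_isPullback _ _ _ _ Et18.descends_isClosedImmersion _ _ _ _
    _ _ _ _ hsq.flip ⟨⟨?_, ?_⟩, ?_⟩ inferInstance
  · exact MorphismProperty.pullback_fst (P := @Surjective) _ _ inferInstance
  · exact MorphismProperty.pullback_fst (P := @Flat) _ _ inferInstance
  · exact MorphismProperty.pullback_fst (P := @QuasiCompact) _ _ inferInstance

end Groth.Agent.SGA3cLib
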