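import Groth.Agent.SGA3cLib.MultHomLocus
import Groth.Agent.SGA3cLib.BCPoints
import Groth.Agent.S2575

/-!
# Auxiliary results for the coincidence locus of two subgroups of multiplicative type

Cartesian squares and the criterion for two subobjects to agree, descent of properties along coverings, quasi-compactness
of groups of multiplicative type, homomorphisms of diagonalisable groups over a field.
-/

set_option linter.style.haveILetI false
set_option autoImplicit false

universe u

open CategoryTheory CategoryTheory.Limits MonoidalCategory CartesianMonoidalCategory MonObj AlgebraicGeometry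

noncomputable section

namespace Groth.Agent.SGA3cLib.CentralEq

/-- Two monomorphisms have isomorphic sources over the target iff both projections of their fibre product are isomorphisms. -/
theorem isIso_pr_iff {C : Type*} [Category C] {K X Y Z : C} {p₁ : K ⟶ X} {p₂ : K ⟶ Y} {a : X ⟶ Z} {b : Y ⟶ Z}
    (h : IsPullback p₁ p₂ a b) [Mono a] [Mono b] :
    (IsIso p₁ ∧ IsIso p₂) ↔ ∃ ψ : X ≅ Y, ψ.hom ≫ b = a := by
  constructor
  · rintro ⟨h1, h2⟩
    exact ⟨(asIso p₁).symm ≪≫ asIso p₂, by simp [← h.w]⟩
  · rintro ⟨ψ, hψ⟩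
    let s : X ⟶ K := h.lift (𝟙 X) ψ.hom (by rw [Category.id_comp, hψ])
    have h1 : s ≫ p₁ = 𝟙 X := h.lift_fst _ _ _
    have h2 : p₁ ≫ s = 𝟙 K := by
      have hw : p₂ = p₁ ≫ ψ.hom := by rw [← cancel_mono b, Category.assoc, hψ, h.w]
      apply h.hom_ext
      · rw [Category.assoc, h1, Category.id_comp, Category.comp_id]
      · rw [Category.assoc, h.lift_snd, Category.id_comp, hw]
    haveI : IsIso p₁ := ⟨s, h2, h1⟩
    refine ⟨inferInstance, ?_⟩
    have hw : p₂ = p₁ ≫ ψ.hom := by rw [← cancel_mono b, Category.assoc, hψ, h.w]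
    rw [hw]; infer_instance

variable {S : Scheme.{u}}

theorem mono_map {T : Scheme.{u}} (g : T ⟶ S) {X Y : Over S} (f : X ⟶ Y) [Mono f.left] :
    Mono ((Over.pullback g).map f) := by
  haveI : Mono f := Over.mono_of_mono_left f
  infer_instance

theorem isPullback_map {T : Scheme.{u}} (g : T ⟶ S) {K X Y Z : Over S} {p₁ : K ⟶ X} {p₂ : K ⟶ Y} {a : X ⟶ Z}
    {b : Y ⟶ Z} (h : IsPullback p₁ p₂ a b) :
    IsPullback ((Over.pullback g).map p₁) ((Over.pullback g).map p₂) ((Over.pullback g).map a) ((Over.pullback g).map b) := by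
  haveI : (Over.pullback g).IsRightAdjoint := (Over.mapPullbackAdj g).isRightAdjoint
  exact h.map _

theorem isIso_left_iff {X Y : Over S} (f : X ⟶ Y) : IsIso f.left ↔ IsIso f :=
  ⟨fun h => by
    haveI : IsIso ((Over.forget S).map f) := h
    exact isIso_of_reflects_iso f (Over.forget S),
   fun h => inferInstanceAs (IsIso ((Over.forget S).map f))⟩

/-- A property of the base changes is independent of the field representing a point. -/
theorem field_iff {X Y : Over S} (f : X ⟶ Y) (P : MorphismProperty Scheme.{u}) [P.IsStableUnderBaseChange]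
    [P.DescendsAlong (@Surjective ⊓ @Flat ⊓ @QuasiCompact)] [IsZariskiLocalAtTarget P]
    {K : Type u} [Field K] (ω : Spec (CommRingCat.of K) ⟶ S) (x : Spec (CommRingCat.of K)) :
    P ((Over.pullback ω).map f).left ↔ P ((Over.pullback (S.fromSpecResidueField (ω.base x))).map f).left := by
  obtain ⟨⟨s, θ⟩, rfl⟩ := (Scheme.SpecToEquivOfField K S).symm.surjective ω
  have hs : ((Scheme.SpecToEquivOfField K S).symm ⟨s, θ⟩).base x = s := by
    show (S.fromSpecResidueField s).base ((Spec.map θ).base x) = s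
    exact Scheme.fromSpecResidueField_apply _ _
  rw [hs]
  have hfs : Flat (Spec.map θ) ∧ Surjective (Spec.map θ) := by
    rw [flat_and_surjective_SpecMap_iff]
    letI := θ.hom.toAlgebra
    exact (inferInstanceAs (Module.FaithfullyFlat (S.residueField s) K))
  haveI := hfs.1
  haveI := hfs.2
  refine ⟨fun h => MultHomLocus.of_fpqc f P _ (Spec.map θ) (IsFpqcCov.of_forall _ fun V hV => ?_) _ rfl h,
    fun h => MultHomLocus.of_comp f P _ (Spec.map θ) _ rfl h⟩
  exact ⟨Spec.map θ ⁻¹ᵁ V, (Spec.map θ).isCompact_preimage hV.isCompact,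
    Set.image_preimage_eq _ (Spec.map θ).surjective⟩

/-- A property holding locally on an fpqc covering of an open subscheme holds on it. -/
theorem of_locally {X Y : Over S} (f : X ⟶ Y) (P : MorphismProperty Scheme.{u}) [P.IsStableUnderBaseChange]
    [P.DescendsAlong (@Surjective ⊓ @Flat ⊓ @QuasiCompact)] [IsZariskiLocalAtTarget P]
    {S' : Scheme.{u}} (F : S' ⟶ S) (hF : IsFpqcCov F) (U : S.Opens)
    (h : ∀ w : S', F.base w ∈ U → ∃ B : S'.Opens, w ∈ B ∧ P ((Over.pullback (B.ι ≫ F)).map f).left) :
    P ((Over.pullback U.ι).map f).left := by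
  refine MultHomLocus.of_fpqc f P U.ι (pullback.snd F U.ι) (hF.pullback_snd _) (pullback.fst F U.ι ≫ F)
    (by rw [pullback.condition]) ?_
  let g' := pullback.fst F U.ι ≫ F
  have hcov : ∀ x : ↥(pullback F U.ι), ∃ B : (pullback F U.ι).Opens, x ∈ B ∧ P ((Over.pullback (B.ι ≫ g')).map f).left := by
    intro x
    obtain ⟨B, hxB, hB⟩ := h ((pullback.fst F U.ι).base x) (by
      rw [← Scheme.Hom.comp_apply, pullback.condition]
      exact ((pullback.snd F U.ι).base x).2)
    refine ⟨pullback.fst F U.ι ⁻¹ᵁ B, hxB, ?_⟩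
    exact MultHomLocus.of_comp f P (B.ι ≫ F) ((pullback.fst F U.ι) ∣_ B) _
      (by simp only [g']; rw [← Category.assoc, morphismRestrict_ι, Category.assoc]) hB
  choose B hxB hB using hcov
  have hBc : TopologicalSpace.IsOpenCover B :=
    TopologicalSpace.IsOpenCover.mk (eq_top_iff.2 fun x _ => TopologicalSpace.Opens.mem_iSup.2 ⟨x, hxB x⟩)
  rw [IsZariskiLocalAtTarget.iff_of_openCover (P := P)
    (((pullback F U.ι).openCoverOfIsOpenCover B hBc).pullback₁ (pullback.snd Y.hom g'))]
  intro (x : ↥(pullback F U.ι))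
  obtain ⟨m, m', h₁, h₂⟩ := MultHomLocus.exists_sq f g' (B x).ι ((B x).ι ≫ g') rfl
  let i := h₂.isoPullback
  have h4 : IsPullback m (((Over.pullback ((B x).ι ≫ g')).map f).left ≫ i.hom) ((Over.pullback g').map f).left
      (pullback.fst (pullback.snd Y.hom g') (B x).ι) :=
    h₁.of_iso (Iso.refl _) (Iso.refl _) i (Iso.refl _) (by simp) (by simp) (by simp) (by simp [i])
  exact (P.arrow_mk_iso_iff (Arrow.isoMk h4.isoPullback i h4.isoPullback_hom_snd)).mp (hB x)

/-- Quasi-compactness is checked after an fpqc covering. -/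
theorem quasiCompact_of_cov {S' X : Scheme.{u}} (F : S' ⟶ S) (hF : IsFpqcCov F) (f : X ⟶ S)
    [QuasiCompact (pullback.snd f F)] : QuasiCompact f := by
  refine (quasiCompact_iff_forall_isAffineOpen).mpr fun V hV => ?_
  obtain ⟨W, hW, hWV⟩ := BCPoints.forall_affine hF V hV
  have h1 := (pullback.snd f F).isCompact_preimage (U := W) hW
  convert h1.image (pullback.fst f F).continuous using 1
  ext x
  constructor
  · intro hx
    obtain ⟨w, hw, hwx⟩ := hWV.ge hx
    obtain ⟨z, hz1, hz2⟩ := Scheme.Pullback.exists_preimage_pullback x w hwx.symm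
    exact ⟨z, show (pullback.snd f F).base z ∈ W by rw [hz2]; exact hw, hz1⟩
  · rintro ⟨z, hz, rfl⟩
    show f.base ((pullback.fst f F).base z) ∈ V
    rw [← Scheme.Hom.comp_apply, pullback.condition]
    exact hWV.le ⟨_, hz, rfl⟩

instance quasiCompact_descends : MorphismProperty.DescendsAlong (@QuasiCompact : MorphismProperty Scheme.{u})
    (@Surjective ⊓ @Flat ⊓ @QuasiCompact) := by
  apply MorphismProperty.DescendsAlong.mk'
  intro X Y Z f g _ hf h
  haveI : Surjective f := hf.1.1
  haveI : Flat f := hf.1.2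
  haveI : QuasiCompact f := hf.2
  haveI : QuasiCompact (pullback.snd g f) := by
    rw [← pullbackSymmetry_hom_comp_fst]
    haveI : QuasiCompact (pullback.fst f g) := h
    infer_instance
  exact quasiCompact_of_cov f (IsFpqcCov.of_forall f fun V hV =>
    ⟨f ⁻¹ᵁ V, f.isCompact_preimage hV.isCompact, Set.image_preimage_eq _ f.surjective⟩) g

/-- Groups of multiplicative type are quasi-compact and quasi-separated over the base. -/
theorem qcqs_of_multTypeFT (H : Over S) [GrpObj H] (hH : SGA3x.IsMultTypeFT H) :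
    QuasiCompact H.hom ∧ QuasiSeparated H.hom := by
  obtain ⟨S', f, hfl, -, hq, hU⟩ := hH
  haveI := hfl
  have hF := IsFpqcCov.of_forall f hq
  choose U hmem M _ hM e using hU
  have hUc : TopologicalSpace.IsOpenCover U :=
    TopologicalSpace.IsOpenCover.mk (eq_top_iff.2 fun y _ => TopologicalSpace.Opens.mem_iSup.2 ⟨y, hmem y⟩)
  haveI haff : IsAffineHom (pullback.snd H.hom f) := by
    rw [IsZariskiLocalAtTarget.iff_of_openCover (P := @IsAffineHom) (S'.openCoverOfIsOpenCover U hUc)]
    intro (s : S')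
    change IsAffineHom (pullback.snd (pullback.snd H.hom f) (U s).ι)
    rw [show pullback.snd (pullback.snd H.hom f) (U s).ι =
        (pullbackLeftPullbackSndIso H.hom f (U s).ι).hom ≫ pullback.snd H.hom ((U s).ι ≫ f) from
      (pullbackLeftPullbackSndIso_hom_snd _ _ _).symm,
      MorphismProperty.cancel_left_of_respectsIso @IsAffineHom]
    haveI : IsAffineHom (Red.DS (U s : Scheme.{u}) (M s)).hom := by
      have hd : IsAffineHom (Red.diag (ULift.{u} ℤ) (M s)).hom := by
        show IsAffineHom (Spec.map _)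
        infer_instance
      exact MorphismProperty.pullback_snd (P := @IsAffineHom) _ _ hd
    let i : Red.bc ((U s).ι ≫ f) H ≅ Red.DS (U s : Scheme.{u}) (M s) := (Grp.forget _).mapIso (e s).some
    show IsAffineHom (Red.bc ((U s).ι ≫ f) H).hom
    rw [← Over.w i.hom]
    infer_instance
  refine ⟨quasiCompact_of_cov f hF H.hom, ?_⟩
  haveI : MorphismProperty.DescendsAlong (@QuasiSeparated : MorphismProperty Scheme.{u}) (@Surjective ⊓ @Flat ⊓ @QuasiCompact) := by
    rw [quasiSeparated_eq_diagonal_is_quasiCompact]; infer_instance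
  exact hF.descend @QuasiSeparated H.hom inferInstance

/-- Base change of homomorphisms of diagonalisable groups. -/
theorem exists_bc_DS {U T : Scheme.{u}} (k : T ⟶ U) :
    ∃ c : ∀ (M : Type) [AddCommGroup M], Red.bc k (Red.DS U M) ≅ Red.DS T M,
      (∀ (M : Type) [AddCommGroup M], IsMonHom (c M).hom) ∧
      ∀ (M N : Type) [AddCommGroup M] [AddCommGroup N] (φ : N →+ M),
        (Over.pullback k).map (Red.DSmap U φ) ≫ (c N).hom = (c M).hom ≫ Red.DSmap T φ := by
  let α := GrpBC.bcCongr (IsTerminal.from specULiftZIsTerminal U) k (IsTerminal.from specULiftZIsTerminal T)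
    (specULiftZIsTerminal.hom_ext _ _)
  refine ⟨fun M _ => α.app (Red.diag (ULift.{u} ℤ) M), fun M _ => (GrpBC.isMonHom_app α _).1, fun M N _ _ φ => ?_⟩
  exact α.hom.naturality (Red.diagMap (ULift.{u} ℤ) φ)

theorem ds_comm {U : Scheme.{u}} {M : Type} [AddCommGroup M] {W : Over U} (p q : W ⟶ Red.DS U M) : p * q = q * p :=
  dsFn_injective (MonoidHom.ext fun m => by rw [dsFn_mul, dsFn_mul, mul_comm])

/-- An isomorphism of diagonalisable groups over a field comes from an isomorphism of the character groups. -/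
theorem exists_addEquiv {K : Type u} [Field K] {M N : Type} [AddCommGroup M] [AddCommGroup N] [AddGroup.FG N]
    (u : Red.DS (Spec (CommRingCat.of K)) M ⟶ Red.DS (Spec (CommRingCat.of K)) N) [IsMonHom u] [IsIso u] :
    ∃ φ : N →+ M, Function.Bijective φ ∧ u = Red.DSmap (Spec (CommRingCat.of K)) φ := by
  obtain ⟨V, φ, hxV, hV⟩ := DSHom.exists_eq_DSmap u (default : PrimeSpectrum K)
  have h1 : u = Red.DSmap (Spec (CommRingCat.of K)) φ := by
    have h2 := hV (Red.DS (Spec (CommRingCat.of K)) M) (fun y _ => by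
      rwa [Subsingleton.elim y (default : PrimeSpectrum K)]) (𝟙 _)
    simpa using h2
  refine ⟨φ, ?_, h1⟩
  haveI : IsIso (Red.DSmap (Spec (CommRingCat.of K)) φ) := h1 ▸ inferInstance
  exact MultHomLocus.bijective_of_isIso φ (𝟙 (Spec (CommRingCat.of K))) (inferInstanceAs (IsIso
    ((Over.forget _).map ((Over.pullback (𝟙 (Spec (CommRingCat.of K)))).map (Red.DSmap (Spec (CommRingCat.of K)) φ)))))

end Groth.Agent.SGA3cLib.CentralEq
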