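import Groth.Prelude.Def_Red2

/-! Points of base changes of affine group schemes over `Spec (ULift ℤ)`: `DS S M`, `Gm S`, `Ga S`. -/

set_option linter.style.haveILetI false
set_option autoImplicit false

universe u

open CategoryTheory CategoryTheory.Limits MonoidalCategory CartesianMonoidalCategory MonObj AlgebraicGeometry
open scoped TensorProduct

noncomputable section

namespace Groth.Agent.SGA3cLib

attribute [-instance] ULift.module ULift.smulLeft ULift.mulAction ULift.smulZeroClass ULift.distribSMul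
  ULift.distribMulAction ULift.mulDistribMulAction ULift.smulWithZero ULift.mulActionWithZero


/-- The canonical `ULift ℤ`-algebra structure of a ring. -/
@[reducible] def algR₀ (A : Type u) [CommRing A] : Algebra (ULift.{u} ℤ) A :=
  ((Int.castRingHom A).comp ULift.ringEquiv.toRingHom).toAlgebra

theorem r₀_hom_ext {A : Type u} [Semiring A] (f g : (ULift.{u} ℤ) →+* A) : f = g := by
  have h : f.comp (ULift.ringEquiv.{0, u} (R := ℤ)).symm.toRingHom =
      g.comp (ULift.ringEquiv.{0, u} (R := ℤ)).symm.toRingHom := RingHom.ext_int _ _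
  ext ⟨n⟩
  exact congrArg (fun φ : ℤ →+* A => φ n) h

variable {S : Scheme.{u}} {A : Type u} [CommRing A] [Algebra (ULift.{u} ℤ) A]

/-- The `S`-scheme `S ×_ℤ Spec A`. -/
abbrev bcZ (S : Scheme.{u}) (A : Type u) [CommRing A] [Algebra (ULift.{u} ℤ) A] : Over S :=
  Red.bc (IsTerminal.from specULiftZIsTerminal S)
    ((Spec (CommRingCat.of A)).asOver (Spec (CommRingCat.of (ULift.{u} ℤ))))

/-- The second projection, as a map over `Spec ℤ`. -/
def proj {P : Over (Spec (CommRingCat.of (ULift.{u} ℤ)))} {X : Over S}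
    (x : X ⟶ (Over.pullback (IsTerminal.from specULiftZIsTerminal S)).obj P) :
    Over.mk (IsTerminal.from specULiftZIsTerminal X.left) ⟶ P :=
  Over.homMk (x.left ≫ pullback.fst _ _) (specULiftZIsTerminal.hom_ext _ _)

@[simp] theorem proj_left {P : Over (Spec (CommRingCat.of (ULift.{u} ℤ)))} {X : Over S}
    (x : X ⟶ (Over.pullback (IsTerminal.from specULiftZIsTerminal S)).obj P) :
    (proj x).left = x.left ≫ pullback.fst _ _ := rfl

theorem proj_map {P Q : Over (Spec (CommRingCat.of (ULift.{u} ℤ)))} {X : Over S}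
    (x : X ⟶ (Over.pullback (IsTerminal.from specULiftZIsTerminal S)).obj P) (m : P ⟶ Q) :
    proj (x ≫ (Over.pullback (IsTerminal.from specULiftZIsTerminal S)).map m) = proj x ≫ m := by
  ext1
  simp
  erw [pullback.lift_fst]

theorem proj_lift_μ {P Q : Over (Spec (CommRingCat.of (ULift.{u} ℤ)))} {X : Over S}
    (x : X ⟶ (Over.pullback (IsTerminal.from specULiftZIsTerminal S)).obj P)
    (y : X ⟶ (Over.pullback (IsTerminal.from specULiftZIsTerminal S)).obj Q) :
    proj (lift x y ≫ Functor.LaxMonoidal.μ (Over.pullback (IsTerminal.from specULiftZIsTerminal S)) P Q) =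
      lift (proj x) (proj y) := by
  apply CartesianMonoidalCategory.hom_ext
  · rw [← proj_map, Category.assoc, Functor.Monoidal.μ_fst, lift_fst, lift_fst]
  · rw [← proj_map, Category.assoc, Functor.Monoidal.μ_snd, lift_snd, lift_snd]

/-- The ring map attached to a point of `S ×_ℤ Spec A`. -/
def fn {X : Over S} (x : X ⟶ bcZ S A) : A →+* Γ(X.left, ⊤) :=
  ((Scheme.ΓSpecIso (CommRingCat.of A)).inv ≫
    (x.left ≫ pullback.fst _ _).appTop).hom

theorem fn_apply {X : Over S} (x : X ⟶ bcZ S A) (a : A) :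
    fn x a = (x.left ≫ pullback.fst _ _).appTop ((Scheme.ΓSpecIso (CommRingCat.of A)).inv a) := rfl

theorem comp_eq_toSpecΓ {X : Over S} (x : X ⟶ bcZ S A) :
    x.left ≫ pullback.fst _ _ = X.left.toSpecΓ ≫ Spec.map (CommRingCat.ofHom (fn x)) := by
  rw [show CommRingCat.ofHom (fn x) =
      (Scheme.ΓSpecIso (CommRingCat.of A)).inv ≫ (x.left ≫ pullback.fst _ _).appTop from rfl,
    Spec.map_comp]
  erw [← Scheme.toSpecΓ_naturality_assoc]
  erw [← SpecMap_ΓSpecIso_hom, ← Spec.map_comp, Iso.inv_hom_id, Spec.map_id, Category.comp_id]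

theorem fn_injective {X : Over S} {x y : X ⟶ bcZ S A} (h : fn x = fn y) : x = y := by
  refine Over.OverMorphism.ext ?_
  apply pullback.hom_ext
  · rw [comp_eq_toSpecΓ, comp_eq_toSpecΓ, h]
  · exact (Over.w x).trans (Over.w y).symm

theorem fn_surjective {X : Over S} (φ : A →+* Γ(X.left, ⊤)) : ∃ x : X ⟶ bcZ S A, fn x = φ := by
  refine ⟨Over.homMk (pullback.lift (X.left.toSpecΓ ≫ Spec.map (CommRingCat.ofHom φ)) X.hom
    (specULiftZIsTerminal.hom_ext _ _)) (pullback.lift_snd _ _ _), ?_⟩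
  ext a
  rw [fn_apply]
  erw [pullback.lift_fst]
  rw [Scheme.Hom.comp_appTop, Scheme.toSpecΓ_appTop]
  erw [Scheme.ΓSpecIso_naturality, CommRingCat.comp_apply, Iso.inv_hom_id_apply]
  rfl

theorem fn_comp {X X' : Over S} (f : X' ⟶ X) (x : X ⟶ bcZ S A) (a : A) :
    fn (f ≫ x) a = f.left.appTop (fn x a) := rfl

/-- The point as an algebra map. -/
def fnAlg {X : Over S} (x : X ⟶ bcZ S A) :
    letI := algR₀ Γ(X.left, ⊤)
    A →ₐ[(ULift.{u} ℤ)] Γ(X.left, ⊤) :=
  letI := algR₀ Γ(X.left, ⊤)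
  { fn x with commutes' := fun r => DFunLike.congr_fun (r₀_hom_ext ((fn x).comp (algebraMap (ULift.{u} ℤ) A)) (algebraMap (ULift.{u} ℤ) _)) r }

theorem proj_eq {X : Over S} (x : X ⟶ bcZ S A) :
    letI := algR₀ Γ(X.left, ⊤)
    proj x = (Over.homMk X.left.toSpecΓ (specULiftZIsTerminal.hom_ext _ _) :
        Over.mk (IsTerminal.from specULiftZIsTerminal X.left) ⟶
          (Spec (CommRingCat.of Γ(X.left, ⊤))).asOver (Spec (CommRingCat.of (ULift.{u} ℤ)))) ≫
      (Spec.map (CommRingCat.ofHom (fnAlg x).toRingHom)).asOver (Spec (CommRingCat.of (ULift.{u} ℤ))) := by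
  ext1
  exact comp_eq_toSpecΓ x

theorem fn_eq_of_proj_eq {X : Over S} {x y : X ⟶ bcZ S A} (h : proj x = proj y) : fn x = fn y := by
  have h' : x.left ≫ pullback.fst _ _ = y.left ≫ pullback.fst _ _ := congrArg CommaMorphism.left h
  unfold fn
  rw [h']

section Hopf

variable {H : Type u} [CommRing H] [HopfAlgebra (ULift.{u} ℤ) H]

theorem proj_mul {X : Over S} (x y : X ⟶ bcZ S H) : proj (x * y) = proj x * proj y := by
  rw [Hom.mul_def, Hom.mul_def]
  show proj (lift x y ≫ Functor.LaxMonoidal.μ (Over.pullback (IsTerminal.from specULiftZIsTerminal S)) _ _ ≫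
    (Over.pullback (IsTerminal.from specULiftZIsTerminal S)).map μ) = _
  rw [← Category.assoc, proj_map, proj_lift_μ]

theorem fnAlg_mul {X : Over S} (x y : X ⟶ bcZ S H) :
    letI := algR₀ Γ(X.left, ⊤)
    WithConv.toConv (fnAlg (x * y)) = WithConv.toConv (fnAlg x) * WithConv.toConv (fnAlg y) := by
  letI := algR₀ Γ(X.left, ⊤)
  obtain ⟨z, hz⟩ := fn_surjective (S := S) (A := H)
    ((WithConv.toConv (fnAlg x) * WithConv.toConv (fnAlg y)).ofConv.toRingHom)
  have hz' : fnAlg z = (WithConv.toConv (fnAlg x) * WithConv.toConv (fnAlg y)).ofConv :=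
    AlgHom.coe_ringHom_injective hz
  have h : proj z = proj (x * y) := by
    rw [proj_mul, proj_eq x, proj_eq y, proj_eq z, ← MonObj.comp_mul, hz']
    exact congrArg (_ ≫ ·) (map_mul Spec.mapMulEquiv (WithConv.toConv (fnAlg x)) (WithConv.toConv (fnAlg y)))
  have h2 : fnAlg (x * y) = fnAlg z := AlgHom.coe_ringHom_injective (fn_eq_of_proj_eq h).symm
  rw [h2, hz']

theorem fn_mul {X : Over S} (x y : X ⟶ bcZ S H) (a : H) :
    letI := algR₀ Γ(X.left, ⊤)
    fn (x * y) a = Algebra.TensorProduct.lmul' (ULift.{u} ℤ) (Algebra.TensorProduct.map (fnAlg x) (fnAlg y)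
      (CoalgebraStruct.comul (R := ULift.{u} ℤ) a)) := by
  letI := algR₀ Γ(X.left, ⊤)
  have h := congrArg (fun f => f.ofConv a) (fnAlg_mul x y)
  simp only [WithConv.ofConv_toConv, AlgHom.convMul_def] at h
  exact h

theorem fn_mul_of_groupLike {X : Over S} (x y : X ⟶ bcZ S H) {g : H}
    (hg : CoalgebraStruct.comul (R := ULift.{u} ℤ) g = g ⊗ₜ g) : fn (x * y) g = fn x g * fn y g := by
  letI := algR₀ Γ(X.left, ⊤)
  rw [fn_mul, hg, Algebra.TensorProduct.map_tmul, Algebra.TensorProduct.lmul'_apply_tmul]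
  rfl

theorem fn_mul_of_primitive {X : Over S} (x y : X ⟶ bcZ S H) {g : H}
    (hg : CoalgebraStruct.comul (R := ULift.{u} ℤ) g = g ⊗ₜ 1 + 1 ⊗ₜ g) :
    fn (x * y) g = fn x g + fn y g := by
  letI := algR₀ Γ(X.left, ⊤)
  rw [fn_mul, hg, map_add, map_add, Algebra.TensorProduct.map_tmul, Algebra.TensorProduct.map_tmul,
    Algebra.TensorProduct.lmul'_apply_tmul, Algebra.TensorProduct.lmul'_apply_tmul, map_one, map_one,
    _root_.mul_one, _root_.one_mul]
  rfl

end Hopf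

section Coordinates

theorem gmFn_eq_fn {X : Over S} (t : X ⟶ Red.Gm S) :
    Red.gmFn t = fn t (MonoidAlgebra.single (Multiplicative.ofAdd (1 : ℤ)) 1) := rfl

theorem gaFn_eq_fn {X : Over S} (x : X ⟶ Red.Ga S) :
    Red.gaFn x = fn x (SymmetricAlgebra.ι (ULift.{u} ℤ) (ULift.{u} ℤ) (ULift.up 1)) := rfl

theorem gmFn_mul {X : Over S} (s t : X ⟶ Red.Gm S) : Red.gmFn (s * t) = Red.gmFn s * Red.gmFn t := by
  rw [gmFn_eq_fn, gmFn_eq_fn, gmFn_eq_fn]
  exact fn_mul_of_groupLike s t (by simp [MonoidAlgebra.comul_single])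

theorem gaFn_mul {X : Over S} (x y : X ⟶ Red.Ga S) : Red.gaFn (x * y) = Red.gaFn x + Red.gaFn y := by
  rw [gaFn_eq_fn, gaFn_eq_fn, gaFn_eq_fn]
  exact fn_mul_of_primitive x y (by simp)

theorem isUnit_gmFn {X : Over S} (t : X ⟶ Red.Gm S) : IsUnit (Red.gmFn t) := by
  rw [gmFn_eq_fn]
  exact IsUnit.map (fn t) ⟨⟨MonoidAlgebra.single (Multiplicative.ofAdd (1 : ℤ)) 1,
    MonoidAlgebra.single (Multiplicative.ofAdd (-1 : ℤ)) 1,
    by simp [MonoidAlgebra.single_mul_single, ← ofAdd_add, MonoidAlgebra.one_def],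
    by simp [MonoidAlgebra.single_mul_single, ← ofAdd_add, MonoidAlgebra.one_def]⟩, rfl⟩

theorem gmFn_one {X : Over S} : Red.gmFn (1 : X ⟶ Red.Gm S) = 1 := by
  have h := gmFn_mul (1 : X ⟶ Red.Gm S) 1
  replace h := (congrArg Red.gmFn (_root_.mul_one (1 : X ⟶ Red.Gm S))).symm.trans h
  exact ((isUnit_gmFn (1 : X ⟶ Red.Gm S)).mul_eq_left.mp h.symm)

theorem gaFn_one {X : Over S} : Red.gaFn (1 : X ⟶ Red.Ga S) = 0 := by
  have h := gaFn_mul (1 : X ⟶ Red.Ga S) 1
  replace h := (congrArg Red.gaFn (_root_.mul_one (1 : X ⟶ Red.Ga S))).symm.trans h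
  exact left_eq_add.mp h

theorem gaFn_inv {X : Over S} (x : X ⟶ Red.Ga S) : Red.gaFn x⁻¹ = -Red.gaFn x := by
  rw [eq_neg_iff_add_eq_zero, ← gaFn_mul, inv_mul_cancel, gaFn_one]

theorem gmFn_inv_mul {X : Over S} (t : X ⟶ Red.Gm S) : Red.gmFn t⁻¹ * Red.gmFn t = 1 := by
  rw [← gmFn_mul, inv_mul_cancel, gmFn_one]

theorem gmFn_pow {X : Over S} (t : X ⟶ Red.Gm S) (n : ℕ) : Red.gmFn (t ^ n) = Red.gmFn t ^ n := by
  induction n with
  | zero => rw [pow_zero, pow_zero, gmFn_one]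
  | succ n ih => rw [pow_succ, pow_succ, gmFn_mul, ih]

theorem gaFn_comp {X X' : Over S} (f : X' ⟶ X) (x : X ⟶ Red.Ga S) :
    Red.gaFn (f ≫ x) = f.left.appTop (Red.gaFn x) := rfl

theorem gmFn_comp {X X' : Over S} (f : X' ⟶ X) (t : X ⟶ Red.Gm S) :
    Red.gmFn (f ≫ t) = f.left.appTop (Red.gmFn t) := rfl

theorem gaFn_injective {X : Over S} {x y : X ⟶ Red.Ga S} (h : Red.gaFn x = Red.gaFn y) : x = y := by
  letI := algR₀ Γ(X.left, ⊤)
  refine fn_injective (congrArg AlgHom.toRingHom (SymmetricAlgebra.algHom_ext (?_ : (fnAlg x).toLinearMap ∘ₗ _ = (fnAlg y).toLinearMap ∘ₗ _)))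
  ext
  exact h

theorem gmFn_injective {X : Over S} {s t : X ⟶ Red.Gm S} (h : Red.gmFn s = Red.gmFn t) : s = t := by
  letI := algR₀ Γ(X.left, ⊤)
  refine fn_injective (congrArg AlgHom.toRingHom (((MonoidAlgebra.lift (ULift.{u} ℤ) Γ(X.left, ⊤) _).symm.injective ?_ : fnAlg s = fnAlg t)))
  have key : ((fnAlg s).toMonoidHom.comp (MonoidAlgebra.of (ULift.{u} ℤ) (Multiplicative ℤ))) =
      (fnAlg t).toMonoidHom.comp (MonoidAlgebra.of (ULift.{u} ℤ) (Multiplicative ℤ)) :=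
    MonoidHom.ext_mint h
  exact key

theorem exists_gaFn {X : Over S} (r : Γ(X.left, ⊤)) : ∃ x : X ⟶ Red.Ga S, Red.gaFn x = r := by
  letI := algR₀ Γ(X.left, ⊤)
  obtain ⟨x, hx⟩ := fn_surjective (S := S) (X := X) (A := SymmetricAlgebra (ULift.{u} ℤ) (ULift.{u} ℤ))
    (SymmetricAlgebra.lift (LinearMap.toSpanSingleton (ULift.{u} ℤ) _ r)).toRingHom
  refine ⟨x, ?_⟩
  rw [gaFn_eq_fn, hx]
  simp
  exact _root_.one_smul _ r

theorem exists_gmFn {X : Over S} {r : Γ(X.left, ⊤)} (hr : IsUnit r) : ∃ t : X ⟶ Red.Gm S, Red.gmFn t = r := by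
  letI := algR₀ Γ(X.left, ⊤)
  obtain ⟨t, ht⟩ := fn_surjective (S := S) (X := X) (A := MonoidAlgebra (ULift.{u} ℤ) (Multiplicative ℤ))
    (MonoidAlgebra.lift (ULift.{u} ℤ) Γ(X.left, ⊤) (Multiplicative ℤ)
      ((Units.coeHom _).comp (zpowersHom _ hr.unit))).toRingHom
  refine ⟨t, ?_⟩
  rw [gmFn_eq_fn, ht]
  simp

end Coordinates

end Groth.Agent.SGA3cLib
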