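import Mathlib.AlgebraicGeometry.Morphisms.FlatDescent

/-!
# Fpqc covering morphisms: locally on the base the image of a quasi-compact open
-/

set_option autoImplicit false
set_option backward.isDefEq.respectTransparency.types false

universe u

open CategoryTheory Limits AlgebraicGeometry

namespace Groth.Agent.SGA3cLib

/-- A flat morphism such that every point of the target has an affine open neighbourhood which is the image of a
quasi-compact open of the source. -/
def IsFpqcCov {Z Y : Scheme.{u}} (q : Z ⟶ Y) : Prop :=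
  Flat q ∧ ∀ y : Y, ∃ V : Y.Opens, y ∈ V ∧ IsAffineOpen V ∧ ∃ W : Z.Opens, IsCompact (W : Set Z) ∧ q.base '' (W : Set Z) = (V : Set Y)

namespace IsFpqcCov

theorem of_forall {Z Y : Scheme.{u}} (q : Z ⟶ Y) [Flat q]
    (h : ∀ V : Y.Opens, IsAffineOpen V → ∃ W : Z.Opens, IsCompact (W : Set Z) ∧ q.base '' (W : Set Z) = (V : Set Y)) :
    IsFpqcCov q := by
  refine ⟨inferInstance, fun y => ?_⟩
  obtain ⟨V, hV, hyV, -⟩ := exists_isAffineOpen_mem_and_subset (U := ⊤) (x := y) trivial
  exact ⟨V, hyV, hV, h V hV⟩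

variable {Z Y : Scheme.{u}} {q : Z ⟶ Y}

theorem surjective (hq : IsFpqcCov q) : Surjective q := ⟨fun y => by
  obtain ⟨V, hyV, -, W, -, hWV⟩ := hq.2 y
  obtain ⟨z, -, hz⟩ := hWV.ge hyV
  exact ⟨z, hz⟩⟩

theorem exists_resLE (hq : IsFpqcCov q) (y : Y) :
    ∃ (V : Y.Opens) (_ : y ∈ V) (_ : IsAffineOpen V) (W : Z.Opens) (e : W ≤ q ⁻¹ᵁ V),
      CompactSpace ↥(W : Scheme.{u}) ∧ (@Surjective ⊓ @Flat ⊓ @QuasiCompact : MorphismProperty Scheme.{u}) (q.resLE V W e) := by
  obtain ⟨V, hyV, hV, W, hW, hWV⟩ := hq.2 y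
  have e : W ≤ q ⁻¹ᵁ V := fun z hz => hWV.le ⟨z, hz, rfl⟩
  haveI : CompactSpace ↥(W : Scheme.{u}) := isCompact_iff_compactSpace.mp hW
  haveI : IsAffine (V : Scheme.{u}) := hV
  haveI := hq.1
  refine ⟨V, hyV, hV, W, e, inferInstance, ⟨⟨⟨fun v => ?_⟩, inferInstance⟩, inferInstance⟩⟩
  obtain ⟨z, hz, hzv⟩ := hWV.ge v.2
  refine ⟨⟨z, hz⟩, Subtype.ext ?_⟩
  rw [← hzv]
  exact congrArg (fun f : (W : Scheme.{u}) ⟶ Y => f.base ⟨z, hz⟩) (Scheme.Hom.resLE_comp_ι q e)

theorem pullback_snd (hq : IsFpqcCov q) {Y' : Scheme.{u}} (g : Y' ⟶ Y) : IsFpqcCov (pullback.snd q g) := by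
  refine ⟨MorphismProperty.pullback_snd (P := @Flat) _ _ hq.1, fun y' => ?_⟩
  obtain ⟨V, hyV, hV, W, e, hW, ⟨⟨hs, hfl⟩, hqc⟩⟩ := hq.exists_resLE (g.base y')
  obtain ⟨V', hV', hy'V', hV'V⟩ := exists_isAffineOpen_mem_and_subset (U := g ⁻¹ᵁ V) (x := y') hyV
  haveI : IsAffine (V' : Scheme.{u}) := hV'
  let w := q.resLE V W e
  let g' := g.resLE V V' hV'V
  let m := pullback.map w g' q g W.ι V'.ι V.ι (Scheme.Hom.resLE_comp_ι q e) (Scheme.Hom.resLE_comp_ι g hV'V)
  have hr : Set.range m.base = (pullback.fst q g).base ⁻¹' (W : Set Z) ∩ (pullback.snd q g).base ⁻¹' (V' : Set Y') := by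
    rw [Scheme.Pullback.range_map]
    simp
  haveI : CompactSpace ↥(pullback w g') := QuasiCompact.compactSpace_of_compactSpace (pullback.snd w g')
  refine ⟨V', hy'V', hV', pullback.fst q g ⁻¹ᵁ W ⊓ pullback.snd q g ⁻¹ᵁ V', ?_, ?_⟩
  · change IsCompact ((pullback.fst q g).base ⁻¹' (W : Set Z) ∩ (pullback.snd q g).base ⁻¹' (V' : Set Y'))
    rw [← hr]
    exact isCompact_range m.continuous
  · change (pullback.snd q g).base '' ((pullback.fst q g).base ⁻¹' (W : Set Z) ∩ (pullback.snd q g).base ⁻¹' (V' : Set Y')) = _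
    rw [← hr, ← Set.range_comp]
    haveI : Surjective (pullback.snd w g') := MorphismProperty.pullback_snd (P := @Surjective) _ _ hs
    have h1 : (pullback.snd q g).base ∘ m.base = V'.ι.base ∘ (pullback.snd w g').base := by
      funext p
      exact congrArg (fun f : pullback w g' ⟶ Y' => f.base p) (pullback.lift_snd _ _ _)
    exact (congrArg Set.range h1).trans
      ((Function.Surjective.range_comp (pullback.snd w g').surjective _).trans V'.range_ι)

/-- Properties local on the target which descend along fpqc morphisms descend along fpqc coverings. -/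
theorem descend (hq : IsFpqcCov q) (P : MorphismProperty Scheme.{u}) [IsZariskiLocalAtTarget P]
    [P.IsStableUnderBaseChange] [P.DescendsAlong (@Surjective ⊓ @Flat ⊓ @QuasiCompact)] {X : Scheme.{u}} (f : X ⟶ Y)
    (h : P (pullback.snd f q)) : P f := by
  choose V hyV hV W e hW hw using hq.exists_resLE
  have hcover : TopologicalSpace.IsOpenCover V :=
    TopologicalSpace.IsOpenCover.mk (eq_top_iff.2 fun y _ => TopologicalSpace.Opens.mem_iSup.2 ⟨y, hyV y⟩)
  rw [IsZariskiLocalAtTarget.iff_of_openCover (P := P) (Y.openCoverOfIsOpenCover V hcover)]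
  intro y
  change P (pullback.snd f (V y).ι)
  refine MorphismProperty.of_pullback_snd_of_descendsAlong (P := P) (Q := @Surjective ⊓ @Flat ⊓ @QuasiCompact) (hw y) ?_
  have h1 : P (pullback.snd (pullback.snd f q) (W y).ι) := MorphismProperty.pullback_snd _ _ h
  let i : pullback (pullback.snd f (V y).ι) (q.resLE (V y) (W y) (e y)) ≅ pullback (pullback.snd f q) (W y).ι :=
    pullbackLeftPullbackSndIso f (V y).ι (q.resLE (V y) (W y) (e y)) ≪≫
      pullback.congrHom rfl (Scheme.Hom.resLE_comp_ι q (e y)) ≪≫ (pullbackLeftPullbackSndIso f q (W y).ι).symm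
  have hi : i.hom ≫ pullback.snd (pullback.snd f q) (W y).ι = pullback.snd (pullback.snd f (V y).ι) (q.resLE (V y) (W y) (e y)) := by
    simp only [i, Iso.trans_hom, Iso.symm_hom, pullback.congrHom_hom, Category.assoc,
      pullbackLeftPullbackSndIso_inv_snd_snd, pullback.lift_snd, Category.comp_id]
    exact pullbackLeftPullbackSndIso_hom_snd _ _ _
  rw [← hi]
  exact (MorphismProperty.cancel_left_of_respectsIso P i.hom _).2 h1

end IsFpqcCov

end Groth.Agent.SGA3cLib
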