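import Groth.Agent.SGA3cLib.DiagPoints
import Groth.Agent.SGA3cLib.FpqcCov
import Groth.Agent.Et18.Descent
import Mathlib.AlgebraicGeometry.Morphisms.Flat

/-! Tori are commutative and separated. -/

set_option linter.style.haveILetI false
set_option autoImplicit false

universe u

open CategoryTheory CategoryTheory.Limits MonoidalCategory CartesianMonoidalCategory MonObj AlgebraicGeometry

noncomputable section

namespace Groth.Agent.SGA3cLib

variable {S : Scheme.{u}}

theorem DS_mul_comm {M : Type} [AddCommGroup M] {X : Over S} (x y : X ⟶ Red.DS S M) : x * y = y * x := by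
  refine fn_injective ?_
  refine MonoidAlgebra.ringHom_ext (fun r => ?_) (fun m => ?_)
  · exact DFunLike.congr_fun (r₀_hom_ext ((fn (x * y)).comp MonoidAlgebra.singleOneRingHom)
      ((fn (y * x)).comp MonoidAlgebra.singleOneRingHom)) r
  · rw [fn_mul_of_groupLike x y (by simp [MonoidAlgebra.comul_single]),
      fn_mul_of_groupLike y x (by simp [MonoidAlgebra.comul_single]), _root_.mul_comm]

theorem torus_mul_comm {T : Over S} [GrpObj T] (hT : Red.IsTorus T) {X : Over S} (x y : X ⟶ T) :
    x * y = y * x := by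
  obtain ⟨S', f, hfl, hsu, -, hU⟩ := hT
  choose U hmem r hsplit using hU
  haveI := hfl
  haveI := hsu
  haveI : Flat (pullback.fst X.hom f) := inferInstance
  haveI : Surjective (pullback.fst X.hom f) := inferInstance
  haveI : Epi (pullback.fst X.hom f) := Flat.epi_of_flat_of_surjective _
  have hcov : TopologicalSpace.IsOpenCover U :=
    TopologicalSpace.IsOpenCover.mk (eq_top_iff.2 fun s _ => TopologicalSpace.Opens.mem_iSup.2 ⟨s, hmem s⟩)
  refine Over.OverMorphism.ext ((cancel_epi (pullback.fst X.hom f)).mp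
    (Scheme.Cover.hom_ext ((S'.openCoverOfIsOpenCover U hcov).pullback₁ (pullback.snd X.hom f)) _ _ fun (s : S') => ?_))
  let F := Over.pullback ((U s).ι ≫ f)
  obtain ⟨e⟩ := hsplit s
  haveI : IsMonHom e.hom.hom.hom := e.hom.hom.isMonHom_hom
  haveI : IsIso e.hom.hom.hom := ((Grp.forget _).mapIso e).isIso_hom
  have h : F.map (x * y) = F.map (y * x) := by
    rw [Functor.map_mul, Functor.map_mul]
    let w : Red.bc ((U s).ι ≫ f) T ⟶ Red.DS (U s : Scheme.{u}) (Fin (r s) → ℤ) := e.hom.hom.hom
    haveI : IsMonHom w := e.hom.hom.isMonHom_hom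
    haveI : IsIso w := ((Grp.forget _).mapIso e).isIso_hom
    refine (cancel_mono w).mp ?_
    exact (MonObj.mul_comp (F.map x) (F.map y) w).trans
      ((DS_mul_comm _ _).trans (MonObj.mul_comp (F.map y) (F.map x) w).symm)
  let m : pullback (pullback.snd X.hom f) (U s).ι ⟶ pullback X.hom ((U s).ι ≫ f) :=
    pullback.lift (pullback.fst _ _ ≫ pullback.fst X.hom f) (pullback.snd _ _) (by
      rw [Category.assoc, pullback.condition, pullback.condition_assoc])
  have h' := congrArg (fun g => m ≫ CommaMorphism.left g ≫ pullback.fst T.hom ((U s).ι ≫ f)) h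
  simp only [m, F, Over.pullback_map_left] at h'
  erw [pullback.lift_fst, pullback.lift_fst, pullback.lift_fst_assoc, pullback.lift_fst_assoc] at h'
  simp only [Category.assoc] at h'
  exact h'

theorem torus_isAffineHom {T : Over S} [GrpObj T] (hT : Red.IsTorus T) : IsAffineHom T.hom := by
  obtain ⟨S', f, hfl, hsu, hq, hU⟩ := hT
  choose U hmem r hsplit using hU
  haveI := hfl
  have hcov : TopologicalSpace.IsOpenCover U :=
    TopologicalSpace.IsOpenCover.mk (eq_top_iff.2 fun s _ => TopologicalSpace.Opens.mem_iSup.2 ⟨s, hmem s⟩)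
  haveI := Et18.descends_isAffineHom.{u}
  refine (IsFpqcCov.of_forall f hq).descend @IsAffineHom T.hom ?_
  refine IsZariskiLocalAtTarget.of_openCover (P := @IsAffineHom) (S'.openCoverOfIsOpenCover U hcov) fun s => ?_
  obtain ⟨e⟩ := hsplit s
  have h1 : IsAffineHom (Red.DS (U s : Scheme.{u}) (Fin (r s) → ℤ)).hom := by
    refine MorphismProperty.pullback_snd (P := @IsAffineHom) _ _ ?_
    exact isAffineHom_of_isAffine (X := Spec (CommRingCat.of (MonoidAlgebra (ULift.{u} ℤ) (Multiplicative (Fin (r s) → ℤ))))) _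
  have h2 : IsAffineHom (Red.bc ((U s).ι ≫ f) T).hom := by
    rw [← Over.w e.hom.hom.hom]
    infer_instance
  let i : pullback (pullback.snd T.hom f) (U s).ι ≅ pullback T.hom ((U s).ι ≫ f) := pullbackLeftPullbackSndIso T.hom f (U s).ι
  have hi : i.hom ≫ pullback.snd T.hom ((U s).ι ≫ f) = pullback.snd (pullback.snd T.hom f) (U s).ι :=
    pullbackLeftPullbackSndIso_hom_snd _ _ _
  change IsAffineHom (pullback.snd (pullback.snd T.hom f) (U s).ι)
  rw [← hi]
  exact (MorphismProperty.cancel_left_of_respectsIso @IsAffineHom i.hom _).2 h2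

theorem torus_isSeparated {T : Over S} [GrpObj T] (hT : Red.IsTorus T) : IsSeparated T.hom :=
  have := torus_isAffineHom hT
  inferInstance

end Groth.Agent.SGA3cLib
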