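import Groth.Agent.SGA3cLib.Rigidity
import Mathlib.RingTheory.FinitePresentation
import Mathlib.RingTheory.Localization.AtPrime.Basic
import Mathlib.RingTheory.Spectrum.Prime.Topology
import Mathlib.RingTheory.LocalRing.ResidueField.Ideal

import Mathlib.Tactic.LinearCombination
/-!
# Closed subgroups of diagonalisable groups which are trivial at a point are trivial nearby

An ideal `I` of `R[M]` whose points are closed under products is considered through its points `Kills I χ`.
Over a field it is cut out by the elements of a subgroup; hence its triviality is detected by finite quotients of `M`,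
and by Nakayama it spreads to generisations.  The locus of nontriviality is the image of a closed subset, so it is closed.
-/

set_option linter.style.haveILetI false
set_option autoImplicit false

universe u

open TensorProduct

noncomputable section

namespace Groth.Agent.SGA3cLib.KernelOpen

variable {R : Type u} [CommRing R] {M : Type} [CommGroup M] (I : Ideal (MonoidAlgebra R M))

/-- The point `χ` lies on `V(I)`. -/
def Kills {A : Type u} [CommRing A] [Algebra R A] (χ : M →* A) : Prop :=
  I ≤ RingHom.ker (MonoidAlgebra.lift R A M χ)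

theorem Kills.comp {A A' : Type u} [CommRing A] [Algebra R A] [CommRing A'] [Algebra R A'] {χ : M →* A}
    (h : Kills I χ) (v : A →ₐ[R] A') : Kills I ((v : A →* A').comp χ) := by
  have e : MonoidAlgebra.lift R A' M ((v : A →* A').comp χ) = v.comp (MonoidAlgebra.lift R A M χ) := by ext m; simp
  intro x hx
  rw [RingHom.mem_ker, e, AlgHom.comp_apply, show MonoidAlgebra.lift R A M χ x = 0 from h hx, map_zero]

/-- `V(I)` contains one and is closed under products. -/
structure IsSub : Prop where
  one : Kills I (1 : M →* R)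
  mul : ∀ (A : Type u) [CommRing A] [Algebra R A] (χ ψ : M →* A), Kills I χ → Kills I ψ → Kills I (χ * ψ)

/-- All points of `V(I)` in `A`-algebras are trivial. -/
def Trivial (A : Type u) [CommRing A] [Algebra R A] : Prop :=
  ∀ (B : Type u) [CommRing B] [Algebra R B] (_ : A →ₐ[R] B) (χ : M →* B), Kills I χ → χ = 1

variable {I}

/-- Values of a multiplicative map are linearly independent if they are diagonal for a comultiplication. -/
theorem indep {L : Type u} [Field L] {Q : Type u} [CommRing Q] [Algebra L Q] [Nontrivial Q] (χ : M →* Q)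
    (δ : Q →ₐ[L] Q ⊗[L] Q) (hδ : ∀ m, δ (χ m) = χ m ⊗ₜ[L] χ m) :
    ∀ (s : Finset Q), (↑s : Set Q) ⊆ Set.range χ → ∀ c : Q → L, ∑ v ∈ s, c v • v = 0 → ∀ v ∈ s, c v = 0 := by
  classical
  intro s
  induction s using Finset.induction with
  | empty => simp
  | @insert v₀ s hv₀ ih =>
    intro hs c hc
    have hs' : (↑s : Set Q) ⊆ Set.range χ := fun v hv => hs (Finset.mem_insert_of_mem hv)
    have key : ∀ v ∈ s, c v = 0 := by
      intro v hv
      by_contra hcv
      obtain ⟨φ, hφ⟩ := Module.Projective.exists_dual_ne_zero L (sub_ne_zero.mpr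
        (show v ≠ v₀ from fun e => hv₀ (e ▸ hv)))
      have h1 : ∑ w ∈ insert v₀ s, (c w * φ w) • w = 0 := by
        have := congrArg ((TensorProduct.lid L Q).toLinearMap ∘ₗ LinearMap.rTensor Q φ ∘ₗ δ.toLinearMap) hc
        simp only [map_sum, map_smul, map_zero] at this
        refine Eq.trans (Finset.sum_congr rfl fun w hw => ?_) this
        obtain ⟨m, rfl⟩ := hs hw
        simp [hδ, mul_smul]
      have h2 : ∑ w ∈ s, (c w * (φ w - φ v₀)) • w = 0 := by
        have h3 : ∑ w ∈ insert v₀ s, (c w * (φ w - φ v₀)) • w = 0 := by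
          have : ∀ w : Q, (c w * (φ w - φ v₀)) • w = (c w * φ w) • w - φ v₀ • c w • w := fun w => by
            rw [mul_sub, sub_smul, smul_smul, mul_comm (φ v₀) (c w)]
          simp only [this, Finset.sum_sub_distrib, ← Finset.smul_sum, h1, hc, smul_zero, sub_zero]
        rwa [Finset.sum_insert hv₀, sub_self, mul_zero, zero_smul, zero_add] at h3
      have h4 := ih hs' _ h2 v hv
      rcases mul_eq_zero.mp h4 with h5 | h5
      · exact hcv h5
      · exact hφ (by rw [map_sub]; exact h5)
    intro v hv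
    rcases Finset.mem_insert.mp hv with rfl | hv
    · rw [Finset.sum_insert hv₀, Finset.sum_eq_zero (fun w hw => by rw [key w hw, zero_smul]), add_zero] at hc
      obtain ⟨m, hm⟩ := hs (Finset.mem_insert_self _ _)
      have hu : IsUnit v := hm ▸ (Group.isUnit m).map χ
      by_contra hcv
      exact hu.ne_zero ((smul_eq_zero.mp hc).resolve_left hcv)
    · exact key v hv

/-- A point with linearly independent values gives a point in the group algebra of its values. -/
theorem kills_values {L : Type u} [Field L] [Algebra R L] {Q : Type u} [CommRing Q] [Algebra L Q] [Algebra R Q]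
    [IsScalarTower R L Q] (χ : M →* Q) (hχ : Kills I χ)
    (hindep : ∀ (s : Finset Q), (↑s : Set Q) ⊆ Set.range χ → ∀ c : Q → L, ∑ v ∈ s, c v • v = 0 → ∀ v ∈ s, c v = 0) :
    ∃ (G' : Type) (_ : CommGroup G') (q : M →* G'), Function.Surjective q ∧
      (∀ m, q m = 1 → χ m = 1) ∧ Kills I ((MonoidAlgebra.of L G').comp q) := by
  classical
  let χu : M →* Qˣ := χ.toHomUnits
  let G' := M ⧸ χu.ker
  let q : M →* G' := QuotientGroup.mk' χu.ker
  let ξ : G' →* Q := (Units.coeHom Q).comp (QuotientGroup.kerLift χu)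
  have hξ : Function.Injective ξ := Units.val_injective.comp (QuotientGroup.kerLift_injective χu)
  have hξm : ∀ m, ξ (q m) = χ m := fun m => rfl
  refine ⟨G', inferInstance, q, QuotientGroup.mk'_surjective χu.ker, fun m hm => by rw [← hξm, hm, map_one], fun x hx => ?_⟩
  rw [RingHom.mem_ker]
  let y := MonoidAlgebra.lift R (MonoidAlgebra L G') M ((MonoidAlgebra.of L G').comp q) x
  have h1 : MonoidAlgebra.lift L Q G' ξ y = 0 := by
    have e : ((MonoidAlgebra.lift L Q G' ξ).restrictScalars R).comp
        (MonoidAlgebra.lift R (MonoidAlgebra L G') M ((MonoidAlgebra.of L G').comp q)) = MonoidAlgebra.lift R Q M χ := by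
      ext m; simp [hξm]
    exact (AlgHom.congr_fun e x).trans (hχ hx)
  show y = 0
  refine MonoidAlgebra.ext (Finsupp.ext fun g => ?_)
  let c : Q → L := fun v => if hv : ∃ g, ξ g = v then y.coeff hv.choose else 0
  have hc : ∀ g, c (ξ g) = y.coeff g := fun g => by
    simp only [c, dif_pos (show ∃ g', ξ g' = ξ g from ⟨g, rfl⟩)]
    exact congrArg _ (hξ (Exists.choose_spec (⟨g, rfl⟩ : ∃ g', ξ g' = ξ g)))
  have h2 : ∑ v ∈ y.coeff.support.image ξ, c v • v = 0 := by
    rw [Finset.sum_image fun a _ b _ e => hξ e]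
    refine Eq.trans ?_ h1
    rw [MonoidAlgebra.lift_apply, Finsupp.sum]
    exact Finset.sum_congr rfl fun g _ => by rw [hc]
  by_cases hg : g ∈ y.coeff.support
  · have hsub : (↑(y.coeff.support.image ξ) : Set Q) ⊆ Set.range χ := by
      intro v hv
      obtain ⟨g', -, rfl⟩ := Finset.mem_image.mp hv
      obtain ⟨m, rfl⟩ := QuotientGroup.mk'_surjective χu.ker g'
      exact ⟨m, (hξm m).symm⟩
    have := hindep _ hsub c h2 (ξ g) (Finset.mem_image_of_mem _ hg)
    rw [hc] at this
    simpa using this
  · simpa using Finsupp.notMem_support_iff.mp hg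

/-- The base change of `I` has the same points. -/
theorem kills_map_iff (R' : Type u) [CommRing R'] [Algebra R R'] {B : Type u} [CommRing B] [Algebra R B] [Algebra R' B]
    [IsScalarTower R R' B] (χ : M →* B) :
    Kills (I.map (MonoidAlgebra.mapRingHom M (algebraMap R R'))) χ ↔ Kills I χ := by
  have hlift : ∀ x : MonoidAlgebra R M, MonoidAlgebra.lift R' B M χ (MonoidAlgebra.mapRingHom M (algebraMap R R') x) =
      MonoidAlgebra.lift R B M χ x := fun x => by
    induction x using MonoidAlgebra.induction_linear with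
    | zero => simp
    | add x y hx hy => simp only [map_add, hx, hy]
    | single m r => simp [Algebra.smul_def, IsScalarTower.algebraMap_apply R R' B]
  unfold Kills
  rw [Ideal.map_le_iff_le_comap]
  refine forall_congr' fun x => imp_congr_right fun _ => ?_
  rw [Ideal.mem_comap, RingHom.mem_ker, RingHom.mem_ker, hlift]

theorem IsSub.map (hI : IsSub I) (R' : Type u) [CommRing R'] [Algebra R R'] :
    IsSub (I.map (MonoidAlgebra.mapRingHom M (algebraMap R R'))) where
  one := by
    rw [kills_map_iff]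
    have := hI.one.comp I (Algebra.ofId R R')
    rwa [MonoidHom.comp_one] at this
  mul A _ _ χ ψ h1 h2 := by
    letI : Algebra R A := ((algebraMap R' A).comp (algebraMap R R')).toAlgebra
    haveI : IsScalarTower R R' A := IsScalarTower.of_algebraMap_eq fun r => rfl
    rw [kills_map_iff] at h1 h2 ⊢
    exact hI.mul A χ ψ h1 h2

/-- A point given through a presentation by a quotient: the comultiplication. -/
theorem exists_delta (hI : IsSub I) {L : Type u} [Field L] [Algebra R L] {Q : Type u} [CommRing Q] [Algebra L Q] [Algebra R Q]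
    [IsScalarTower R L Q] (π : MonoidAlgebra L M →ₐ[L] Q) (hπ : Function.Surjective π)
    (hker : RingHom.ker π ≤ I.map (MonoidAlgebra.mapRingHom M (algebraMap R L)))
    (hkill : Kills I ((π : MonoidAlgebra L M →* Q).comp (MonoidAlgebra.of L M))) :
    ∃ δ : Q →ₐ[L] Q ⊗[L] Q, ∀ m, δ (π (MonoidAlgebra.of L M m)) =
      π (MonoidAlgebra.of L M m) ⊗ₜ[L] π (MonoidAlgebra.of L M m) := by
  let χ : M →* Q := (π : MonoidAlgebra L M →* Q).comp (MonoidAlgebra.of L M)
  let j₁ : Q →ₐ[R] Q ⊗[L] Q := (Algebra.TensorProduct.includeLeft : Q →ₐ[L] Q ⊗[L] Q).restrictScalars R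
  let j₂ : Q →ₐ[R] Q ⊗[L] Q := (Algebra.TensorProduct.includeRight : Q →ₐ[L] Q ⊗[L] Q).restrictScalars R
  let χ₁ : M →* Q ⊗[L] Q := (j₁ : Q →* Q ⊗[L] Q).comp χ
  let χ₂ : M →* Q ⊗[L] Q := (j₂ : Q →* Q ⊗[L] Q).comp χ
  have h := (kills_map_iff (I := I) L (χ₁ * χ₂)).mpr (hI.mul _ χ₁ χ₂ (hkill.comp I j₁) (hkill.comp I j₂))
  refine ⟨AlgHom.liftOfSurjective π hπ (MonoidAlgebra.lift L _ M (χ₁ * χ₂)) (hker.trans h), fun m => ?_⟩
  rw [AlgHom.liftOfSurjective_apply]
  simp [χ₁, χ₂, j₁, j₂, χ]

/-- Over a field, triviality is detected on finite quotients. -/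
theorem trivial_of_finite [Group.FG M] (hI : IsSub I) (L : Type u) [Field L] [Algebra R L]
    (h : ∀ (F : Type) [CommGroup F] [Finite F] (π : M →* F), Kills I ((MonoidAlgebra.of L F).comp π) → π = 1) :
    Trivial I L := by
  classical
  intro B _ _ ι ψ hψ
  letI : Algebra L B := ι.toRingHom.toAlgebra
  haveI : IsScalarTower R L B := IsScalarTower.of_algebraMap_eq fun r => (ι.commutes r).symm
  suffices H : ∀ (Q : Type u) [CommRing Q] [Algebra L Q] [Algebra R Q] [IsScalarTower R L Q] (π : MonoidAlgebra L M →ₐ[L] Q),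
      Function.Surjective π → RingHom.ker π = I.map (MonoidAlgebra.mapRingHom M (algebraMap R L)) →
      ∀ m, π (MonoidAlgebra.of L M m) = 1 by
    refine MonoidHom.ext fun m => ?_
    let IL := I.map (MonoidAlgebra.mapRingHom M (algebraMap R L))
    have h1 := H (MonoidAlgebra L M ⧸ IL) (Ideal.Quotient.mkₐ L IL) (Ideal.Quotient.mkₐ_surjective L IL)
      (Ideal.Quotient.mkₐ_ker L IL) m
    have h2 : MonoidAlgebra.of L M m - 1 ∈ IL := by
      rw [← Ideal.Quotient.eq_zero_iff_mem, map_sub, map_one, sub_eq_zero]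
      exact h1
    have h3 := (kills_map_iff (I := I) L ψ).mpr hψ h2
    rw [RingHom.mem_ker, map_sub, map_one, sub_eq_zero, MonoidAlgebra.lift_of] at h3
    exact h3
  intro Q _ _ _ _ π hπ hker m
  let χ : M →* Q := (π : MonoidAlgebra L M →* Q).comp (MonoidAlgebra.of L M)
  have hχ : Kills I χ := by
    rw [← kills_map_iff (I := I) L, Kills, ← hker, show MonoidAlgebra.lift L Q M χ = π by ext n; simp [χ]]
  haveI : Nontrivial Q := by
    by_contra hQ
    rw [not_nontrivial_iff_subsingleton] at hQ
    have h1 : (1 : MonoidAlgebra L M) ∈ RingHom.ker π := Subsingleton.elim _ _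
    rw [hker] at h1
    have h2 := (hI.map L).one h1
    rw [RingHom.mem_ker, map_one] at h2
    exact one_ne_zero h2
  obtain ⟨δ, hδ⟩ := exists_delta hI π hπ hker.le hχ
  obtain ⟨G', _, q, hq, hq1, hkill⟩ := kills_values χ hχ (indep χ δ hδ)
  refine hq1 m ?_
  by_contra hm
  haveI : Group.FG G' := Group.fg_of_surjective hq
  obtain ⟨F, _, _, π', hπ'⟩ := Rigidity.exists_injOn_finite ({q m, 1} : Finset G')
  have h1 : π'.comp q = 1 := by
    refine h F (π'.comp q) ?_
    have h2 := hkill.comp I ((MonoidAlgebra.mapDomainAlgHom L L π').restrictScalars R)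
    convert h2 using 1
    ext n; simp
  exact hm (hπ' (by simp) (by simp) (by rw [map_one]; exact DFunLike.congr_fun h1 m))

/-- The reduction modulo `J` of a kills-all statement, in abstract form. -/
theorem sub_mem_of_trivial {J : Ideal R} (h0 : Trivial I (R ⧸ J)) {F : Type} [CommGroup F] (π : M →* F)
    {B : Type u} [CommRing B] [Algebra R B] (mkB : MonoidAlgebra (R ⧸ J) F →ₐ[R] B)
    (hmk : (I.map (MonoidAlgebra.mapDomainAlgHom R R π)).map (Rigidity.mapR J) ≤ RingHom.ker mkB) (m : M) :
    MonoidAlgebra.single (π m) 1 - 1 ∈ RingHom.ker mkB := by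
  let χ : M →* B := ((mkB : MonoidAlgebra (R ⧸ J) F →* B).comp (MonoidAlgebra.of (R ⧸ J) F)).comp π
  have h1 : Kills I χ := by
    intro x hx
    rw [RingHom.mem_ker, show MonoidAlgebra.lift R B M χ =
      mkB.comp ((Rigidity.mapR J).comp (MonoidAlgebra.mapDomainAlgHom R R π)) by ext m; simp [χ, Rigidity.mapR]]
    exact hmk (Ideal.mem_map_of_mem _ (Ideal.mem_map_of_mem _ hx))
  have h2 := DFunLike.congr_fun (h0 B (mkB.comp (IsScalarTower.toAlgHom R (R ⧸ J) (MonoidAlgebra (R ⧸ J) F))) χ h1) m
  rw [RingHom.mem_ker, map_sub, map_one, sub_eq_zero]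
  simpa [χ] using h2

theorem sub_mem_quot {J : Ideal R} (h0 : Trivial I (R ⧸ J)) {F : Type} [CommGroup F] (π : M →* F)
    (K : Ideal (MonoidAlgebra (R ⧸ J) F))
    (hK : (I.map (MonoidAlgebra.mapDomainAlgHom R R π)).map (Rigidity.mapR J) ≤ K) (m : M) :
    MonoidAlgebra.single (π m) 1 - 1 ∈ K := by
  letI : CommRing (MonoidAlgebra (R ⧸ J) F ⧸ K) := Ideal.Quotient.commRing K
  let mkB : MonoidAlgebra (R ⧸ J) F →ₐ[R] MonoidAlgebra (R ⧸ J) F ⧸ K :=
    { toRingHom := Ideal.Quotient.mk K, commutes' := fun r => rfl }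
  have hmk : ∀ x, mkB x = Ideal.Quotient.mk K x := fun x => rfl
  have h := sub_mem_of_trivial h0 π mkB (fun x hx => by rw [RingHom.mem_ker, hmk]; exact Ideal.Quotient.eq_zero_iff_mem.mpr (hK hx)) m
  rw [RingHom.mem_ker, hmk] at h
  exact Ideal.Quotient.eq_zero_iff_mem.mp h

theorem eq_one_of_kills_surjective [IsLocalRing R] (hI : IsSub I)
    (h0 : Trivial I (R ⧸ IsLocalRing.maximalIdeal R)) (L : Type u) [Field L] [Algebra R L]
    (F : Type) [CommGroup F] [Finite F] (π : M →* F) (hsurj : Function.Surjective π)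
    (hπ : Kills I ((MonoidAlgebra.of L F).comp π)) : π = 1 := by
  classical
  let J := IsLocalRing.maximalIdeal R
  let k := R ⧸ J
  let c : MonoidAlgebra R M →ₐ[R] MonoidAlgebra R F := MonoidAlgebra.mapDomainAlgHom R R π
  let IF : Ideal (MonoidAlgebra R F) := I.map c
  let kF : MonoidAlgebra R F →ₐ[R] MonoidAlgebra k F := Rigidity.mapR J
  have key : ∀ m, kF (MonoidAlgebra.single (π m) 1 - 1) ∈ IF.map kF := by
    intro m
    rw [map_sub, map_one, show kF (MonoidAlgebra.single (π m) 1) = MonoidAlgebra.single (π m) 1 by simp [kF, Rigidity.mapR]]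
    exact sub_mem_quot h0 π (IF.map kF) le_rfl m
  let aug : MonoidAlgebra R F →ₐ[R] R := MonoidAlgebra.lift R R F 1
  let Aug : Submodule R (MonoidAlgebra R F) := LinearMap.ker aug.toLinearMap
  have hIaug : IF.restrictScalars R ≤ Aug := by
    intro y hy
    have h3 : I.map c ≤ RingHom.ker aug := by
      rw [Ideal.map_le_iff_le_comap]
      intro z hz
      rw [Ideal.mem_comap, RingHom.mem_ker, ← AlgHom.comp_apply,
        show aug.comp c = MonoidAlgebra.lift R R M (1 : M →* R) by ext m; simp [aug, c]]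
      exact hI.one hz
    exact h3 hy
  have hmem : ∀ f : F, MonoidAlgebra.single f (1 : R) - 1 ∈ Aug := fun f => by simp [Aug, aug]
  have hexp : ∀ y ∈ Aug, y = ∑ f ∈ y.coeff.support, y.coeff f • (MonoidAlgebra.single f (1 : R) - 1) := by
    intro y hy
    have h4 : aug y = 0 := hy
    rw [MonoidAlgebra.lift_apply, Finsupp.sum] at h4
    simp only [MonoidHom.one_apply, smul_eq_mul, _root_.mul_one] at h4
    simp only [smul_sub, Finset.sum_sub_distrib, ← Finset.sum_smul, h4, zero_smul, sub_zero]
    conv_lhs => rw [← MonoidAlgebra.sum_coeff_single y, Finsupp.sum]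
    exact Finset.sum_congr rfl fun f _ => by simp
  have hspan : Aug = Submodule.span R (Set.range fun f : F => MonoidAlgebra.single f (1 : R) - 1) := by
    refine le_antisymm (fun y hy => ?_) (Submodule.span_le.mpr (Set.range_subset_iff.mpr hmem))
    rw [hexp y hy]
    exact Submodule.sum_mem _ fun f _ => Submodule.smul_mem _ _ (Submodule.subset_span ⟨f, rfl⟩)
  have hfg : Aug.FG := hspan ▸ Submodule.fg_span (Set.finite_range _)
  have hle : Aug ≤ IF.restrictScalars R ⊔ J • Aug := by
    refine hspan.le.trans (Submodule.span_le.mpr ?_)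
    rintro _ ⟨f, rfl⟩
    obtain ⟨m, rfl⟩ := hsurj f
    let x : MonoidAlgebra R F := MonoidAlgebra.single (π m) 1 - 1
    have hxmem : kF x ∈ IF.map kF := key m
    obtain ⟨i, hi, hix⟩ := (Ideal.mem_map_iff_of_surjective kF (Rigidity.mapR_surjective J)).mp hxmem
    have hd : x - i ∈ Aug := sub_mem (hmem _) (hIaug hi)
    have hc := Rigidity.mem_ker_mapR.mp (show x - i ∈ RingHom.ker (Rigidity.mapR (M := F) J) by
      rw [RingHom.mem_ker, map_sub, sub_eq_zero]; exact hix.symm)
    have hd' : x - i ∈ J • Aug := by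
      rw [hexp _ hd]
      exact Submodule.sum_mem _ fun f _ => Submodule.smul_mem_smul (hc f) (hmem f)
    exact Submodule.mem_sup.mpr ⟨i, hi, x - i, hd', add_sub_cancel _ _⟩
  have hall := Submodule.le_of_le_smul_of_le_jacobson_bot hfg (IsLocalRing.maximalIdeal_le_jacobson ⊥) hle
  refine MonoidHom.ext fun m => ?_
  have hp : IF ≤ RingHom.ker (MonoidAlgebra.lift R (MonoidAlgebra L F) F (MonoidAlgebra.of L F)) := by
    rw [Ideal.map_le_iff_le_comap]
    intro z hz
    rw [Ideal.mem_comap, RingHom.mem_ker, ← AlgHom.comp_apply,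
      show (MonoidAlgebra.lift R (MonoidAlgebra L F) F (MonoidAlgebra.of L F)).comp c =
        MonoidAlgebra.lift R (MonoidAlgebra L F) M ((MonoidAlgebra.of L F).comp π) by ext m; simp [c]]
    exact hπ hz
  have h5 := hp (hall (hmem (π m)))
  rw [RingHom.mem_ker, map_sub, map_one, sub_eq_zero, MonoidAlgebra.lift_single, one_smul] at h5
  exact MonoidAlgebra.of_injective (h5.trans (map_one _).symm)

/-- Triviality spreads from the closed point of a local ring to all field-valued points. -/
theorem trivial_of_closedPoint [Group.FG M] [IsLocalRing R] (hI : IsSub I)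
    (h0 : Trivial I (R ⧸ IsLocalRing.maximalIdeal R)) (L : Type u) [Field L] [Algebra R L] : Trivial I L := by
  refine trivial_of_finite hI L fun F _ _ π hπ => ?_
  have h1 : Kills I ((MonoidAlgebra.of L π.range).comp π.rangeRestrict) := by
    intro x hx
    have e : ((MonoidAlgebra.mapDomainAlgHom L L π.range.subtype).restrictScalars R).comp
        (MonoidAlgebra.lift R (MonoidAlgebra L π.range) M ((MonoidAlgebra.of L π.range).comp π.rangeRestrict)) =
        MonoidAlgebra.lift R (MonoidAlgebra L F) M ((MonoidAlgebra.of L F).comp π) := by ext m; simp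
    rw [RingHom.mem_ker]
    refine MonoidAlgebra.mapDomain_injective Subtype.val_injective ?_
    simpa using (AlgHom.congr_fun e x).trans (hπ hx)
  refine MonoidHom.ext fun m => ?_
  exact congrArg Subtype.val (DFunLike.congr_fun
    (eq_one_of_kills_surjective hI h0 L π.range π.rangeRestrict π.rangeRestrict_surjective h1) m)

variable (I) in
/-- At a prime with trivial fibre, the augmentation ideal agrees with `I`. -/
theorem exists_annihilator (hone : Kills I (1 : M →* R))
    (hfg : (RingHom.ker (MonoidAlgebra.lift R R M (1 : M →* R))).FG)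
    (q : Ideal (MonoidAlgebra R M)) [q.IsPrime]
    (h0 : ∀ (B : Type u) [CommRing B] [Algebra R B], q.comap (algebraMap R (MonoidAlgebra R M)) ≤ RingHom.ker (algebraMap R B) →
      (∀ r, r ∉ q.comap (algebraMap R (MonoidAlgebra R M)) → IsUnit (algebraMap R B r)) → ∀ χ : M →* B, Kills I χ → χ = 1) :
    ∃ j ∉ q, ∀ x ∈ RingHom.ker (MonoidAlgebra.lift R R M (1 : M →* R)), j * x ∈ I := by
  classical
  let Aug := RingHom.ker (MonoidAlgebra.lift R R M (1 : M →* R))
  let p := q.comap (algebraMap R (MonoidAlgebra R M))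
  let T := Localization.AtPrime q
  let loc : MonoidAlgebra R M →+* T := algebraMap _ T
  let N : Ideal T := (I ⊔ p.map (algebraMap R (MonoidAlgebra R M))).map loc
  let mk : MonoidAlgebra R M →ₐ[R] T ⧸ N := (Ideal.Quotient.mkₐ R N).comp (IsScalarTower.toAlgHom R _ T)
  let χ : M →* T ⧸ N := (mk : MonoidAlgebra R M →* T ⧸ N).comp (MonoidAlgebra.of R M)
  have hmk0 : ∀ x ∈ I ⊔ p.map (algebraMap R (MonoidAlgebra R M)), mk x = 0 := fun x hx =>
    Ideal.Quotient.eq_zero_iff_mem.mpr (Ideal.mem_map_of_mem loc hx)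
  have hχ : χ = 1 := by
    refine h0 (T ⧸ N) (fun r hr => ?_) (fun r hr => ?_) χ fun x hx => ?_
    · rw [RingHom.mem_ker, ← mk.commutes r]
      exact hmk0 _ (Ideal.mem_sup_right (Ideal.mem_map_of_mem _ hr))
    · rw [← mk.commutes r]
      exact (IsLocalization.map_units T (⟨_, hr⟩ : q.primeCompl)).map (Ideal.Quotient.mkₐ R N)
    · rw [RingHom.mem_ker, show MonoidAlgebra.lift R (T ⧸ N) M χ = mk by ext m; simp [χ]]
      exact hmk0 x (Ideal.mem_sup_left hx)
  have hexp : ∀ y ∈ Aug, y = ∑ m ∈ y.coeff.support, y.coeff m • (MonoidAlgebra.single m (1 : R) - 1) := by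
    intro y hy
    have h4 : MonoidAlgebra.lift R R M (1 : M →* R) y = 0 := hy
    rw [MonoidAlgebra.lift_apply, Finsupp.sum] at h4
    simp only [MonoidHom.one_apply, smul_eq_mul, _root_.mul_one] at h4
    simp only [smul_sub, Finset.sum_sub_distrib, ← Finset.sum_smul, h4, zero_smul, sub_zero]
    conv_lhs => rw [← MonoidAlgebra.sum_coeff_single y, Finsupp.sum]
    exact Finset.sum_congr rfl fun f _ => by simp
  have hmem : ∀ m : M, MonoidAlgebra.single m (1 : R) - 1 ∈ Aug := fun m => by simp [Aug]
  have hpQ : ∀ y ∈ p.map (algebraMap R (MonoidAlgebra R M)), y ∈ Aug → y ∈ q * Aug := by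
    intro y hy hyA
    have hc := Rigidity.mem_ker_mapR.mp (show y ∈ RingHom.ker (Rigidity.mapR (M := M) p) by
      refine (Ideal.map_le_iff_le_comap.mpr fun r hr => ?_) hy
      rw [Ideal.mem_comap, RingHom.mem_ker, AlgHom.commutes, IsScalarTower.algebraMap_apply R (R ⧸ p),
        Ideal.Quotient.algebraMap_eq, Ideal.Quotient.eq_zero_iff_mem.mpr hr, map_zero])
    rw [hexp y hyA]
    refine Submodule.sum_mem _ fun m _ => ?_
    rw [Algebra.smul_def]
    exact Ideal.mul_mem_mul (hc m) (hmem m)
  have hle : Aug.map loc ≤ I.map loc ⊔ IsLocalRing.maximalIdeal T • Aug.map loc := by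
    rw [smul_eq_mul, ← Localization.AtPrime.map_eq_maximalIdeal, ← Ideal.map_mul, ← Ideal.map_sup, Ideal.map_le_iff_le_comap]
    intro y hy
    rw [hexp y hy]
    refine Ideal.sum_mem _ fun m _ => ?_
    rw [Algebra.smul_def]
    refine Ideal.mul_mem_left _ _ ?_
    have h1 : mk (MonoidAlgebra.single m 1 - 1) = 0 := by
      rw [map_sub, map_one, sub_eq_zero]
      simpa [χ] using DFunLike.congr_fun hχ m
    obtain ⟨t, ht, hty⟩ := (IsLocalization.algebraMap_mem_map_algebraMap_iff q.primeCompl T _ _).mp
      (Ideal.Quotient.eq_zero_iff_mem.mp h1)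
    obtain ⟨i, hi, z, hz, hiz⟩ := Submodule.mem_sup.mp hty
    have hzA : z ∈ Aug := by
      rw [show z = t * (MonoidAlgebra.single m 1 - 1) - i by rw [← hiz]; ring]
      exact sub_mem (Aug.mul_mem_left _ (hmem m)) (hone hi)
    rw [Ideal.mem_comap, IsLocalization.algebraMap_mem_map_algebraMap_iff q.primeCompl]
    exact ⟨t, ht, by rw [← hiz]; exact add_mem (Ideal.mem_sup_left hi) (Ideal.mem_sup_right (hpQ z hz hzA))⟩
  have hall : Aug.map loc ≤ I.map loc :=
    Submodule.le_of_le_smul_of_le_jacobson_bot (hfg.map loc) (IsLocalRing.maximalIdeal_le_jacobson ⊥) hle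
  obtain ⟨s, hs⟩ := id hfg
  have ht : ∀ x ∈ s, ∃ t ∉ q, t * x ∈ I := fun x hx => by
    obtain ⟨t, ht, htx⟩ := (IsLocalization.algebraMap_mem_map_algebraMap_iff q.primeCompl T _ _).mp
      (hall (Ideal.mem_map_of_mem loc (hs.le (Submodule.subset_span hx))))
    exact ⟨t, ht, htx⟩
  choose! t htq htx using ht
  refine ⟨∏ x ∈ s, t x, fun h => ?_, fun y hy => ?_⟩
  · obtain ⟨x, hx, hxq⟩ := (‹q.IsPrime›).prod_mem_iff.mp h
    exact htq x hx hxq
  · have : Aug ≤ Submodule.colon I {∏ x ∈ s, t x} := by
      show RingHom.ker (MonoidAlgebra.lift R R M (1 : M →* R)) ≤ _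
      rw [← hs, Submodule.span_le]
      intro x hx
      rw [SetLike.mem_coe, Submodule.mem_colon_singleton, smul_eq_mul, mul_comm, ← Finset.mul_prod_erase s t hx,
        mul_comm (t x), _root_.mul_assoc]
      exact Ideal.mul_mem_left _ _ (htx x hx)
    have h5 := Submodule.mem_colon_singleton.mp (this hy)
    rwa [smul_eq_mul, mul_comm] at h5

/-- The locus of triviality is open. -/
theorem exists_isOpen [Group.FG M] (hI : IsSub I) :
    ∃ Z : Set (PrimeSpectrum R), IsOpen Z ∧ (∀ p, p ∈ Z ↔ Trivial I p.asIdeal.ResidueField) ∧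
      ∀ (B : Type u) [CommRing B] [Algebra R B], (∀ P : PrimeSpectrum B, PrimeSpectrum.comap (algebraMap R B) P ∈ Z) →
        ∀ χ : M →* B, Kills I χ → χ = 1 := by
  classical
  let Q := MonoidAlgebra R M
  let Aug := RingHom.ker (MonoidAlgebra.lift R R M (1 : M →* R))
  haveI : Monoid.FG M := inferInstance
  haveI : Algebra.FiniteType R Q := inferInstance
  have hfg : Aug.FG := by
    obtain ⟨S, hS⟩ := (Group.fg_iff_monoid_fg.mp (inferInstance : Group.FG M))
    have h : Aug = Ideal.span ((fun m => MonoidAlgebra.single m (1 : R) - 1) '' (S : Set M)) := by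
      let K : Ideal Q := Ideal.span ((fun m => MonoidAlgebra.single m (1 : R) - 1) '' (S : Set M))
      have hK : ∀ m, MonoidAlgebra.single m (1 : R) - 1 ∈ K := fun m => by
        have hm : m ∈ Submonoid.closure (S : Set M) := by rw [hS]; trivial
        induction hm using Submonoid.closure_induction with
        | mem x hx => exact Ideal.subset_span ⟨x, hx, rfl⟩
        | one => simp [MonoidAlgebra.one_def]
        | mul x y _ _ hx hy =>
          rw [show MonoidAlgebra.single (x * y) (1 : R) - 1 = MonoidAlgebra.single x (1 : R) *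
            (MonoidAlgebra.single y 1 - 1) + (MonoidAlgebra.single x 1 - 1) by
            rw [mul_sub, MonoidAlgebra.single_mul_single, _root_.mul_one, _root_.mul_one]; ring]
          exact add_mem (K.mul_mem_left _ hy) hx
      refine le_antisymm (fun y hy => ?_) (Ideal.span_le.mpr ?_)
      · have h4 : MonoidAlgebra.lift R R M (1 : M →* R) y = 0 := hy
        rw [MonoidAlgebra.lift_apply, Finsupp.sum] at h4
        simp only [MonoidHom.one_apply, smul_eq_mul, _root_.mul_one] at h4
        have e : y = ∑ m ∈ y.coeff.support, y.coeff m • (MonoidAlgebra.single m (1 : R) - 1) := by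
          simp only [smul_sub, Finset.sum_sub_distrib, ← Finset.sum_smul, h4, zero_smul, sub_zero]
          conv_lhs => rw [← MonoidAlgebra.sum_coeff_single y, Finsupp.sum]
          exact Finset.sum_congr rfl fun f _ => by simp
        rw [e]
        exact Ideal.sum_mem _ fun m _ => Submodule.smul_of_tower_mem K _ (hK m)
      · rintro _ ⟨m, -, rfl⟩
        simp [Aug]
    rw [h]
    exact Submodule.fg_span (S.finite_toSet.image _)
  let J : Ideal Q := Submodule.colon I (Aug : Set Q)
  let f : R →+* Q ⧸ J := (Ideal.Quotient.mk J).comp (algebraMap R Q)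
  let W : Set (PrimeSpectrum R) := Set.range (PrimeSpectrum.comap f)
  -- outside `W` the subgroup is trivial
  have hgood : ∀ (B : Type u) [CommRing B] [Algebra R B],
      (∀ P : PrimeSpectrum B, PrimeSpectrum.comap (algebraMap R B) P ∉ W) → ∀ χ : M →* B, Kills I χ → χ = 1 := by
    intro B _ _ hB χ hχ
    let h := MonoidAlgebra.lift R B M χ
    have htop : J.map h = ⊤ := by
      by_contra hne
      obtain ⟨P, hP, hle⟩ := Ideal.exists_le_maximal _ hne
      haveI := hP.isPrime
      refine hB ⟨P, hP.isPrime⟩ ⟨PrimeSpectrum.comap (Ideal.Quotient.lift J ((Ideal.Quotient.mk P).comp h.toRingHom)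
        (fun a ha => Ideal.Quotient.eq_zero_iff_mem.mpr (hle (Ideal.mem_map_of_mem _ ha))))
        ⟨⊥, Ideal.bot_prime⟩, ?_⟩
      refine PrimeSpectrum.ext (Ideal.ext fun r => ?_)
      show Ideal.Quotient.mk P (h (algebraMap R Q r)) = 0 ↔ algebraMap R B r ∈ P
      rw [Ideal.Quotient.eq_zero_iff_mem, AlgHom.commutes]
    refine MonoidHom.ext fun m => ?_
    have h1 : h (MonoidAlgebra.single m 1 - 1) = 0 := by
      have h2 : J.map h ≤ Submodule.colon (⊥ : Ideal B) {h (MonoidAlgebra.single m 1 - 1)} := by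
        rw [Ideal.map_le_iff_le_comap]
        intro j hj
        rw [Ideal.mem_comap, Submodule.mem_colon_singleton, Ideal.mem_bot, smul_eq_mul, ← map_mul]
        exact hχ (Submodule.mem_colon.mp hj _ (show MonoidAlgebra.single m (1 : R) - 1 ∈ Aug by simp [Aug]))
      rw [htop] at h2
      have := Submodule.mem_colon_singleton.mp (h2 (Submodule.mem_top (x := (1 : B))))
      simpa using this
    simpa [h, sub_eq_zero] using h1
  -- on `W` it is not
  have hbad : ∀ p : PrimeSpectrum R, Trivial I p.asIdeal.ResidueField → p ∉ W := by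
    rintro p hp ⟨q', rfl⟩
    let q : Ideal Q := q'.asIdeal.comap (Ideal.Quotient.mk J)
    haveI : q.IsPrime := inferInstance
    obtain ⟨j, hj, hjA⟩ := exists_annihilator I hI.one hfg q (fun B _ _ hB0 hBu χ hχ => by
      let ρ : (PrimeSpectrum.comap f q').asIdeal.ResidueField →+* B :=
        Ideal.ResidueField.lift _ (algebraMap R B) hB0 hBu
      exact hp B ⟨ρ, fun r => Ideal.ResidueField.lift_algebraMap _ (algebraMap R B) hB0 hBu r⟩ χ hχ)
    refine hj ?_
    show Ideal.Quotient.mk J j ∈ q'.asIdeal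
    rw [Ideal.Quotient.eq_zero_iff_mem.mpr (Submodule.mem_colon.mpr fun x hx => hjA x hx)]
    exact q'.asIdeal.zero_mem
  have hiff : ∀ p : PrimeSpectrum R, p ∉ W ↔ Trivial I p.asIdeal.ResidueField := fun p => by
    refine ⟨fun hpW B _ _ ι χ hχ => hgood B (fun P => ?_) χ hχ, hbad p⟩
    have e : PrimeSpectrum.comap (algebraMap R B) P = p := by
      rw [← ι.comp_algebraMap]
      refine PrimeSpectrum.ext ?_
      have h1 : Ideal.comap (ι : p.asIdeal.ResidueField →+* B) P.asIdeal = ⊥ := by
        rcases Ideal.eq_bot_or_top (Ideal.comap (ι : p.asIdeal.ResidueField →+* B) P.asIdeal) with h | h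
        · exact h
        · exact absurd h (Ideal.comap_ne_top _ P.2.ne_top)
      show Ideal.comap ((ι : p.asIdeal.ResidueField →+* B).comp (algebraMap R p.asIdeal.ResidueField)) P.asIdeal = p.asIdeal
      rw [← Ideal.comap_comap, h1, ← RingHom.ker_eq_comap_bot, Ideal.ker_algebraMap_residueField]
    rw [e]; exact hpW
  -- stability under specialization
  have hclosed : IsClosed W := by
    refine PrimeSpectrum.isClosed_range_of_stableUnderSpecialization f ?_
    intro p p' hpp hp
    by_contra hp'
    refine hbad p ?_ hp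
    let R' := Localization.AtPrime p'.asIdeal
    have h0 : Trivial (I.map (MonoidAlgebra.mapRingHom M (algebraMap R R'))) (R' ⧸ IsLocalRing.maximalIdeal R') := by
      intro B _ _ ι χ hχ
      letI : Algebra R B := ((algebraMap R' B).comp (algebraMap R R')).toAlgebra
      haveI : IsScalarTower R R' B := IsScalarTower.of_algebraMap_eq fun r => rfl
      refine (hiff p').mp hp' B ⟨(ι : R' ⧸ IsLocalRing.maximalIdeal R' →+* B), fun r => ?_⟩ χ ((kills_map_iff R' χ).mp hχ)
      exact ι.commutes (algebraMap R R' r)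
    have hle : p.asIdeal ≤ p'.asIdeal := (PrimeSpectrum.le_iff_specializes p p').mpr hpp
    let σ : R' →+* p.asIdeal.ResidueField := IsLocalization.lift (M := p'.asIdeal.primeCompl)
      (g := algebraMap R p.asIdeal.ResidueField) fun y => by
        rw [isUnit_iff_ne_zero, Ne, ← RingHom.mem_ker, Ideal.ker_algebraMap_residueField]
        exact fun h => y.2 (hle h)
    letI : Algebra R' p.asIdeal.ResidueField := σ.toAlgebra
    haveI : IsScalarTower R R' p.asIdeal.ResidueField :=
      IsScalarTower.of_algebraMap_eq fun r => (IsLocalization.lift_eq _ r).symm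
    have h1 := trivial_of_closedPoint (hI.map R') h0 p.asIdeal.ResidueField
    intro B _ _ ι χ hχ
    letI : Algebra R' B := ((ι : p.asIdeal.ResidueField →+* B).comp σ).toAlgebra
    haveI : IsScalarTower R R' B := IsScalarTower.of_algebraMap_eq fun r => by
      show algebraMap R B r = ι (σ (algebraMap R R' r))
      rw [IsLocalization.lift_eq, ι.commutes]
    exact h1 B ⟨(ι : p.asIdeal.ResidueField →+* B), fun r => rfl⟩ χ ((kills_map_iff R' χ).mpr hχ)
  exact ⟨Wᶜ, hclosed.isOpen_compl, fun p => hiff p, fun B _ _ hB => hgood B hB⟩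

end Groth.Agent.SGA3cLib.KernelOpen
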