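import Groth.Agent.SGA3cLib.TrivLocus
import Groth.Agent.SGA3cLib.KernelOpen

/-! The locus where a homomorphism from a group of multiplicative type and of finite type has trivial kernel is open. -/

set_option linter.style.haveILetI false
set_option autoImplicit false

universe u

open CategoryTheory CategoryTheory.Limits MonoidalCategory CartesianMonoidalCategory MonObj AlgebraicGeometry

noncomputable section

namespace Groth.Agent.SGA3cLib.MonoNhd

open Averaging Rigidity

variable {S : Scheme.{u}} {H G : Over S} [GrpObj H] [GrpObj G] (u : H ⟶ G)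

/-- `u` has trivial kernel above `g`. -/
def KTriv {T : Scheme.{u}} (g : T ⟶ S) : Prop :=
  ∀ (X : Over S) (_ : X ⟶ Over.mk g) (x : X ⟶ H), x ≫ u = 1 → x = 1

omit [GrpObj H] in
theorem bc_one {T : Scheme.{u}} (g : T ⟶ S) (X' : Over T) : BCPoints.pt g G X' 1 = 1 :=
  map_one (MonoidHom.mk' (BCPoints.pt g G X') (BCPoints.pt_mul g))

theorem KTriv.of_comp {T T' : Scheme.{u}} {g : T ⟶ S} (h : KTriv u g) (k : T' ⟶ T) {g' : T' ⟶ S} (hk : k ≫ g = g') :
    KTriv u g' := fun X p x => h X (p ≫ Over.homMk k hk) x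

theorem KTriv.of_fpqc {T T' : Scheme.{u}} (g : T ⟶ S) (k : T' ⟶ T) (hcov : IsFpqcCov k) {g' : T' ⟶ S} (hk : k ≫ g = g')
    (h : KTriv u g') : KTriv u g := by
  intro X p x hx
  haveI := (hcov.pullback_snd p.left).epi
  let X' : Over S := Over.mk (pullback.snd k p.left ≫ X.hom)
  let r : X' ⟶ X := Over.homMk (pullback.snd k p.left) rfl
  have h1 := h X' (Over.homMk (pullback.fst k p.left) (by
    show _ ≫ g' = _
    rw [← hk, pullback.condition_assoc]
    exact congrArg (pullback.snd k p.left ≫ ·) (Over.w p))) (r ≫ x) (by rw [Category.assoc, hx, MonObj.comp_one])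
  rw [← MonObj.comp_one r] at h1
  apply Over.OverMorphism.ext
  rw [← cancel_epi (pullback.snd k p.left)]
  exact congrArg CommaMorphism.left h1

theorem kTriv_field {K : Type u} [Field K] (ω : Spec (CommRingCat.of K) ⟶ S) (x : Spec (CommRingCat.of K)) :
    KTriv u ω ↔ KTriv u (S.fromSpecResidueField (ω.base x)) := by
  obtain ⟨⟨s, θ⟩, rfl⟩ := (Scheme.SpecToEquivOfField K S).symm.surjective ω
  have hs : ((Scheme.SpecToEquivOfField K S).symm ⟨s, θ⟩).base x = s := by
    show (S.fromSpecResidueField s).base ((Spec.map θ).base x) = s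
    exact Scheme.fromSpecResidueField_apply _ _
  rw [hs]
  have hfs : Flat (Spec.map θ) ∧ Surjective (Spec.map θ) := by
    rw [flat_and_surjective_SpecMap_iff]
    letI := θ.hom.toAlgebra
    exact (inferInstanceAs (Module.FaithfullyFlat (S.residueField s) K))
  haveI := hfs.1
  haveI := hfs.2
  refine ⟨fun h => KTriv.of_fpqc u _ (Spec.map θ) (IsFpqcCov.of_forall _ fun V hV => ?_) rfl h,
    fun h => h.of_comp u (Spec.map θ) rfl⟩
  exact ⟨Spec.map θ ⁻¹ᵁ V, (Spec.map θ).isCompact_preimage hV.isCompact,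
    Set.image_preimage_eq _ (Spec.map θ).surjective⟩

variable [IsMonHom u]

theorem mono_of_kTriv {T : Scheme.{u}} (g : T ⟶ S) (h : KTriv u g) : Mono ((Over.pullback g).map u).left := by
  haveI : Mono ((Over.pullback g).map u) := ⟨fun {X'} a b hab => by
    haveI : IsMonHom ((Over.pullback g).map u) := inferInstanceAs (IsMonHom ((Over.pullback g).map u))
    have h1 : (a * b⁻¹) ≫ (Over.pullback g).map u = 1 := by rw [MonObj.mul_comp, GrpObj.inv_comp, hab, mul_inv_cancel]
    obtain ⟨y, hy⟩ := (BCPoints.pt g H X').surjective (a * b⁻¹)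
    have h2 : y ≫ u = 1 := (BCPoints.pt g G X').injective (by rw [BCPoints.pt_comp, hy, bc_one]; exact h1)
    have h3 := h ((Over.map g).obj X') (Over.homMk X'.hom rfl) y h2
    rw [h3, bc_one] at hy
    exact mul_inv_eq_one.mp hy.symm⟩
  infer_instance

theorem kTriv_of_mono {T : Scheme.{u}} (g : T ⟶ S) (h : Mono ((Over.pullback g).map u).left) : KTriv u g := by
  intro X p x hx
  haveI : Mono ((Over.pullback g).map u) := Over.mono_of_mono_left _
  haveI : IsMonHom ((Over.pullback g).map u) := inferInstanceAs (IsMonHom ((Over.pullback g).map u))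
  let κ : X ⟶ (Over.map g).obj (Over.mk p.left) := Over.homMk (𝟙 _) ((Category.id_comp _).trans (Over.w p))
  let κ' : (Over.map g).obj (Over.mk p.left) ⟶ X := Over.homMk (𝟙 _) ((Category.id_comp _).trans (Over.w p).symm)
  have hκ : κ ≫ κ' = 𝟙 X := Over.OverMorphism.ext (Category.id_comp _)
  have h1 : BCPoints.pt g H _ (κ' ≫ x) = 1 := by
    rw [← cancel_mono ((Over.pullback g).map u), ← BCPoints.pt_comp, Category.assoc, hx, MonObj.comp_one, MonObj.one_comp]
    exact bc_one g _
  have h2 : κ' ≫ x = 1 := (BCPoints.pt g H _).injective (h1.trans (bc_one g _).symm)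
  calc x = κ ≫ κ' ≫ x := by rw [← Category.assoc, hκ, Category.id_comp]
    _ = 1 := by rw [h2, MonObj.comp_one]

/-- Over a chart the kernel is given by an ideal of the group algebra. -/
theorem exists_ideal [IsSeparated G.hom] {U : Scheme.{u}} (fU : U ⟶ S) {M : Type} [AddCommGroup M] [AddGroup.FG M]
    (e : Grp.mk (Red.bc fU H) ≅ Grp.mk (Red.DS U M)) (R : Type u) [CommRing R]
    (t : Spec (CommRingCat.of R) ⟶ U) :
    ∃ I : Ideal (MonoidAlgebra R (Multiplicative M)), KernelOpen.IsSub I ∧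
      ∀ (A : Type u) [CommRing A] (α : R →+* A), letI := α.toAlgebra
        (KTriv u (Spec.map (CommRingCat.ofHom α) ≫ t ≫ fU) ↔ KernelOpen.Trivial I A) := by
  classical
  let g : Spec (CommRingCat.of R) ⟶ S := t ≫ fU
  let HR := Red.bc g H
  let GR := Red.bc g G
  let uR : HR ⟶ GR := (Over.pullback g).map u
  haveI : IsMonHom uR := inferInstanceAs (IsMonHom ((Over.pullback g).map u))
  -- the splitting
  obtain ⟨i, hi, -⟩ := GrpBC.nonempty_iso_restrict fU t g rfl H e
  let β := GrpBC.bcCongr g (𝟙 (Spec (CommRingCat.of R))) g (Category.id_comp g)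
  obtain ⟨hb, -⟩ := GrpBC.isMonHom_app β H
  let b : Red.bc (𝟙 (Spec (CommRingCat.of R))) HR ≅ Red.bc g H := β.app H
  haveI : IsMonHom b.hom := hb
  haveI := hi
  haveI : IsMonHom (b ≪≫ i).hom := by show IsMonHom (b.hom ≫ i.hom); infer_instance
  obtain ⟨σ⟩ := exists_split (H := HR) (𝟙 _) (Grp.mkIso (b ≪≫ i) (IsMonHom.one_hom _) (IsMonHom.mul_hom _))
    (R := R) (𝟙 _) (by rw [Category.id_comp]; exact (Spec.map_id _).symm)
  let N := Multiplicative M
  haveI : Group.FG N := inferInstance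
  let x₀ : P R (MonoidAlgebra R N) ⟶ HR := σ.pt _ (MonoidAlgebra.of R N)
  let a : P R (MonoidAlgebra R N) ⟶ GR := x₀ ≫ uR
  -- the kernel ideal
  let η₀ : S ⟶ G.left := η[G].left
  have hη : η₀ ≫ G.hom = 𝟙 S := Over.w η[G]
  haveI : IsClosedImmersion (η₀ ≫ G.hom) := by rw [hη]; infer_instance
  haveI : IsClosedImmersion η₀ := IsClosedImmersion.of_comp η₀ G.hom
  let X₀ : Over S := (Over.map g).obj (P R (MonoidAlgebra R N))
  let xS : X₀ ⟶ H := (BCPoints.pt g H _).symm x₀
  let q : pullback η₀ (xS ≫ u).left ⟶ Spec (CommRingCat.of (MonoidAlgebra R N)) := pullback.snd η₀ (xS ≫ u).left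
  haveI : IsClosedImmersion q := inferInstanceAs (IsClosedImmersion (pullback.snd η₀ (xS ≫ u).left))
  obtain ⟨I, ε, hε⟩ := (IsClosedImmersion.Spec_iff (R := CommRingCat.of (MonoidAlgebra R N)) (f := q)).mp inferInstance
  have hIiff : ∀ (A : Type u) [CommRing A] [Algebra R A] (h : MonoidAlgebra R N →ₐ[R] A),
      sp h ≫ a = 1 ↔ I ≤ RingHom.ker h := by
    intro A _ _ h
    have h1 : sp h ≫ a = 1 ↔ ((Over.map g).map (sp h) ≫ xS ≫ u) = 1 := by
      have h3 : BCPoints.pt g G (P R A) ((Over.map g).map (sp h) ≫ xS ≫ u) = sp h ≫ a := by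
        rw [BCPoints.pt_map_comp, BCPoints.pt_comp, Equiv.apply_symm_apply]
      rw [← h3]
      exact ⟨fun h => (BCPoints.pt g G (P R A)).injective (h.trans (bc_one g _).symm), fun h => by rw [h, bc_one]⟩
    have h1' : (1 : (Over.map g).obj (P R A) ⟶ G).left = ((Over.map g).obj (P R A)).hom ≫ η₀ := by
      rw [Hom.one_def]; rfl
    rw [h1]
    constructor
    · intro h2
      let m : Spec (CommRingCat.of A) ⟶ pullback η₀ (xS ≫ u).left :=
        pullback.lift ((Over.map g).obj (P R A)).hom (Spec.map (CommRingCat.ofHom h.toRingHom))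
          (h1'.symm.trans (congrArg CommaMorphism.left h2).symm)
      obtain ⟨θ, hθ⟩ := Spec.map_surjective (R := CommRingCat.of (MonoidAlgebra R N ⧸ I)) (S := CommRingCat.of A) (m ≫ ε.hom)
      have h4 : CommRingCat.ofHom (Ideal.Quotient.mk I) ≫ θ = CommRingCat.ofHom h.toRingHom := by
        apply Spec.map_injective
        rw [Spec.map_comp, hθ, Category.assoc, ← hε]
        exact pullback.lift_snd _ _ _
      intro y hy
      rw [RingHom.mem_ker]
      refine (congr($h4 y)).symm.trans ?_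
      show θ.hom (Ideal.Quotient.mk I y) = 0
      rw [Ideal.Quotient.eq_zero_iff_mem.mpr hy, map_zero]
    · intro hle
      let θ := Ideal.Quotient.lift I h.toRingHom fun y hy => hle hy
      let m : Spec (CommRingCat.of A) ⟶ pullback η₀ (xS ≫ u).left := Spec.map (CommRingCat.ofHom θ) ≫ ε.inv
      have hm : m ≫ q = Spec.map (CommRingCat.ofHom h.toRingHom) := by
        rw [hε, Category.assoc, Iso.inv_hom_id_assoc, ← Spec.map_comp, ← CommRingCat.ofHom_comp, Ideal.Quotient.lift_comp_mk]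
      apply Over.OverMorphism.ext
      rw [h1']
      show Spec.map (CommRingCat.ofHom h.toRingHom) ≫ (xS ≫ u).left = _
      have h5 : m ≫ pullback.fst η₀ (xS ≫ u).left ≫ η₀ = Spec.map (CommRingCat.ofHom h.toRingHom) ≫ (xS ≫ u).left := by
        rw [pullback.condition, ← hm]
        simp only [m, q, Category.assoc]
        try rfl
      rw [← h5]
      have h6 := congrArg (· ≫ G.hom) h5
      simp only [Category.assoc, hη, Category.comp_id, Over.w (xS ≫ u)] at h6
      rw [← Category.assoc, h6]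
      exact congrArg (· ≫ η₀) ((congrArg (Spec.map (CommRingCat.ofHom h.toRingHom) ≫ ·) (Over.w (xS ≫ u))).trans
        (Over.w ((Over.map g).map (sp h))))
  -- points of the kernel
  have hkill : ∀ (A : Type u) [CommRing A] [Algebra R A] (ξ : N →* A),
      σ.pt A ξ ≫ uR = 1 ↔ KernelOpen.Kills I ξ := by
    intro A _ _ ξ
    have h4 : sp (MonoidAlgebra.lift R A N ξ) ≫ x₀ = σ.pt A ξ := by
      refine (σ.pt_nat _ _ (MonoidAlgebra.lift R A N ξ) (MonoidAlgebra.of R N)).trans ?_
      congr 1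
      exact MonoidHom.ext fun m => by simp [MonoidAlgebra.of_apply, N]
    rw [← h4, Category.assoc]
    exact hIiff A _
  have hpt1 : ∀ (A : Type u) [CommRing A] [Algebra R A], σ.pt A (1 : N →* A) = 1 := fun A _ _ =>
    left_eq_mul.mp (show σ.pt A (1 : N →* A) = σ.pt A 1 * σ.pt A 1 by rw [← σ.pt_mul, _root_.mul_one])
  refine ⟨I, ⟨(hkill R 1).mp (by rw [hpt1, MonObj.one_comp]), fun A _ _ χ ψ h1 h2 => (hkill A _).mp (by
    rw [σ.pt_mul, MonObj.mul_comp, (hkill A χ).mpr h1, (hkill A ψ).mpr h2, _root_.mul_one])⟩, fun A _ α => ?_⟩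
  letI : Algebra R A := α.toAlgebra
  constructor
  · intro h B _ _ iB χ hχ
    have h1 := h ((Over.map g).obj (P R B)) (Over.homMk (Spec.map (CommRingCat.ofHom iB.toRingHom)) (by
        show Spec.map _ ≫ Spec.map _ ≫ t ≫ fU = Spec.map _ ≫ g
        rw [← Spec.map_comp_assoc, ← CommRingCat.ofHom_comp]
        congr 2
        exact congrArg _ iB.comp_algebraMap))
      ((BCPoints.pt g H _).symm (σ.pt B χ)) ((BCPoints.pt g G _).injective (by
        rw [BCPoints.pt_comp, Equiv.apply_symm_apply, bc_one]; exact (hkill B χ).mpr hχ))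
    have h2 := congrArg (BCPoints.pt g H _) h1
    rw [Equiv.apply_symm_apply, bc_one, ← hpt1 B] at h2
    exact σ.pt_inj B h2
  · intro h X p x hx
    apply Over.OverMorphism.ext
    refine Scheme.Cover.hom_ext X.left.affineCover _ _ fun j => ?_
    obtain ⟨B, w, q', hq⟩ : ∃ (B : CommRingCat.{u}) (w : Spec B ⟶ X.left) (q' : X.left.affineCover.X j ⟶ Spec B),
        q' ≫ w = X.left.affineCover.f j :=
      ⟨_, (X.left.affineCover.X j).isoSpec.inv ≫ X.left.affineCover.f j, (X.left.affineCover.X j).isoSpec.hom,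
        Iso.hom_inv_id_assoc _ _⟩
    obtain ⟨θ, hθ⟩ := Spec.map_surjective (R := CommRingCat.of A) (w ≫ p.left)
    letI : Algebra R B := (θ.hom.comp α).toAlgebra
    let X' : Over S := (Over.map g).obj (P R B)
    let r : X' ⟶ X := Over.homMk w (by
      show w ≫ X.hom = Spec.map (CommRingCat.ofHom (θ.hom.comp α)) ≫ g
      rw [CommRingCat.ofHom_comp, Spec.map_comp, Category.assoc, ← Over.w p, ← Category.assoc w, ← hθ]
      rfl)
    obtain ⟨ξ, hξ⟩ := σ.pt_surj B (BCPoints.pt g H _ (r ≫ x))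
    have h2 : BCPoints.pt g G _ ((r ≫ x) ≫ u) = 1 := by rw [Category.assoc, hx, MonObj.comp_one, bc_one]
    rw [BCPoints.pt_comp, ← hξ] at h2
    have h3 := h B ⟨θ.hom, fun r => rfl⟩ ξ ((hkill B ξ).mp h2)
    rw [h3, hpt1, ← bc_one g] at hξ
    have h5 := (BCPoints.pt g H _).injective hξ.symm
    rw [← MonObj.comp_one r] at h5
    have h6 := congrArg CommaMorphism.left h5
    change w ≫ x.left = w ≫ (1 : X ⟶ H).left at h6
    rw [← hq, Category.assoc, Category.assoc, h6]

/-- The locus of trivial kernel is open, and the kernel is trivial above it. -/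
theorem exists_open [IsSeparated G.hom] (hH : SGA3x.IsMultTypeFT H) :
    ∃ U : S.Opens, (∀ s : S, s ∈ U ↔ KTriv u (S.fromSpecResidueField s)) ∧ KTriv u U.ι := by
  classical
  obtain ⟨S', F, hfl, -, hq, hU⟩ := id hH
  haveI := hfl
  have hF := IsFpqcCov.of_forall F hq
  choose U hmem M _ hM e using hU
  have hP : ∀ t : S', ∃ P : S'.Opens, IsAffineOpen P ∧ t ∈ P ∧ P ≤ U t := fun t => by
    obtain ⟨P, hP, ht, hle⟩ := exists_isAffineOpen_mem_and_subset (U := U t) (x := t) (hmem t)
    exact ⟨P, hP, ht, hle⟩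
  choose P hP htP hPU using hP
  let tt : ∀ t, Spec Γ(S', P t) ⟶ U t := fun t => IsOpenImmersion.lift (U t).ι (hP t).fromSpec (by
    rw [Scheme.Opens.range_ι, (hP t).range_fromSpec]; exact hPU t)
  have htt : ∀ t, tt t ≫ (U t).ι = (hP t).fromSpec := fun t => IsOpenImmersion.lift_fac _ _ _
  let Z : Set S := {s | KTriv u (S.fromSpecResidueField s)}
  have hc : ∀ t, ∃ V : Set (PrimeSpectrum Γ(S', P t)), IsOpen V ∧
      (∀ p, p ∈ V ↔ F.base ((hP t).fromSpec.base p) ∈ Z) ∧
      ∀ (A : Type u) [CommRing A] (α : Γ(S', P t) →+* A), (∀ Q : PrimeSpectrum A, PrimeSpectrum.comap α Q ∈ V) →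
        KTriv u (Spec.map (CommRingCat.ofHom α) ≫ (hP t).fromSpec ≫ F) := by
    intro t
    haveI := hM t
    obtain ⟨I, hI, hIA⟩ := exists_ideal u ((U t).ι ≫ F) (e t).some Γ(S', P t) (tt t)
    haveI : Group.FG (Multiplicative (M t)) := inferInstance
    obtain ⟨V, hV, hVp, hVA⟩ := KernelOpen.exists_isOpen hI
    have hfac : ∀ {T : Scheme.{u}} (k : T ⟶ Spec Γ(S', P t)), k ≫ tt t ≫ (U t).ι ≫ F = k ≫ (hP t).fromSpec ≫ F :=
      fun k => by rw [reassoc_of% (htt t)]
    refine ⟨V, hV, fun p => ?_, fun A _ α hA => ?_⟩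
    · let ω := Spec.map (CommRingCat.ofHom (algebraMap Γ(S', P t) p.asIdeal.ResidueField)) ≫ tt t ≫ (U t).ι ≫ F
      have h1 : ω.base (IsLocalRing.closedPoint p.asIdeal.ResidueField) = F.base ((hP t).fromSpec.base p) := by
        simp only [ω, hfac]
        refine congrArg (fun z => F.base ((hP t).fromSpec.base z)) (PrimeSpectrum.ext ?_)
        show Ideal.comap (algebraMap Γ(S', P t) p.asIdeal.ResidueField) (IsLocalRing.maximalIdeal _) = p.asIdeal
        rw [IsLocalRing.maximalIdeal_eq_bot, ← RingHom.ker_eq_comap_bot, Ideal.ker_algebraMap_residueField]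
      show _ ↔ KTriv u _
      rw [← h1, ← kTriv_field (K := p.asIdeal.ResidueField) u ω, hVp]
      refine Iff.symm ?_
      convert hIA p.asIdeal.ResidueField (algebraMap _ _) using 2
      exact Algebra.algebra_ext _ _ fun r => rfl
    · rw [← hfac]
      letI := α.toAlgebra
      refine (hIA A α).mpr fun B _ _ iB χ hχ => hVA B (fun Q => ?_) χ hχ
      have h2 := hA (PrimeSpectrum.comap iB.toRingHom Q)
      rwa [← PrimeSpectrum.comap_comp_apply, show iB.toRingHom.comp α = algebraMap Γ(S', P t) B from iB.comp_algebraMap] at h2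
  choose V hV hVZ hVA using hc
  have hopen : IsOpen (F.base ⁻¹' Z) := by
    rw [isOpen_iff_forall_mem_open]
    intro y hy
    obtain ⟨p, hp⟩ : y ∈ Set.range (hP y).fromSpec.base := by rw [(hP y).range_fromSpec]; exact htP y
    refine ⟨(hP y).fromSpec.base '' V y, ?_, (hP y).fromSpec.isOpenEmbedding.isOpenMap _ (hV y),
      ⟨p, (hVZ y p).mpr (by rw [hp]; exact hy), hp⟩⟩
    rintro _ ⟨p, hp, rfl⟩
    exact (hVZ y p).mp hp
  have hquot : ∀ A : Set S, IsOpen (F.base ⁻¹' A) → IsOpen A := by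
    intro A hA
    rw [isOpen_iff_forall_mem_open]
    intro s hs
    obtain ⟨O, hsO, hO, W, e', hW, ⟨⟨hsur, hfl'⟩, hqc⟩⟩ := hF.exists_resLE s
    refine ⟨O.ι.base '' (O.ι.base ⁻¹' A), Set.image_preimage_subset _ _, ?_, ⟨⟨s, hsO⟩, hs, rfl⟩⟩
    refine O.ι.isOpenEmbedding.isOpenMap _ ?_
    rw [← (Flat.isQuotientMap_of_surjective (F.resLE O W e')).isOpen_preimage, ← Set.preimage_comp]
    have : O.ι.base ∘ (F.resLE O W e').base = F.base ∘ W.ι.base := by
      funext y
      exact congr($(Scheme.Hom.resLE_comp_ι F e').base y)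
    rw [this, Set.preimage_comp]
    exact hA.preimage W.ι.continuous
  let U₀ : S.Opens := ⟨Z, hquot _ hopen⟩
  refine ⟨U₀, fun s => Iff.rfl, ?_⟩
  intro X p x hx
  haveI := (hF.pullback_snd X.hom).epi
  apply Over.OverMorphism.ext
  rw [← cancel_epi (pullback.snd F X.hom)]
  let X' : Scheme.{u} := pullback F X.hom
  let c : X' ⟶ S' := pullback.fst F X.hom
  have hXZ : ∀ w : X', F.base (c.base w) ∈ Z := fun w => by
    have h1 : (c ≫ F) = (pullback.snd F X.hom ≫ p.left) ≫ U₀.ι := by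
      rw [Category.assoc, show p.left ≫ U₀.ι = X.hom from Over.w p]
      exact pullback.condition
    rw [← Scheme.Hom.comp_apply, h1, Scheme.Hom.comp_apply]
    exact (((pullback.snd F X.hom ≫ p.left).base w) : ↥U₀.toScheme).2
  have hloc : ∀ w : X', ∃ (A : Type u) (_ : CommRing A) (φ : Spec (CommRingCat.of A) ⟶ X'), IsOpenImmersion φ ∧
      w ∈ Set.range φ.base ∧ φ ≫ pullback.snd F X.hom ≫ x.left = φ ≫ pullback.snd F X.hom ≫ (1 : X ⟶ H).left := by
    intro w
    obtain ⟨W, hW, hwW, hWle⟩ := exists_isAffineOpen_mem_and_subset (U := c ⁻¹ᵁ P (c.base w)) (x := w) (htP _)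
    obtain ⟨α, hα⟩ : ∃ α : Γ(S', P (c.base w)) ⟶ Γ(X', W), Spec.map α ≫ (hP (c.base w)).fromSpec = hW.fromSpec ≫ c :=
      ⟨_, (hP (c.base w)).SpecMap_appLE_fromSpec c hW hWle⟩
    refine ⟨Γ(X', W), inferInstance, hW.fromSpec, inferInstance, by rw [hW.range_fromSpec]; exact hwW, ?_⟩
    have h1 := hVA (c.base w) Γ(X', W) α.hom fun Q => (hVZ _ _).mpr (by
      show (Spec.map α ≫ (hP (c.base w)).fromSpec ≫ F).base Q ∈ Z
      rw [reassoc_of% hα]
      exact hXZ _)
    let Y : Over S := Over.mk (hW.fromSpec ≫ pullback.snd F X.hom ≫ X.hom)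
    let r : Y ⟶ X := Over.homMk (hW.fromSpec ≫ pullback.snd F X.hom) (Category.assoc _ _ _)
    have h2 := h1 Y (Over.homMk (𝟙 _) (by
      show 𝟙 _ ≫ Spec.map α ≫ _ ≫ F = _
      rw [Category.id_comp, reassoc_of% hα]
      exact congrArg (hW.fromSpec ≫ ·) pullback.condition)) (r ≫ x) (by rw [Category.assoc, hx, MonObj.comp_one])
    rw [← MonObj.comp_one r] at h2
    have h3 := congrArg CommaMorphism.left h2
    exact (Category.assoc _ _ _).symm.trans (h3.trans (Category.assoc _ _ _))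
  choose A _ φ hφ hwφ hxeq using hloc
  let 𝒰 : X'.OpenCover := Scheme.Cover.mkOfCovers (P := @IsOpenImmersion) X' (fun w => Spec (CommRingCat.of (A w))) φ
    (fun w => ⟨w, by obtain ⟨z, hz⟩ := hwφ w; exact ⟨z, hz⟩⟩) hφ
  exact Scheme.Cover.hom_ext 𝒰 _ _ fun w => hxeq w

end Groth.Agent.SGA3cLib.MonoNhd
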