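import Groth.Agent.SGA3cLib.Averaging
import Groth.Agent.SGA3cLib.DSChar
import Groth.Agent.SGA3cLib.FpqcEpi
import Groth.Prelude.Def_TwC

/-! Descent of the average: homomorphisms from a group of multiplicative type congruent modulo `J`, `J² = 0`,
are conjugate by a point congruent to the unit. -/

set_option linter.style.haveILetI false
set_option autoImplicit false

universe u

open CategoryTheory CategoryTheory.Limits MonoidalCategory CartesianMonoidalCategory MonObj AlgebraicGeometry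

noncomputable section

namespace Groth.Agent.SGA3cLib.Averaging

variable {R₀ : Type u} [CommRing R₀]

theorem comp_cond {A B B' C C' E Z : Scheme.{u}} {p : A ⟶ B} {p' : A ⟶ B'} {i : B ⟶ C} {i' : B' ⟶ C'} {j : C ⟶ E}
    {j' : C' ⟶ E} {o : B ⟶ E} {o' : B' ⟶ E} (f : E ⟶ Z) (h : i ≫ j = o) (h' : i' ≫ j' = o')
    (hc : p ≫ o = p' ≫ o') : (p ≫ i) ≫ j ≫ f = (p' ≫ i') ≫ j' ≫ f := by
  subst h h'
  simpa only [Category.assoc] using congrArg (· ≫ f) hc

theorem exists_split {H : Over (Spec (CommRingCat.of R₀))} [GrpObj H] {U : Scheme.{u}}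
    (fU : U ⟶ Spec (CommRingCat.of R₀)) {M : Type} [AddCommGroup M]
    (e : Grp.mk (Red.bc fU H) ≅ Grp.mk (Red.DS U M)) {R : Type u} [CommRing R] [Algebra R₀ R]
    (t : Spec (CommRingCat.of R) ⟶ U) (ht : t ≫ fU = Spec.map (CommRingCat.ofHom (algebraMap R₀ R))) :
    Nonempty (Split H R (Multiplicative M)) := by
  let h : Red.bc fU H ⟶ Red.DS U M := e.hom.hom.hom
  haveI : IsMonHom h := e.hom.hom.isMonHom_hom
  haveI : IsIso h := ((Grp.forget _).mapIso e).isIso_hom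
  let Y : ∀ (A : Type u) [CommRing A] [Algebra R A], Over U := fun A _ _ =>
    Over.mk (Spec.map (CommRingCat.ofHom (algebraMap R A)) ≫ t)
  let yq : ∀ {A A' : Type u} [CommRing A] [Algebra R A] [CommRing A'] [Algebra R A'], (A →ₐ[R] A') → (Y A' ⟶ Y A) :=
    fun {A A'} _ _ _ _ v => Over.homMk (Spec.map (CommRingCat.ofHom v.toRingHom)) (by
      show Spec.map _ ≫ Spec.map _ ≫ t = Spec.map _ ≫ t
      rw [← Category.assoc, ← Spec.map_comp, ← CommRingCat.ofHom_comp, AlgHom.toRingHom_eq_coe, v.comp_algebraMap])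
  have hY : ∀ (A : Type u) [CommRing A] [Algebra R₀ A] [Algebra R A] [IsScalarTower R₀ R A],
      (Spec.map (CommRingCat.ofHom (algebraMap R A)) ≫ t) ≫ fU = (P R₀ A).hom := fun A _ _ _ _ => by
    rw [Category.assoc, ht]
    show Spec.map _ ≫ Spec.map _ = Spec.map (CommRingCat.ofHom (algebraMap R₀ A))
    rw [← Spec.map_comp, ← CommRingCat.ofHom_comp, ← IsScalarTower.algebraMap_eq]
  let ηA : ∀ (A : Type u) [CommRing A] [Algebra R₀ A] [Algebra R A] [IsScalarTower R₀ R A],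
      Y A ⟶ Red.bc fU (P R₀ A) := fun A _ _ _ _ =>
    Over.homMk (pullback.lift (f := (P R₀ A).hom) (g := fU) (𝟙 (P R₀ A).left)
      (Spec.map (CommRingCat.ofHom (algebraMap R A)) ≫ t) ((Category.id_comp (P R₀ A).hom).trans (hY A).symm))
      (pullback.lift_snd _ _ _)
  let τ : ∀ (A : Type u) [CommRing A] [Algebra R₀ A] [Algebra R A] [IsScalarTower R₀ R A],
      (P R₀ A ⟶ H) → (Y A ⟶ Red.DS U M) := fun A _ _ _ _ g => ηA A ≫ (Over.pullback fU).map g ≫ h
  have hτleft : ∀ (A : Type u) [CommRing A] [Algebra R₀ A] [Algebra R A] [IsScalarTower R₀ R A] (g : P R₀ A ⟶ H),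
      (ηA A ≫ (Over.pullback fU).map g).left ≫ pullback.fst _ _ = g.left := fun A _ _ _ _ g => by
    simp only [Over.comp_left, Over.pullback_map_left, Category.assoc]
    erw [pullback.lift_fst, pullback.lift_fst_assoc, Category.id_comp]
  have τinj : ∀ (A : Type u) [CommRing A] [Algebra R₀ A] [Algebra R A] [IsScalarTower R₀ R A] (g g' : P R₀ A ⟶ H),
      τ A g = τ A g' → g = g' := fun A _ _ _ _ g g' hgg => by
    have h2 : ηA A ≫ (Over.pullback fU).map g = ηA A ≫ (Over.pullback fU).map g' := by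
      simp only [τ, ← Category.assoc] at hgg
      exact (cancel_mono h).mp hgg
    ext1
    rw [← hτleft A g, ← hτleft A g', h2]
  have τsurj : ∀ (A : Type u) [CommRing A] [Algebra R₀ A] [Algebra R A] [IsScalarTower R₀ R A]
      (k : Y A ⟶ Red.DS U M), ∃ g, τ A g = k := fun A _ _ _ _ k => by
    let k' : Y A ⟶ Red.bc fU H := k ≫ inv h
    have hw : k'.left ≫ pullback.snd H.hom fU = Spec.map (CommRingCat.ofHom (algebraMap R A)) ≫ t := Over.w k'
    let g : P R₀ A ⟶ H := Over.homMk (k'.left ≫ pullback.fst H.hom fU) (by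
      show (k'.left ≫ pullback.fst H.hom fU) ≫ H.hom = _
      rw [Category.assoc, pullback.condition, reassoc_of% hw, ← hY A, Category.assoc])
    refine ⟨g, ?_⟩
    show ηA A ≫ _ ≫ h = k
    rw [← Category.assoc, ← IsIso.eq_comp_inv]
    ext1
    apply pullback.hom_ext
    · exact hτleft A g
    · exact (Over.w (ηA A ≫ (Over.pullback fU).map g)).trans (Over.w k').symm
  have τmul : ∀ (A : Type u) [CommRing A] [Algebra R₀ A] [Algebra R A] [IsScalarTower R₀ R A] (g g' : P R₀ A ⟶ H),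
      τ A (g * g') = τ A g * τ A g' := fun A _ _ _ _ g g' => by
    show ηA A ≫ _ ≫ h = _
    rw [Functor.map_mul, ← Category.assoc, MonObj.comp_mul]
    exact (MonObj.mul_comp (ηA A ≫ (Over.pullback fU).map g) (ηA A ≫ (Over.pullback fU).map g') h).trans
      (by simp only [τ, Category.assoc])
  have τnat : ∀ (A A' : Type u) [CommRing A] [Algebra R₀ A] [Algebra R A] [IsScalarTower R₀ R A] [CommRing A']
      [Algebra R₀ A'] [Algebra R A'] [IsScalarTower R₀ R A'] (v : A →ₐ[R] A') (g : P R₀ A ⟶ H),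
      τ A' (sp (v.restrictScalars R₀) ≫ g) = yq v ≫ τ A g := fun A A' _ _ _ _ _ _ _ _ v g => by
    have h2 : ηA A' ≫ (Over.pullback fU).map (sp (v.restrictScalars R₀)) = yq v ≫ ηA A := by
      ext1
      apply pullback.hom_ext
      · simp only [ηA, Over.comp_left, Over.pullback_map_left, Category.assoc, Over.homMk_left]
        erw [pullback.lift_fst, pullback.lift_fst_assoc, pullback.lift_fst]
        simp [yq, sp]
        rfl
      · exact (Over.w (ηA A' ≫ (Over.pullback fU).map (sp (v.restrictScalars R₀)))).trans (Over.w (yq v ≫ ηA A)).symm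
    simp only [τ, Functor.map_comp, Category.assoc, reassoc_of% h2]
  -- characters
  have hsurj : ∀ (A : Type u) [CommRing A] [Algebra R₀ A] [Algebra R A] [IsScalarTower R₀ R A]
      (χ : Multiplicative M →* A),
      ∃ g, dsFn (τ A g) = (Scheme.ΓSpecIso (CommRingCat.of A)).inv.hom.toMonoidHom.comp χ := fun A _ _ _ _ χ => by
    obtain ⟨k, hk⟩ := exists_dsPt (W := Y A) ((Scheme.ΓSpecIso (CommRingCat.of A)).inv.hom.toMonoidHom.comp χ)
    obtain ⟨g, rfl⟩ := τsurj A k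
    exact ⟨g, hk⟩
  choose pt hpt using fun (A : Type u) [CommRing A] [Algebra R₀ A] [Algebra R A] [IsScalarTower R₀ R A] => hsurj A
  refine ⟨{
    pt := pt
    pt_mul := fun A _ _ _ _ χ ψ => τinj A _ _ (dsFn_injective (MonoidHom.ext fun m => ?_))
    pt_nat := fun A A' _ _ _ _ _ _ _ _ v χ => τinj A' _ _ (dsFn_injective (MonoidHom.ext fun m => ?_))
    pt_inj := fun A _ _ _ _ χ ψ hχ => MonoidHom.ext fun m => ?_
    pt_surj := fun A _ _ _ _ g => ?_ }⟩
  · rw [τmul, dsFn_mul, hpt, hpt, hpt]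
    simp
  · rw [τnat, dsFn_comp, hpt, hpt]
    exact (congr($(Scheme.ΓSpecIso_inv_naturality (CommRingCat.ofHom v.toRingHom)) (χ m))).symm
  · have := hpt A χ
    rw [hχ, hpt A ψ] at this
    exact ((Scheme.ΓSpecIso (CommRingCat.of A)).commRingCatIsoToRingEquiv.symm.injective
      (DFunLike.congr_fun this m)).symm
  · refine ⟨(Scheme.ΓSpecIso (CommRingCat.of A)).hom.hom.toMonoidHom.comp (dsFn (τ A g)),
      τinj A _ _ (dsFn_injective (MonoidHom.ext fun m => ?_))⟩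
    rw [hpt]
    exact Iso.hom_inv_id_apply (Scheme.ΓSpecIso (CommRingCat.of A)) _

/-- Homomorphisms congruent modulo a square-zero ideal are conjugate by a point congruent to the unit. -/
theorem exists_conj (J : Ideal R₀) (hJ : J * J = ⊥) (H G : Over (Spec (CommRingCat.of R₀))) [GrpObj H] [GrpObj G]
    (hH : TwC.Locally (Spec (CommRingCat.of R₀)) TwC.Topology.fpqc (fun S' f => ∃ (M : Type) (_ : AddCommGroup M),
      Nonempty (Grp.mk (Red.bc f H) ≅ Grp.mk (Red.DS S' M))))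
    (u v : H ⟶ G) [IsMonHom u] [IsMonHom v]
    (h0 : ∀ (A : Type u) [CommRing A] [Algebra R₀ A], J ≤ RingHom.ker (algebraMap R₀ A) →
      ∀ h : P R₀ A ⟶ H, h ≫ u = h ≫ v) :
    ∃ g : 𝟙_ (Over (Spec (CommRingCat.of R₀))) ⟶ G,
      toUnit (P R₀ (R₀ ⧸ J)) ≫ g = 1 ∧
      ∀ (X : Over (Spec (CommRingCat.of R₀))) (h : X ⟶ H), h ≫ v = (toUnit X ≫ g) * (h ≫ u) * (toUnit X ≫ g)⁻¹ := by
  classical
  obtain ⟨S', f, hfl, hsu, hq, hU⟩ := hH
  choose U hmemU M _ e using hU
  haveI := hfl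
  have hcov := IsFpqcCov.of_forall f hq
  -- charts
  have hchart : ∀ s : S', ∃ (P₀ : S'.Opens) (W : G.left.Opens), IsAffineOpen P₀ ∧ IsAffineOpen W ∧ s ∈ P₀ ∧ P₀ ≤ U s ∧
      P₀ ≤ (f ≫ η[G].left) ⁻¹ᵁ W := by
    intro s
    obtain ⟨W, hW, hsW, -⟩ := exists_isAffineOpen_mem_and_subset (U := (⊤ : G.left.Opens))
      (x := (f ≫ η[G].left).base s) trivial
    obtain ⟨P₀, hP₀, hsP, hle⟩ := exists_isAffineOpen_mem_and_subset (U := U s ⊓ (f ≫ η[G].left) ⁻¹ᵁ W) (x := s)
      ⟨hmemU s, hsW⟩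
    exact ⟨P₀, W, hP₀, hW, hsP, fun x hx => (hle hx).1, fun x hx => (hle hx).2⟩
  choose P₀ W hP₀ hW hsP hPU hPW using hchart
  -- the data over an affine scheme mapping to a chart
  let alg : ∀ {R : Type u} [CommRing R], (Spec (CommRingCat.of R) ⟶ Spec (CommRingCat.of R₀)) → Algebra R₀ R :=
    fun t => (Spec.preimage t).hom.toAlgebra
  have hone : ∀ (A : Type u) [CommRing A] [Algebra R₀ A],
      (1 : P R₀ A ⟶ G).left = Spec.map (CommRingCat.ofHom (algebraMap R₀ A)) ≫ η[G].left := fun A _ _ => by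
    rw [Hom.one_def]; rfl
  have data : ∀ (s : S') (R : Type u) [CommRing R] [Algebra R₀ R] (t : Spec (CommRingCat.of R) ⟶ S'),
      Set.range t.base ⊆ (P₀ s : Set S') → t ≫ f = Spec.map (CommRingCat.ofHom (algebraMap R₀ R)) →
      ∃ (B : Type u) (_ : CommRing B) (_ : Algebra R₀ B) (j : P R₀ B ⟶ G) (_ : IsOpenImmersion j.left),
        Set.range (1 : P R₀ R ⟶ G).left.base ⊆ Set.range j.left.base ∧
        Nonempty (Split H R (Multiplicative (M s))) := by
    intro s R _ _ t ht htf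
    letI : Algebra R₀ Γ(G.left, W s) := (Spec.preimage ((hW s).fromSpec ≫ G.hom)).hom.toAlgebra
    refine ⟨Γ(G.left, W s), inferInstance, inferInstance,
      Over.homMk (hW s).fromSpec (Spec.map_preimage ((hW s).fromSpec ≫ G.hom)).symm,
      inferInstanceAs (IsOpenImmersion (hW s).fromSpec), ?_, ?_⟩
    · rw [hone R, ← htf]
      rintro _ ⟨p, rfl⟩
      show _ ∈ Set.range (hW s).fromSpec.base
      rw [(hW s).range_fromSpec]
      exact hPW s (ht ⟨p, rfl⟩)
    · let tU : Spec (CommRingCat.of R) ⟶ U s := IsOpenImmersion.lift (U s).ι t (by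
        rw [Scheme.Opens.range_ι]; exact fun x hx => hPU s (ht hx))
      exact exists_split ((U s).ι ≫ f) (e s).some tU (by rw [IsOpenImmersion.lift_fac_assoc, htf])
  -- averages on the charts
  have hK : ∀ (R : Type u) [CommRing R] [Algebra R₀ R], J.map (algebraMap R₀ R) * J.map (algebraMap R₀ R) = ⊥ :=
    fun R _ _ => by rw [← Ideal.map_mul, hJ, Ideal.map_bot]
  let Γs : S' → CommRingCat.{u} := fun s => Γ(S', P₀ s)
  letI algS : ∀ s, Algebra R₀ (Γs s) := fun s => alg ((hP₀ s).fromSpec ≫ f)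
  have htS : ∀ s, (hP₀ s).fromSpec ≫ f = Spec.map (CommRingCat.ofHom (algebraMap R₀ (Γs s))) :=
    fun s => (Spec.map_preimage _).symm
  have havg : ∀ s, ∃ (σ : Split H (Γs s) (Multiplicative (M s))) (c : P R₀ (Γs s) ⟶ G),
      IsAvg σ u v _ (hK (Γs s)) c ∧ sp (Ideal.Quotient.mkₐ R₀ (J.map (algebraMap R₀ (Γs s)))) ≫ c = 1 ∧
      ∀ (A : Type u) [CommRing A] [Algebra R₀ A] [Algebra (Γs s) A] [IsScalarTower R₀ (Γs s) A]
        (χ : Multiplicative (M s) →* A),
        σ.pt A χ ≫ v = (sp (IsScalarTower.toAlgHom R₀ (Γs s) A) ≫ c) * (σ.pt A χ ≫ u) *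
          (sp (IsScalarTower.toAlgHom R₀ (Γs s) A) ≫ c)⁻¹ := by
    intro s
    obtain ⟨B, _, _, j, _, hj, ⟨σ⟩⟩ := data s (Γs s) (hP₀ s).fromSpec (hP₀ s).range_fromSpec.le (htS s)
    obtain ⟨hK', c, h1, h2, h3⟩ := exists_avg j hj u v J hJ h0 σ
    exact ⟨σ, c, h1, h2, h3⟩
  choose σ c hc hc1 hcconj using havg
  -- the averages agree on common affine schemes
  have agreeAff : ∀ (s s' : S') (R : Type u) [CommRing R] [Algebra R₀ R] (a : Γs s →ₐ[R₀] R) (a' : Γs s' →ₐ[R₀] R)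
      (t : Spec (CommRingCat.of R) ⟶ S'), Set.range t.base ⊆ (P₀ s : Set S') →
      t ≫ f = Spec.map (CommRingCat.ofHom (algebraMap R₀ R)) → sp a ≫ c s = sp a' ≫ c s' := by
    intro s s' R _ _ a a' t ht htf
    obtain ⟨B, _, _, j, _, hj, ⟨τ⟩⟩ := data s R t ht htf
    have key : ∀ (s : S') (a : Γs s →ₐ[R₀] R), IsAvg τ u v _ (hK R) (sp a ≫ c s) := by
      intro s a
      letI : Algebra (Γs s) R := a.toRingHom.toAlgebra
      haveI : IsScalarTower R₀ (Γs s) R := IsScalarTower.of_algebraMap_eq' a.comp_algebraMap.symm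
      have h1 := (hc s).transfer u v τ (hK R) (by rw [Ideal.map_map, ← IsScalarTower.algebraMap_eq])
      exact h1
    exact IsAvg.unique j u v hj (key s a) (key s' a')
  have agree : ∀ (s s' : S') {T : Scheme.{u}} (a : T ⟶ Spec (Γs s)) (a' : T ⟶ Spec (Γs s')),
      a ≫ (hP₀ s).fromSpec ≫ f = a' ≫ (hP₀ s').fromSpec ≫ f → a ≫ (c s).left = a' ≫ (c s').left := by
    intro s s' T a a' haa
    refine Scheme.Cover.hom_ext T.affineCover _ _ fun i => ?_
    obtain ⟨R, w, hw⟩ : ∃ (R : CommRingCat.{u}) (w : Spec R ⟶ T) (q : T.affineCover.X i ⟶ Spec R),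
        q ≫ w = T.affineCover.f i :=
      ⟨_, (T.affineCover.X i).isoSpec.inv ≫ T.affineCover.f i, (T.affineCover.X i).isoSpec.hom, Iso.hom_inv_id_assoc _ _⟩
    obtain ⟨q, hq⟩ := hw
    letI : Algebra R₀ R := alg (w ≫ a ≫ (hP₀ s).fromSpec ≫ f)
    obtain ⟨θ, hθ⟩ := Spec.map_surjective (w ≫ a)
    obtain ⟨θ', hθ'⟩ := Spec.map_surjective (w ≫ a')
    have hbase : ∀ (s : S') (θ : Γs s ⟶ R), Spec.map θ ≫ (hP₀ s).fromSpec ≫ f =
        Spec.map (CommRingCat.ofHom (algebraMap R₀ R)) →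
        ∀ r, θ (algebraMap R₀ (Γs s) r) = algebraMap R₀ R r := fun s θ h r => by
      rw [htS, ← Spec.map_comp] at h
      exact congr($(Spec.map_injective h) r)
    have hR : w ≫ a ≫ (hP₀ s).fromSpec ≫ f = Spec.map (CommRingCat.ofHom (algebraMap R₀ R)) :=
      (Spec.map_preimage _).symm
    let α : Γs s →ₐ[R₀] R := ⟨θ.hom, hbase s θ (by rw [hθ, Category.assoc, hR])⟩
    let α' : Γs s' →ₐ[R₀] R := ⟨θ'.hom, hbase s' θ' (by rw [hθ', Category.assoc, ← haa, hR])⟩
    have h := congrArg CommaMorphism.left (agreeAff s s' R α α' ((w ≫ a) ≫ (hP₀ s).fromSpec) (by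
      rintro _ ⟨p, rfl⟩
      rw [← (hP₀ s).range_fromSpec]
      exact ⟨_, rfl⟩) (by rw [Category.assoc, Category.assoc, hR]))
    change Spec.map θ ≫ (c s).left = Spec.map θ' ≫ (c s').left at h
    rw [hθ, hθ', Category.assoc, Category.assoc] at h
    rw [← hq, Category.assoc, Category.assoc, h]
  -- glue on the covering
  have hPc : TopologicalSpace.IsOpenCover P₀ :=
    TopologicalSpace.IsOpenCover.mk (eq_top_iff.2 fun s _ => TopologicalSpace.Opens.mem_iSup.2 ⟨s, hsP s⟩)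
  let 𝒰 := S'.openCoverOfIsOpenCover P₀ hPc
  let γ : S' ⟶ G.left := 𝒰.glueMorphisms (fun s => (hP₀ s).isoSpec.hom ≫ (c s).left) fun s s' => by
    rw [← Category.assoc, ← Category.assoc]
    refine agree s s' _ _ ?_
    exact comp_cond f (hP₀ s).isoSpec_hom_fromSpec (hP₀ s').isoSpec_hom_fromSpec (pullback.condition (f := (P₀ s).ι) (g := (P₀ s').ι))
  have hγ : ∀ s : S', (P₀ s).ι ≫ γ = (hP₀ s).isoSpec.hom ≫ (c s).left := fun s => 𝒰.ι_glueMorphisms _ _ s
  have hγspec : ∀ s : S', (hP₀ s).fromSpec ≫ γ = (c s).left := fun s => by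
    rw [← (hP₀ s).isoSpec_inv_ι, Category.assoc, hγ, Iso.inv_hom_id_assoc]
  have hlift : ∀ (s : S') {T : Scheme.{u}} (a : T ⟶ S'), Set.range a.base ⊆ (P₀ s : Set S') →
      ∃ a' : T ⟶ Spec (Γs s), a' ≫ (hP₀ s).fromSpec = a := fun s T a ha =>
    ⟨IsOpenImmersion.lift (hP₀ s).fromSpec a (by rw [(hP₀ s).range_fromSpec]; exact ha), IsOpenImmersion.lift_fac _ _ _⟩
  -- descend
  obtain ⟨m, hm⟩ := HasCovLift.exists_desc (f := f) ⟨S', f, 𝟙 _, Category.id_comp _, hcov⟩ γ (by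
    intro T a b hab
    let O : S' × S' → T.Opens := fun p => a ⁻¹ᵁ P₀ p.1 ⊓ b ⁻¹ᵁ P₀ p.2
    have hO : TopologicalSpace.IsOpenCover O :=
      TopologicalSpace.IsOpenCover.mk (eq_top_iff.2 fun x _ => TopologicalSpace.Opens.mem_iSup.2
        ⟨(a.base x, b.base x), hsP _, hsP _⟩)
    refine Scheme.Cover.hom_ext (T.openCoverOfIsOpenCover O hO) _ _ fun p => ?_
    obtain ⟨a', ha'⟩ := hlift p.1 ((O p).ι ≫ a) (by rintro _ ⟨x, rfl⟩; exact x.2.1)
    obtain ⟨b', hb'⟩ := hlift p.2 ((O p).ι ≫ b) (by rintro _ ⟨x, rfl⟩; exact x.2.2)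
    have := agree p.1 p.2 a' b' (by rw [reassoc_of% ha', reassoc_of% hb', hab])
    rw [← hγspec, ← hγspec, reassoc_of% ha', reassoc_of% hb'] at this
    exact this)
  haveI := hcov.epi
  have hγhom : γ ≫ G.hom = f := Scheme.Cover.hom_ext 𝒰 _ _ fun s => by
    show (P₀ s).ι ≫ γ ≫ G.hom = (P₀ s).ι ≫ f
    rw [reassoc_of% (hγ s)]
    erw [Over.w (c s)]
    show _ ≫ Spec.map _ = _
    rw [← htS, IsAffineOpen.isoSpec_hom_fromSpec_assoc]
  let g : 𝟙_ (Over (Spec (CommRingCat.of R₀))) ⟶ G := Over.homMk m (by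
    show m ≫ G.hom = 𝟙 _
    rw [← cancel_epi f, Category.comp_id, ← Category.assoc, hm, hγhom])
  refine ⟨g, ?_, fun X h => ?_⟩
  · -- modulo `J`
    haveI := (hcov.pullback_snd (P R₀ (R₀ ⧸ J)).hom).epi
    apply Over.OverMorphism.ext
    rw [← cancel_epi (pullback.snd f (P R₀ (R₀ ⧸ J)).hom)]
    let O : S' → (pullback f (P R₀ (R₀ ⧸ J)).hom).Opens := fun s => (pullback.fst f _) ⁻¹ᵁ P₀ s
    have hO : TopologicalSpace.IsOpenCover O :=
      TopologicalSpace.IsOpenCover.mk (eq_top_iff.2 fun x _ => TopologicalSpace.Opens.mem_iSup.2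
        ⟨(pullback.fst f (P R₀ (R₀ ⧸ J)).hom).base x, hsP _⟩)
    refine Scheme.Cover.hom_ext ((pullback f (P R₀ (R₀ ⧸ J)).hom).openCoverOfIsOpenCover O hO) _ _ fun s => ?_
    obtain ⟨a, ha⟩ := hlift s ((O s).ι ≫ pullback.fst _ _) (by rintro _ ⟨x, rfl⟩; exact x.2)
    -- factor through the reduction of the chart
    let b := (O s).ι ≫ pullback.snd f (P R₀ (R₀ ⧸ J)).hom
    have hab : a ≫ Spec.map (CommRingCat.ofHom (algebraMap R₀ (Γs s))) =
        b ≫ Spec.map (CommRingCat.ofHom (Ideal.Quotient.mk J)) := by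
      rw [← htS, reassoc_of% ha, pullback.condition]
      rfl
    refine Scheme.Cover.hom_ext (O s).toScheme.affineCover _ _ fun i => ?_
    obtain ⟨R, w, q, hq⟩ : ∃ (R : CommRingCat.{u}) (w : Spec R ⟶ (O s).toScheme) (q : (O s).toScheme.affineCover.X i ⟶ Spec R),
        q ≫ w = (O s).toScheme.affineCover.f i :=
      ⟨_, ((O s).toScheme.affineCover.X i).isoSpec.inv ≫ (O s).toScheme.affineCover.f i,
        ((O s).toScheme.affineCover.X i).isoSpec.hom, Iso.hom_inv_id_assoc _ _⟩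
    obtain ⟨θ, hθ⟩ := Spec.map_surjective (w ≫ a)
    obtain ⟨ψ, hψ⟩ := Spec.map_surjective (R := CommRingCat.of (R₀ ⧸ J)) (w ≫ b)
    letI : Algebra R₀ R := (ψ.hom.comp (Ideal.Quotient.mk J)).toAlgebra
    have hθψ : CommRingCat.ofHom (algebraMap R₀ (Γs s)) ≫ θ = CommRingCat.ofHom (Ideal.Quotient.mk J) ≫ ψ := by
      apply Spec.map_injective
      rw [Spec.map_comp, Spec.map_comp, hθ, hψ, Category.assoc, Category.assoc, hab]
      rfl
    let α : Γs s →ₐ[R₀] R := ⟨θ.hom, fun r => congr($hθψ r)⟩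
    let β : (Γs s ⧸ J.map (algebraMap R₀ (Γs s))) →ₐ[R₀] R := Ideal.Quotient.liftₐ _ α (by
      suffices h : J.map (algebraMap R₀ (Γs s)) ≤ RingHom.ker α.toRingHom from fun x hx => h hx
      rw [Ideal.map_le_iff_le_comap]
      intro r hr
      show α (algebraMap R₀ _ r) = 0
      rw [α.commutes]
      show ψ (Ideal.Quotient.mk J r) = 0
      rw [Ideal.Quotient.eq_zero_iff_mem.mpr hr, map_zero])
    have h1 : sp α ≫ c s = 1 := by
      rw [show α = β.comp (Ideal.Quotient.mkₐ R₀ _) from AlgHom.ext fun x => rfl, ← sp_comp, Category.assoc, hc1,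
        MonObj.comp_one]
    have h2 := congrArg Over.Hom.left h1
    rw [hone] at h2
    change Spec.map θ ≫ (c s).left = Spec.map (CommRingCat.ofHom (ψ.hom.comp (Ideal.Quotient.mk J))) ≫ η[G].left at h2
    rw [hθ, CommRingCat.ofHom_comp, Spec.map_comp, ← hγspec, Category.assoc, reassoc_of% ha] at h2
    rw [Hom.one_def]
    show _ ≫ (O s).ι ≫ pullback.snd _ _ ≫ (P R₀ (R₀ ⧸ J)).hom ≫ m = _ ≫ (O s).ι ≫ pullback.snd _ _ ≫ (P R₀ (R₀ ⧸ J)).hom ≫ η[G].left
    rw [← pullback.condition_assoc, hm, ← hq]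
    simp only [Category.assoc]
    rw [h2]
    erw [hψ]
    simp only [b, Category.assoc]
    rfl
  · -- conjugation
    haveI := (hcov.pullback_snd X.hom).epi
    apply Over.OverMorphism.ext
    rw [← cancel_epi (pullback.snd f X.hom)]
    let O : S' → (pullback f X.hom).Opens := fun s => (pullback.fst f _) ⁻¹ᵁ P₀ s
    have hO : TopologicalSpace.IsOpenCover O :=
      TopologicalSpace.IsOpenCover.mk (eq_top_iff.2 fun x _ => TopologicalSpace.Opens.mem_iSup.2
        ⟨(pullback.fst f X.hom).base x, hsP _⟩)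
    refine Scheme.Cover.hom_ext ((pullback f X.hom).openCoverOfIsOpenCover O hO) _ _ fun s => ?_
    obtain ⟨a, ha⟩ := hlift s ((O s).ι ≫ pullback.fst _ _) (by rintro _ ⟨x, rfl⟩; exact x.2)
    let b := (O s).ι ≫ pullback.snd f X.hom
    refine Scheme.Cover.hom_ext (O s).toScheme.affineCover _ _ fun i => ?_
    obtain ⟨R, w, q, hq⟩ : ∃ (R : CommRingCat.{u}) (w : Spec R ⟶ (O s).toScheme) (q : (O s).toScheme.affineCover.X i ⟶ Spec R),
        q ≫ w = (O s).toScheme.affineCover.f i :=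
      ⟨_, ((O s).toScheme.affineCover.X i).isoSpec.inv ≫ (O s).toScheme.affineCover.f i,
        ((O s).toScheme.affineCover.X i).isoSpec.hom, Iso.hom_inv_id_assoc _ _⟩
    obtain ⟨θ, hθ⟩ := Spec.map_surjective (w ≫ a)
    letI : Algebra (Γs s) R := θ.hom.toAlgebra
    letI : Algebra R₀ R := (θ.hom.comp (algebraMap R₀ (Γs s))).toAlgebra
    haveI : IsScalarTower R₀ (Γs s) R := IsScalarTower.of_algebraMap_eq' rfl
    let π : P R₀ R ⟶ X := Over.homMk (w ≫ b) (by
      show (w ≫ b) ≫ X.hom = Spec.map (CommRingCat.ofHom (θ.hom.comp _))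
      rw [CommRingCat.ofHom_comp, Spec.map_comp, ← htS]
      erw [hθ]
      simp only [b, Category.assoc, ← pullback.condition, reassoc_of% ha])
    obtain ⟨χ, hχ⟩ := (σ s).pt_surj R (π ≫ h)
    have h1 := hcconj s R χ
    have hπg : sp (IsScalarTower.toAlgHom R₀ (Γs s) R) ≫ c s = π ≫ toUnit X ≫ g := by
      apply Over.OverMorphism.ext
      show Spec.map θ ≫ (c s).left = (w ≫ b) ≫ X.hom ≫ m
      rw [hθ, ← hγspec, Category.assoc, reassoc_of% ha]
      simp only [b, Category.assoc, ← pullback.condition_assoc, hm]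
    rw [hχ, hπg, Category.assoc, Category.assoc, ← GrpObj.comp_inv, ← MonObj.comp_mul, ← MonObj.comp_mul] at h1
    have h2 := congrArg Over.Hom.left h1
    change (w ≫ b) ≫ (h ≫ v).left = (w ≫ b) ≫ _ at h2
    rw [← hq]
    simp only [b, Category.assoc] at h2 ⊢
    show q ≫ w ≫ (O s).ι ≫ pullback.snd f X.hom ≫ (h ≫ v).left = _
    rw [h2]
    rfl

end Groth.Agent.SGA3cLib.Averaging
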