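import Groth.Agent.SGA3cLib.Rigidity
import Groth.Agent.SGA3cLib.AveragingDescent
import Groth.Agent.SGA3cLib.BCPoints
import Groth.Agent.EGA43.Limit.Basic
import Groth.Prelude.Def_SGA3x
import Mathlib.AlgebraicGeometry.Morphisms.LocalFlatDescent
import Mathlib.AlgebraicGeometry.Noetherian

/-! The locus where a homomorphism from a group of multiplicative type and of finite type is trivial. -/

set_option linter.style.haveILetI false
set_option autoImplicit false

universe u

open CategoryTheory CategoryTheory.Limits MonoidalCategory CartesianMonoidalCategory MonObj AlgebraicGeometry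

noncomputable section

namespace Groth.Agent.SGA3cLib.TrivLocus

open Averaging Rigidity

theorem locallyOfFinitePresentation_DS (U : Scheme.{u}) (M : Type) [AddCommGroup M] [AddGroup.FG M] :
    LocallyOfFinitePresentation (Red.DS U M).hom := by
  haveI : Group.FG (Multiplicative M) := inferInstance
  haveI : Monoid.FG (Multiplicative M) := inferInstance
  haveI : Algebra.FiniteType (ULift.{u} ℤ) (MonoidAlgebra (ULift.{u} ℤ) (Multiplicative M)) := inferInstance
  haveI : LocallyOfFinitePresentation (Red.diag (ULift.{u} ℤ) M).hom := by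
    haveI : IsNoetherianRing (ULift.{u} ℤ) := isNoetherianRing_of_ringEquiv ℤ ULift.ringEquiv.symm
    show LocallyOfFinitePresentation (Spec.map _)
    rw [LocallyOfFinitePresentation.SpecMap_iff, CommRingCat.hom_ofHom, RingHom.finitePresentation_algebraMap]
    exact Algebra.FinitePresentation.of_finiteType.mp inferInstance
  show LocallyOfFinitePresentation (pullback.snd _ _)
  infer_instance

theorem locallyOfFinitePresentation_of_multTypeFT {S : Scheme.{u}} (H : Over S) [GrpObj H]
    (hH : SGA3x.IsMultTypeFT H) : LocallyOfFinitePresentation H.hom := by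
  obtain ⟨S', f, hfl, -, hq, hU⟩ := hH
  haveI := hfl
  refine (IsFpqcCov.of_forall f hq).descend @LocallyOfFinitePresentation H.hom ?_
  choose U hmem M _ hM e using hU
  have hUc : TopologicalSpace.IsOpenCover U :=
    TopologicalSpace.IsOpenCover.mk (eq_top_iff.2 fun y _ => TopologicalSpace.Opens.mem_iSup.2 ⟨y, hmem y⟩)
  rw [IsZariskiLocalAtTarget.iff_of_openCover (P := @LocallyOfFinitePresentation) (S'.openCoverOfIsOpenCover U hUc)]
  intro (s : S')
  change LocallyOfFinitePresentation (pullback.snd (pullback.snd H.hom f) (U s).ι)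
  rw [show pullback.snd (pullback.snd H.hom f) (U s).ι =
      (pullbackLeftPullbackSndIso H.hom f (U s).ι).hom ≫ pullback.snd H.hom ((U s).ι ≫ f) from
    (pullbackLeftPullbackSndIso_hom_snd _ _ _).symm,
    MorphismProperty.cancel_left_of_respectsIso @LocallyOfFinitePresentation]
  haveI := hM s
  haveI := locallyOfFinitePresentation_DS.{u} (U s) (M s)
  let i : Red.bc ((U s).ι ≫ f) H ≅ Red.DS (U s : Scheme.{u}) (M s) := (Grp.forget _).mapIso (e s).some
  show LocallyOfFinitePresentation (Red.bc ((U s).ι ≫ f) H).hom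
  rw [← Over.w i.hom]
  infer_instance

variable {S : Scheme.{u}} {H G : Over S} [GrpObj H] [GrpObj G] (u : H ⟶ G)

/-- `u` is trivial above `g`. -/
def Triv {T : Scheme.{u}} (g : T ⟶ S) : Prop :=
  ∀ (X : Over S) (_ : X ⟶ Over.mk g) (x : X ⟶ H), x ≫ u = 1

theorem Triv.of_comp {T T' : Scheme.{u}} {g : T ⟶ S} (h : Triv u g) (k : T' ⟶ T) {g' : T' ⟶ S} (hk : k ≫ g = g') :
    Triv u g' := fun X p x => h X (p ≫ Over.homMk k hk) x

theorem Triv.of_fpqc {T T' : Scheme.{u}} (g : T ⟶ S) (k : T' ⟶ T) (hcov : IsFpqcCov k) {g' : T' ⟶ S} (hk : k ≫ g = g')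
    (h : Triv u g') : Triv u g := by
  intro X p x
  haveI := (hcov.pullback_snd p.left).epi
  let X' : Over S := Over.mk (pullback.snd k p.left ≫ X.hom)
  let r : X' ⟶ X := Over.homMk (pullback.snd k p.left) rfl
  have h1 := h X' (Over.homMk (pullback.fst k p.left) (by
    show _ ≫ g' = _
    rw [← hk, pullback.condition_assoc]
    exact congrArg (pullback.snd k p.left ≫ ·) (Over.w p))) (r ≫ x)
  apply Over.OverMorphism.ext
  rw [← cancel_epi (pullback.snd k p.left)]
  have h2 := congrArg CommaMorphism.left (show r ≫ x ≫ u = r ≫ 1 by rw [MonObj.comp_one, ← Category.assoc]; exact h1)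
  exact h2

theorem triv_iff_map {T : Scheme.{u}} (g : T ⟶ S) :
    Triv u g ↔ (Over.pullback g).map u = 1 := by
  let p₀ : (Over.map g).obj (Red.bc g H) ⟶ Over.mk g := Over.homMk (Red.bc g H).hom rfl
  let x₀ := (BCPoints.pt g H (Red.bc g H)).symm (𝟙 _)
  have h1 : BCPoints.pt g G (Red.bc g H) (x₀ ≫ u) = (Over.pullback g).map u := by
    rw [BCPoints.pt_comp, Equiv.apply_symm_apply, Category.id_comp]
  have hone : ∀ X' : Over T, BCPoints.pt g G X' 1 = 1 := fun X' =>
    map_one (MonoidHom.mk' (BCPoints.pt g G X') (BCPoints.pt_mul g))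
  constructor
  · intro h
    rw [← h1, h _ p₀ x₀, hone]
  · intro h X p x
    let κ : X ⟶ (Over.map g).obj (Over.mk p.left) := Over.homMk (𝟙 _) ((Category.id_comp _).trans (Over.w p))
    let κ' : (Over.map g).obj (Over.mk p.left) ⟶ X := Over.homMk (𝟙 _) ((Category.id_comp _).trans (Over.w p).symm)
    have hκ : κ ≫ κ' = 𝟙 X := Over.OverMorphism.ext (Category.id_comp _)
    have h2 : (κ' ≫ x) ≫ u = 1 := (BCPoints.pt g G _).injective (by rw [BCPoints.pt_comp, h, MonObj.comp_one, hone])
    calc x ≫ u = κ ≫ (κ' ≫ x) ≫ u := by rw [Category.assoc, reassoc_of% hκ]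
      _ = 1 := by rw [h2, MonObj.comp_one]

/-- A point over a field detects triviality on the fibre. -/
theorem triv_field {K : Type u} [Field K] (ω : Spec (CommRingCat.of K) ⟶ S) (x : Spec (CommRingCat.of K)) :
    Triv u ω ↔ Triv u (S.fromSpecResidueField (ω.base x)) := by
  obtain ⟨⟨s, θ⟩, rfl⟩ := (Scheme.SpecToEquivOfField K S).symm.surjective ω
  have hs : ((Scheme.SpecToEquivOfField K S).symm ⟨s, θ⟩).base x = s := by
    show (S.fromSpecResidueField s).base ((Spec.map θ).base x) = s
    exact Scheme.fromSpecResidueField_apply _ _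
  rw [hs]
  have hfs : Flat (Spec.map θ) ∧ Surjective (Spec.map θ) := by
    rw [flat_and_surjective_SpecMap_iff]
    letI := θ.hom.toAlgebra
    exact (inferInstanceAs (Module.FaithfullyFlat (S.residueField s) K))
  haveI := hfs.1
  haveI := hfs.2
  refine ⟨fun h => Triv.of_fpqc u _ (Spec.map θ) (IsFpqcCov.of_forall _ fun V hV => ?_) rfl h,
    fun h => h.of_comp u (Spec.map θ) rfl⟩
  exact ⟨Spec.map θ ⁻¹ᵁ V, (Spec.map θ).isCompact_preimage hV.isCompact,
    Set.image_preimage_eq _ (Spec.map θ).surjective⟩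

/-- The equalizer of `u` and the trivial homomorphism is closed and of finite presentation. -/
theorem exists_eq_closed [IsSeparated G.hom]
    (hG : IsLocallyNoetherian S ∨ LocallyOfFiniteType G.hom) (hH : SGA3x.IsMultTypeFT H) :
    ∃ (Z : Scheme.{u}) (e : Z ⟶ H.left), IsClosedImmersion e ∧ LocallyOfFinitePresentation e ∧
      ∀ (X : Over S) (x : X ⟶ H), x ≫ u = 1 ↔ ∃ l : X.left ⟶ Z, l ≫ e = x.left := by
  haveI := locallyOfFinitePresentation_of_multTypeFT H hH
  let η₀ : S ⟶ G.left := η[G].left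
  have hη : η₀ ≫ G.hom = 𝟙 S := Over.w η[G]
  haveI : IsClosedImmersion (η₀ ≫ G.hom) := by rw [hη]; infer_instance
  haveI : IsClosedImmersion η₀ := IsClosedImmersion.of_comp η₀ G.hom
  refine ⟨_, pullback.fst u.left η₀, inferInstance, ?_, fun X x => ?_⟩
  · rcases hG with h | h
    · haveI := h
      haveI : IsLocallyNoetherian H.left := LocallyOfFiniteType.isLocallyNoetherian H.hom
      exact LocallyOfFinitePresentation.iff_locallyOfFiniteType.mpr inferInstance
    · haveI := h
      haveI : LocallyOfFinitePresentation (η₀ ≫ G.hom) := by rw [hη]; infer_instance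
      haveI : LocallyOfFinitePresentation η₀ := EGA43.Limit.locallyOfFinitePresentation_of_comp η₀ G.hom
      infer_instance
  · have h1 : (1 : X ⟶ G).left = X.hom ≫ η₀ := by rw [Hom.one_def]; rfl
    constructor
    · intro h
      refine ⟨pullback.lift x.left X.hom ?_, pullback.lift_fst _ _ _⟩
      rw [← h1, ← h]; rfl
    · rintro ⟨l, hl⟩
      apply Over.OverMorphism.ext
      show x.left ≫ u.left = _
      have e2 : l ≫ pullback.snd u.left η₀ = X.hom := by
        have := congrArg (· ≫ G.hom) (congrArg (l ≫ ·) (pullback.condition (f := u.left) (g := η₀)))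
        simp only [Category.assoc, hη, Category.comp_id] at this
        rw [Over.w u, reassoc_of% hl, Over.w x] at this
        exact this.symm
      rw [h1, ← hl, Category.assoc, pullback.condition, reassoc_of% e2]

variable [IsMonHom u]

/-- Over a chart, triviality is cut out by a finitely generated ideal; over a local ring it is detected at the closed point. -/
theorem exists_coeff [IsSeparated G.hom] (hG : IsLocallyNoetherian S ∨ LocallyOfFiniteType G.hom)
    (hH : SGA3x.IsMultTypeFT H) {U : Scheme.{u}} (fU : U ⟶ S) {M : Type} [AddCommGroup M] [AddGroup.FG M]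
    (e : Grp.mk (Red.bc fU H) ≅ Grp.mk (Red.DS U M)) (R : Type u) [CommRing R]
    (t : Spec (CommRingCat.of R) ⟶ U) :
    ∃ c : Ideal R, c.FG ∧
      (∀ (A : Type u) [CommRing A] (α : R →+* A), Triv u (Spec.map (CommRingCat.ofHom α) ≫ t ≫ fU) ↔ c ≤ RingHom.ker α) ∧
      ∀ [IsLocalRing R], c ≤ IsLocalRing.maximalIdeal R → c = ⊥ := by
  classical
  let g : Spec (CommRingCat.of R) ⟶ S := t ≫ fU
  let HR := Red.bc g H
  let GR := Red.bc g G
  let uR : HR ⟶ GR := (Over.pullback g).map u
  haveI : IsMonHom uR := inferInstanceAs (IsMonHom ((Over.pullback g).map u))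
  -- the splitting
  obtain ⟨i, hi, -⟩ := GrpBC.nonempty_iso_restrict fU t g rfl H e
  let β := GrpBC.bcCongr g (𝟙 (Spec (CommRingCat.of R))) g (Category.id_comp g)
  obtain ⟨hb, -⟩ := GrpBC.isMonHom_app β H
  let b : Red.bc (𝟙 (Spec (CommRingCat.of R))) HR ≅ Red.bc g H := β.app H
  haveI : IsMonHom b.hom := hb
  haveI := hi
  haveI : IsMonHom (b ≪≫ i).hom := by show IsMonHom (b.hom ≫ i.hom); infer_instance
  obtain ⟨σ⟩ := exists_split (H := HR) (𝟙 _) (Grp.mkIso (b ≪≫ i) (IsMonHom.one_hom _) (IsMonHom.mul_hom _))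
    (R := R) (𝟙 _) (by rw [Category.id_comp]; exact (Spec.map_id _).symm)
  let N := Multiplicative M
  haveI : Group.FG N := inferInstance
  let x₀ : P R (MonoidAlgebra R N) ⟶ HR := σ.pt _ (MonoidAlgebra.of R N)
  let a : P R (MonoidAlgebra R N) ⟶ GR := x₀ ≫ uR
  have ha : IsHomPt a := by
    have e1 : ∀ φ : N →* N × N, sp (MonoidAlgebra.mapDomainAlgHom R R φ) ≫ x₀ =
        σ.pt _ ((MonoidAlgebra.of R (N × N)).comp φ) := fun φ => by
      have h := σ.pt_nat _ _ (MonoidAlgebra.mapDomainAlgHom R R φ) (MonoidAlgebra.of R N)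
      refine h.trans ?_
      congr 1
      exact MonoidHom.ext fun m => by simp [MonoidAlgebra.of_apply, N]
    show sp _ ≫ x₀ ≫ uR = (sp _ ≫ x₀ ≫ uR) * (sp _ ≫ x₀ ≫ uR)
    unfold GroupLike.dg GroupLike.i₁ GroupLike.i₂
    rw [← Category.assoc, ← Category.assoc, ← Category.assoc, e1, e1, e1, ← MonObj.mul_comp, ← σ.pt_mul]
    congr 2
    exact MonoidHom.ext fun m => by simp [MonoidAlgebra.single_mul_single, MonoidHom.inl_apply, MonoidHom.inr_apply, N]
  -- the equalizer ideal
  obtain ⟨Z, ez, hez, hezfp, hZ⟩ := exists_eq_closed u hG hH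
  let X₀ : Over S := (Over.map g).obj (P R (MonoidAlgebra R N))
  let xS : X₀ ⟶ H := (BCPoints.pt g H _).symm x₀
  let q : pullback ez xS.left ⟶ Spec (CommRingCat.of (MonoidAlgebra R N)) := pullback.snd ez xS.left
  haveI : IsClosedImmersion q := inferInstanceAs (IsClosedImmersion (pullback.snd ez xS.left))
  haveI : LocallyOfFinitePresentation q := inferInstanceAs (LocallyOfFinitePresentation (pullback.snd ez xS.left))
  obtain ⟨I, ε, hε⟩ := (IsClosedImmersion.Spec_iff (R := CommRingCat.of (MonoidAlgebra R N)) (f := q)).mp inferInstance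
  have hIfg : I.FG := by
    have h2 : LocallyOfFinitePresentation (Spec.map (CommRingCat.ofHom (Ideal.Quotient.mk I))) := by
      have : LocallyOfFinitePresentation (ε.inv ≫ q) := inferInstance
      rw [hε, Iso.inv_hom_id_assoc] at this
      exact this
    rw [LocallyOfFinitePresentation.SpecMap_iff, CommRingCat.hom_ofHom, ← Ideal.Quotient.algebraMap_eq,
      RingHom.finitePresentation_algebraMap] at h2
    haveI := h2
    have := Algebra.FinitePresentation.ker_fG_of_surjective
      (Algebra.ofId (MonoidAlgebra R N) (MonoidAlgebra R N ⧸ I)) Ideal.Quotient.mk_surjective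
    exact (Ideal.mk_ker (I := I)) ▸ this
  have hIiff : ∀ (A : Type u) [CommRing A] [Algebra R A] (h : MonoidAlgebra R N →ₐ[R] A),
      sp h ≫ a = 1 ↔ I ≤ RingHom.ker h := by
    intro A _ _ h
    have h1 : sp h ≫ a = 1 ↔ ((Over.map g).map (sp h) ≫ xS) ≫ u = 1 := by
      have hone : BCPoints.pt g G (P R A) 1 = 1 :=
        map_one (MonoidHom.mk' (BCPoints.pt g G (P R A)) (BCPoints.pt_mul g))
      have h3 : BCPoints.pt g G (P R A) (((Over.map g).map (sp h) ≫ xS) ≫ u) = sp h ≫ a := by
        rw [BCPoints.pt_comp, BCPoints.pt_map_comp, Equiv.apply_symm_apply, Category.assoc]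
      rw [← h3]
      exact ⟨fun h => (BCPoints.pt g G (P R A)).injective (h.trans hone.symm), fun h => by rw [h, hone]⟩
    rw [h1, hZ]
    constructor
    · rintro ⟨l, hl⟩
      let m : Spec (CommRingCat.of A) ⟶ pullback ez xS.left := pullback.lift l (Spec.map (CommRingCat.ofHom h.toRingHom)) hl
      obtain ⟨θ, hθ⟩ := Spec.map_surjective (R := CommRingCat.of (MonoidAlgebra R N ⧸ I)) (S := CommRingCat.of A) (m ≫ ε.hom)
      have h4 : CommRingCat.ofHom (Ideal.Quotient.mk I) ≫ θ = CommRingCat.ofHom h.toRingHom := by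
        apply Spec.map_injective
        rw [Spec.map_comp, hθ, Category.assoc, ← hε]
        exact pullback.lift_snd _ _ _
      intro y hy
      rw [RingHom.mem_ker]
      refine (congr($h4 y)).symm.trans ?_
      show θ.hom (Ideal.Quotient.mk I y) = 0
      rw [Ideal.Quotient.eq_zero_iff_mem.mpr hy, map_zero]
    · intro hle
      let θ := Ideal.Quotient.lift I h.toRingHom fun y hy => hle hy
      refine ⟨Spec.map (CommRingCat.ofHom θ) ≫ ε.inv ≫ pullback.fst ez xS.left, ?_⟩
      rw [Category.assoc, Category.assoc, pullback.condition]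
      show Spec.map _ ≫ ε.inv ≫ q ≫ xS.left = Spec.map (CommRingCat.ofHom h.toRingHom) ≫ xS.left
      rw [hε, ← Category.assoc ε.inv, Iso.inv_hom_id_assoc]
      erw [← Category.assoc, ← Spec.map_comp]
      rw [← CommRingCat.ofHom_comp, Ideal.Quotient.lift_comp_mk]
  -- coefficients
  obtain ⟨s, hs⟩ := hIfg
  let c : Ideal R := Ideal.span (⋃ x ∈ (s : Set (MonoidAlgebra R N)), x.coeff '' (x.coeff.support : Set N))
  have hcfg : c.FG := Submodule.fg_span (s.finite_toSet.biUnion fun x _ => x.coeff.support.finite_toSet.image _)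
  have hc : ∀ (A : Type u) [CommRing A] [Algebra R A],
      I ≤ RingHom.ker (MonoidAlgebra.lift R (MonoidAlgebra A N) N (MonoidAlgebra.of A N)) ↔ c ≤ RingHom.ker (algebraMap R A) := by
    intro A _ _
    have hv : ∀ x : MonoidAlgebra R N, MonoidAlgebra.lift R (MonoidAlgebra A N) N (MonoidAlgebra.of A N) x =
        MonoidAlgebra.mapRingHom N (algebraMap R A) x := fun x => by
      induction x using MonoidAlgebra.induction_linear with
      | zero => simp
      | add x y hx hy => simp only [map_add, hx, hy]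
      | single m r => simp [Algebra.smul_def]
    rw [← hs]
    constructor
    · intro h
      refine Ideal.span_le.mpr (Set.iUnion₂_subset fun x hx => ?_)
      rintro _ ⟨m, -, rfl⟩
      have h1 := congrArg (fun y => y.coeff m) ((hv x).symm.trans (h (Submodule.subset_span hx)))
      simpa using h1
    · intro h
      refine Submodule.span_le.mpr fun x hx => ?_
      refine (hv x).trans (MonoidAlgebra.ext (Finsupp.ext fun m => ?_))
      by_cases hm : m ∈ x.coeff.support
      · simpa using h (Ideal.subset_span (Set.mem_biUnion hx ⟨m, hm, rfl⟩))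
      · simp [Finsupp.notMem_support_iff.mp hm]
  have hmain : ∀ (A : Type u) [CommRing A] (α : R →+* A), Triv u (Spec.map (CommRingCat.ofHom α) ≫ t ≫ fU) ↔
      c ≤ RingHom.ker α := by
    intro A _ α
    letI : Algebra R A := α.toAlgebra
    rw [show RingHom.ker α = RingHom.ker (algebraMap R A) from rfl, ← hc A, ← hIiff]
    let gA := Spec.map (CommRingCat.ofHom α) ≫ t ≫ fU
    let hA : MonoidAlgebra R N →ₐ[R] MonoidAlgebra A N := MonoidAlgebra.lift R (MonoidAlgebra A N) N (MonoidAlgebra.of A N)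
    have hone : ∀ (B : Type u) [CommRing B] [Algebra R B], BCPoints.pt g G (P R B) 1 = 1 := fun B _ _ =>
      map_one (MonoidHom.mk' (BCPoints.pt g G (P R B)) (BCPoints.pt_mul g))
    constructor
    · intro h
      have h1 := h ((Over.map g).obj (P R (MonoidAlgebra A N)))
        (Over.homMk (Spec.map (CommRingCat.ofHom (algebraMap A (MonoidAlgebra A N)))) (by
          show Spec.map _ ≫ Spec.map _ ≫ g = Spec.map _ ≫ g
          rw [← Spec.map_comp_assoc, ← CommRingCat.ofHom_comp, IsScalarTower.algebraMap_eq R A (MonoidAlgebra A N)]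
          try rfl))
        ((Over.map g).map (sp hA) ≫ xS)
      have h2 := congrArg (BCPoints.pt g G _) h1
      rw [BCPoints.pt_comp, BCPoints.pt_map_comp, Equiv.apply_symm_apply, hone, Category.assoc] at h2
      exact h2
    · intro h X p x
      apply Over.OverMorphism.ext
      refine Scheme.Cover.hom_ext X.left.affineCover _ _ fun j => ?_
      obtain ⟨B, w, q', hq⟩ : ∃ (B : CommRingCat.{u}) (w : Spec B ⟶ X.left) (q' : X.left.affineCover.X j ⟶ Spec B),
          q' ≫ w = X.left.affineCover.f j :=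
        ⟨_, (X.left.affineCover.X j).isoSpec.inv ≫ X.left.affineCover.f j, (X.left.affineCover.X j).isoSpec.hom,
          Iso.hom_inv_id_assoc _ _⟩
      obtain ⟨θ, hθ⟩ := Spec.map_surjective (R := CommRingCat.of A) (w ≫ p.left)
      letI : Algebra A B := θ.hom.toAlgebra
      letI : Algebra R B := (θ.hom.comp α).toAlgebra
      haveI : IsScalarTower R A B := IsScalarTower.of_algebraMap_eq fun r => rfl
      let X' : Over S := (Over.map g).obj (P R B)
      let r : X' ⟶ X := Over.homMk w (by
        show w ≫ X.hom = Spec.map (CommRingCat.ofHom (θ.hom.comp α)) ≫ g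
        rw [CommRingCat.ofHom_comp, Spec.map_comp, Category.assoc, ← Over.w p, ← Category.assoc w, ← hθ]
        rfl)
      obtain ⟨ξ, hξ⟩ := σ.pt_surj B (BCPoints.pt g H _ (r ≫ x))
      let l : MonoidAlgebra A N →ₐ[R] B := (MonoidAlgebra.lift A B N ξ).restrictScalars R
      have h2 : BCPoints.pt g G _ ((r ≫ x) ≫ u) = 1 := by
        rw [BCPoints.pt_comp, ← hξ]
        have h4 : sp (l.comp hA) ≫ x₀ = σ.pt B ξ := by
          refine (σ.pt_nat _ _ (l.comp hA) (MonoidAlgebra.of R N)).trans ?_
          congr 1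
          exact MonoidHom.ext fun m => by simp [l, hA, MonoidAlgebra.of_apply, N]
        rw [← h4, Category.assoc, ← sp_comp, Category.assoc]
        show sp l ≫ sp hA ≫ a = 1
        rw [h, MonObj.comp_one]
      have h5 := (BCPoints.pt g G _).injective (h2.trans (hone B).symm)
      rw [Category.assoc, ← MonObj.comp_one r] at h5
      have h6 := congrArg CommaMorphism.left h5
      change w ≫ (x ≫ u).left = w ≫ (1 : X ⟶ G).left at h6
      rw [← hq, Category.assoc, Category.assoc, h6]
  refine ⟨c, hcfg, hmain, fun {_} hcm => ?_⟩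
  have h0 : sp (mapR (IsLocalRing.maximalIdeal R)) ≫ a = 1 := by
    rw [hIiff]
    refine (hc (R ⧸ IsLocalRing.maximalIdeal R)).mpr ?_
    rw [Ideal.Quotient.algebraMap_eq, Ideal.mk_ker]
    exact hcm
  have hI0 : I = ⊥ := Rigidity.eq_bot a ha I (hs ▸ Submodule.fg_span s.finite_toSet) hIiff h0
  have := (hc R).mp (by rw [hI0]; exact bot_le)
  rw [Algebra.algebraMap_self, show RingHom.ker (RingHom.id R) = ⊥ from (RingHom.injective_iff_ker_eq_bot _).mp fun _ _ h => h] at this
  exact le_bot_iff.mp this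

/-- The locus of triviality is open and closed, and `u` is trivial above it. -/
theorem exists_clopen [IsSeparated G.hom] (hG : IsLocallyNoetherian S ∨ LocallyOfFiniteType G.hom)
    (hH : SGA3x.IsMultTypeFT H) :
    ∃ U : S.Opens, IsClosed (U : Set S) ∧ (∀ s : S, s ∈ U ↔ Triv u (S.fromSpecResidueField s)) ∧ Triv u U.ι := by
  classical
  obtain ⟨S', F, hfl, -, hq, hU⟩ := id hH
  haveI := hfl
  have hF := IsFpqcCov.of_forall F hq
  choose U hmem M _ hM e using hU
  have hP : ∀ t : S', ∃ P : S'.Opens, IsAffineOpen P ∧ t ∈ P ∧ P ≤ U t := fun t => by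
    obtain ⟨P, hP, ht, hle⟩ := exists_isAffineOpen_mem_and_subset (U := U t) (x := t) (hmem t)
    exact ⟨P, hP, ht, hle⟩
  choose P hP htP hPU using hP
  let tt : ∀ t, Spec Γ(S', P t) ⟶ U t := fun t => IsOpenImmersion.lift (U t).ι (hP t).fromSpec (by
    rw [Scheme.Opens.range_ι, (hP t).range_fromSpec]; exact hPU t)
  have htt : ∀ t, tt t ≫ (U t).ι = (hP t).fromSpec := fun t => IsOpenImmersion.lift_fac _ _ _
  have hc : ∀ t, ∃ c : Ideal Γ(S', P t), c.FG ∧
      (∀ (A : Type u) [CommRing A] (α : Γ(S', P t) →+* A), Triv u (Spec.map (CommRingCat.ofHom α) ≫ (hP t).fromSpec ≫ F) ↔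
        c ≤ RingHom.ker α) ∧
      ∀ p : PrimeSpectrum Γ(S', P t), c ≤ p.asIdeal → ∃ f ∉ p.asIdeal, ∀ x ∈ c, f * x = 0 := by
    intro t
    haveI := hM t
    obtain ⟨c, hcfg, hc, -⟩ := exists_coeff u hG hH ((U t).ι ≫ F) (e t).some Γ(S', P t) (tt t)
    have hfac : ∀ {T : Scheme.{u}} (k : T ⟶ Spec Γ(S', P t)), k ≫ tt t ≫ (U t).ι ≫ F = k ≫ (hP t).fromSpec ≫ F :=
      fun k => by rw [reassoc_of% (htt t)]
    refine ⟨c, hcfg, fun A _ α => ?_, fun p hp => ?_⟩
    · rw [← hc A α]
      exact iff_of_eq (congrArg (Triv u) (hfac _).symm)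
    · let L := Localization.AtPrime p.asIdeal
      obtain ⟨c', -, hc', hloc⟩ := exists_coeff u hG hH ((U t).ι ≫ F) (e t).some L
        (Spec.map (CommRingCat.ofHom (algebraMap _ L)) ≫ tt t)
      have hiff : ∀ (A : Type u) [CommRing A] (α : L →+* A),
          c' ≤ RingHom.ker α ↔ c ≤ RingHom.ker (α.comp (algebraMap _ L)) := fun A _ α => by
        rw [← hc' A α, ← hc A, CommRingCat.ofHom_comp (algebraMap Γ(S', P t) L) α, Spec.map_comp]
        exact iff_of_eq (congrArg (Triv u) (by simp only [Category.assoc]))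
      have h1 : c' ≤ IsLocalRing.maximalIdeal L := by
        have h2 : c ≤ RingHom.ker ((IsLocalRing.residue L).comp (algebraMap _ L)) := fun x hx => by
          rw [RingHom.mem_ker, RingHom.comp_apply, IsLocalRing.residue_eq_zero_iff,
            IsLocalization.AtPrime.to_map_mem_maximal_iff L p.asIdeal]
          exact hp hx
        have h3 := (hiff _ (IsLocalRing.residue L)).mpr h2
        rwa [IsLocalRing.ker_residue] at h3
      have h2 : c ≤ RingHom.ker (algebraMap _ L) := by
        have := (hiff L (RingHom.id L)).mp (by rw [hloc h1]; exact bot_le)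
        rwa [RingHom.id_comp] at this
      obtain ⟨s, rfl⟩ := hcfg
      have hs : ∀ x ∈ s, ∃ f ∉ p.asIdeal, f * x = 0 := fun x hx => by
        obtain ⟨⟨f, hf⟩, hfx⟩ := (IsLocalization.map_eq_zero_iff p.asIdeal.primeCompl L x).mp (h2 (Submodule.subset_span hx))
        exact ⟨f, hf, hfx⟩
      choose! fx hfx hfx0 using hs
      refine ⟨∏ x ∈ s, fx x, fun h => ?_, fun y hy => ?_⟩
      · obtain ⟨x, hx, hxp⟩ := p.2.prod_mem_iff.mp h
        exact hfx x hx hxp
      · refine Submodule.span_induction (fun x hx => ?_) (mul_zero _) (fun x y _ _ hx hy => by rw [mul_add, hx, hy, add_zero])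
          (fun r x _ hx => by rw [smul_eq_mul, mul_left_comm, hx, mul_zero]) hy
        rw [← Finset.mul_prod_erase s fx hx, mul_right_comm, hfx0 x hx, zero_mul]
  choose c hcfg hciff hcloc using hc
  let Z : Set S := {s | Triv u (S.fromSpecResidueField s)}
  have hZ : ∀ (t : S') (p : PrimeSpectrum Γ(S', P t)),
      F.base ((hP t).fromSpec.base p) ∈ Z ↔ c t ≤ p.asIdeal := by
    intro t p
    rw [show (c t ≤ p.asIdeal) = (c t ≤ RingHom.ker (algebraMap Γ(S', P t) p.asIdeal.ResidueField)) by rw [Ideal.ker_algebraMap_residueField],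
      ← hciff t p.asIdeal.ResidueField, triv_field (K := p.asIdeal.ResidueField) u _ (IsLocalRing.closedPoint p.asIdeal.ResidueField)]
    show F.base ((hP t).fromSpec.base p) ∈ Z ↔
      (F.base ((hP t).fromSpec.base ((Spec.map (CommRingCat.ofHom (algebraMap Γ(S', P t) p.asIdeal.ResidueField))).base
        (IsLocalRing.closedPoint p.asIdeal.ResidueField)))) ∈ Z
    rw [show (Spec.map (CommRingCat.ofHom (algebraMap Γ(S', P t) p.asIdeal.ResidueField))).base (IsLocalRing.closedPoint p.asIdeal.ResidueField) = p from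
      PrimeSpectrum.ext ((congrArg (Ideal.comap (algebraMap Γ(S', P t) p.asIdeal.ResidueField))
        (IsLocalRing.maximalIdeal_eq_bot (R := p.asIdeal.ResidueField))).trans (Ideal.ker_algebraMap_residueField _))]
  have hpre : IsClopen (F.base ⁻¹' Z) := by
    constructor
    · rw [← isOpen_compl_iff, isOpen_iff_forall_mem_open]
      intro t ht
      obtain ⟨p, hp⟩ : t ∈ Set.range (hP t).fromSpec.base := by rw [(hP t).range_fromSpec]; exact htP t
      have h1 : ¬ c t ≤ p.asIdeal := fun h => ht (by show F.base t ∈ Z; rw [← hp]; exact (hZ t p).mpr h)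
      refine ⟨(hP t).fromSpec.base '' (PrimeSpectrum.zeroLocus (c t : Set Γ(S', P t)))ᶜ, ?_, ?_, ⟨p, h1, hp⟩⟩
      · rintro _ ⟨y, hy, rfl⟩ hyZ
        exact hy ((hZ t y).mp hyZ)
      · exact (hP t).fromSpec.isOpenEmbedding.isOpenMap _ (PrimeSpectrum.isClosed_zeroLocus _).isOpen_compl
    · rw [isOpen_iff_forall_mem_open]
      intro t ht
      obtain ⟨p, hp⟩ : t ∈ Set.range (hP t).fromSpec.base := by rw [(hP t).range_fromSpec]; exact htP t
      have h1 : c t ≤ p.asIdeal := (hZ t p).mp (by rw [hp]; exact ht)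
      obtain ⟨f, hf, hfc⟩ := hcloc t p h1
      refine ⟨(hP t).fromSpec.base '' {y : PrimeSpectrum Γ(S', P t) | f ∉ y.asIdeal}, ?_, ?_, ⟨p, hf, hp⟩⟩
      · rintro _ ⟨y, hy, rfl⟩
        refine (hZ t y).mpr fun x hx => (y.2.mem_or_mem ?_).resolve_left hy
        rw [hfc x hx]; exact zero_mem _
      · exact (hP t).fromSpec.isOpenEmbedding.isOpenMap _ (PrimeSpectrum.basicOpen f).2
  have hquot : ∀ A : Set S, IsOpen (F.base ⁻¹' A) → IsOpen A := by
    intro A hA
    rw [isOpen_iff_forall_mem_open]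
    intro s hs
    obtain ⟨O, hsO, hO, W, e', hW, ⟨⟨hsur, hfl'⟩, hqc⟩⟩ := hF.exists_resLE s
    refine ⟨O.ι.base '' (O.ι.base ⁻¹' A), Set.image_preimage_subset _ _, ?_, ⟨⟨s, hsO⟩, hs, rfl⟩⟩
    refine O.ι.isOpenEmbedding.isOpenMap _ ?_
    rw [← (Flat.isQuotientMap_of_surjective (F.resLE O W e')).isOpen_preimage, ← Set.preimage_comp]
    have : O.ι.base ∘ (F.resLE O W e').base = F.base ∘ W.ι.base := by
      funext y
      exact congr($(Scheme.Hom.resLE_comp_ι F e').base y)
    rw [this, Set.preimage_comp]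
    exact hA.preimage W.ι.continuous
  let V : S.Opens := ⟨Z, hquot _ hpre.2⟩
  refine ⟨V, ⟨hquot _ (by rw [Set.preimage_compl]; exact hpre.1.isOpen_compl)⟩, fun s => Iff.rfl, ?_⟩
  refine Triv.of_fpqc u V.ι (pullback.snd F V.ι) (hF.pullback_snd _) (g' := pullback.fst F V.ι ≫ F)
    pullback.condition.symm ?_
  intro X p x
  have hxV : ∀ z, F.base ((pullback.fst F V.ι).base z) ∈ Z := fun z => by
    have h := congrArg (fun f : pullback F V.ι ⟶ S => f.base z) (pullback.condition (f := F) (g := V.ι))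
    exact (show F.base ((pullback.fst F V.ι).base z) = V.ι.base ((pullback.snd F V.ι).base z) from h) ▸
      ((pullback.snd F V.ι).base z).2
  apply Over.OverMorphism.ext
  let O : S' → X.left.Opens := fun t => (p.left ≫ pullback.fst F V.ι) ⁻¹ᵁ P t
  have hO : TopologicalSpace.IsOpenCover O :=
    TopologicalSpace.IsOpenCover.mk (eq_top_iff.2 fun y _ => TopologicalSpace.Opens.mem_iSup.2 ⟨_, htP _⟩)
  refine Scheme.Cover.hom_ext (X.left.openCoverOfIsOpenCover O hO) _ _ fun (t : S') => ?_
  refine Scheme.Cover.hom_ext (O t).toScheme.affineCover _ _ fun j => ?_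
  obtain ⟨B, w, q, hq'⟩ : ∃ (B : CommRingCat.{u}) (w : Spec B ⟶ (O t).toScheme) (q : (O t).toScheme.affineCover.X j ⟶ Spec B),
      q ≫ w = (O t).toScheme.affineCover.f j :=
    ⟨_, ((O t).toScheme.affineCover.X j).isoSpec.inv ≫ (O t).toScheme.affineCover.f j,
      ((O t).toScheme.affineCover.X j).isoSpec.hom, Iso.hom_inv_id_assoc _ _⟩
  let k := w ≫ (O t).ι ≫ p.left ≫ pullback.fst F V.ι
  obtain ⟨l, hl⟩ : ∃ l : Spec B ⟶ Spec Γ(S', P t), l ≫ (hP t).fromSpec = k :=
    ⟨IsOpenImmersion.lift (hP t).fromSpec k (by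
      rw [(hP t).range_fromSpec]; rintro _ ⟨y, rfl⟩; exact (w.base y).2), IsOpenImmersion.lift_fac _ _ _⟩
  obtain ⟨α, hα⟩ := Spec.map_surjective l
  have hcB : c t ≤ RingHom.ker α.hom := by
    intro z hz
    rw [RingHom.mem_ker]
    by_contra hne
    obtain ⟨q', hq'max, hann⟩ := Ideal.exists_le_maximal ((Ideal.span {α.hom z} : Ideal B).annihilator)
      (by
        intro h
        apply hne
        rw [Submodule.annihilator_eq_top_iff, Ideal.span_singleton_eq_bot] at h
        exact h)
    let y : PrimeSpectrum B := ⟨q', hq'max.isPrime⟩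
    have hy : c t ≤ (y.comap α.hom).asIdeal := by
      refine (hZ t _).mp ?_
      have h1 : (hP t).fromSpec.base (y.comap α.hom) = k.base y := by
        rw [← hl, ← hα]; rfl
      rw [h1]
      exact hxV (((O t).ι ≫ p.left).base (w.base y))
    obtain ⟨f, hf, hfc⟩ := hcloc t _ hy
    refine hf (hann ?_)
    rw [Submodule.mem_annihilator_span_singleton, smul_eq_mul, ← map_mul, hfc z hz, map_zero]
  have hT := (hciff t B α.hom).mpr hcB
  let X' : Over S := Over.mk (w ≫ (O t).ι ≫ X.hom)
  let r : X' ⟶ X := Over.homMk (w ≫ (O t).ι) (Category.assoc _ _ _)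
  have h3 := hT X' (Over.homMk (𝟙 _) (by
    show 𝟙 _ ≫ Spec.map _ ≫ (hP t).fromSpec ≫ F = w ≫ (O t).ι ≫ X.hom
    rw [Category.id_comp, CommRingCat.ofHom_hom, hα, reassoc_of% hl, ← Over.w p]
    rfl)) (r ≫ x)
  rw [Category.assoc, ← MonObj.comp_one r] at h3
  have h4 := congrArg CommaMorphism.left h3
  change (w ≫ (O t).ι) ≫ (x ≫ u).left = (w ≫ (O t).ι) ≫ (1 : X ⟶ G).left at h4
  rw [← hq']
  simp only [Category.assoc] at h4 ⊢
  exact congrArg (q ≫ ·) h4

end Groth.Agent.SGA3cLib.TrivLocus
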