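import Groth.Prelude.Def_Red2
import Mathlib.CategoryTheory.Comma.Over.Pullback

/-! Natural isomorphisms of base change functors respect group structures; restriction of splittings. -/

set_option autoImplicit false

universe u

open CategoryTheory CategoryTheory.Limits MonoidalCategory CartesianMonoidalCategory MonObj AlgebraicGeometry

noncomputable section

namespace Groth.Agent.SGA3cLib.GrpBC

theorem isMonHom_app {S T T' : Scheme.{u}} {F : Over S ⥤ Over T} {F₂ : Over T ⥤ Over T'} {F' : Over S ⥤ Over T'}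
    [F.Monoidal] [F₂.Monoidal] [F'.Monoidal] (α : F ⋙ F₂ ≅ F') (X : Over S) [GrpObj X] :
    letI : GrpObj (F.obj X) := Functor.grpObjObj
    letI : GrpObj (F₂.obj (F.obj X)) := Functor.grpObjObj
    letI : GrpObj (F'.obj X) := Functor.grpObjObj
    IsMonHom (M := F₂.obj (F.obj X)) (N := F'.obj X) (α.app X).hom ∧
      IsMonHom (M := F'.obj X) (N := F₂.obj (F.obj X)) (α.app X).inv := by
  letI : GrpObj (F.obj X) := Functor.grpObjObj
  letI : GrpObj (F₂.obj (F.obj X)) := Functor.grpObjObj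
  letI : GrpObj (F'.obj X) := Functor.grpObjObj
  have e1 : η[F₂.obj (F.obj X)] = Functor.LaxMonoidal.ε (F ⋙ F₂) ≫ (F ⋙ F₂).map η[X] := by
    show Functor.LaxMonoidal.ε F₂ ≫ F₂.map (Functor.LaxMonoidal.ε F ≫ F.map η) = _
    simp
  have e2 : μ[F₂.obj (F.obj X)] = Functor.LaxMonoidal.μ (F ⋙ F₂) X X ≫ (F ⋙ F₂).map μ[X] := by
    show Functor.LaxMonoidal.μ F₂ _ _ ≫ F₂.map (Functor.LaxMonoidal.μ F X X ≫ F.map μ) = _
    simp
  let i : F₂.obj (F.obj X) ≅ F'.obj X := α.app X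
  haveI h : IsMonHom i.hom :=
    { one_hom := by
        show η[F₂.obj (F.obj X)] ≫ α.hom.app X = Functor.LaxMonoidal.ε F' ≫ F'.map η
        rw [e1, Category.assoc, α.hom.naturality, ← Category.assoc, NatTrans.IsMonoidal.unit]
      mul_hom := by
        show μ[F₂.obj (F.obj X)] ≫ α.hom.app X = (α.hom.app X ⊗ₘ α.hom.app X) ≫ Functor.LaxMonoidal.μ F' X X ≫ F'.map μ
        rw [e2, Category.assoc, α.hom.naturality, ← Category.assoc, NatTrans.IsMonoidal.tensor, Category.assoc] }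
  exact ⟨h, (inferInstance : IsMonHom i.inv)⟩

/-- Base change in stages, as a natural isomorphism. -/
def bcCongr {S T T' : Scheme.{u}} (g : T ⟶ S) (c : T' ⟶ T) (h : T' ⟶ S) (hh : c ≫ g = h) :
    Over.pullback g ⋙ Over.pullback c ≅ Over.pullback h :=
  (Over.pullbackComp c g).symm ≪≫ eqToIso (by subst hh; rfl)

theorem nonempty_iso_restrict {S U₁ U : Scheme.{u}} (g₁ : U₁ ⟶ S) (c : U ⟶ U₁) (g : U ⟶ S) (hc : c ≫ g₁ = g)
    (G : Over S) [GrpObj G] {M : Type} [AddCommGroup M] (e : Grp.mk (Red.bc g₁ G) ≅ Grp.mk (Red.DS U₁ M)) :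
    ∃ i : Red.bc g G ≅ Red.DS U M, IsMonHom i.hom ∧ IsMonHom i.inv := by
  let D := Red.diag (ULift.{u} ℤ) M
  let t := IsTerminal.from specULiftZIsTerminal U₁
  let t' := IsTerminal.from specULiftZIsTerminal U
  let β : Over.pullback t ⋙ Over.pullback c ≅ Over.pullback t' := bcCongr t c t' (specULiftZIsTerminal.hom_ext _ _)
  let α := bcCongr g₁ c g hc
  let a₁ : Red.bc c (Red.bc g₁ G) ≅ Red.bc g G := α.app G
  let b₁ : Red.bc c (Red.DS U₁ M) ≅ Red.DS U M := β.app D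
  obtain ⟨h₁, h₂⟩ := isMonHom_app α G
  obtain ⟨h₃, h₄⟩ := isMonHom_app β D
  haveI : IsMonHom a₁.hom := h₁
  haveI : IsMonHom a₁.inv := h₂
  haveI : IsMonHom b₁.hom := h₃
  haveI : IsMonHom b₁.inv := h₄
  let e₁ : Red.bc g₁ G ≅ Red.DS U₁ M := (Grp.forget _).mapIso e
  haveI : IsMonHom e₁.hom := e.hom.hom.isMonHom_hom
  haveI : IsMonHom e₁.inv := e.inv.hom.isMonHom_hom
  refine ⟨a₁.symm ≪≫ (Over.pullback c).mapIso e₁ ≪≫ b₁, ?_, ?_⟩
  · show IsMonHom (a₁.inv ≫ (Over.pullback c).map e₁.hom ≫ b₁.hom)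
    infer_instance
  · show IsMonHom ((b₁.inv ≫ (Over.pullback c).map e₁.inv) ≫ a₁.hom)
    infer_instance

end Groth.Agent.SGA3cLib.GrpBC
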