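import Groth.Prelude.Def_SGA3x
import Mathlib.AlgebraicGeometry.Fiber
import Mathlib.AlgebraicGeometry.Morphisms.UniversallyOpen
import Mathlib.CategoryTheory.Monoidal.Cartesian.Over
import Mathlib.CategoryTheory.Monoidal.Cartesian.Grp

/-!
# Open subgroup schemes are closed in every fibre
-/

universe u

open CategoryTheory Limits AlgebraicGeometry MonoidalCategory CartesianMonoidalCategory MonObj GrpObj

namespace Groth.Agent.SGA3cLib

set_option backward.isDefEq.respectTransparency.types false in
/-- If a point of a fibre is a limit, inside the fibre, of points of an open subgroup, it lies in the subgroup. -/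
theorem mem_range_of_mem_closure_fibre {S : Scheme.{u}} {G H : Over S} [GrpObj G] [GrpObj H] (i : H ⟶ G)
    [IsMonHom i] [IsOpenImmersion i.left] (y : G.left)
    (hy : ∀ V : Set G.left, IsOpen V → y ∈ V →
      (V ∩ G.hom.base ⁻¹' {G.hom.base y} ∩ Set.range i.left.base).Nonempty) :
    y ∈ Set.range i.left.base := by
  set s := G.hom.base y
  let g : Spec (G.left.residueField y) ⟶ Spec (S.residueField s) := Spec.map (G.hom.residueFieldMap y)
  let T : Over S := Over.mk (G.left.fromSpecResidueField y ≫ G.hom)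
  let Y : T ⟶ G := Over.homMk (G.left.fromSpecResidueField y)
  let P : Scheme.{u} := (T ⊗ G).left
  let d : T ⊗ G ⟶ G := (fst T G ≫ Y)⁻¹ * snd T G
  let z₀ : T ⟶ T ⊗ G := lift (𝟙 T) Y
  have hd₀ : z₀ ≫ d = 1 := by simp [z₀, d, MonObj.comp_mul, GrpObj.comp_inv]
  obtain ⟨o⟩ : Nonempty ↥(Spec (G.left.residueField y)) :=
    inferInstanceAs (Nonempty (PrimeSpectrum (G.left.residueField y)))
  let O : Set P := d.left.base ⁻¹' Set.range i.left.base
  have hO : IsOpen O := i.left.isOpenEmbedding.isOpen_range.preimage d.left.continuous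
  have hoO : z₀.left.base o ∈ O := by
    change (z₀ ≫ d).left.base o ∈ Set.range i.left.base
    rw [hd₀]
    have h1 : (1 : T ⟶ G) = (1 : T ⟶ H) ≫ i := (MonObj.one_comp i).symm
    rw [h1]; exact ⟨_, rfl⟩
  have hzy : (snd T G).left.base (z₀.left.base o) = y := by
    change (z₀ ≫ snd T G).left.base o = y
    rw [lift_snd]
    exact (G.left.range_fromSpecResidueField y).le ⟨o, rfl⟩
  -- the projection to the fibre is open
  let q : P ⟶ G.hom.fiber s := pullback.lift (pullback.snd T.hom G.hom) (pullback.fst T.hom G.hom ≫ g) (by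
    rw [Category.assoc, Scheme.Hom.SpecMap_residueFieldMap_fromSpecResidueField]
    exact pullback.condition.symm)
  have hq : q ≫ G.hom.fiberι s = (snd T G).left := pullback.lift_fst _ _ _
  have hqopen : IsOpenMap q.base := by
    have hsq : IsPullback q (pullback.fst T.hom G.hom) (G.hom.fiberToSpecResidueField s) g := by
      refine IsPullback.of_right (h₁₂ := G.hom.fiberι s) (h₂₂ := S.fromSpecResidueField s) (v₁₃ := G.hom) ?_
        (pullback.lift_snd _ _ _) (IsPullback.of_hasPullback _ _)
      have e : g ≫ S.fromSpecResidueField s = T.hom :=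
        Scheme.Hom.SpecMap_residueFieldMap_fromSpecResidueField G.hom y
      rw [hq, e]
      exact (IsPullback.of_hasPullback T.hom G.hom).flip
    haveI : Subsingleton ↥(Spec (S.residueField s)) :=
      inferInstanceAs (Subsingleton (PrimeSpectrum (S.residueField s)))
    haveI : IsIntegral (Spec (S.residueField s)) := inferInstance
    haveI : UniversallyOpen g := inferInstance
    haveI : UniversallyOpen q := MorphismProperty.of_isPullback hsq.flip ‹UniversallyOpen g›
    exact q.isOpenMap
  obtain ⟨V, hV, hVeq⟩ := (G.hom.fiberι s).isEmbedding.isInducing.isOpen_iff.mp (hqopen _ hO)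
  have hyV : y ∈ V := by
    have : q.base (z₀.left.base o) ∈ q.base '' O := ⟨_, hoO, rfl⟩
    rw [← hVeq] at this
    have h2 : (G.hom.fiberι s).base (q.base (z₀.left.base o)) = y := by
      change (q ≫ G.hom.fiberι s).base (z₀.left.base o) = y
      rw [hq]; exact hzy
    exact h2 ▸ this
  obtain ⟨b, ⟨hbV, hbs⟩, hbU⟩ := hy V hV hyV
  obtain ⟨b', rfl⟩ : b ∈ Set.range (G.hom.fiberι s).base := by rw [G.hom.range_fiberι]; exact hbs
  obtain ⟨z, hzO, rfl⟩ : b' ∈ q.base '' O := hVeq.le hbV
  have hzU : (snd T G).left.base z ∈ Set.range i.left.base := by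
    rw [← hq]; exact hbU
  -- a field valued point
  let W : Over S := Over.mk (P.fromSpecResidueField z ≫ (T ⊗ G).hom)
  let ω : W ⟶ T ⊗ G := Over.homMk (P.fromSpecResidueField z)
  have hfac : ∀ (φ : T ⊗ G ⟶ G), φ.left.base z ∈ Set.range i.left.base → ∃ a : W ⟶ H, a ≫ i = ω ≫ φ := by
    intro φ hφ
    have hsub : Set.range (ω ≫ φ).left.base ⊆ Set.range i.left.base := by
      rintro _ ⟨a, rfl⟩
      change φ.left.base (ω.left.base a) ∈ Set.range i.left.base
      rwa [show ω.left.base a = z from (P.range_fromSpecResidueField z).le ⟨a, rfl⟩]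
    refine ⟨Over.homMk (IsOpenImmersion.lift i.left _ hsub) ?_, ?_⟩
    · rw [← Over.w i, IsOpenImmersion.lift_fac_assoc]; exact Over.w (ω ≫ φ)
    · ext : 1; exact IsOpenImmersion.lift_fac _ _ _
  obtain ⟨a, ha⟩ := hfac (snd T G) hzU
  obtain ⟨b, hb⟩ := hfac d hzO
  have key : ω ≫ fst T G ≫ Y = (a * b⁻¹) ≫ i := by
    rw [MonObj.mul_comp, GrpObj.inv_comp, ha, hb]
    simp [d, MonObj.comp_mul, GrpObj.comp_inv]
  obtain ⟨o'⟩ : Nonempty ↥(Spec (P.residueField z)) :=
    inferInstanceAs (Nonempty (PrimeSpectrum (P.residueField z)))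
  have h3 : (ω ≫ fst T G ≫ Y).left.base o' = y := by
    change (G.left.fromSpecResidueField y).base ((fst T G).left.base (ω.left.base o')) = y
    exact (G.left.range_fromSpecResidueField y).le ⟨_, rfl⟩
  rw [key] at h3
  exact ⟨_, h3⟩

/-- An open subgroup scheme contains the neutral components of the fibres. -/
theorem connectedComponentIn_subset_range {S : Scheme.{u}} {G H : Over S} [GrpObj G] [GrpObj H] (i : H ⟶ G)
    [IsMonHom i] [IsOpenImmersion i.left] (s : S) (x : G.left) (hx : x ∈ Set.range i.left.base) :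
    connectedComponentIn (G.hom.base ⁻¹' {s}) x ⊆ Set.range i.left.base := by
  set F := G.hom.base ⁻¹' {s}
  set C := connectedComponentIn F x
  intro c hc
  by_contra hcU
  have hxC : x ∈ C := mem_connectedComponentIn (connectedComponentIn_nonempty_iff.mp ⟨c, hc⟩)
  have hUopen := i.left.isOpenEmbedding.isOpen_range
  have hclosed : ∀ y ∈ C, y ∉ Set.range i.left.base → y ∉ closure (C ∩ Set.range i.left.base) := by
    intro y hyC hyU hcl
    refine hyU (mem_range_of_mem_closure_fibre i y fun V hV hyV => ?_)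
    obtain ⟨b, hbV, hbC, hbU⟩ := mem_closure_iff.mp hcl V hV hyV
    refine ⟨b, ⟨hbV, ?_⟩, hbU⟩
    have h1 : G.hom.base b = s := connectedComponentIn_subset F x hbC
    have h2 : G.hom.base y = s := connectedComponentIn_subset F x hyC
    exact h1.trans h2.symm
  obtain ⟨w, hwC, hw1, hw2⟩ := (isPreconnected_connectedComponentIn (x := x) (F := F))
    (Set.range i.left.base) (closure (C ∩ Set.range i.left.base))ᶜ hUopen isClosed_closure.isOpen_compl
    (fun y hy => (em (y ∈ Set.range i.left.base)).imp id (hclosed y hy))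
    ⟨x, hxC, hx⟩ ⟨c, hc, hclosed c hc hcU⟩
  exact hw2 (subset_closure ⟨hwC, hw1⟩)

end Groth.Agent.SGA3cLib
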