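import Groth.Agent.SGA3cLib.TrivLocus
import Groth.Agent.VarietyLib.GeomComponents
import Mathlib.AlgebraicGeometry.Geometrically.Connected

/-! Descent of central homomorphisms along fpqc coverings with geometrically connected fibres. -/

set_option linter.style.haveILetI false
set_option autoImplicit false

universe u

open CategoryTheory CategoryTheory.Limits MonoidalCategory CartesianMonoidalCategory MonObj AlgebraicGeometry

noncomputable section

namespace Groth.Agent.SGA3cLib.CentralDescent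

open BCPoints

/-- Multiplicative type of finite type is stable under base change. -/
theorem isMultTypeFT_bc {S S' : Scheme.{u}} (f : S' ⟶ S) (H : Over S) [GrpObj H]
    (hH : SGA3x.IsMultTypeFT H) : SGA3x.IsMultTypeFT (Red.bc f H) := by
  obtain ⟨Q, q, hfl, hsu, hq, hU⟩ := hH
  haveI := hfl
  have hcov := (IsFpqcCov.of_forall q hq).pullback_snd f
  refine ⟨pullback q f, pullback.snd q f, hcov.1, hcov.surjective, fun V hV => forall_affine hcov V hV, fun z => ?_⟩
  obtain ⟨U, hzU, M, _, hMfg, ⟨e⟩⟩ := hU ((pullback.fst q f).base z)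
  refine ⟨pullback.fst q f ⁻¹ᵁ U, hzU, M, inferInstance, hMfg, ?_⟩
  let g : (pullback.fst q f ⁻¹ᵁ U : Scheme.{u}) ⟶ S' := (pullback.fst q f ⁻¹ᵁ U).ι ≫ pullback.snd q f
  obtain ⟨i, hi, hi'⟩ := GrpBC.nonempty_iso_restrict (U.ι ≫ q) ((pullback.fst q f).resLE U _ le_rfl) (g ≫ f) (by
    rw [Scheme.Hom.resLE_comp_ι_assoc, pullback.condition, Category.assoc]) H e
  let α := GrpBC.bcCongr f g (g ≫ f) rfl
  obtain ⟨h₁, h₂⟩ := GrpBC.isMonHom_app α H
  let a : Red.bc g (Red.bc f H) ≅ Red.bc (g ≫ f) H := α.app H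
  haveI : IsMonHom a.hom := h₁
  haveI := hi
  haveI : IsMonHom (a ≪≫ i).hom := by show IsMonHom (a.hom ≫ i.hom); infer_instance
  exact ⟨Grp.mkIso (a ≪≫ i) (IsMonHom.one_hom _) (IsMonHom.mul_hom _)⟩

/-- For a morphism to the spectrum of an algebraically closed field, connected implies geometrically connected. -/
theorem geometricallyConnected_of_isAlgClosed {k : Type u} [Field k] [IsAlgClosed k] {X : Scheme.{u}}
    (f : X ⟶ Spec (CommRingCat.of k)) [ConnectedSpace X] : GeometricallyConnected f := by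
  let L := SeparableClosure k
  have hb : Function.Bijective (algebraMap k L) := IsAlgClosed.algebraMap_bijective_of_isIntegral
  haveI : IsIso (Spec.map (CommRingCat.ofHom (algebraMap k L))) := by
    haveI : IsIso (CommRingCat.ofHom (algebraMap k L)) :=
      (RingEquiv.ofBijective (algebraMap k L) hb).toCommRingCatIso.isIso_hom
    infer_instance
  haveI : ConnectedSpace ↥(pullback f (VarietyLib.sK k (SeparableClosure k))) := by
    haveI : IsIso (pullback.fst f (Spec.map (CommRingCat.ofHom (algebraMap k L)))) := inferInstance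
    exact (pullback.fst f (Spec.map (CommRingCat.ofHom (algebraMap k L)))).homeomorph.connectedSpace_iff.mpr inferInstance
  exact VarietyLib.geometricallyConnected_of_connectedSpace k f

variable {S S' : Scheme.{u}} {H G : Over S} [GrpObj H] [GrpObj G] (π : S' ⟶ S)
  (u' : Red.bc π H ⟶ Red.bc π G) [IsMonHom u']

/-- A point over `S` with a lift to `S'`, seen over `S'`. -/
def toLift (X : Over S) (a : X.left ⟶ S') (ha : a ≫ π = X.hom) : X ⟶ (Over.map π).obj (Over.mk a) :=
  Over.homMk (𝟙 _) ((Category.id_comp _).trans ha)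

/-- See `toLift`. -/
def ofLift (X : Over S) (a : X.left ⟶ S') (ha : a ≫ π = X.hom) : (Over.map π).obj (Over.mk a) ⟶ X :=
  Over.homMk (𝟙 _) ((Category.id_comp _).trans ha.symm)

theorem toLift_ofLift (X : Over S) (a : X.left ⟶ S') (ha : a ≫ π = X.hom) : toLift π X a ha ≫ ofLift π X a ha = 𝟙 X :=
  Over.OverMorphism.ext (Category.id_comp _)

/-- The effect of `u'` on points with a lift to `S'`. -/
def ev (X : Over S) (a : X.left ⟶ S') (ha : a ≫ π = X.hom) (x : X ⟶ H) : X ⟶ G :=
  toLift π X a ha ≫ (pt π G _).symm (pt π H _ (ofLift π X a ha ≫ x) ≫ u')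

theorem ev_mul (X : Over S) (a : X.left ⟶ S') (ha : a ≫ π = X.hom) (x y : X ⟶ H) :
    ev π u' X a ha (x * y) = ev π u' X a ha x * ev π u' X a ha y := by
  unfold ev
  rw [MonObj.comp_mul, pt_mul, MonObj.mul_comp, ← MonObj.comp_mul]
  congr 1
  refine (pt π G _).injective ?_
  rw [pt_mul, Equiv.apply_symm_apply, Equiv.apply_symm_apply, Equiv.apply_symm_apply]

theorem ev_central
    (hc : ∀ (X : Over S') (g : X ⟶ Red.bc π G) (h : X ⟶ Red.bc π H), g * (h ≫ u') = (h ≫ u') * g)
    (X : Over S) (a : X.left ⟶ S') (ha : a ≫ π = X.hom) (x : X ⟶ H) (g : X ⟶ G) :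
    Commute g (ev π u' X a ha x) := by
  have h1 : g = toLift π X a ha ≫ (ofLift π X a ha ≫ g) := by rw [← Category.assoc, toLift_ofLift, Category.id_comp]
  unfold ev Commute SemiconjBy
  rw [h1, ← MonObj.comp_mul, ← MonObj.comp_mul]
  congr 1
  refine (pt π G _).injective ?_
  rw [pt_mul, pt_mul, Equiv.apply_symm_apply]
  exact hc _ _ _

theorem ev_nat {X Y : Over S} (r : Y ⟶ X) (a : X.left ⟶ S') (ha : a ≫ π = X.hom) (b : Y.left ⟶ S') (hb : b ≫ π = Y.hom)
    (hab : r.left ≫ a = b) (x : X ⟶ H) : ev π u' Y b hb (r ≫ x) = r ≫ ev π u' X a ha x := by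
  let t : Over.mk b ⟶ Over.mk a := Over.homMk r.left hab
  have h1 : ofLift π Y b hb ≫ r = (Over.map π).map t ≫ ofLift π X a ha :=
    Over.OverMorphism.ext (show 𝟙 _ ≫ r.left = r.left ≫ 𝟙 _ by rw [Category.id_comp, Category.comp_id])
  have h2 : r ≫ toLift π X a ha = toLift π Y b hb ≫ (Over.map π).map t :=
    Over.OverMorphism.ext (show r.left ≫ 𝟙 _ = 𝟙 _ ≫ r.left by rw [Category.id_comp, Category.comp_id])
  unfold ev
  rw [reassoc_of% h2, ← Category.assoc (ofLift π Y b hb), h1, Category.assoc, pt_map_comp, Category.assoc]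
  congr 1

theorem ev_congr {X : Over S} {a b : X.left ⟶ S'} (ha : a ≫ π = X.hom) (hb : b ≫ π = X.hom) (hab : a = b) (x : X ⟶ H) :
    ev π u' X a ha x = ev π u' X b hb x := by
  subst hab; rfl

/-- The homomorphisms on `S' ×[S] S'` induced through a projection. -/
def uvia {P : Scheme.{u}} (p : P ⟶ S') : Red.bc (p ≫ π) H ⟶ Red.bc (p ≫ π) G :=
  pt (p ≫ π) G _ (ev π u' ((Over.map (p ≫ π)).obj (Red.bc (p ≫ π) H)) ((Red.bc (p ≫ π) H).hom ≫ p) (Category.assoc _ _ _)
    ((pt (p ≫ π) H _).symm (𝟙 _)))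

theorem comp_uvia {P : Scheme.{u}} (p : P ⟶ S') {Y : Over P} (x : (Over.map (p ≫ π)).obj Y ⟶ H) :
    pt (p ≫ π) H Y x ≫ uvia π u' p = pt (p ≫ π) G Y (ev π u' _ (Y.hom ≫ p) (Category.assoc _ _ _) x) := by
  unfold uvia
  rw [← pt_map_comp, ← ev_nat π u' ((Over.map (p ≫ π)).map (pt (p ≫ π) H Y x)) _ _ (Y.hom ≫ p) (Category.assoc _ _ _) (by
    show (pt (p ≫ π) H Y x).left ≫ (Red.bc (p ≫ π) H).hom ≫ p = _
    rw [← Category.assoc]
    exact congrArg (· ≫ p) (Over.w (pt (p ≫ π) H Y x)))]
  congr 2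
  refine (pt (p ≫ π) H Y).injective ?_
  rw [pt_map_comp, Equiv.apply_symm_apply, Category.comp_id]

/-- Morphism induced through a projection, with the structure morphism made explicit. -/
theorem exists_uvia {P : Scheme.{u}} (q : P ⟶ S) (p : P ⟶ S') (h : p ≫ π = q)
    (hc : ∀ (X : Over S') (g : X ⟶ Red.bc π G) (h : X ⟶ Red.bc π H), g * (h ≫ u') = (h ≫ u') * g) :
    ∃ v : Red.bc q H ⟶ Red.bc q G, (∀ (Y : Over P) (x y : Y ⟶ Red.bc q H), (x * y) ≫ v = (x ≫ v) * (y ≫ v)) ∧
      (∀ (Y : Over P) (g : Y ⟶ Red.bc q G) (x : Y ⟶ Red.bc q H), Commute g (x ≫ v)) ∧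
      ∀ (Y : Over P) (x : (Over.map q).obj Y ⟶ H),
        pt q H Y x ≫ v = pt q G Y (ev π u' _ (Y.hom ≫ p) (by rw [Category.assoc, h]; rfl) x) := by
  subst h
  refine ⟨uvia π u' p, fun Y x y => ?_, fun Y g x => ?_, fun Y x => comp_uvia π u' p x⟩
  · obtain ⟨x, rfl⟩ := (pt (p ≫ π) H Y).surjective x
    obtain ⟨y, rfl⟩ := (pt (p ≫ π) H Y).surjective y
    rw [← pt_mul, comp_uvia, comp_uvia, comp_uvia, ev_mul, pt_mul]
  · obtain ⟨x, rfl⟩ := (pt (p ≫ π) H Y).surjective x
    obtain ⟨g, rfl⟩ := (pt (p ≫ π) G Y).surjective g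
    rw [comp_uvia]
    show pt _ G Y g * _ = _ * pt _ G Y g
    rw [← pt_mul, ← pt_mul, (ev_central π u' hc _ _ _ x g).eq]

/-- The effect of `u'` does not depend on the lift. -/
theorem ev_indep [IsSeparated G.hom] [LocallyOfFinitePresentation G.hom] (hH : SGA3x.IsMultTypeFT H)
    (hconn : ∀ s : S, ConnectedSpace ↥(pullback π (Red.geomPt s)))
    (hc : ∀ (X : Over S') (g : X ⟶ Red.bc π G) (h : X ⟶ Red.bc π H), g * (h ≫ u') = (h ≫ u') * g)
    (X : Over S) (a b : X.left ⟶ S') (ha : a ≫ π = X.hom) (hb : b ≫ π = X.hom) (x : X ⟶ H) :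
    ev π u' X a ha x = ev π u' X b hb x := by
  let q : pullback π π ⟶ S := pullback.fst π π ≫ π
  obtain ⟨v₁, hm₁, -, hv₁⟩ := exists_uvia π u' q (pullback.fst π π) rfl hc
  obtain ⟨v₂, hm₂, hc₂, hv₂⟩ := exists_uvia π u' q (pullback.snd π π) pullback.condition.symm hc
  let d : Red.bc q H ⟶ Red.bc q G := v₁ * v₂⁻¹
  haveI : IsMonHom d := isMonHom_of_mul d fun Y x y => by
    simp only [d, MonObj.comp_mul, GrpObj.comp_inv, hm₁, hm₂, mul_inv_rev]
    rw [_root_.mul_assoc, _root_.mul_assoc (x ≫ v₁)]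
    congr 1
    exact (_root_.mul_assoc _ _ _).symm.trans (hc₂ Y ((y ≫ v₁) * (y ≫ v₂)⁻¹) x).inv_right.eq
  haveI : IsSeparated (Red.bc q G).hom := inferInstanceAs (IsSeparated (pullback.snd G.hom q))
  haveI : LocallyOfFinitePresentation (Red.bc q G).hom := inferInstanceAs (LocallyOfFinitePresentation (pullback.snd G.hom q))
  obtain ⟨U, hUcl, hU, hUT⟩ := TrivLocus.exists_clopen d (Or.inr inferInstance) (isMultTypeFT_bc q H hH)
  -- triviality on the diagonal
  have hδ : TrivLocus.Triv d (pullback.diagonal π) := by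
    intro Y r y
    obtain ⟨y, rfl⟩ := (pt q H Y).surjective y
    have he : Y.hom ≫ pullback.fst π π = Y.hom ≫ pullback.snd π π := by
      have hw : r.left ≫ pullback.diagonal π = Y.hom := Over.w r
      rw [← hw, Category.assoc, Category.assoc]
      simp
    show pt q H Y y ≫ (v₁ * v₂⁻¹) = 1
    rw [MonObj.comp_mul, GrpObj.comp_inv, hv₁, hv₂, mul_inv_eq_one]
    exact congrArg _ (ev_congr π u' _ _ he y)
  have hδU : ∀ w : S', (pullback.diagonal π).base w ∈ U := fun w => by
    rw [hU]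
    have h1 := (TrivLocus.triv_field d (S'.fromSpecResidueField w ≫ pullback.diagonal π)
      (IsLocalRing.closedPoint _)).mp (hδ.of_comp d (S'.fromSpecResidueField w) rfl)
    have h2 : (S'.fromSpecResidueField w ≫ pullback.diagonal π).base (IsLocalRing.closedPoint (S'.residueField w)) =
        (pullback.diagonal π).base w := by
      show (pullback.diagonal π).base ((S'.fromSpecResidueField w).base _) = _
      rw [Scheme.fromSpecResidueField_apply]
    have h3 : ∀ z, z = (pullback.diagonal π).base w → TrivLocus.Triv d ((pullback π π).fromSpecResidueField z) →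
        TrivLocus.Triv d ((pullback π π).fromSpecResidueField ((pullback.diagonal π).base w)) := fun _ e h => e ▸ h
    exact h3 _ h2 h1
  -- the fibres are connected
  have hall : ∀ z : ↥(pullback π π), z ∈ U := fun z => by
    let g := Red.geomPt (q.base z)
    let f := pullback.snd π g
    haveI := hconn (q.base z)
    haveI : GeometricallyConnected f := geometricallyConnected_of_isAlgClosed f
    haveI : ConnectedSpace ↥(pullback f f) := inferInstance
    let m : pullback f f ⟶ pullback π π := pullback.map f f π π (pullback.fst π g) (pullback.fst π g) g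
      pullback.condition.symm pullback.condition.symm
    obtain ⟨w⟩ : Nonempty ↥(pullback π g) := inferInstance
    have hne : (m.base ⁻¹' (U : Set ↥(pullback π π))).Nonempty := by
      refine ⟨(pullback.diagonal f).base w, ?_⟩
      show m.base ((pullback.diagonal f).base w) ∈ U
      have h1 : pullback.diagonal f ≫ m = pullback.fst π g ≫ pullback.diagonal π := by
        apply pullback.hom_ext <;>
          simp only [m, pullback.map, Category.assoc, pullback.lift_fst, pullback.lift_snd, pullback.diagonal_fst_assoc,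
            pullback.diagonal_snd_assoc, pullback.diagonal_fst, pullback.diagonal_snd, Category.comp_id]
      rw [← Scheme.Hom.comp_apply, h1, Scheme.Hom.comp_apply]
      exact hδU _
    have huniv := IsClopen.eq_univ
      (⟨hUcl.preimage m.continuous, U.isOpen.preimage m.continuous⟩ : IsClopen (m.base ⁻¹' (U : Set ↥(pullback π π)))) hne
    have hg : q.base z ∈ Set.range g.base := ⟨IsLocalRing.closedPoint _, by
      show (S.fromSpecResidueField (q.base z)).base _ = q.base z
      exact Scheme.fromSpecResidueField_apply _ _⟩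
    let n : pullback q g ⟶ pullback f f := pullback.lift
      (pullback.lift (pullback.fst q g ≫ pullback.fst π π) (pullback.snd q g)
        ((Category.assoc _ _ _).trans pullback.condition))
      (pullback.lift (pullback.fst q g ≫ pullback.snd π π) (pullback.snd q g) (by
        rw [Category.assoc, ← pullback.condition (f := π) (g := π)]; exact pullback.condition))
      (by simp only [f, pullback.lift_snd])
    have hnm : n ≫ m = pullback.fst q g := by
      apply pullback.hom_ext <;>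
        simp only [n, m, pullback.map, Category.assoc, pullback.lift_fst, pullback.lift_snd, pullback.lift_fst_assoc,
          pullback.lift_snd_assoc]
    obtain ⟨z₀, hz₀⟩ : z ∈ Set.range (pullback.fst q g).base := by
      rw [Scheme.Pullback.range_fst]; exact hg
    obtain ⟨z', hz'⟩ : z ∈ Set.range m.base := ⟨n.base z₀, by rw [← Scheme.Hom.comp_apply, hnm]; exact hz₀⟩
    exact hz' ▸ (huniv.ge (Set.mem_univ z'))
  -- conclusion
  have hUtop : U = ⊤ := eq_top_iff.mpr fun z _ => hall z
  haveI : IsIso U.ι := by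
    subst hUtop
    exact (inferInstance : IsIso (Scheme.topIso (pullback π π)).hom)
  have hT : TrivLocus.Triv d (𝟙 (pullback π π)) := hUT.of_comp d (inv U.ι) (IsIso.inv_hom_id _)
  let c : X.left ⟶ pullback π π := pullback.lift a b (ha.trans hb.symm)
  have hcq : c ≫ q = X.hom := by rw [← Category.assoc, pullback.lift_fst, ha]
  let Y : Over (pullback π π) := Over.mk c
  let i : X ⟶ (Over.map q).obj Y := Over.homMk (𝟙 _) ((Category.id_comp _).trans hcq)
  let j : (Over.map q).obj Y ⟶ X := Over.homMk (𝟙 _) ((Category.id_comp _).trans hcq.symm)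
  have hij : i ≫ j = 𝟙 X := Over.OverMorphism.ext (Category.id_comp _)
  have h1 : pt q H Y (j ≫ x) ≫ (v₁ * v₂⁻¹) = 1 := hT Y (Over.homMk Y.hom (Category.comp_id _)) _
  rw [MonObj.comp_mul, GrpObj.comp_inv, hv₁, hv₂, mul_inv_eq_one] at h1
  have h2 := congrArg (i ≫ ·) ((pt q G Y).injective h1)
  rw [← ev_nat π u' i (Y.hom ≫ pullback.fst π π) _ a ha (show 𝟙 _ ≫ c ≫ _ = a by rw [Category.id_comp, pullback.lift_fst]),
    ← ev_nat π u' i (Y.hom ≫ pullback.snd π π) _ b hb (show 𝟙 _ ≫ c ≫ _ = b by rw [Category.id_comp, pullback.lift_snd]), ← Category.assoc, hij, Category.id_comp] at h2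
  exact h2

/-- A central homomorphism descends, uniquely. -/
theorem existsUnique_desc [IsSeparated G.hom] [LocallyOfFinitePresentation G.hom] (hH : SGA3x.IsMultTypeFT H)
    (hπ : IsFpqcCov π) (hconn : ∀ s : S, ConnectedSpace ↥(pullback π (Red.geomPt s)))
    (hc : ∀ (X : Over S') (g : X ⟶ Red.bc π G) (h : X ⟶ Red.bc π H), g * (h ≫ u') = (h ≫ u') * g) :
    ∃! u : H ⟶ G, IsMonHom u ∧ (Over.pullback π).map u = u' := by
  let X₀ : Over S := (Over.map π).obj (Red.bc π H)
  let x₀ : X₀ ⟶ H := (pt π H _).symm (𝟙 _)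
  let g₀ : X₀ ⟶ G := ev π u' X₀ (Red.bc π H).hom rfl x₀
  have hx₀ : x₀.left = pullback.fst H.hom π := by
    show (((Over.mapPullbackAdj π).homEquiv _ _).symm (𝟙 (Red.bc π H))).left = _
    rw [Adjunction.homEquiv_counit]
    show CommaMorphism.left (𝟙 (Red.bc π H)) ≫ pullback.fst H.hom π = _
    exact Category.id_comp _
  have hcov : HasCovLift x₀.left := by
    rw [hx₀]
    have h1 := hπ.pullback_snd H.hom
    exact ⟨_, pullback.snd π H.hom, (pullbackSymmetry _ _).hom, pullbackSymmetry_hom_comp_fst _ _, h1⟩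
  haveI := hcov.epi
  obtain ⟨m, hm⟩ := hcov.exists_desc g₀.left fun {T} t₁ t₂ ht => by
    let X : Over S := Over.mk ((t₁ ≫ x₀.left) ≫ H.hom)
    let r₁ : X ⟶ X₀ := Over.homMk t₁ (by show t₁ ≫ _ = (t₁ ≫ _) ≫ _; rw [Category.assoc, Over.w x₀])
    let r₂ : X ⟶ X₀ := Over.homMk t₂ (by show t₂ ≫ _ = (t₁ ≫ _) ≫ _; rw [ht, Category.assoc, Over.w x₀])
    have hr : r₁ ≫ x₀ = r₂ ≫ x₀ := Over.OverMorphism.ext ht
    have hA : ∀ r : X ⟶ X₀, (r.left ≫ (Red.bc π H).hom) ≫ π = X.hom := fun r => by
      rw [Category.assoc]; exact Over.w r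
    have h1 : r₁ ≫ g₀ = r₂ ≫ g₀ := by
      rw [← ev_nat π u' r₁ _ rfl _ (hA r₁) rfl x₀, ← ev_nat π u' r₂ _ rfl _ (hA r₂) rfl x₀, hr]
      exact ev_indep π u' hH hconn hc _ _ _ _ _ _
    exact congrArg CommaMorphism.left h1
  let u : H ⟶ G := Over.homMk m (by
    rw [← cancel_epi x₀.left, reassoc_of% hm, Over.w g₀, Over.w x₀])
  have hu0 : x₀ ≫ u = g₀ := Over.OverMorphism.ext hm
  -- the effect of `u` on points with a lift
  have hu : ∀ (X : Over S) (a : X.left ⟶ S') (ha : a ≫ π = X.hom) (x : X ⟶ H), x ≫ u = ev π u' X a ha x := by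
    intro X a ha x
    let r : X ⟶ X₀ := toLift π X a ha ≫ (Over.map π).map (pt π H _ (ofLift π X a ha ≫ x))
    have hr : r ≫ x₀ = x := by
      have h1 : (Over.map π).map (pt π H _ (ofLift π X a ha ≫ x)) ≫ x₀ = ofLift π X a ha ≫ x :=
        (pt π H _).injective (by rw [pt_map_comp, Equiv.apply_symm_apply, Category.comp_id])
      rw [Category.assoc, h1, ← Category.assoc, toLift_ofLift, Category.id_comp]
    conv_lhs => rw [← hr, Category.assoc, hu0]
    rw [← ev_nat π u' r _ rfl a ha (by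
      show (𝟙 _ ≫ (pt π H _ (ofLift π X a ha ≫ x)).left) ≫ _ = a
      rw [Category.id_comp]; exact Over.w (pt π H (Over.mk a) (ofLift π X a ha ≫ x))), hr]
  have hbc : (Over.pullback π).map u = u' := by
    have h1 : pt π G _ (x₀ ≫ u) = (Over.pullback π).map u := by rw [pt_comp, Equiv.apply_symm_apply, Category.id_comp]
    rw [← h1, hu0]
    have h2 : toLift π X₀ (Red.bc π H).hom rfl = 𝟙 _ := Over.OverMorphism.ext rfl
    have h3 : ofLift π X₀ (Red.bc π H).hom rfl = 𝟙 _ := Over.OverMorphism.ext rfl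
    show pt π G _ (ev π u' X₀ _ _ x₀) = u'
    unfold ev
    erw [h2, Category.id_comp, Equiv.apply_symm_apply, h3, Category.id_comp, Equiv.apply_symm_apply, Category.id_comp]
  refine ⟨u, ⟨isMonHom_of_mul u fun X x y => ?_, hbc⟩, fun v hv => ?_⟩
  · apply Over.OverMorphism.ext
    haveI := (hπ.pullback_snd X.hom).epi
    rw [← cancel_epi (pullback.snd π X.hom)]
    let X' : Over S := Over.mk (pullback.snd π X.hom ≫ X.hom)
    let r : X' ⟶ X := Over.homMk (pullback.snd π X.hom) rfl
    have h1 : r ≫ (x * y) ≫ u = r ≫ ((x ≫ u) * (y ≫ u)) := by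
      rw [MonObj.comp_mul, ← Category.assoc, MonObj.comp_mul, ← Category.assoc, ← Category.assoc,
        hu X' (pullback.fst π X.hom) pullback.condition, hu X' (pullback.fst π X.hom) pullback.condition,
        hu X' (pullback.fst π X.hom) pullback.condition, ev_mul]
    exact congrArg CommaMorphism.left h1
  · apply Over.OverMorphism.ext
    have h1 : pt π G _ (x₀ ≫ v) = pt π G _ (x₀ ≫ u) := by
      rw [pt_comp, pt_comp, hv.2, hbc]
    rw [← cancel_epi x₀.left]
    exact congrArg CommaMorphism.left ((pt π G _).injective h1)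

end Groth.Agent.SGA3cLib.CentralDescent
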