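import Groth.Agent.SGA3cLib.WeilRes
import Groth.Agent.SGA3xLib.SepFibre
import Groth.Agent.S5356

/-!
# Transporters into closed subschemes, over a field or for essentially free sources
-/

set_option autoImplicit false
set_option backward.isDefEq.respectTransparency.types false

universe u

open CategoryTheory CategoryTheory.Limits MonoidalCategory CartesianMonoidalCategory MonObj GrpObj AlgebraicGeometry

namespace Groth.Agent.SGA3cLib

variable {S : Scheme.{u}}

/-- The points of `P` at which a family of maps `X ⟶ A` lands in a closed subscheme form a closed subscheme,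
for `X` essentially free. -/
theorem exists_transporter {X P A Y : Over S} (hX : SGA3x.IsEssentiallyFree X.hom) (φ : X ⊗ P ⟶ A) (y : Y ⟶ A)
    [IsClosedImmersion y.left] :
    ∃ (T : Over S) (t : T ⟶ P), IsClosedImmersion t.left ∧
      ∀ (S' : Over S) (g : S' ⟶ P), (∃ z : S' ⟶ T, z ≫ t = g) ↔
        ∀ (S'' : Over S) (s : S'' ⟶ S') (x : S'' ⟶ X), ∃ x' : S'' ⟶ Y, lift x (s ≫ g) ≫ φ = x' ≫ y := by
  haveI : Mono y := (Over.forget S).mono_of_mono_map (inferInstanceAs (Mono y.left))
  let j : pullback φ.left y.left ⟶ (X ⊗ P).left := pullback.fst _ _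
  haveI : IsClosedImmersion j := MorphismProperty.pullback_fst (P := @IsClosedImmersion) _ _ inferInstance
  obtain ⟨T, t, ht, hT, -⟩ := WeilRes.exists_closedImmersion (snd X P).left j
    (S5356.essentiallyFree_baseChange X.hom P.hom hX)
  let T' : Over S := Over.mk (t ≫ P.hom)
  let t' : T' ⟶ P := Over.homMk t rfl
  haveI : Mono t' := (Over.forget S).mono_of_mono_map (inferInstanceAs (Mono t))
  refine ⟨T', t', ht, fun S' g => ?_⟩
  have hsq : IsPullback (X ◁ g).left (snd X S').left (snd X P).left g.left := by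
    refine IsPullback.of_right (h₁₂ := (fst X P).left) (v₁₃ := X.hom) (h₂₂ := P.hom) ?_
      (congrArg CommaMorphism.left (whiskerLeft_snd X g)) (IsPullback.of_hasPullback X.hom P.hom)
    rw [show (X ◁ g).left ≫ (fst X P).left = (fst X S').left from congrArg CommaMorphism.left (whiskerLeft_fst X g), Over.w g]
    exact IsPullback.of_hasPullback X.hom S'.hom
  have h1 : WeilRes.Factors (snd X P).left j S'.left g.left ↔ ∃ x' : X ⊗ S' ⟶ Y, (X ◁ g) ≫ φ = x' ≫ y := by
    constructor
    · rintro ⟨l, hl⟩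
      let l' := hsq.isoPullback.hom ≫ l ≫ pullback.snd φ.left y.left
      have hl' : l' ≫ y.left = ((X ◁ g) ≫ φ).left := by
        change l' ≫ y.left = (X ◁ g).left ≫ φ.left
        simp only [l', Category.assoc, ← pullback.condition]
        change hsq.isoPullback.hom ≫ l ≫ j ≫ φ.left = _
        rw [reassoc_of% hl, IsPullback.isoPullback_hom_fst_assoc]
      exact ⟨Over.homMk l' (by rw [← Over.w y, ← Category.assoc, hl']; exact Over.w ((X ◁ g) ≫ φ)),
        Over.OverMorphism.ext hl'.symm⟩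
    · rintro ⟨x', hx'⟩
      refine ⟨hsq.isoPullback.inv ≫ pullback.lift (X ◁ g).left x'.left (congrArg CommaMorphism.left hx'), ?_⟩
      rw [Category.assoc, pullback.lift_fst, IsPullback.isoPullback_inv_fst]
  constructor
  · rintro ⟨z, hz⟩ S'' s x
    obtain ⟨x', hx'⟩ := h1.1 ((hT _ _).2 ⟨z.left, congrArg CommaMorphism.left hz⟩)
    refine ⟨lift x s ≫ x', ?_⟩
    rw [Category.assoc, ← hx', ← Category.assoc, lift_whiskerLeft]
  · intro h
    obtain ⟨x', hx'⟩ := h (X ⊗ S') (snd X S') (fst X S')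
    have e : lift (fst X S') (snd X S' ≫ g) = X ◁ g := by
      apply CartesianMonoidalCategory.hom_ext <;> simp
    rw [e] at hx'
    obtain ⟨z, hz⟩ := (hT _ _).1 (h1.2 ⟨x', hx'⟩)
    exact ⟨Over.homMk z (by change z ≫ t ≫ P.hom = _; rw [← Category.assoc, hz]; exact Over.w g),
      Over.OverMorphism.ext hz⟩

/-- The points at which two families of maps into a separated object agree. -/
theorem exists_transporter_eq {X P A : Over S} (hX : SGA3x.IsEssentiallyFree X.hom) [IsSeparated A.hom]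
    (φ ψ : X ⊗ P ⟶ A) :
    ∃ (T : Over S) (t : T ⟶ P), IsClosedImmersion t.left ∧
      ∀ (S' : Over S) (g : S' ⟶ P), (∃ z : S' ⟶ T, z ≫ t = g) ↔
        ∀ (S'' : Over S) (s : S'' ⟶ S') (x : S'' ⟶ X), lift x (s ≫ g) ≫ φ = lift x (s ≫ g) ≫ ψ := by
  let Δ : A ⟶ A ⊗ A := lift (𝟙 A) (𝟙 A)
  haveI : IsClosedImmersion Δ.left := by
    have h : Δ.left = pullback.diagonal A.hom := by
      apply pullback.hom_ext
      · rw [pullback.diagonal_fst]; exact congrArg (fun t : A ⟶ A => t.left) (lift_fst (𝟙 A) (𝟙 A))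
      · rw [pullback.diagonal_snd]; exact congrArg (fun t : A ⟶ A => t.left) (lift_snd (𝟙 A) (𝟙 A))
    rw [h]; exact IsSeparated.isClosedImmersion_diagonal
  obtain ⟨T, t, ht, hT⟩ := exists_transporter hX (lift φ ψ) Δ
  refine ⟨T, t, ht, fun S' g => (hT S' g).trans (forall₃_congr fun S'' s x => ?_)⟩
  constructor
  · rintro ⟨x', hx'⟩
    have h1 := congrArg (· ≫ fst A A) hx'
    have h2 := congrArg (· ≫ snd A A) hx'
    simp [Δ] at h1 h2
    rw [h1, h2]
  · intro h
    refine ⟨lift x (s ≫ g) ≫ φ, ?_⟩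
    simp [Δ, ← h]

/-- The intersection of two closed subschemes, on points. -/
theorem exists_inter {P T₁ T₂ : Over S} (t₁ : T₁ ⟶ P) (t₂ : T₂ ⟶ P) [IsClosedImmersion t₁.left] [IsClosedImmersion t₂.left] :
    ∃ (T : Over S) (t : T ⟶ P), IsClosedImmersion t.left ∧
      ∀ (S' : Over S) (g : S' ⟶ P), (∃ z : S' ⟶ T, z ≫ t = g) ↔
        (∃ z : S' ⟶ T₁, z ≫ t₁ = g) ∧ (∃ z : S' ⟶ T₂, z ≫ t₂ = g) := by
  let T : Over S := Over.mk ((pullback.fst t₁.left t₂.left ≫ t₁.left) ≫ P.hom)
  let t : T ⟶ P := Over.homMk (pullback.fst t₁.left t₂.left ≫ t₁.left) rfl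
  haveI : IsClosedImmersion (pullback.fst t₁.left t₂.left) :=
    MorphismProperty.pullback_fst (P := @IsClosedImmersion) _ _ inferInstance
  refine ⟨T, t, inferInstanceAs (IsClosedImmersion (pullback.fst t₁.left t₂.left ≫ t₁.left)), fun S' g => ⟨?_, ?_⟩⟩
  · rintro ⟨z, rfl⟩
    refine ⟨⟨z ≫ Over.homMk (pullback.fst t₁.left t₂.left) (by
        change pullback.fst t₁.left t₂.left ≫ T₁.hom = (_ ≫ t₁.left) ≫ P.hom
        rw [Category.assoc, Over.w t₁]), ?_⟩,
      ⟨z ≫ Over.homMk (pullback.snd t₁.left t₂.left) (by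
        change pullback.snd t₁.left t₂.left ≫ T₂.hom = (_ ≫ t₁.left) ≫ P.hom
        rw [pullback.condition, Category.assoc, Over.w t₂]), ?_⟩⟩
    · apply Over.OverMorphism.ext
      change (z.left ≫ _) ≫ t₁.left = z.left ≫ _ ≫ t₁.left
      exact Category.assoc _ _ _
    · apply Over.OverMorphism.ext
      change (z.left ≫ _) ≫ t₂.left = z.left ≫ _ ≫ t₁.left
      exact (Category.assoc _ _ _).trans (congrArg (z.left ≫ ·) pullback.condition.symm)
  · rintro ⟨⟨z₁, h₁⟩, ⟨z₂, h₂⟩⟩
    have e₁ : z₁.left ≫ t₁.left = g.left := congrArg CommaMorphism.left h₁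
    have e₂ : z₂.left ≫ t₂.left = g.left := congrArg CommaMorphism.left h₂
    refine ⟨Over.homMk (pullback.lift z₁.left z₂.left (e₁.trans e₂.symm)) ?_, ?_⟩
    · change pullback.lift _ _ _ ≫ (_ ≫ t₁.left) ≫ P.hom = _
      rw [← Category.assoc, pullback.lift_fst_assoc, e₁]
      exact Over.w g
    · apply Over.OverMorphism.ext
      change pullback.lift _ _ _ ≫ _ ≫ t₁.left = g.left
      rw [pullback.lift_fst_assoc, e₁]

/-- A monomorphism whose points form subgroups is a subgroup object. -/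
theorem exists_grpObj_of_subgroup {G N : Over S} [GrpObj G] (n : N ⟶ G) [Mono n]
    (h1 : ∀ T : Over S, ∃ z : T ⟶ N, z ≫ n = (1 : T ⟶ G))
    (hmul : ∀ (T : Over S) (a b : T ⟶ N), ∃ z : T ⟶ N, z ≫ n = (a ≫ n) * (b ≫ n))
    (hinv : ∀ (T : Over S) (a : T ⟶ N), ∃ z : T ⟶ N, z ≫ n = (a ≫ n)⁻¹) :
    ∃ _ : GrpObj N, IsMonHom n := by
  obtain ⟨e, he⟩ := h1 (𝟙_ (Over S))
  obtain ⟨m, hm⟩ := hmul (N ⊗ N) (fst N N) (snd N N)
  obtain ⟨i, hi⟩ := hinv N (𝟙 N)
  rw [Category.id_comp] at hi
  letI inst : MonObj N :=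
    { one := e
      mul := m
      one_mul := by
        rw [← cancel_mono n, Category.assoc, hm]
        simp [MonObj.comp_mul, he, Hom.one_def]
        rw [toUnit_unique (fst (𝟙_ (Over S)) N) (toUnit _), ← Hom.one_def, _root_.one_mul, leftUnitor_hom]
      mul_one := by
        rw [← cancel_mono n, Category.assoc, hm]
        simp [MonObj.comp_mul, he, Hom.one_def]
        rw [toUnit_unique (snd N (𝟙_ (Over S))) (toUnit _), ← Hom.one_def, _root_.mul_one, rightUnitor_hom]
      mul_assoc := by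
        rw [← cancel_mono n, Category.assoc, Category.assoc, Category.assoc, hm]
        simp only [MonObj.comp_mul, ← Category.assoc, whiskerRight_fst, whiskerRight_snd, whiskerLeft_fst,
          whiskerLeft_snd, associator_hom_fst, associator_hom_snd_fst, associator_hom_snd_snd]
        simp only [Category.assoc, hm, MonObj.comp_mul]
        simp only [← Category.assoc, associator_hom_fst, associator_hom_snd_fst, associator_hom_snd_snd]
        rw [_root_.mul_assoc]
        simp only [Category.assoc, associator_hom_snd_fst_assoc, associator_hom_snd_snd_assoc] }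
  have hmon : IsMonHom n := by
    refine ⟨?_, ?_⟩
    · change e ≫ n = η[G]
      rw [he, Hom.one_def, toUnit_unique (toUnit (𝟙_ (Over S))) (𝟙 _), Category.id_comp]
    · change m ≫ n = (n ⊗ₘ n) ≫ μ[G]
      rw [hm, Hom.mul_def]
      simp [tensorHom_def, comp_lift, lift_fst_snd]
  refine ⟨{ inv := i, left_inv := ?_, right_inv := ?_ }, hmon⟩
  · rw [← cancel_mono n, Category.assoc]
    change lift i (𝟙 N) ≫ m ≫ n = (toUnit N ≫ e) ≫ n
    rw [hm, Category.assoc, he]
    simp [MonObj.comp_mul, hi, Hom.one_def]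
  · rw [← cancel_mono n, Category.assoc]
    change lift (𝟙 N) i ≫ m ≫ n = (toUnit N ≫ e) ≫ n
    rw [hm, Category.assoc, he]
    simp [MonObj.comp_mul, hi, Hom.one_def]

end Groth.Agent.SGA3cLib
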