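import Groth.Agent.SGA3cLib.TrivLocusEq
import Groth.Agent.SGA3cLib.CentralEqBasic
import Mathlib.RingTheory.Spectrum.Prime.ConstructibleSet
import Mathlib.AlgebraicGeometry.Morphisms.Separated

/-! The locus where two subgroups of multiplicative type, one of them central, coincide is open and closed. -/

set_option linter.style.haveILetI false
set_option autoImplicit false

universe u

open CategoryTheory CategoryTheory.Limits MonoidalCategory CartesianMonoidalCategory MonObj AlgebraicGeometry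

noncomputable section

namespace Groth.Agent.SGA3cLib.CentralEq

variable {S : Scheme.{u}} {G H₁ H₂ : Over S}

/-- The fibre product of two objects over a third one. -/
def inter (i₁ : H₁ ⟶ G) (i₂ : H₂ ⟶ G) : Over S := Over.mk (pullback.fst i₁.left i₂.left ≫ H₁.hom)

/-- First projection of `inter`. -/
def pr₁ (i₁ : H₁ ⟶ G) (i₂ : H₂ ⟶ G) : inter i₁ i₂ ⟶ H₁ := Over.homMk (pullback.fst i₁.left i₂.left) rfl

/-- Second projection of `inter`. -/
def pr₂ (i₁ : H₁ ⟶ G) (i₂ : H₂ ⟶ G) : inter i₁ i₂ ⟶ H₂ :=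
  Over.homMk (pullback.snd i₁.left i₂.left) (by
    show pullback.snd i₁.left i₂.left ≫ H₂.hom = pullback.fst i₁.left i₂.left ≫ H₁.hom
    rw [← Over.w i₁, ← Over.w i₂, pullback.condition_assoc])

theorem isPullback_inter (i₁ : H₁ ⟶ G) (i₂ : H₂ ⟶ G) : IsPullback (pr₁ i₁ i₂) (pr₂ i₁ i₂) i₁ i₂ :=
  IsPullback.of_map (Over.forget S) (Over.OverMorphism.ext pullback.condition)
    (IsPullback.of_hasPullback i₁.left i₂.left)

/-- The two subobjects coincide above `g`. -/
def Good (i₁ : H₁ ⟶ G) (i₂ : H₂ ⟶ G) {T : Scheme.{u}} (g : T ⟶ S) : Prop :=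
  IsIso ((Over.pullback g).map (pr₁ i₁ i₂)).left ∧ IsIso ((Over.pullback g).map (pr₂ i₁ i₂)).left

variable (i₁ : H₁ ⟶ G) (i₂ : H₂ ⟶ G)

theorem Good.of_comp {T T' : Scheme.{u}} {g : T ⟶ S} (h : Good i₁ i₂ g) (k : T' ⟶ T) {g' : T' ⟶ S} (hk : k ≫ g = g') :
    Good i₁ i₂ g' :=
  ⟨MultHomLocus.of_comp _ (MorphismProperty.isomorphisms _) g k g' hk h.1,
    MultHomLocus.of_comp _ (MorphismProperty.isomorphisms _) g k g' hk h.2⟩

theorem good_iff [Mono i₁.left] [Mono i₂.left] {T : Scheme.{u}} (g : T ⟶ S) :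
    Good i₁ i₂ g ↔ ∃ ψ : Red.bc g H₁ ≅ Red.bc g H₂,
      ψ.hom ≫ (Over.pullback g).map i₂ = (Over.pullback g).map i₁ := by
  haveI := mono_map g i₁
  haveI := mono_map g i₂
  unfold Good
  rw [isIso_left_iff, isIso_left_iff]
  exact isIso_pr_iff (isPullback_map g (isPullback_inter i₁ i₂))

theorem good_field {K : Type u} [Field K] (ω : Spec (CommRingCat.of K) ⟶ S) (x : Spec (CommRingCat.of K)) :
    Good i₁ i₂ ω ↔ Good i₁ i₂ (S.fromSpecResidueField (ω.base x)) :=
  and_congr (field_iff _ (MorphismProperty.isomorphisms _) ω x) (field_iff _ (MorphismProperty.isomorphisms _) ω x)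

/-- The kernel of the difference is cut out by a closed immersion of finite presentation. -/
theorem exists_graph [IsSeparated G.hom] (hG : IsLocallyNoetherian S ∨ LocallyOfFiniteType G.hom)
    [LocallyOfFinitePresentation H₁.hom] [LocallyOfFinitePresentation H₂.hom] :
    IsClosedImmersion (pullback.mapDesc i₁.left i₂.left G.hom) ∧
      LocallyOfFinitePresentation (pullback.mapDesc i₁.left i₂.left G.hom) := by
  refine ⟨inferInstance, ?_⟩
  rcases hG with h | h
  · haveI := h
    haveI : LocallyOfFiniteType (i₁.left ≫ G.hom) := by rw [Over.w i₁]; infer_instance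
    haveI : LocallyOfFiniteType (i₂.left ≫ G.hom) := by rw [Over.w i₂]; infer_instance
    haveI : IsLocallyNoetherian (pullback (i₁.left ≫ G.hom) (i₂.left ≫ G.hom)) :=
      LocallyOfFiniteType.isLocallyNoetherian (pullback.fst (i₁.left ≫ G.hom) (i₂.left ≫ G.hom) ≫ i₁.left ≫ G.hom)
    exact LocallyOfFinitePresentation.iff_locallyOfFiniteType.mpr inferInstance
  · haveI := h
    haveI : LocallyOfFinitePresentation (pullback.diagonal G.hom ≫ pullback.fst G.hom G.hom) := by
      rw [pullback.diagonal_fst]; infer_instance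
    haveI : LocallyOfFinitePresentation (pullback.diagonal G.hom) :=
      EGA43.Limit.locallyOfFinitePresentation_of_comp _ (pullback.fst G.hom G.hom)
    exact MorphismProperty.of_isPullback (pullback_map_diagonal_isPullback i₁.left i₂.left G.hom) inferInstance

variable [GrpObj G] [GrpObj H₁] [GrpObj H₂] [IsMonHom i₁] [IsMonHom i₂] [Mono i₁.left] [Mono i₂.left]

/-- Over an affine chart splitting both groups the coincidence locus is cut out by an ideal, locally trivial along it. -/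
theorem exists_chart [IsSeparated G.hom] (hG : IsLocallyNoetherian S ∨ LocallyOfFiniteType G.hom)
    [LocallyOfFinitePresentation H₁.hom] [LocallyOfFinitePresentation H₂.hom]
    (hc : ∀ (X : Over S) (g : X ⟶ G) (h : X ⟶ H₁), g * (h ≫ i₁) = (h ≫ i₁) * g)
    (R : Type u) [CommRing R] (g : Spec (CommRingCat.of R) ⟶ S)
    {M₁ M₂ : Type} [AddCommGroup M₁] [AddCommGroup M₂] [AddGroup.FG M₁] [AddGroup.FG M₂]
    (σ₁ : Red.bc g H₁ ≅ Red.DS (Spec (CommRingCat.of R)) M₁) [IsMonHom σ₁.hom]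
    (σ₂ : Red.bc g H₂ ≅ Red.DS (Spec (CommRingCat.of R)) M₂) [IsMonHom σ₂.hom]
    (p : PrimeSpectrum R)
    (hp : Good i₁ i₂ (Spec.map (CommRingCat.ofHom (algebraMap R p.asIdeal.ResidueField)) ≫ g)) :
    ∃ c : Ideal R, c ≤ p.asIdeal ∧
      (∀ (A : Type u) [CommRing A] (α : R →+* A), c ≤ RingHom.ker α → Good i₁ i₂ (Spec.map (CommRingCat.ofHom α) ≫ g)) ∧
      ∀ q : PrimeSpectrum R, c ≤ q.asIdeal → ∃ f ∉ q.asIdeal, ∀ x ∈ c, f * x = 0 := by
  let k := Spec.map (CommRingCat.ofHom (algebraMap R p.asIdeal.ResidueField))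
  let a : Red.bc g H₁ ⟶ Red.bc g G := (Over.pullback g).map i₁
  let b : Red.bc g H₂ ⟶ Red.bc g G := (Over.pullback g).map i₂
  haveI : IsMonHom a := inferInstanceAs (IsMonHom ((Over.pullback g).map i₁))
  haveI : IsMonHom b := inferInstanceAs (IsMonHom ((Over.pullback g).map i₂))
  haveI : Mono a := mono_map g i₁
  haveI : Mono b := mono_map g i₂
  have hsq := isPullback_map g (isPullback_inter i₁ i₂)
  -- a property on a further base change
  have hgood : ∀ {T : Scheme.{u}} (k : T ⟶ Spec (CommRingCat.of R)),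
      Good i₁ i₂ (k ≫ g) ↔ ∃ ψ : (Over.pullback k).obj (Red.bc g H₁) ≅ (Over.pullback k).obj (Red.bc g H₂),
        ψ.hom ≫ (Over.pullback k).map b = (Over.pullback k).map a := by
    intro T k
    haveI : (Over.pullback k).IsRightAdjoint := (Over.mapPullbackAdj k).isRightAdjoint
    haveI : Mono ((Over.pullback k).map a) := inferInstance
    haveI : Mono ((Over.pullback k).map b) := inferInstance
    rw [← isIso_pr_iff (isPullback_map k hsq), ← isIso_left_iff, ← isIso_left_iff]
    exact and_congr (MultHomLocus.iff_map_map _ (MorphismProperty.isomorphisms _) g k _ rfl).symm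
      (MultHomLocus.iff_map_map _ (MorphismProperty.isomorphisms _) g k _ rfl).symm
  obtain ⟨ψ, hψ⟩ := (hgood k).mp hp
  obtain ⟨cD, hcD, hcnat⟩ := exists_bc_DS k
  -- the homomorphism of character groups
  haveI : (Over.pullback k).IsRightAdjoint := (Over.mapPullbackAdj k).isRightAdjoint
  haveI : Mono ((Over.pullback k).map b) := inferInstance
  haveI : IsMonHom ((Over.pullback k).map a) := inferInstanceAs (IsMonHom ((Over.pullback k).map a))
  haveI : IsMonHom ((Over.pullback k).map b) := inferInstanceAs (IsMonHom ((Over.pullback k).map b))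
  haveI hψm : IsMonHom ψ.hom := BCPoints.isMonHom_of_mul ψ.hom fun X x y => by
    rw [← cancel_mono ((Over.pullback k).map b)]
    refine Eq.trans ?_ (MonObj.mul_comp (x ≫ ψ.hom) (y ≫ ψ.hom) ((Over.pullback k).map b)).symm
    rw [Category.assoc, Category.assoc, Category.assoc, hψ]
    exact MonObj.mul_comp x y _
  haveI := hcD M₁
  haveI := hcD M₂
  haveI : IsMonHom ((Over.pullback k).map σ₁.inv) := inferInstanceAs (IsMonHom ((Over.pullback k).map σ₁.inv))
  haveI : IsMonHom ((Over.pullback k).map σ₂.hom) := inferInstanceAs (IsMonHom ((Over.pullback k).map σ₂.hom))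
  let u : Red.DS (Spec (CommRingCat.of p.asIdeal.ResidueField)) M₁ ⟶ Red.DS (Spec (CommRingCat.of p.asIdeal.ResidueField)) M₂ :=
    (cD M₁).inv ≫ (Over.pullback k).map σ₁.inv ≫ ψ.hom ≫ (Over.pullback k).map σ₂.hom ≫ (cD M₂).hom
  haveI : IsMonHom u := inferInstance
  haveI : IsIso u := inferInstance
  obtain ⟨φ, hφ, huφ⟩ := exists_addEquiv u
  let D := Red.DSmap (Spec (CommRingCat.of R)) φ
  haveI : IsIso D := (isIso_left_iff D).mp (MultHomLocus.isIso_of_bijective φ hφ _)
  haveI : IsMonHom D := BCPoints.isMonHom_of_mul D fun X x y => dsFn_injective (MonoidHom.ext fun m => by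
    rw [S5427.dsFn_DSmap, dsFn_mul, dsFn_mul, S5427.dsFn_DSmap, S5427.dsFn_DSmap])
  let θ : Red.bc g H₁ ⟶ Red.bc g H₂ := σ₁.hom ≫ D ≫ σ₂.inv
  haveI : IsMonHom θ := inferInstance
  haveI : IsIso θ := inferInstance
  have hθk : (Over.pullback k).map θ = ψ.hom := by
    have h1 : (Over.pullback k).map D = (cD M₁).hom ≫ u ≫ (cD M₂).inv := by
      rw [huφ, ← Category.assoc, ← hcnat M₁ M₂ φ, Category.assoc, Iso.hom_inv_id, Category.comp_id]
    rw [Functor.map_comp, Functor.map_comp, h1]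
    simp only [u, Category.assoc, Iso.hom_inv_id_assoc, Iso.hom_inv_id, Category.comp_id]
    rw [← Functor.map_comp_assoc, Iso.hom_inv_id, CategoryTheory.Functor.map_id]
    rw [Category.id_comp, ← Functor.map_comp, Iso.hom_inv_id, CategoryTheory.Functor.map_id, Category.comp_id]
  -- the difference
  have hcR : ∀ (X : Over (Spec (CommRingCat.of R))) (x : X ⟶ Red.bc g G) (h : X ⟶ Red.bc g H₁),
      x * (h ≫ a) = (h ≫ a) * x := by
    intro X x h
    obtain ⟨x, rfl⟩ := (BCPoints.pt g G X).surjective x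
    obtain ⟨h, rfl⟩ := (BCPoints.pt g H₁ X).surjective h
    rw [← BCPoints.pt_comp, ← BCPoints.pt_mul, ← BCPoints.pt_mul, hc]
  have hcomm : ∀ (X : Over (Spec (CommRingCat.of R))) (x y : X ⟶ Red.bc g H₁), x * y = y * x := by
    intro X x y
    rw [← cancel_mono σ₁.hom]
    exact (MonObj.mul_comp x y σ₁.hom).trans ((ds_comm _ _).trans (MonObj.mul_comp y x σ₁.hom).symm)
  let d : Red.bc g H₁ ⟶ Red.bc g G := a * (θ ≫ b)⁻¹
  haveI : IsMonHom d := BCPoints.isMonHom_of_mul d fun X x y => by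
    simp only [d, MonObj.comp_mul, GrpObj.comp_inv]
    have e : (x * y) ≫ θ ≫ b = (y ≫ θ ≫ b) * (x ≫ θ ≫ b) := by rw [hcomm, MonObj.mul_comp]
    rw [MonObj.mul_comp, e, mul_inv_rev, _root_.mul_assoc (x ≫ a), ← _root_.mul_assoc (y ≫ a), ← hcR X (x ≫ θ ≫ b)⁻¹ y]
    simp only [_root_.mul_assoc]
  have hd : ∀ (X : Over (Spec (CommRingCat.of R))) (x : X ⟶ Red.bc g H₁), x ≫ d = 1 ↔ x ≫ a = x ≫ θ ≫ b := by
    intro X x
    simp only [d, MonObj.comp_mul, GrpObj.comp_inv, mul_inv_eq_one]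
  haveI : IsSeparated (Red.bc g G).hom := inferInstanceAs (IsSeparated (pullback.snd G.hom g))
  -- the equalizer
  have heq : ∃ (Z : Scheme.{u}) (e : Z ⟶ (Red.bc g H₁).left), IsClosedImmersion e ∧ LocallyOfFinitePresentation e ∧
      ∀ (X : Over (Spec (CommRingCat.of R))) (x : X ⟶ Red.bc g H₁), x ≫ d = 1 ↔ ∃ l : X.left ⟶ Z, l ≫ e = x.left := by
    obtain ⟨hcl, hfp⟩ := exists_graph i₁ i₂ hG
    let pr : ∀ H : Over S, (Red.bc g H).left ⟶ H.left := fun H => pullback.fst H.hom g
    have hpr : ∀ (H H' : Over S) (f : H ⟶ H'), ((Over.pullback g).map f).left ≫ pr H' = pr H ≫ f.left :=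
      fun H H' f => MultHomLocus.map_left_fst f g
    let r : (Red.bc g H₁).left ⟶ pullback (i₁.left ≫ G.hom) (i₂.left ≫ G.hom) :=
      pullback.lift (pr H₁) (θ.left ≫ pr H₂) (by
        rw [Category.assoc, Over.w i₁, Over.w i₂]
        show pullback.fst H₁.hom g ≫ _ = θ.left ≫ pullback.fst H₂.hom g ≫ _
        rw [pullback.condition, pullback.condition]
        exact (congrArg (· ≫ g) (Over.w θ)).symm.trans (Category.assoc _ _ _))
    refine ⟨_, pullback.snd (pullback.mapDesc i₁.left i₂.left G.hom) r, inferInstance, inferInstance, fun X x => ?_⟩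
    rw [hd]
    constructor
    · intro h
      have h' : x.left ≫ pr H₁ ≫ i₁.left = (x.left ≫ θ.left ≫ pr H₂) ≫ i₂.left := by
        simp only [Category.assoc, ← hpr]
        exact congrArg (fun f => CommaMorphism.left f ≫ pr G) h 
      refine ⟨pullback.lift (pullback.lift (x.left ≫ pr H₁) (x.left ≫ θ.left ≫ pr H₂)
        (by rw [Category.assoc]; exact h')) x.left ?_, pullback.lift_snd _ _ _⟩
      apply pullback.hom_ext
      · simp only [r, pullback.mapDesc, pullback.map, Category.assoc, pullback.lift_fst, pullback.lift_fst_assoc, Category.comp_id]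
      · simp only [r, pullback.mapDesc, pullback.map, Category.assoc, pullback.lift_snd, pullback.lift_snd_assoc, Category.comp_id]
    · rintro ⟨l, hl⟩
      let m := l ≫ pullback.fst (pullback.mapDesc i₁.left i₂.left G.hom) r
      have hm : m ≫ pullback.mapDesc i₁.left i₂.left G.hom = x.left ≫ r := by
        rw [← hl, Category.assoc, Category.assoc, pullback.condition]
      have e1 : m ≫ pullback.fst i₁.left i₂.left = x.left ≫ pr H₁ := by
        have := congrArg (· ≫ pullback.fst _ _) hm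
        simpa only [r, pullback.mapDesc, pullback.map, Category.assoc, pullback.lift_fst, pullback.lift_snd, pullback.lift_fst_assoc, pullback.lift_snd_assoc, Category.comp_id] using this
      have e2 : m ≫ pullback.snd i₁.left i₂.left = x.left ≫ θ.left ≫ pr H₂ := by
        have := congrArg (· ≫ pullback.snd _ _) hm
        simpa only [r, pullback.mapDesc, pullback.map, Category.assoc, pullback.lift_fst, pullback.lift_snd, pullback.lift_fst_assoc, pullback.lift_snd_assoc, Category.comp_id] using this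
      apply Over.OverMorphism.ext
      apply pullback.hom_ext
      · show (x.left ≫ a.left) ≫ pr G = (x.left ≫ θ.left ≫ b.left) ≫ pr G
        simp only [Category.assoc, a, b, hpr]
        rw [← reassoc_of% e1, ← reassoc_of% e2, pullback.condition]
      · exact (Over.w (x ≫ a)).trans (Over.w (x ≫ θ ≫ b)).symm
  let e₀ : Red.bc (𝟙 (Spec (CommRingCat.of R))) (Red.bc g H₁) ≅ Red.DS (Spec (CommRingCat.of R)) M₁ :=
    (GrpBC.bcCongr g (𝟙 (Spec (CommRingCat.of R))) g (Category.id_comp g)).app H₁ ≪≫ σ₁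
  haveI : IsMonHom e₀.hom := by
    let b₀ : Red.bc (𝟙 (Spec (CommRingCat.of R))) (Red.bc g H₁) ≅ Red.bc g H₁ :=
      (GrpBC.bcCongr g (𝟙 (Spec (CommRingCat.of R))) g (Category.id_comp g)).app H₁
    haveI : IsMonHom b₀.hom := (GrpBC.isMonHom_app _ H₁).1
    show IsMonHom (b₀.hom ≫ σ₁.hom)
    infer_instance
  obtain ⟨c, hc1, hc2⟩ := TrivLocusEq.exists_chart d heq (𝟙 (Spec (CommRingCat.of R))) (M := M₁)
    (Grp.mkIso e₀ (IsMonHom.one_hom _) (IsMonHom.mul_hom _)) R (𝟙 (Spec (CommRingCat.of R)))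
  have hdk : ∀ {T : Scheme.{u}} (k : T ⟶ Spec (CommRingCat.of R)),
      TrivLocus.Triv d k ↔ (Over.pullback k).map θ ≫ (Over.pullback k).map b = (Over.pullback k).map a := by
    intro T k
    rw [TrivLocus.triv_iff_map]
    constructor
    · intro h
      rw [← Functor.map_comp]
      refine (mul_inv_eq_one.mp ?_).symm
      rw [← h]
      simp only [d, Functor.map_mul]
      congr 1
      exact (map_inv (MonoidHom.mk' (fun f : Red.bc g H₁ ⟶ Red.bc g G => (Over.pullback k).map f)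
        (fun f f' => Functor.map_mul ..)) (θ ≫ b)).symm
    · intro h
      simp only [d, Functor.map_mul]
      rw [show (Over.pullback k).map (θ ≫ b)⁻¹ = ((Over.pullback k).map (θ ≫ b))⁻¹ from
        map_inv (MonoidHom.mk' (fun f : Red.bc g H₁ ⟶ Red.bc g G => (Over.pullback k).map f)
          (fun f f' => Functor.map_mul ..)) (θ ≫ b), Functor.map_comp, h, mul_inv_cancel]
  refine ⟨c, ?_, fun A _ α hα => ?_, hc2⟩
  · have h1 : TrivLocus.Triv d k := (hdk k).mpr (by rw [hθk, hψ])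
    have h2 := (hc1 p.asIdeal.ResidueField (algebraMap R _)).mp (by
      rw [Category.id_comp, Category.comp_id]; exact h1)
    rwa [Ideal.ker_algebraMap_residueField] at h2
  · refine (hgood _).mpr ⟨(Over.pullback (Spec.map (CommRingCat.ofHom α))).mapIso (asIso θ), (hdk _).mp ?_⟩
    have h3 := (hc1 A α).mpr hα
    rwa [Category.id_comp, Category.comp_id] at h3

/-- The coincidence locus is open and closed, and the subgroups coincide on it. -/
theorem exists_clopen [IsSeparated G.hom] (hG : IsLocallyNoetherian S ∨ LocallyOfFiniteType G.hom)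
    (h₁ : SGA3x.IsMultTypeFT H₁) (h₂ : SGA3x.IsMultTypeFT H₂)
    (hc : ∀ (X : Over S) (g : X ⟶ G) (h : X ⟶ H₁), g * (h ≫ i₁) = (h ≫ i₁) * g) :
    ∃ U : S.Opens, IsClosed (U : Set S) ∧ (∀ s : S, s ∈ U ↔ Good i₁ i₂ (S.fromSpecResidueField s)) ∧
      Good i₁ i₂ U.ι := by
  classical
  haveI := TrivLocus.locallyOfFinitePresentation_of_multTypeFT H₁ h₁
  haveI := TrivLocus.locallyOfFinitePresentation_of_multTypeFT H₂ h₂
  obtain ⟨hqc₁, hqs₁⟩ := qcqs_of_multTypeFT H₁ h₁
  obtain ⟨hqc₂, hqs₂⟩ := qcqs_of_multTypeFT H₂ h₂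
  let Z : Set S := {s | Good i₁ i₂ (S.fromSpecResidueField s)}
  -- constructibility
  have hcons : Topology.IsLocallyConstructible Z := by
    obtain ⟨hcl, hfp⟩ := exists_graph i₁ i₂ hG
    have hprop : ∀ (P : MorphismProperty Scheme.{u}) [P.IsStableUnderBaseChange] [P.IsStableUnderComposition],
        P H₁.hom → P H₂.hom → P (pullback.mapDesc i₁.left i₂.left G.hom) → P (inter i₁ i₂).hom := by
      intro P _ _ hP₁ hP₂ hP
      have e : (inter i₁ i₂).hom = pullback.mapDesc i₁.left i₂.left G.hom ≫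
          pullback.fst (i₁.left ≫ G.hom) (i₂.left ≫ G.hom) ≫ i₁.left ≫ G.hom := by
        show pullback.fst i₁.left i₂.left ≫ H₁.hom = _
        simp only [pullback.mapDesc, pullback.map, pullback.lift_fst_assoc, Category.id_comp, Category.assoc]
        exact congrArg (pullback.fst i₁.left i₂.left ≫ ·) (Over.w i₁).symm
      rw [e]
      refine P.comp_mem _ _ hP (P.comp_mem _ _ ?_ ?_)
      · exact MorphismProperty.pullback_fst _ _ (by rw [Over.w i₂]; exact hP₂)
      · rw [Over.w i₁]; exact hP₁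
    haveI : LocallyOfFinitePresentation (inter i₁ i₂).hom := hprop @LocallyOfFinitePresentation inferInstance inferInstance hfp
    haveI : QuasiCompact (inter i₁ i₂).hom := hprop @QuasiCompact hqc₁ hqc₂ inferInstance
    haveI : QuasiSeparated (inter i₁ i₂).hom := hprop @QuasiSeparated hqs₁ hqs₂ inferInstance
    haveI : LocallyOfFinitePresentation ((pr₁ i₁ i₂).left ≫ H₁.hom) := by rw [Over.w]; infer_instance
    haveI : QuasiCompact ((pr₁ i₁ i₂).left ≫ H₁.hom) := by rw [Over.w]; infer_instance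
    haveI : QuasiSeparated ((pr₁ i₁ i₂).left ≫ H₁.hom) := by rw [Over.w]; infer_instance
    haveI : LocallyOfFinitePresentation ((pr₂ i₁ i₂).left ≫ H₂.hom) := by rw [Over.w]; infer_instance
    haveI : QuasiCompact ((pr₂ i₁ i₂).left ≫ H₂.hom) := by rw [Over.w]; infer_instance
    haveI : QuasiSeparated ((pr₂ i₁ i₂).left ≫ H₂.hom) := by rw [Over.w]; infer_instance
    have key : ∀ {X Y : Over S} (f : X ⟶ Y) (σ : S) [LocallyOfFinitePresentation Y.hom],
        IsIso ((Over.pullback (S.fromSpecResidueField σ)).map f).left ↔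
        IsIso (pullback.lift (pullback.fst (f.left ≫ Y.hom) (S.fromSpecResidueField σ) ≫ f.left)
          (pullback.snd (f.left ≫ Y.hom) (S.fromSpecResidueField σ))
          ((Category.assoc _ _ _).trans pullback.condition) :
          pullback (f.left ≫ Y.hom) (S.fromSpecResidueField σ) ⟶ pullback Y.hom (S.fromSpecResidueField σ)) := by
      intro X Y f σ _
      refine (MorphismProperty.isomorphisms Scheme).arrow_mk_iso_iff
        (Arrow.isoMk (pullback.congrHom (Over.w f).symm rfl) (Iso.refl _) ?_)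
      show (pullback.congrHom (Over.w f).symm rfl).hom ≫ _ = ((Over.pullback _).map f).left ≫ 𝟙 _
      rw [Category.comp_id]
      apply pullback.hom_ext
      · rw [Category.assoc, MultHomLocus.map_left_fst]
        simp only [pullback.congrHom, asIso_hom, Arrow.mk_hom, pullback.map, pullback.lift_fst, pullback.lift_snd, pullback.lift_fst_assoc, pullback.lift_snd_assoc,
          Category.comp_id, Category.assoc]
      · rw [Category.assoc, MultHomLocus.map_left_snd]
        simp only [pullback.congrHom, asIso_hom, Arrow.mk_hom, pullback.map, pullback.lift_fst, pullback.lift_snd, pullback.lift_fst_assoc, pullback.lift_snd_assoc,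
          Category.comp_id, Category.assoc]
    have hA := S2575.result (pr₁ i₁ i₂).left H₁.hom
    have hB := S2575.result (pr₂ i₁ i₂).left H₂.hom
    convert hA.inter hB using 1
    ext σ
    exact and_congr (key (pr₁ i₁ i₂) σ) (key (pr₂ i₁ i₂) σ)
  -- charts
  obtain ⟨S₁, f₁, hfl₁, -, hq₁, hU₁⟩ := id h₁
  obtain ⟨S₂, f₂, hfl₂, -, hq₂, hU₂⟩ := id h₂
  let F : pullback f₁ f₂ ⟶ S := pullback.snd f₁ f₂ ≫ f₂
  haveI := hfl₁
  haveI := hfl₂
  have hF : IsFpqcCov F := (IsFpqcCov.of_forall f₂ hq₂).comp ((IsFpqcCov.of_forall f₁ hq₁).pullback_snd f₂)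
  haveI := hF.1
  haveI := hF.surjective
  have loc : ∀ t : ↥(pullback f₁ f₂), ∃ P : (pullback f₁ f₂).Opens, t ∈ P ∧
      (∀ y ∈ P, F.base y ∈ Z → ∃ B : (pullback f₁ f₂).Opens, y ∈ B ∧ B ≤ P ∧ Good i₁ i₂ (B.ι ≫ F) ∧
        (∀ y' ∈ B, F.base y' ∈ Z) ∧ ∀ y' ∈ P, y ⤳ y' → F.base y' ∈ Z) := by
    intro t
    obtain ⟨U₁, ht₁, M, _, hM, ⟨e₁⟩⟩ := hU₁ ((pullback.fst f₁ f₂).base t)
    obtain ⟨U₂, ht₂, N, _, hN, ⟨e₂⟩⟩ := hU₂ ((pullback.snd f₁ f₂).base t)
    haveI := hM
    haveI := hN
    obtain ⟨P, hP, htP, hPle⟩ := exists_isAffineOpen_mem_and_subset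
      (U := pullback.fst f₁ f₂ ⁻¹ᵁ U₁ ⊓ pullback.snd f₁ f₂ ⁻¹ᵁ U₂) (x := t) ⟨ht₁, ht₂⟩
    let R := Γ(pullback f₁ f₂, P)
    let g : Spec R ⟶ S := hP.fromSpec ≫ F
    have hlift : ∀ {W : Scheme.{u}} (h : pullback f₁ f₂ ⟶ W) (V : W.Opens), P ≤ h ⁻¹ᵁ V →
        ∃ c : Spec R ⟶ V, c ≫ V.ι = hP.fromSpec ≫ h := by
      intro W h V hle
      refine ⟨IsOpenImmersion.lift V.ι (hP.fromSpec ≫ h) ?_, IsOpenImmersion.lift_fac _ _ _⟩
      rw [V.range_ι]
      rintro _ ⟨w, rfl⟩
      exact hle (show hP.fromSpec.base w ∈ (P : Set ↥(pullback f₁ f₂)) by rw [← hP.range_fromSpec]; exact ⟨w, rfl⟩)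
    obtain ⟨c₁, hc₁⟩ := hlift (pullback.fst f₁ f₂) U₁ (fun y hy => (hPle hy).1)
    obtain ⟨c₂, hc₂⟩ := hlift (pullback.snd f₁ f₂) U₂ (fun y hy => (hPle hy).2)
    obtain ⟨σ₁, hσ₁, -⟩ := GrpBC.nonempty_iso_restrict (U₁.ι ≫ f₁) c₁ g (by
      rw [reassoc_of% hc₁]; simp only [g, F, pullback.condition]) H₁ e₁
    obtain ⟨σ₂, hσ₂, -⟩ := GrpBC.nonempty_iso_restrict (U₂.ι ≫ f₂) c₂ g (by
      rw [reassoc_of% hc₂]) H₂ e₂
    haveI := hσ₁
    haveI := hσ₂
    refine ⟨P, htP, fun y hy hyZ => ?_⟩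
    obtain ⟨p, rfl⟩ : y ∈ Set.range hP.fromSpec.base := by rw [hP.range_fromSpec]; exact hy
    have hpt : ∀ q : PrimeSpectrum R, (F.base (hP.fromSpec.base q) ∈ Z ↔
        Good i₁ i₂ (Spec.map (CommRingCat.ofHom (algebraMap R q.asIdeal.ResidueField)) ≫ g)) := by
      intro q
      rw [good_field i₁ i₂ (K := q.asIdeal.ResidueField) _ (IsLocalRing.closedPoint q.asIdeal.ResidueField)]
      refine iff_of_eq (congrArg (fun z => Good i₁ i₂ (S.fromSpecResidueField z)) ?_)
      show F.base (hP.fromSpec.base q) = F.base (hP.fromSpec.base _)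
      congr 2
      exact (PrimeSpectrum.ext (by
        show Ideal.comap (algebraMap R q.asIdeal.ResidueField) (IsLocalRing.maximalIdeal _) = q.asIdeal
        rw [IsLocalRing.maximalIdeal_eq_bot, ← RingHom.ker_eq_comap_bot, Ideal.ker_algebraMap_residueField])).symm
    obtain ⟨c, hcp, hcA, hcloc⟩ := exists_chart i₁ i₂ hG hc R g σ₁ σ₂ p ((hpt p).mp hyZ)
    obtain ⟨f, hf, hfc⟩ := hcloc p hcp
    let B : (pullback f₁ f₂).Opens := hP.fromSpec ''ᵁ (PrimeSpectrum.basicOpen f)
    have hclose : ∀ q : PrimeSpectrum R, c ≤ q.asIdeal → F.base (hP.fromSpec.base q) ∈ Z := fun q hq =>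
      (hpt q).mpr (hcA _ _ (by rw [Ideal.ker_algebraMap_residueField]; exact hq))
    refine ⟨B, ⟨p, hf, rfl⟩, ?_, ?_, ?_, ?_⟩
    · rintro _ ⟨q, -, rfl⟩
      show hP.fromSpec.base q ∈ (P : Set ↥(pullback f₁ f₂))
      rw [← hP.range_fromSpec]
      exact ⟨q, rfl⟩
    · let R' := Localization.Away f
      have h1 : c ≤ RingHom.ker (algebraMap R R') := fun x hx => by
        rw [RingHom.mem_ker]
        exact (IsLocalization.map_eq_zero_iff (Submonoid.powers f) R' x).mpr ⟨⟨f, Submonoid.mem_powers f⟩, hfc x hx⟩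
      let m : Spec (CommRingCat.of R') ⟶ pullback f₁ f₂ := Spec.map (CommRingCat.ofHom (algebraMap R R')) ≫ hP.fromSpec
      have hm : Good i₁ i₂ (m ≫ F) := by
        have := hcA R' (algebraMap R R') h1
        simpa [m, g] using this
      have hle : Set.range B.ι.base ⊆ Set.range m.base := by
        rw [B.range_ι]
        rintro _ ⟨q, hq, rfl⟩
        obtain ⟨q', hq'⟩ : q ∈ Set.range (PrimeSpectrum.comap (algebraMap R R')) := by
          rw [PrimeSpectrum.localization_away_comap_range R' f]; exact hq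
        exact ⟨q', by rw [← hq']; rfl⟩
      exact hm.of_comp i₁ i₂ (IsOpenImmersion.lift m B.ι hle) (IsOpenImmersion.lift_fac_assoc _ _ _ _)
    · rintro _ ⟨q, hq, rfl⟩
      exact hclose q fun x hx => (q.2.mem_or_mem (by rw [hfc x hx]; exact zero_mem _)).resolve_left hq
    · intro y' hy' hsp
      obtain ⟨q, rfl⟩ : y' ∈ Set.range hP.fromSpec.base := by rw [hP.range_fromSpec]; exact hy'
      rw [hP.fromSpec.isOpenEmbedding.isInducing.specializes_iff] at hsp
      exact hclose q (hcp.trans ((PrimeSpectrum.le_iff_specializes p q).mpr hsp))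
  have hopen' : IsOpen (F.base ⁻¹' Z) := by
    rw [isOpen_iff_forall_mem_open]
    intro y hy
    obtain ⟨P, hyP, hP⟩ := loc y
    obtain ⟨B, hyB, -, -, hBZ, -⟩ := hP y hyP hy
    exact ⟨B, hBZ, B.2, hyB⟩
  have hquot : ∀ A : Set S, IsOpen (F.base ⁻¹' A) → IsOpen A := by
    intro A hA
    rw [isOpen_iff_forall_mem_open]
    intro s hs
    obtain ⟨O, hsO, hO, W, e, hW, ⟨⟨hsur, hfl⟩, hqc⟩⟩ := hF.exists_resLE s
    refine ⟨O.ι.base '' (O.ι.base ⁻¹' A), Set.image_preimage_subset _ _, ?_, ⟨⟨s, hsO⟩, hs, rfl⟩⟩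
    refine O.ι.isOpenEmbedding.isOpenMap _ ?_
    rw [← (Flat.isQuotientMap_of_surjective (F.resLE O W e)).isOpen_preimage, ← Set.preimage_comp]
    have : O.ι.base ∘ (F.resLE O W e).base = F.base ∘ W.ι.base := by
      funext y
      exact congr($(Scheme.Hom.resLE_comp_ι F e).base y)
    rw [this, Set.preimage_comp]
    exact hA.preimage W.ι.continuous
  have hgen : StableUnderGeneralization Zᶜ := by
    intro s s' hsp hs hs'
    obtain ⟨t, rfl⟩ := F.surjective s
    obtain ⟨t', ht't, rfl⟩ := (Flat.generalizingMap F) hsp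
    obtain ⟨P, htP, hP⟩ := loc t
    obtain ⟨B, -, -, -, -, hclose⟩ := hP t' (ht't.mem_open P.2 htP) hs'
    exact hs (hclose t htP ht't)
  have hclosed : IsClosed Z := by
    rw [← isOpen_compl_iff, isOpen_iff_forall_mem_open]
    intro s hs
    obtain ⟨V, hV, hsV, -⟩ := exists_isAffineOpen_mem_and_subset (U := (⊤ : S.Opens)) (x := s) trivial
    refine ⟨hV.fromSpec.base '' (hV.fromSpec.base ⁻¹' Zᶜ), Set.image_preimage_subset _ _,
      hV.fromSpec.isOpenEmbedding.isOpenMap _ ?_, ?_⟩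
    · refine PrimeSpectrum.isOpen_of_stableUnderGeneralization_of_isConstructible
        (hgen.preimage hV.fromSpec.continuous) ?_
      rw [Set.preimage_compl]
      exact (hcons.preimage_of_isOpenEmbedding hV.fromSpec.isOpenEmbedding).isConstructible.compl
    · rw [Set.image_preimage_eq_inter_range, hV.range_fromSpec]
      exact ⟨hs, hsV⟩
  let U : S.Opens := ⟨Z, hquot _ hopen'⟩
  have hB : ∀ w, F.base w ∈ U → ∃ B : (pullback f₁ f₂).Opens, w ∈ B ∧ Good i₁ i₂ (B.ι ≫ F) := fun w hw => by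
    obtain ⟨P, hwP, hP⟩ := loc w
    obtain ⟨B, hwB, -, hB, -, -⟩ := hP w hwP hw
    exact ⟨B, hwB, hB⟩
  exact ⟨U, hclosed, fun s => Iff.rfl,
    of_locally _ (MorphismProperty.isomorphisms _) F hF U (fun w hw => (hB w hw).imp fun B h => ⟨h.1, h.2.1⟩),
    of_locally _ (MorphismProperty.isomorphisms _) F hF U (fun w hw => (hB w hw).imp fun B h => ⟨h.1, h.2.2⟩)⟩

end Groth.Agent.SGA3cLib.CentralEq
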