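import Groth.Agent.SGA3cLib.Components
import Groth.Prelude.Def_ActBC
import Mathlib.AlgebraicGeometry.Morphisms.UniversallyOpen
import Mathlib.AlgebraicGeometry.Morphisms.Integral
import Mathlib.AlgebraicGeometry.Morphisms.QuasiSeparated

/-!
# Generic orbits and irreducible components of homogeneous spaces
-/

set_option autoImplicit false
set_option backward.isDefEq.respectTransparency.types false

universe u

open CategoryTheory Limits AlgebraicGeometry MonoidalCategory CartesianMonoidalCategory MonObj GrpObj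

namespace Groth.Agent.SGA3cLib

open Groth.Agent.VarietyLib (mem_genericPoints_iff exists_genericPoints_specializes
  eq_of_specializes_genericPoints generalizing_genericPoints)

section BaseChange

variable {S : Scheme.{u}} {G X : Over S} [GrpObj G]

/-- Transitivity is stable under base change. -/
theorem surjective_bc (a : AlgGrp.Action G X) (hΦ : Surjective (lift a.act (snd G X)).left)
    {S' : Scheme.{u}} (f : S' ⟶ S) :
    Surjective (lift (a.bc f).act (snd (Red.bc f G) (Red.bc f X))).left := by
  let F := Over.pullback f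
  let Φ := lift a.act (snd G X)
  have e : lift (a.bc f).act (snd (Red.bc f G) (Red.bc f X)) ≫ Functor.LaxMonoidal.μ F X X =
      Functor.LaxMonoidal.μ F G X ≫ F.map Φ := by
    rw [← cancel_mono (Functor.Monoidal.μIso F X X).inv, Category.assoc, Category.assoc]
    erw [(Functor.Monoidal.μIso F X X).hom_inv_id, Category.comp_id]
    rw [Functor.Monoidal.μIso_inv, Functor.OplaxMonoidal.δ_of_cartesianMonoidalCategory] <;> skip
    apply CartesianMonoidalCategory.hom_ext
    · simp only [Category.assoc, lift_fst]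
      exact ((congrArg (fun t => Functor.LaxMonoidal.μ F G X ≫ F.map Φ ≫ t)
        (CartesianMonoidalCategory.prodComparison_fst F X X)).trans (congrArg (Functor.LaxMonoidal.μ F G X ≫ ·)
          ((F.map_comp _ _).symm.trans (congrArg F.map (lift_fst a.act (snd G X)))))).symm
    · simp only [Category.assoc, lift_snd]
      exact ((congrArg (fun t => Functor.LaxMonoidal.μ F G X ≫ F.map Φ ≫ t)
        (CartesianMonoidalCategory.prodComparison_snd F X X)).trans ((congrArg (Functor.LaxMonoidal.μ F G X ≫ ·)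
          ((F.map_comp _ _).symm.trans (congrArg F.map (lift_snd a.act (snd G X))))).trans
            (Functor.Monoidal.μ_snd F G X))).symm
  have hmap : Surjective (F.map Φ).left := by
    refine MorphismProperty.of_isPullback (P := @Surjective)
      (show IsPullback (pullback.fst (G ⊗ X).hom f) (F.map Φ).left Φ.left (pullback.fst (X ⊗ X).hom f) from ?_) hΦ
    refine IsPullback.of_bot ?_ ?_ (IsPullback.of_hasPullback (X ⊗ X).hom f)
    · rw [show (F.map Φ).left ≫ pullback.snd (X ⊗ X).hom f = pullback.snd (G ⊗ X).hom f from pullback.lift_snd _ _ _,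
        show Φ.left ≫ (X ⊗ X).hom = (G ⊗ X).hom from Over.w Φ]
      exact IsPullback.of_hasPullback (G ⊗ X).hom f
    · exact (pullback.lift_fst _ _ _).symm
  haveI : IsIso (Functor.LaxMonoidal.μ F G X).left :=
    inferInstanceAs (IsIso ((Over.forget S').map (Functor.LaxMonoidal.μ F G X)))
  haveI : IsIso (Functor.LaxMonoidal.μ F X X).left :=
    inferInstanceAs (IsIso ((Over.forget S').map (Functor.LaxMonoidal.μ F X X)))
  have e' : (lift (a.bc f).act (snd (Red.bc f G) (Red.bc f X))).left =
      ((Functor.LaxMonoidal.μ F G X).left ≫ (F.map Φ).left) ≫ inv (Functor.LaxMonoidal.μ F X X).left := by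
    rw [← cancel_mono (Functor.LaxMonoidal.μ F X X).left, Category.assoc, IsIso.inv_hom_id, Category.comp_id]
    exact congrArg (fun t => t.left) e
  rw [e']
  infer_instance

end BaseChange

section Orbit

variable {S : Scheme.{u}} {G X : Over S} [GrpObj G] (a : AlgGrp.Action G X)

/-- The orbit map of a rational point sends the generic point of the neutral component to a maximal
point (no finiteness). -/
theorem orbit_mem_genericPoints (hΦ : Surjective (lift a.act (snd G X)).left)
    (L : Type u) [Field L] [IsAlgClosed L] (j : Spec (CommRingCat.of L) ⟶ S) (x : Over.mk j ⟶ X)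
    {θ : ↥(G ⊗ Over.mk j).left} (hθ : θ ∈ genericPoints ↥(G ⊗ Over.mk j).left)
    (hθe : θ ⤳ (lift (1 : Over.mk j ⟶ G) (𝟙 (Over.mk j))).left.base (IsLocalRing.closedPoint L)) :
    (lift (smulPt a (fst G (Over.mk j)) (snd G (Over.mk j) ≫ x)) (snd G (Over.mk j))).left.base θ ∈
      genericPoints ↥(X ⊗ Over.mk j).left := by
  let T := Over.mk j
  let o : G ⊗ T ⟶ X ⊗ T := lift (smulPt a (fst G T) (snd G T ≫ x)) (snd G T)
  have hos : Surjective o.left := surjective_orbit a hΦ x
  obtain ⟨ζ, hζ, -⟩ := exists_genericPoints_specializes (α := ↥(X ⊗ T).left)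
    ((lift x (𝟙 T)).left.base (IsLocalRing.closedPoint L))
  obtain ⟨u, hu⟩ := o.left.surjective ζ
  obtain ⟨ω, hω, hωu⟩ := exists_genericPoints_specializes (α := ↥(G ⊗ T).left) u
  have hoω : o.left.base ω = ζ := eq_of_specializes_genericPoints hζ (hu ▸ hωu.map o.left.continuous)
  let GT := (G ⊗ T).left
  let M := AlgebraicClosure (GT.residueField ω)
  let q : Spec (CommRingCat.of M) ⟶ GT :=
    Spec.map (CommRingCat.ofHom (algebraMap (GT.residueField ω) M)) ≫ GT.fromSpecResidueField ω
  let i : Spec (CommRingCat.of M) ⟶ Spec (CommRingCat.of L) := q ≫ (snd G T).left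
  let T' := Over.mk (i ≫ j)
  let t : T' ⟶ T := Over.homMk i
  let pt : ↥(Spec (CommRingCat.of M)) := IsLocalRing.closedPoint M
  let g₀ : T' ⟶ G := Over.homMk (q ≫ (fst G T).left) (by
    change (q ≫ (fst G T).left) ≫ G.hom = (q ≫ (snd G T).left) ≫ j
    rw [Category.assoc, Category.assoc]
    exact congrArg (q ≫ ·) ((Over.w (fst G T)).trans (Over.w (snd G T)).symm))
  let o' : G ⊗ T' ⟶ X ⊗ T' := lift (smulPt a (fst G T') (snd G T' ≫ t ≫ x)) (snd G T')
  have hsq : ∀ Y : Over S, IsPullback (Y ◁ t) (snd Y T') (snd Y T) t := by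
    intro Y
    refine ⟨⟨by simp⟩, ⟨PullbackCone.IsLimit.mk (by simp) (fun c => lift (c.fst ≫ fst Y T) c.snd)
      (fun c => ?_) (fun c => by simp) (fun c m h1 h2 => ?_)⟩⟩
    · apply CartesianMonoidalCategory.hom_ext
      · simp
      · simp [c.condition]
    · apply CartesianMonoidalCategory.hom_ext
      · rw [← h1]; simp
      · rw [← h2]; simp
  let pG := (G ◁ t).left
  let pX := (X ◁ t).left
  have hflat : ∀ Y : Over S, Flat (Y ◁ t).left := fun Y =>
    MorphismProperty.of_isPullback (P := @Flat) (((hsq Y).map (Over.forget _)).flip)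
      (show Flat i from inferInstance)
  have hgG : GeneralizingMap pG := by haveI := hflat G; exact Flat.generalizingMap _
  have hgX : GeneralizingMap pX := by haveI := hflat X; exact Flat.generalizingMap _
  have hcomm : (G ◁ t) ≫ o = o' ≫ (X ◁ t) := by
    apply CartesianMonoidalCategory.hom_ext <;> simp [o, o', comp_smulPt]
  have hop : IsPullback (G ◁ t) o' o (X ◁ t) := by
    refine IsPullback.of_bot ?_ hcomm (hsq X)
    have h1 : o' ≫ snd X T' = snd G T' := lift_snd _ _
    have h2 : o ≫ snd X T = snd G T := lift_snd _ _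
    rw [h1, h2]
    exact hsq G
  -- uniqueness over a maximal point
  have huniq : ∀ w₁ w₂, w₁ ∈ genericPoints ↥(G ⊗ T').left → w₂ ∈ genericPoints ↥(G ⊗ T').left →
      pG.base w₁ = pG.base w₂ → w₁ = w₂ := by
    intro w₁ w₂ h₁ h₂ h
    have hp := (hsq G).map (Over.forget _)
    let e := hp.isoPullback.hom.homeomorph
    apply e.injective
    apply eq_of_fst_eq_of_mem_genericPoints L (snd G T).left M i (homeomorph_mem_genericPoints e h₁)
      (homeomorph_mem_genericPoints e h₂)
    change (hp.isoPullback.hom ≫ pullback.fst _ _).base w₁ = (hp.isoPullback.hom ≫ pullback.fst _ _).base w₂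
    erw [hp.isoPullback_hom_fst]
    exact h
  let c : ↥(G ⊗ T').left := (lift g₀ (𝟙 T')).left.base pt
  have hc : pG.base c = ω := by
    change (lift g₀ (𝟙 T') ≫ (G ◁ t)).left.base pt = ω
    rw [lift_whiskerLeft, Category.id_comp]
    have : (lift g₀ t).left = q := by
      apply pullback.hom_ext
      · exact congrArg (fun s : T' ⟶ G => s.left) (lift_fst g₀ t)
      · exact congrArg (fun s : T' ⟶ T => s.left) (lift_snd g₀ t)
    rw [this]
    exact (GT.range_fromSpecResidueField ω).le ⟨_, rfl⟩
  obtain ⟨ω', hω', hω'c⟩ := exists_genericPoints_specializes c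
  have hpω' : pG.base ω' = ω := eq_of_specializes_genericPoints hω (hc ▸ hω'c.map pG.continuous)
  have hgen' : o'.left.base ω' ∈ genericPoints ↥(X ⊗ T').left := by
    obtain ⟨D, hD, hDo⟩ := exists_genericPoints_specializes (o'.left.base ω')
    have hpD : pX.base D = ζ := by
      refine eq_of_specializes_genericPoints hζ ?_
      have h1 := hDo.map pX.continuous
      have h2 : pX.base (o'.left.base ω') = ζ := by
        rw [← hoω, ← hpω']
        change (o' ≫ (X ◁ t)).left.base ω' = ((G ◁ t) ≫ o).left.base ω'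
        rw [hcomm]
      rwa [h2] at h1
    have hop' := hop.map (Over.forget _)
    obtain ⟨b, hb1, hb2⟩ := Scheme.Pullback.exists_preimage_pullback (f := o.left) (g := pX) ω D (hoω.trans hpD.symm)
    obtain ⟨a₁, rfl⟩ := hop'.isoPullback.hom.homeomorph.surjective b
    have ha1 : pG.base a₁ = ω := by
      rw [← hb1]
      change _ = (hop'.isoPullback.hom ≫ pullback.fst o.left pX).base a₁
      erw [hop'.isoPullback_hom_fst]
      rfl
    have ha2 : o'.left.base a₁ = D := by
      rw [← hb2]
      change _ = (hop'.isoPullback.hom ≫ pullback.snd o.left pX).base a₁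
      erw [hop'.isoPullback_hom_snd]
      rfl
    obtain ⟨a', ha', ha'a⟩ := exists_genericPoints_specializes a₁
    have h3 : pG.base a' = ω := eq_of_specializes_genericPoints hω (ha1 ▸ ha'a.map pG.continuous)
    have h4 : a' = ω' := huniq a' ω' ha' hω' (h3.trans hpω'.symm)
    have h5 : o'.left.base ω' ⤳ D := by rw [← ha2, ← h4]; exact ha'a.map o'.left.continuous
    rw [eq_of_specializes_genericPoints hD h5]
    exact hD
  -- translate to the neutral component
  let L₀ := translateHomeo (regAction G) g₀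
  let e' : ↥(G ⊗ T').left := (lift 1 (𝟙 T')).left.base pt
  have hLe : L₀ e' = c := by
    rw [translateHomeo_apply]
    change (lift 1 (𝟙 T') ≫ translate (regAction G) g₀).left.base pt = _
    rw [lift_translate]
    refine congrArg (fun s : T' ⟶ G => (lift s (𝟙 T')).left.base pt) ?_
    change lift g₀ 1 ≫ μ[G] = g₀
    rw [← Hom.mul_def, _root_.mul_one]
  obtain ⟨θ', hθ', hθ'e⟩ := exists_genericPoints_specializes e'
  have hθω : L₀ θ' = ω' := eq_of_specializes_of_homogeneous (regAction (Red.bc (i ≫ j) G))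
    (surjective_regAction _) (z := c) (homeomorph_mem_genericPoints L₀ hθ') hω'
    (hLe ▸ hθ'e.map L₀.continuous) hω'c
  have hcomm' : translate (regAction G) g₀ ≫ o' = o' ≫ translate a g₀ := by
    apply CartesianMonoidalCategory.hom_ext
    · simp only [o', translate, Category.assoc, lift_fst, comp_smulPt, lift_snd_assoc]
      change smulPt a (lift (snd G T' ≫ g₀) (fst G T') ≫ μ[G]) _ = _
      rw [← Hom.mul_def, mul_smulPt]
    · simp [o', translate]
  have hgenθ' : o'.left.base θ' ∈ genericPoints ↥(X ⊗ T').left := by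
    have h1 : translateHomeo a g₀ (o'.left.base θ') = o'.left.base ω' := by
      rw [translateHomeo_apply]
      change (o' ≫ translate a g₀).left.base θ' = _
      rw [← hcomm', ← hθω]
      rfl
    have h2 := homeomorph_mem_genericPoints (translateHomeo a g₀).symm hgen'
    rwa [← h1, Homeomorph.symm_apply_apply] at h2
  have hpθ : pG.base θ' = θ := by
    refine eq_of_specializes_of_homogeneous (regAction (Red.bc j G)) (surjective_regAction _)
      (z := ((lift (1 : T ⟶ G) (𝟙 T)).left.base (IsLocalRing.closedPoint L) : ↥(G ⊗ T).left))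
      (generalizing_genericPoints hgG hθ') hθ ?_ hθe
    have h1 := hθ'e.map pG.continuous
    have h2 : pG.base e' = (lift (1 : T ⟶ G) (𝟙 T)).left.base (IsLocalRing.closedPoint L) := by
      have h3 : lift (1 : T' ⟶ G) (𝟙 T') ≫ (G ◁ t) = t ≫ lift (1 : T ⟶ G) (𝟙 T) := by
        simp [comp_lift, MonObj.comp_one]
      change (lift (1 : T' ⟶ G) (𝟙 T') ≫ (G ◁ t)).left.base pt = _
      rw [h3]
      exact congrArg (lift (1 : T ⟶ G) (𝟙 T)).left.base (Subsingleton.elim (α := ↥(Spec (CommRingCat.of L))) _ _)
    rwa [h2] at h1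
  have hgen := generalizing_genericPoints hgX hgenθ'
  have : pX.base (o'.left.base θ') = o.left.base θ := by
    rw [← hpθ]
    change (o' ≫ (X ◁ t)).left.base θ' = ((G ◁ t) ≫ o).left.base θ'
    rw [hcomm]
  rwa [this] at hgen

end Orbit

section Field

variable {k : Type u} [Field k] {G X : Over (Spec (CommRingCat.of k))} [GrpObj G]

/-- Over a maximal point whose component has a rational point lies a single maximal point of any
field base change. -/
theorem eq_of_fst_eq_of_rational (a : AlgGrp.Action G X) (hΦ : Surjective (lift a.act (snd G X)).left)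
    (x : 𝟙_ (Over (Spec (CommRingCat.of k))) ⟶ X) (η₁ : X.left)
    (hx : η₁ ⤳ x.left.base (IsLocalRing.closedPoint k))
    (K : Type u) [Field K] (g : Spec (CommRingCat.of K) ⟶ Spec (CommRingCat.of k))
    {w₁ w₂ : ↥(pullback X.hom g)} (h₁ : w₁ ∈ genericPoints ↥(pullback X.hom g))
    (h₂ : w₂ ∈ genericPoints ↥(pullback X.hom g))
    (e₁ : (pullback.fst X.hom g).base w₁ = η₁) (e₂ : (pullback.fst X.hom g).base w₂ = η₁) : w₁ = w₂ := by
  let kb := AlgebraicClosure k
  let h : Spec (CommRingCat.of kb) ⟶ Spec (CommRingCat.of k) :=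
    Spec.map (CommRingCat.ofHom (algebraMap k kb))
  haveI : IsIntegralHom h := IsIntegralHom.SpecMap_iff.mpr (Algebra.IsIntegral.isIntegral (R := k))
  let p₀ := pullback.fst X.hom h
  -- a single point over the rational point
  have hsingle : ∀ z₁ z₂ : ↥(pullback X.hom h), p₀.base z₁ = x.left.base (IsLocalRing.closedPoint k) →
      p₀.base z₂ = x.left.base (IsLocalRing.closedPoint k) → z₁ = z₂ := by
    let x' : Spec (CommRingCat.of k) ⟶ X.left := x.left
    have hx' : x' ≫ X.hom = 𝟙 _ := Over.w x
    haveI : IsIso (x' ≫ X.hom) := by rw [hx']; infer_instance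
    let e : pullback x' p₀ ≅ Spec (CommRingCat.of kb) :=
      pullbackRightPullbackFstIso X.hom h x' ≪≫ asIso (pullback.snd (x' ≫ X.hom) h)
    have hs : Subsingleton ↥(pullback x' p₀) := e.hom.homeomorph.injective.subsingleton
    intro z₁ z₂ hz₁ hz₂
    obtain ⟨b₁, -, rfl⟩ := Scheme.Pullback.exists_preimage_pullback (f := x') (g := p₀) (IsLocalRing.closedPoint k) z₁ hz₁.symm
    obtain ⟨b₂, -, rfl⟩ := Scheme.Pullback.exists_preimage_pullback (f := x') (g := p₀) (IsLocalRing.closedPoint k) z₂ hz₂.symm
    rw [Subsingleton.elim b₁ b₂]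
  have hkb : ∀ D₁ D₂ : ↥(pullback X.hom h), D₁ ∈ genericPoints ↥(pullback X.hom h) →
      D₂ ∈ genericPoints ↥(pullback X.hom h) → p₀.base D₁ = η₁ → p₀.base D₂ = η₁ → D₁ = D₂ := by
    intro D₁ D₂ hD₁ hD₂ hp₁ hp₂
    have hlift : ∀ D, p₀.base D = η₁ → ∃ z, D ⤳ z ∧ p₀.base z = x.left.base (IsLocalRing.closedPoint k) := by
      intro D hD
      have hcl : IsClosed (p₀.base '' closure {D}) := p₀.isClosedMap _ isClosed_closure
      obtain ⟨z, hz, hz'⟩ := (hcl.closure_subset_iff.2
        (Set.singleton_subset_iff.2 (⟨D, subset_closure rfl, hD⟩ : η₁ ∈ p₀.base '' closure {D})))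
        (specializes_iff_mem_closure.1 hx)
      exact ⟨z, specializes_iff_mem_closure.2 hz, hz'⟩
    obtain ⟨z₁, hz₁, hz₁'⟩ := hlift D₁ hp₁
    obtain ⟨z₂, hz₂, hz₂'⟩ := hlift D₂ hp₂
    obtain rfl := hsingle z₁ z₂ hz₁' hz₂'
    exact eq_of_specializes_of_homogeneous (a.bc h) (surjective_bc a hΦ h) (z := z₁) hD₁ hD₂ hz₁ hz₂
  -- a common algebraically closed field
  let L := AlgebraicClosure K
  let l : Spec (CommRingCat.of L) ⟶ Spec (CommRingCat.of K) := Spec.map (CommRingCat.ofHom (algebraMap K L))
  let : Algebra k L := (Spec.preimage (l ≫ g)).hom.toAlgebra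
  let m : Spec (CommRingCat.of L) ⟶ Spec (CommRingCat.of kb) :=
    Spec.map (CommRingCat.ofHom (IsAlgClosed.lift (R := k) (S := kb) (M := L)).toRingHom)
  have hm : m ≫ h = l ≫ g := by
    rw [← Spec.map_comp]
    conv_rhs => rw [← Spec.map_preimage (l ≫ g)]
    congr 1
    ext r
    exact (IsAlgClosed.lift (R := k) (S := kb) (M := L)).commutes r
  let XL := pullback X.hom (l ≫ g)
  let rK : XL ⟶ pullback X.hom g := pullback.lift (pullback.fst _ _) (pullback.snd _ _ ≫ l) (by
    rw [pullback.condition, Category.assoc])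
  let rk : XL ⟶ pullback X.hom h := pullback.lift (pullback.fst _ _) (pullback.snd _ _ ≫ m) (by
    rw [pullback.condition, Category.assoc, hm])
  have hK : IsPullback rK (pullback.snd X.hom (l ≫ g)) (pullback.snd X.hom g) l := by
    refine IsPullback.of_right ?_ (pullback.lift_snd _ _ _) (IsPullback.of_hasPullback X.hom g)
    rw [show rK ≫ pullback.fst X.hom g = pullback.fst X.hom (l ≫ g) from pullback.lift_fst _ _ _]
    exact IsPullback.of_hasPullback X.hom (l ≫ g)
  have hk : IsPullback rk (pullback.snd X.hom (l ≫ g)) (pullback.snd X.hom h) m := by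
    refine IsPullback.of_right ?_ (pullback.lift_snd _ _ _) (IsPullback.of_hasPullback X.hom h)
    rw [show rk ≫ pullback.fst X.hom h = pullback.fst X.hom (l ≫ g) from pullback.lift_fst _ _ _, hm]
    exact IsPullback.of_hasPullback X.hom (l ≫ g)
  have hgenk : GeneralizingMap rk := by
    haveI : Flat rk := MorphismProperty.of_isPullback (P := @Flat) hk.flip inferInstance
    exact Flat.generalizingMap rk
  haveI : Surjective rK := MorphismProperty.of_isPullback (P := @Surjective) hK.flip
    ⟨fun t => ⟨IsLocalRing.closedPoint L, Subsingleton.elim _ _⟩⟩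
  have hp : GeneralizingMap (pullback.fst X.hom g) := by
    haveI : Flat (pullback.fst X.hom g) := MorphismProperty.pullback_fst (P := @Flat) _ _ inferInstance
    exact Flat.generalizingMap _
  have hliftL : ∀ w ∈ genericPoints ↥(pullback X.hom g), (pullback.fst X.hom g).base w = η₁ →
      ∃ v ∈ genericPoints ↥XL, rK.base v = w ∧ p₀.base (rk.base v) = η₁ := by
    intro w hw hwe
    obtain ⟨v₀, hv₀⟩ := rK.surjective w
    obtain ⟨v, hv, hvv⟩ := exists_genericPoints_specializes v₀
    have h1 : rK.base v = w := eq_of_specializes_genericPoints hw (hv₀ ▸ hvv.map rK.continuous)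
    refine ⟨v, hv, h1, ?_⟩
    rw [← hwe, ← h1]
    change (rk ≫ pullback.fst X.hom h).base v = (rK ≫ pullback.fst X.hom g).base v
    rw [pullback.lift_fst, pullback.lift_fst]
  obtain ⟨v₁, hv₁, rfl, hq₁⟩ := hliftL w₁ h₁ e₁
  obtain ⟨v₂, hv₂, rfl, hq₂⟩ := hliftL w₂ h₂ e₂
  have he := hkb _ _ (generalizing_genericPoints hgenk hv₁) (generalizing_genericPoints hgenk hv₂) hq₁ hq₂
  have : v₁ = v₂ := by
    let e := hk.isoPullback.hom.homeomorph
    apply e.injective
    apply eq_of_fst_eq_of_mem_genericPoints kb (pullback.snd X.hom h) L m (homeomorph_mem_genericPoints e hv₁)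
      (homeomorph_mem_genericPoints e hv₂)
    change (hk.isoPullback.hom ≫ pullback.fst _ _).base v₁ = (hk.isoPullback.hom ≫ pullback.fst _ _).base v₂
    rw [hk.isoPullback_hom_fst]
    exact he
  rw [this]

/-- The component of a rational point stays irreducible after any extension of the base field. -/
theorem isIrreducible_preimage_component (a : AlgGrp.Action G X)
    (hΦ : Surjective (lift a.act (snd G X)).left)
    (x : 𝟙_ (Over (Spec (CommRingCat.of k))) ⟶ X) (pt : ↥(𝟙_ (Over (Spec (CommRingCat.of k)))).left)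
    (C : Set X.left) (hC : C ∈ irreducibleComponents ↥X.left) (hxC : x.left.base pt ∈ C)
    (K : Type u) [Field K] (g : Spec (CommRingCat.of K) ⟶ Spec (CommRingCat.of k)) :
    IsIrreducible ((pullback.fst X.hom g).base ⁻¹' C) := by
  obtain ⟨η₁, hη, rfl⟩ := VarietyLib.exists_genericPoint_of_component hC
  have hx : η₁ ⤳ x.left.base (IsLocalRing.closedPoint k) := by
    refine specializes_iff_mem_closure.2 ?_
    rwa [Subsingleton.elim (α := ↥(Spec (CommRingCat.of k))) (IsLocalRing.closedPoint k) pt]
  set p := pullback.fst X.hom g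
  have hp : GeneralizingMap p := by
    haveI : Flat p := MorphismProperty.pullback_fst (P := @Flat) _ _ inferInstance
    exact Flat.generalizingMap _
  haveI : Surjective g := ⟨fun t => ⟨IsLocalRing.closedPoint K, Subsingleton.elim _ _⟩⟩
  obtain ⟨w₀, hw₀⟩ := p.surjective η₁
  obtain ⟨w, hw, hww₀⟩ := exists_genericPoints_specializes w₀
  have hpw : p.base w = η₁ := eq_of_specializes_genericPoints hη (hw₀ ▸ hww₀.map p.continuous)
  have : p.base ⁻¹' closure {η₁} = closure {w} := by
    refine Set.Subset.antisymm (fun y hy => ?_) ?_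
    · obtain ⟨w', hw', hw'y⟩ := exists_genericPoints_specializes y
      have h1 : p.base w' = η₁ := eq_of_specializes_of_homogeneous a hΦ (z := p.base y)
        (generalizing_genericPoints hp hw') hη (hw'y.map p.continuous) (specializes_iff_mem_closure.2 hy)
      rw [← eq_of_fst_eq_of_rational a hΦ x η₁ hx K g hw' hw h1 hpw]
      exact specializes_iff_mem_closure.1 hw'y
    · exact closure_minimal (Set.singleton_subset_iff.2 (by rw [Set.mem_preimage, hpw]; exact subset_closure rfl))
        (isClosed_closure.preimage p.continuous)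
  rw [this]
  exact isIrreducible_singleton.closure

end Field

/-- A point in the closure of a retrocompact open has a generalization in it. -/
theorem exists_specializes_of_mem_closure {X : Scheme.{u}} (U : X.Opens) (hU : IsRetrocompact (U : Set X))
    {v : X} (hv : v ∈ closure (U : Set X)) : ∃ y ∈ U, y ⤳ v := by
  by_contra hno
  push Not at hno
  obtain ⟨W, hW, hvW, -⟩ := exists_isAffineOpen_mem_and_subset (U := (⊤ : X.Opens)) (x := v) trivial
  have hcpt : IsCompact (((W ⊓ U : X.Opens) : Set X)) := by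
    rw [TopologicalSpace.Opens.coe_inf, Set.inter_comm]
    exact hU hW.isCompact W.isOpen
  choose g hg hmem using fun y : ((W ⊓ U : X.Opens) : Set X) => hW.exists_basicOpen_le ⟨y.1, y.2⟩ y.2.1
  obtain ⟨t, ht⟩ := hcpt.elim_finite_subcover (fun y => (X.basicOpen (g y) : Set X)) (fun y => (X.basicOpen (g y)).isOpen)
    (fun y hy => Set.mem_iUnion.2 ⟨⟨y, hy⟩, hmem ⟨y, hy⟩⟩)
  classical
  let s : Set Γ(X, W) := ↑(t.image g)
  have hfin : s.Finite := (t.image g).finite_toSet
  have hsub : ∀ f ∈ s, X.basicOpen f ≤ W ⊓ U := fun f hf => by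
    obtain ⟨y, -, rfl⟩ := Finset.mem_image.1 hf
    exact hg y
  have hf : ∀ f ∈ s, ∃ V : X.Opens, v ∈ V ∧ Disjoint (V : Set X) (X.basicOpen f : Set X) := by
    intro f hf
    obtain ⟨p, rfl⟩ : ∃ p, hW.fromSpec.base p = v := by
      have : v ∈ Set.range hW.fromSpec.base := by rw [hW.range_fromSpec]; exact hvW
      exact this
    have hq : ∀ q : Spec Γ(X, W), q.asIdeal ≤ p.asIdeal → f ∈ q.asIdeal := by
      intro q hqp
      by_contra hfq
      refine hno (hW.fromSpec.base q) ?_ (((PrimeSpectrum.le_iff_specializes q p).1 hqp).map hW.fromSpec.continuous)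
      have h1 : hW.fromSpec.base q ∈ X.basicOpen f := by
        have h2 : q ∈ hW.fromSpec ⁻¹ᵁ X.basicOpen f := by
          rw [hW.fromSpec_preimage_basicOpen]
          exact hfq
        exact h2
      exact (hsub f hf h1).2
    obtain ⟨s₀, hs₀, n, hn⟩ : ∃ s₀ ∉ p.asIdeal, ∃ n : ℕ, s₀ * f ^ n = 0 := by
      have hnil : IsNilpotent (algebraMap Γ(X, W) (Localization.AtPrime p.asIdeal) f) := by
        rw [nilpotent_iff_mem_prime]
        intro Q hQ
        have := hq ⟨Q.comap (algebraMap Γ(X, W) (Localization.AtPrime p.asIdeal)), hQ.comap _⟩ (by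
          intro b hb
          by_contra hbp
          exact hQ.ne_top (Ideal.eq_top_of_isUnit_mem _ hb
            (IsLocalization.map_units (M := p.asIdeal.primeCompl) _ ⟨b, hbp⟩)))
        exact this
      obtain ⟨n, hn⟩ := hnil
      rw [← map_pow, IsLocalization.map_eq_zero_iff p.asIdeal.primeCompl] at hn
      obtain ⟨⟨s₀, hs₀⟩, hn⟩ := hn
      exact ⟨s₀, hs₀, n, hn⟩
    refine ⟨X.basicOpen s₀, ?_, ?_⟩
    · have h2 : p ∈ hW.fromSpec ⁻¹ᵁ X.basicOpen s₀ := by
        rw [hW.fromSpec_preimage_basicOpen]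
        exact hs₀
      exact h2
    · rw [Set.disjoint_iff]
      intro y hy
      have h3 : y ∈ X.basicOpen (s₀ * f ^ (n + 1)) := by
        rw [Scheme.basicOpen_mul, Scheme.basicOpen_pow _ _ n.succ_pos]
        exact hy
      rw [pow_succ, ← _root_.mul_assoc, hn, zero_mul, Scheme.basicOpen_zero] at h3
      exact h3
  choose V hV hd using hf
  obtain ⟨y, ⟨hyW, hyV⟩, hyU⟩ := mem_closure_iff.mp hv ((W : Set X) ∩ ⋂ f ∈ s, ⋂ h : f ∈ s, (V f h : Set X))
    (W.isOpen.inter (hfin.isOpen_biInter fun f hf => isOpen_iInter_of_finite fun h => (V f h).isOpen))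
    ⟨hvW, Set.mem_iInter₂.2 fun f hf => Set.mem_iInter.2 fun h => hV f h⟩
  obtain ⟨y₀, hy₀, hyf⟩ := Set.mem_iUnion₂.1 (ht (show y ∈ ((W ⊓ U : X.Opens) : Set X) from ⟨hyW, hyU⟩))
  have hf : g y₀ ∈ s := Finset.mem_image_of_mem g hy₀
  exact Set.disjoint_left.1 (hd _ hf) (Set.mem_iInter.1 (Set.mem_iInter₂.1 hyV _ hf) hf) hyf

end Groth.Agent.SGA3cLib
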