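import Groth.Agent.SGA3cLib.CentralFib
import Groth.Agent.SGA3cLib.CentralEqBasic
import Groth.Agent.SGA3cLib.GeomConn

/-!
# Normal subgroups of multiplicative type of groups with connected fibres are central

Over a field the conjugation by the universal point is an endomorphism of a diagonalisable group over the connected
scheme underlying the group, hence given by one and the same map of character groups, which is the identity at the
origin.
-/

set_option linter.style.haveILetI false
set_option autoImplicit false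

universe u

open CategoryTheory CategoryTheory.Limits MonoidalCategory CartesianMonoidalCategory MonObj AlgebraicGeometry

noncomputable section

namespace Groth.Agent.SGA3cLib.NormalMultCentral

variable {U : Scheme.{u}} {M : Type} [AddCommGroup M]

theorem DSmap_id : Red.DSmap U (AddMonoidHom.id M) = 𝟙 (Red.DS U M) :=
  dsFn_injective (MonoidHom.ext fun m => by
    conv_lhs => rw [← Category.id_comp (Red.DSmap U _)]
    exact S5427.dsFn_DSmap _ (𝟙 _) m)

theorem exists_field_pt (z : U) :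
    ∃ (L : Type u) (_ : Field L) (l : Spec (CommRingCat.of L) ⟶ U), ∀ a, l.base a = z :=
  ⟨U.residueField z, inferInstance, U.fromSpecResidueField z, fun _ => Scheme.fromSpecResidueField_apply _ _⟩

/-- The map of character groups is determined above any point. -/
theorem charMap_ext {L : Type u} [Field L] (l : Spec (CommRingCat.of L) ⟶ U) (φ ψ : M →+ M)
    (h : ∀ (Y : Over (Spec (CommRingCat.of L))) (p : (Over.map l).obj Y ⟶ Red.DS U M),
      p ≫ Red.DSmap U φ = p ≫ Red.DSmap U ψ) : φ = ψ := by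
  let A := MonoidAlgebra L (Multiplicative M)
  obtain ⟨p, hp⟩ := MultHomLocus.exists_pt (M := M) l A (MonoidAlgebra.of L _)
  refine AddMonoidHom.ext fun m => ?_
  have h1 := congrArg (fun q => dsFn q (Multiplicative.ofAdd m)) (h _ p)
  simp only [S5427.dsFn_DSmap, hp] at h1
  have h2 := (Scheme.ΓSpecIso (CommRingCat.of A)).commRingCatIsoToRingEquiv.symm.injective h1
  have h3 := MonoidAlgebra.of_injective h2
  simpa using congrArg Multiplicative.toAdd h3

/-- A homomorphism of diagonalisable groups over a connected scheme which is trivial at one point is trivial. -/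
theorem eq_id [ConnectedSpace U] [AddGroup.FG M] (v : Red.DS U M ⟶ Red.DS U M) [IsMonHom v]
    {K : Type u} [Field K] (k : Spec (CommRingCat.of K) ⟶ U)
    (hk : ∀ (Y : Over (Spec (CommRingCat.of K))) (p : (Over.map k).obj Y ⟶ Red.DS U M), p ≫ v = p) : v = 𝟙 _ := by
  let Eq' : (M →+ M) → U.Opens → Prop := fun φ V => ∀ (W : Over U), Set.range W.hom.base ⊆ (V : Set U) →
    ∀ p : W ⟶ Red.DS U M, p ≫ v = p ≫ Red.DSmap U φ
  have loc : ∀ x : U, ∃ (V : U.Opens) (φ : M →+ M), x ∈ V ∧ Eq' φ V := fun x => DSHom.exists_eq_DSmap v x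
  choose V φ hxV hV using loc
  have agree : ∀ {x y z : U}, z ∈ V x → z ∈ V y → φ x = φ y := by
    intro x y z hx hy
    obtain ⟨L, _, l, hl⟩ := exists_field_pt z
    refine charMap_ext l _ _ fun Y p => ?_
    have hr : Set.range ((Over.map l).obj Y).hom.base ⊆ {z} := by
      rintro _ ⟨a, rfl⟩
      exact hl _
    rw [← hV x _ (hr.trans (Set.singleton_subset_iff.mpr hx)) p, hV y _ (hr.trans (Set.singleton_subset_iff.mpr hy)) p]
  let x₀ : U := k.base (default : PrimeSpectrum K)
  have hrange : ∀ (Y : Over (Spec (CommRingCat.of K))), Set.range ((Over.map k).obj Y).hom.base ⊆ {x₀} := by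
    rintro Y _ ⟨a, rfl⟩
    show k.base (Y.hom.base a) = x₀
    exact congrArg k.base (Subsingleton.elim (α := PrimeSpectrum K) _ _)
  have h0 : φ x₀ = AddMonoidHom.id M := charMap_ext k _ _ fun Y p => by
    rw [DSmap_id, Category.comp_id, ← hV x₀ _ ((hrange Y).trans (Set.singleton_subset_iff.mpr (hxV x₀))) p, hk Y p]
  -- the locus where the map of characters is the identity is open and closed
  let Z : Set U := {x | φ x = AddMonoidHom.id M}
  have hZ : IsClopen Z := by
    constructor
    · rw [← isOpen_compl_iff, isOpen_iff_forall_mem_open]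
      exact fun x hx => ⟨V x, fun y hy hy' => hx ((agree hy (hxV y)).trans hy'), (V x).2, hxV x⟩
    · rw [isOpen_iff_forall_mem_open]
      exact fun x hx => ⟨V x, fun y hy => (agree (hxV y) hy).trans hx, (V x).2, hxV x⟩
  have hall : Z = Set.univ := hZ.eq_univ ⟨x₀, h0⟩
  have hV' : ∀ x, Eq' (AddMonoidHom.id M) (V x) := fun x => by
    rw [← show φ x = AddMonoidHom.id M from hall.ge (Set.mem_univ x)]; exact hV x
  have hc : TopologicalSpace.IsOpenCover (fun x : U => (Red.DS U M).hom ⁻¹ᵁ V x) :=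
    TopologicalSpace.IsOpenCover.mk (eq_top_iff.2 fun y _ =>
      TopologicalSpace.Opens.mem_iSup.2 ⟨(Red.DS U M).hom.base y, hxV _⟩)
  refine Over.OverMorphism.ext (Scheme.Cover.hom_ext ((Red.DS U M).left.openCoverOfIsOpenCover _ hc) _ _ fun x => ?_)
  let O : (Red.DS U M).left.Opens := (Red.DS U M).hom ⁻¹ᵁ V x
  let p : Over.mk (O.ι ≫ (Red.DS U M).hom) ⟶ Red.DS U M := Over.homMk O.ι rfl
  have h1 := hV' x (Over.mk (O.ι ≫ (Red.DS U M).hom)) (by
    rintro _ ⟨a, rfl⟩
    exact a.2) p
  rw [DSmap_id, Category.comp_id] at h1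
  exact (congrArg (fun q => q.left) h1).trans (Category.comp_id _).symm

/-! ### Over a field -/

variable {L : Type u} [Field L] {G : Over (Spec (CommRingCat.of L))} [GrpObj G]
  [AddGroup.FG M]

theorem central_field [ConnectedSpace G.left] (v : Red.DS (Spec (CommRingCat.of L)) M ⟶ G) [IsMonHom v] [Mono v]
    (hn : AlgGrp.IsNormalHom v) (Y : Over (Spec (CommRingCat.of L))) (g : Y ⟶ G)
    (d : Y ⟶ Red.DS (Spec (CommRingCat.of L)) M) : g * (d ≫ v) = (d ≫ v) * g := by
  let D := Red.DS (Spec (CommRingCat.of L)) M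
  let U := G.left
  let π : U ⟶ Spec (CommRingCat.of L) := G.hom
  obtain ⟨c, hc⟩ := hn (G ⊗ D) (fst G D) (snd G D)
  have hcv : ∀ {T : Over (Spec (CommRingCat.of L))} (a : T ⟶ G) (b : T ⟶ D), (lift a b ≫ c) ≫ v = a * (b ≫ v) * a⁻¹ := by
    intro T a b
    rw [Category.assoc, ← hc, MonObj.comp_mul, MonObj.comp_mul, GrpObj.comp_inv, lift_fst, ← Category.assoc, lift_snd]
  let taut : ∀ X' : Over U, (Over.map π).obj X' ⟶ G := fun X' => Over.homMk X'.hom rfl
  let pr : (Over.map π).obj (Red.bc π D) ⟶ D := (Over.mapPullbackAdj π).counit.app D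
  let u₀ : Red.bc π D ⟶ Red.bc π D := BCPoints.pt π D _ (lift (taut _) pr ≫ c)
  have hu₀ : ∀ (X' : Over U) (e : (Over.map π).obj X' ⟶ D),
      BCPoints.pt π D X' e ≫ u₀ = BCPoints.pt π D X' (lift (taut X') e ≫ c) := by
    intro X' e
    rw [← BCPoints.pt_map_comp, ← Category.assoc, comp_lift]
    have e1 : (Over.map π).map (BCPoints.pt π D X' e) ≫ taut (Red.bc π D) = taut X' :=
      Over.OverMorphism.ext (Over.w (BCPoints.pt π D X' e))
    have e2 : (Over.map π).map (BCPoints.pt π D X' e) ≫ pr = e :=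
      ((Over.mapPullbackAdj π).homEquiv_counit _ _ _).symm.trans
        (((Over.mapPullbackAdj π).homEquiv X' D).symm_apply_apply e)
    rw [e1, e2]
  haveI : IsMonHom u₀ := BCPoints.isMonHom_of_mul _ fun X' x y => by
    obtain ⟨a, rfl⟩ := (BCPoints.pt π D X').surjective x
    obtain ⟨b, rfl⟩ := (BCPoints.pt π D X').surjective y
    rw [← BCPoints.pt_mul, hu₀, hu₀, hu₀, ← BCPoints.pt_mul]
    congr 1
    rw [← cancel_mono v, hcv, MonObj.mul_comp _ _ v, MonObj.mul_comp _ _ v, hcv, hcv]
    simp [_root_.mul_assoc]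
  obtain ⟨β, hβ, -⟩ := CentralEq.exists_bc_DS π
  haveI := hβ M
  haveI : IsMonHom (β M).inv := inferInstance
  let w : Red.DS U M ⟶ Red.DS U M := (β M).inv ≫ u₀ ≫ (β M).hom
  let e₀ : Spec (CommRingCat.of L) ⟶ U := η[G].left
  have he₀ : e₀ ≫ π = 𝟙 _ := Over.w η[G]
  have hw : w = 𝟙 _ := eq_id w e₀ fun X' p => by
    obtain ⟨e, he⟩ := (BCPoints.pt π D _).surjective (p ≫ (β M).inv)
    have h1 : lift (taut ((Over.map e₀).obj X')) e ≫ c = e := by
      have ht : taut ((Over.map e₀).obj X') = 1 := by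
        refine Over.OverMorphism.ext ?_
        rw [Hom.one_def]
        show X'.hom ≫ e₀ = ((X'.hom ≫ e₀) ≫ π) ≫ e₀
        rw [Category.assoc _ e₀ π, he₀, Category.comp_id]
      rw [← cancel_mono v, hcv, ht, _root_.one_mul, inv_one, _root_.mul_one]
    show p ≫ (β M).inv ≫ u₀ ≫ (β M).hom = p
    rw [← reassoc_of% he, reassoc_of% (hu₀ ((Over.map e₀).obj X') e), h1, reassoc_of% he, Iso.inv_hom_id, Category.comp_id]
  have hu : u₀ = 𝟙 _ := by
    have h1 : (β M).hom ≫ w ≫ (β M).inv = u₀ := by simp [w]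
    rw [← h1, hw, Category.id_comp, Iso.hom_inv_id]
  let X' : Over U := Over.mk g.left
  let i : Y ⟶ (Over.map π).obj X' := Over.homMk (𝟙 _) ((Category.id_comp _).trans (Over.w g))
  let j : (Over.map π).obj X' ⟶ Y := Over.homMk (𝟙 _) ((Category.id_comp _).trans (Over.w g).symm)
  have h2 := hu₀ X' (j ≫ d)
  rw [hu, Category.comp_id] at h2
  have h3 := congrArg (fun z => i ≫ z ≫ v) ((BCPoints.pt π D X').injective h2)
  simp only [hcv, MonObj.comp_mul, GrpObj.comp_inv, ← Category.assoc,
    show i ≫ j = 𝟙 Y from Over.OverMorphism.ext (Category.id_comp _), Category.id_comp,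
    show i ≫ taut X' = g from Over.OverMorphism.ext (Category.id_comp _)] at h3
  exact (eq_mul_inv_iff_mul_eq.mp h3).symm

/-! ### Over an arbitrary base -/

variable {S : Scheme.{u}}

theorem connectedSpace_bc (K : Over S) [GrpObj K]
    (hconn : ∀ s : S, ConnectedSpace ↥(pullback K.hom (S.fromSpecResidueField s)))
    (ω : Spec (CommRingCat.of L) ⟶ S) : ConnectedSpace ↥(pullback K.hom ω) := by
  obtain ⟨⟨s, θ⟩, rfl⟩ := (Scheme.SpecToEquivOfField L S).symm.surjective ω
  let σ := S.fromSpecResidueField s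
  haveI := hconn s
  let e : Spec (S.residueField s) ⟶ pullback K.hom σ :=
    pullback.lift (σ ≫ η[K].left) (𝟙 _) (by
      rw [Category.assoc, show η[K].left ≫ K.hom = 𝟙 _ from Over.w η[K]]; simp)
  haveI : GeometricallyConnected (pullback.snd K.hom σ) := by
    have := geometricallyConnected_of_rational_point (S.residueField s) (pullback.snd K.hom σ) (𝟙 _) e
      (pullback.lift_snd _ _ _) (fun x _ => ⟨x, rfl⟩)
    simpa using this
  haveI : ConnectedSpace ↥(pullback (pullback.snd K.hom σ) (Spec.map θ)) := inferInstance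
  exact (pullbackLeftPullbackSndIso K.hom σ (Spec.map θ)).hom.homeomorph.connectedSpace_iff.mp this

theorem central (K H : Over S) [GrpObj K] [GrpObj H] [LocallyOfFiniteType K.hom]
    (hconn : ∀ s : S, ConnectedSpace ↥(pullback K.hom (S.fromSpecResidueField s)))
    (i : H ⟶ K) [IsMonHom i] [Mono i] (hH : SGA3x.IsMultTypeFT H) (hn : AlgGrp.IsNormalHom i)
    (Y : Over S) (g : Y ⟶ K) (h : Y ⟶ H) : g * (h ≫ i) = (h ≫ i) * g := by
  refine CentralFib.central_of_fibres i hH (fun F _ ω Y p g h => ?_) Y g h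
  obtain ⟨S', f, hfl, hsu, hq, hU⟩ := hH
  obtain ⟨z, hz⟩ := (IsFpqcCov.of_forall f hq).pullback_snd ω |>.surjective.surj (default : PrimeSpectrum F)
  let z' := (pullback.fst f ω).base z
  obtain ⟨W, hzW, M, _, hM, ⟨e⟩⟩ := hU z'
  haveI := hM
  let L : Type u := (pullback f ω).residueField z
  let θ : Spec (CommRingCat.of L) ⟶ Spec (CommRingCat.of F) := (pullback f ω).fromSpecResidueField z ≫ pullback.snd f ω
  let ω' : Spec (CommRingCat.of L) ⟶ S := θ ≫ ω
  let k : Spec (CommRingCat.of L) ⟶ W :=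
    IsOpenImmersion.lift W.ι ((pullback f ω).fromSpecResidueField z ≫ pullback.fst f ω) (by
      rintro _ ⟨x, rfl⟩
      rw [Scheme.Hom.comp_apply, Scheme.fromSpecResidueField_apply, Scheme.Opens.range_ι]
      exact hzW)
  obtain ⟨a, ha, ha'⟩ := GrpBC.nonempty_iso_restrict (W.ι ≫ f) k ω' (by
    rw [IsOpenImmersion.lift_fac_assoc, Category.assoc, pullback.condition]; rfl) H e
  haveI := ha
  haveI := ha'
  haveI : ConnectedSpace (Red.bc ω' K).left := connectedSpace_bc K hconn ω'
  let v : Red.DS (Spec (CommRingCat.of L)) M ⟶ Red.bc ω' K := a.inv ≫ (Over.pullback ω').map i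
  haveI : (Over.pullback ω').IsRightAdjoint := (Over.mapPullbackAdj ω').isRightAdjoint
  haveI : Mono v := mono_comp _ _
  have hv : AlgGrp.IsNormalHom v := by
    intro T g₁ n₁
    obtain ⟨g₂, rfl⟩ := (BCPoints.pt ω' K T).surjective g₁
    obtain ⟨n₂, hn₂⟩ := (BCPoints.pt ω' H T).surjective (n₁ ≫ a.inv)
    obtain ⟨n₃, hn₃⟩ := hn _ g₂ n₂
    refine ⟨BCPoints.pt ω' H T n₃ ≫ a.hom, ?_⟩
    simp only [v, Category.assoc, Iso.hom_inv_id_assoc]
    rw [← reassoc_of% hn₂, ← BCPoints.pt_comp, ← BCPoints.pt_comp, ← BCPoints.pt_inv, ← BCPoints.pt_mul,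
      ← BCPoints.pt_mul, hn₃]
  have hc : ∀ (X : Over (Spec (CommRingCat.of L))) (g : X ⟶ Red.bc ω' K) (h : X ⟶ Red.bc ω' H),
      g * (h ≫ (Over.pullback ω').map i) = (h ≫ (Over.pullback ω').map i) * g := fun X g h => by
    have := central_field v hv X g (h ≫ a.hom)
    simpa [v] using this
  -- descend along the field extension
  haveI : Flat θ ∧ Surjective θ := by
    obtain ⟨φ, hφ⟩ := Spec.map_surjective θ
    rw [← hφ, flat_and_surjective_SpecMap_iff]
    letI := φ.hom.toAlgebra
    exact (inferInstanceAs (Module.FaithfullyFlat F L))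
  haveI : Flat θ := this.1
  haveI : Surjective θ := by exact ‹Flat θ ∧ Surjective θ›.2
  let q := pullback.fst p.left θ
  let Z : Over S := Over.mk (q ≫ Y.hom)
  let qq : Z ⟶ Y := Over.homMk q rfl
  haveI : Epi q := Flat.epi_of_flat_of_surjective q
  haveI : Epi qq := (Over.forget S).epi_of_epi_map (f := qq) ‹_›
  rw [← cancel_epi qq, MonObj.comp_mul, MonObj.comp_mul, ← Category.assoc]
  refine CentralFib.commute_of_bc i ω' hc (𝟙 _) (Category.id_comp _) Z
    (Over.homMk (pullback.snd p.left θ) ?_) _ _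
  show pullback.snd p.left θ ≫ θ ≫ ω = q ≫ Y.hom
  rw [← pullback.condition_assoc]
  congr 1
  exact Over.w p

end Groth.Agent.SGA3cLib.NormalMultCentral
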