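import Groth.Agent.SGA3cLib.GeomConn
import Groth.Agent.H8Top.Components

/-!
# The component of a section of a scheme over an artinian local ring
-/

set_option autoImplicit false
set_option backward.isDefEq.respectTransparency.types false

universe u

open CategoryTheory Limits AlgebraicGeometry

namespace Groth.Agent.SGA3cLib

theorem isOpen_connectedComponent {X : Scheme.{u}} [IsLocallyNoetherian X] (x : X) :
    IsOpen (connectedComponent x) := by
  refine H8Top.IsLocNoetherian.isOpen_connectedComponent (fun y => ?_) x
  obtain ⟨U, hU, hyU, -⟩ := exists_isAffineOpen_mem_and_subset (U := ⊤) (x := y) trivial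
  haveI : IsAffine (U : Scheme.{u}) := hU
  haveI : CompactSpace ↥(U : Scheme.{u}) := isCompact_iff_compactSpace.mp hU.isCompact
  haveI : IsNoetherian (U : Scheme.{u}) := ⟨⟩
  exact ⟨U, U.isOpen.mem_nhds hyU, inferInstanceAs (TopologicalSpace.NoetherianSpace ↥(U : Scheme.{u}))⟩

/-- Over a field, `C × C` and `C × {g}` are preconnected for the component `C` of a rational point. -/
theorem isPreconnected_component_prod (k : Type u) [Field k] {X : Scheme.{u}}
    (f : X ⟶ Spec (CommRingCat.of k)) (x : Spec (CommRingCat.of k) ⟶ X) (hx : x ≫ f = 𝟙 _)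
    (x₀ : X) (hx₀ : x₀ ∈ Set.range x.base) :
    _root_.IsPreconnected ((pullback.fst f f).base ⁻¹' connectedComponent x₀ ∩
      (pullback.snd f f).base ⁻¹' connectedComponent x₀) ∧
    ∀ y : X, _root_.IsPreconnected ((pullback.fst f f).base ⁻¹' connectedComponent x₀ ∩
      (pullback.snd f f).base ⁻¹' {y}) := by
  constructor
  · let Z : TopologicalSpace.Closeds X := ⟨connectedComponent x₀, isClosed_connectedComponent⟩
    let I := Scheme.IdealSheafData.vanishingIdeal Z
    let j := I.subschemeι
    have hr : Set.range j.base = connectedComponent x₀ := by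
      rw [Scheme.IdealSheafData.range_subschemeι]
      exact Scheme.IdealSheafData.coe_support_vanishingIdeal Z
    haveI : ConnectedSpace ↥I.subscheme := by
      haveI : Nonempty ↥I.subscheme := by
        obtain ⟨d, -⟩ := hr.ge (mem_connectedComponent (x := x₀))
        exact ⟨d⟩
      haveI : PreconnectedSpace ↥I.subscheme := by
        refine ⟨j.isClosedEmbedding.isInducing.isPreconnected_image.mp ?_⟩
        rw [Set.image_univ, hr]
        exact isPreconnected_connectedComponent
      exact ⟨inferInstance⟩
    let μ := pullback.map f (j ≫ f) f f (𝟙 X) j (𝟙 _) (by simp) (by simp)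
    have hμ : Set.range μ.base = (pullback.snd f f).base ⁻¹' connectedComponent x₀ := by
      rw [Scheme.Pullback.range_map]
      simp [hr]
    have h := isPreconnected_preimage_connectedComponent k f x hx x₀ hx₀ (j ≫ f)
    have := h.image μ.base μ.continuous.continuousOn
    convert this using 1
    ext p
    constructor
    · rintro ⟨h1, h2⟩
      obtain ⟨q, rfl⟩ := hμ.ge h2
      refine ⟨q, ?_, rfl⟩
      change (μ ≫ pullback.fst f f).base q ∈ connectedComponent x₀ at h1
      rw [pullback.lift_fst, Category.comp_id] at h1
      exact h1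
    · rintro ⟨q, hq, rfl⟩
      refine ⟨?_, hμ.le ⟨q, rfl⟩⟩
      change (μ ≫ pullback.fst f f).base q ∈ connectedComponent x₀
      rw [pullback.lift_fst, Category.comp_id]
      exact hq
  · intro y
    let g := X.fromSpecResidueField y
    let μ := pullback.map f (g ≫ f) f f (𝟙 X) g (𝟙 _) (by simp) (by simp)
    have hμ : Set.range μ.base = (pullback.snd f f).base ⁻¹' {y} := by
      rw [Scheme.Pullback.range_map]
      simp [g, Scheme.range_fromSpecResidueField]
    have h := isPreconnected_preimage_connectedComponent k f x hx x₀ hx₀ (g ≫ f)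
    have := h.image μ.base μ.continuous.continuousOn
    convert this using 1
    ext p
    constructor
    · rintro ⟨h1, h2⟩
      obtain ⟨q, rfl⟩ := hμ.ge h2
      refine ⟨q, ?_, rfl⟩
      change (μ ≫ pullback.fst f f).base q ∈ connectedComponent x₀ at h1
      rw [pullback.lift_fst, Category.comp_id] at h1
      exact h1
    · rintro ⟨q, hq, rfl⟩
      refine ⟨?_, hμ.le ⟨q, rfl⟩⟩
      change (μ ≫ pullback.fst f f).base q ∈ connectedComponent x₀
      rw [pullback.lift_fst, Category.comp_id]
      exact hq

/-- The same over an artinian local ring, for the component of a section. -/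
theorem isPreconnected_component_prod_artinian (A : Type u) [CommRing A] [IsArtinianRing A] [IsLocalRing A]
    {X : Scheme.{u}} (f : X ⟶ Spec (CommRingCat.of A)) (x : Spec (CommRingCat.of A) ⟶ X) (hx : x ≫ f = 𝟙 _)
    (pt : Spec (CommRingCat.of A)) :
    _root_.IsPreconnected ((pullback.fst f f).base ⁻¹' connectedComponent (x.base pt) ∩
      (pullback.snd f f).base ⁻¹' connectedComponent (x.base pt)) ∧
    ∀ y : X, _root_.IsPreconnected ((pullback.fst f f).base ⁻¹' connectedComponent (x.base pt) ∩
      (pullback.snd f f).base ⁻¹' {y}) := by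
  let k := IsLocalRing.ResidueField A
  let i : Spec (CommRingCat.of k) ⟶ Spec (CommRingCat.of A) :=
    Spec.map (CommRingCat.ofHom (IsLocalRing.residue A))
  haveI : IsClosedImmersion i := IsClosedImmersion.spec_of_surjective _ IsLocalRing.residue_surjective
  haveI : Surjective i := ⟨fun p => ⟨IsLocalRing.closedPoint k,
    Subsingleton.elim (α := PrimeSpectrum A) _ _⟩⟩
  let π := pullback.fst f i
  let f' := pullback.snd f i
  let x' : Spec (CommRingCat.of k) ⟶ pullback f i :=
    pullback.lift (i ≫ x) (𝟙 _) (by rw [Category.assoc, hx, Category.comp_id, Category.id_comp])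
  let e : ↥(pullback f i) ≃ₜ X := π.isClosedEmbedding.toIsEmbedding.toHomeomorphOfSurjective π.surjective
  let x₀ := x'.base (IsLocalRing.closedPoint k)
  have hx₀ : e x₀ = x.base pt := by
    change (x' ≫ π).base (IsLocalRing.closedPoint k) = _
    rw [pullback.lift_fst]
    change x.base (i.base _) = _
    exact congrArg x.base (Subsingleton.elim (α := PrimeSpectrum A) _ _)
  have hC : ∀ z : ↥(pullback f i), z ∈ connectedComponent x₀ ↔ π.base z ∈ connectedComponent (x.base pt) := fun z => by
    rw [← hx₀]
    constructor
    · intro hz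
      exact e.continuous.image_connectedComponent_subset x₀ ⟨z, hz, rfl⟩
    · intro hz
      have := e.symm.continuous.image_connectedComponent_subset _ ⟨e z, hz, rfl⟩
      simpa using this
  let Q := pullback.map f' f' f f π π i pullback.condition.symm pullback.condition.symm
  have hQ : Function.Surjective Q.base := fun p => by
    have : p ∈ Set.range Q.base := by
      rw [Scheme.Pullback.range_map]
      simp [π.surjective.range_eq]
    exact this
  have h1 : ∀ q, (pullback.fst f f).base (Q.base q) = π.base ((pullback.fst f' f').base q) := fun q => by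
    change (Q ≫ pullback.fst f f).base q = _
    rw [pullback.lift_fst]; rfl
  have h2 : ∀ q, (pullback.snd f f).base (Q.base q) = π.base ((pullback.snd f' f').base q) := fun q => by
    change (Q ≫ pullback.snd f f).base q = _
    rw [pullback.lift_snd]; rfl
  obtain ⟨hA, hB⟩ := isPreconnected_component_prod k f' x' (pullback.lift_snd _ _ _) x₀ ⟨_, rfl⟩
  constructor
  · convert hA.image Q.base Q.continuous.continuousOn using 1
    ext p
    obtain ⟨q, rfl⟩ := hQ p
    constructor
    · rintro ⟨a, b⟩
      refine ⟨q, ⟨(hC _).2 ?_, (hC _).2 ?_⟩, rfl⟩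
      · rw [← h1]; exact a
      · rw [← h2]; exact b
    · rintro ⟨q', ⟨a, b⟩, hq'⟩
      rw [← hq']
      refine ⟨?_, ?_⟩
      · change _ ∈ connectedComponent (x.base pt); rw [h1]; exact (hC _).1 a
      · change _ ∈ connectedComponent (x.base pt); rw [h2]; exact (hC _).1 b
  · intro y
    obtain ⟨y', rfl⟩ := π.surjective y
    convert (hB y').image Q.base Q.continuous.continuousOn using 1
    ext p
    obtain ⟨q, rfl⟩ := hQ p
    constructor
    · rintro ⟨a, b⟩
      refine ⟨q, ⟨(hC _).2 ?_, ?_⟩, rfl⟩
      · rw [← h1]; exact a
      · change _ = y'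
        exact π.isClosedEmbedding.injective ((h2 q).symm.trans b)
    · rintro ⟨q', ⟨a, b⟩, hq'⟩
      rw [← hq']
      refine ⟨?_, ?_⟩
      · change _ ∈ connectedComponent (x.base pt); rw [h1]; exact (hC _).1 a
      · change _ = π.base y'; rw [h2]; exact congrArg π.base b

end Groth.Agent.SGA3cLib
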