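import Groth.Agent.SGA3cLib.MTTransporterSub

/-! Normalizers of subgroups of multiplicative type; the centralizer is open and closed in the normalizer. -/

set_option linter.style.haveILetI false
set_option autoImplicit false

universe u

open CategoryTheory CategoryTheory.Limits MonoidalCategory CartesianMonoidalCategory MonObj GrpObj AlgebraicGeometry

noncomputable section

namespace Groth.Agent.SGA3cLib.MTNormalizer

open MTTransporterSub (Contain)

variable {S : Scheme.{u}}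

section

variable {H₁ H₂ G : Over S} [GrpObj H₁] [GrpObj H₂] [GrpObj G] (i₁ : H₁ ⟶ G) (i₂ : H₂ ⟶ G)

theorem both_iff {X : Over S} (g : X ⟶ G) :
    (∀ (X' : Over S) (x : X' ⟶ X),
      (∀ h₁ : X' ⟶ H₁, ∃ h₂ : X' ⟶ H₂, (x ≫ g) * (h₁ ≫ i₁) * (x ≫ g)⁻¹ = h₂ ≫ i₂) ∧
      (∀ h₂ : X' ⟶ H₂, ∃ h₁ : X' ⟶ H₁, (x ≫ g)⁻¹ * (h₂ ≫ i₂) * (x ≫ g) = h₁ ≫ i₁)) ↔
    Contain i₁ i₂ g ∧ Contain i₂ i₁ g⁻¹ := by
  refine ⟨fun h => ⟨fun X' x a => (h X' x).1 a, fun X' x a => ?_⟩, fun h X' x => ⟨fun a => h.1 X' x a, fun a => ?_⟩⟩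
  · obtain ⟨b, hb⟩ := (h X' x).2 a
    exact ⟨b, by rw [GrpObj.comp_inv, _root_.inv_inv]; exact hb⟩
  · obtain ⟨b, hb⟩ := h.2 X' x a
    rw [GrpObj.comp_inv, _root_.inv_inv] at hb
    exact ⟨b, hb⟩

end

variable {H G : Over S} [GrpObj H] [GrpObj G] (i : H ⟶ G)

theorem normalizer_iff {X : Over S} (g : X ⟶ G) :
    (∀ (X' : Over S) (x : X' ⟶ X) (h : X' ⟶ H),
      (∃ h' : X' ⟶ H, (x ≫ g) * (h ≫ i) * (x ≫ g)⁻¹ = h' ≫ i) ∧
      (∃ h' : X' ⟶ H, (x ≫ g)⁻¹ * (h ≫ i) * (x ≫ g) = h' ≫ i)) ↔ Contain i i g ∧ Contain i i g⁻¹ := by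
  rw [← both_iff]
  exact ⟨fun h X' x => ⟨fun a => (h X' x a).1, fun a => (h X' x a).2⟩, fun h X' x a => ⟨(h X' x).1 a, (h X' x).2 a⟩⟩

variable [IsMonHom i] [Mono i] [IsAffineHom G.hom] [Smooth G.hom]

theorem exists_normalizer (hH : SGA3x.IsMultTypeFT H) :
    ∃ (N : Over S) (_ : GrpObj N) (j : N ⟶ G), Red.IsNormalizerOf i j ∧ IsClosedImmersion j.left ∧ Smooth N.hom := by
  obtain ⟨T, j, hj, hsm, hT⟩ := MTTransporterSub.exists_equal i i hH hH
  haveI : Mono j := (Over.forget S).mono_of_mono_map (inferInstanceAs (Mono j.left))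
  have key : ∀ (X : Over S) (g : X ⟶ G), (∃ t : X ⟶ T, t ≫ j = g) ↔
      ∀ (X' : Over S) (x : X' ⟶ X) (h : X' ⟶ H),
        (∃ h' : X' ⟶ H, (x ≫ g) * (h ≫ i) * (x ≫ g)⁻¹ = h' ≫ i) ∧
        (∃ h' : X' ⟶ H, (x ≫ g)⁻¹ * (h ≫ i) * (x ≫ g) = h' ≫ i) :=
    fun X g => (hT X g).trans (normalizer_iff i g).symm
  obtain ⟨gr, hmon⟩ := exists_grpObj_of_subgroup j
    (fun X => (key X 1).2 fun X' x h => ⟨⟨h, by simp⟩, ⟨h, by simp⟩⟩)
    (fun X a b => (key X _).2 fun X' x h => by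
      have ha := fun h => (key X _).1 ⟨a, rfl⟩ X' x h
      have hb := fun h => (key X _).1 ⟨b, rfl⟩ X' x h
      constructor
      · obtain ⟨h₁, e₁⟩ := (hb h).1
        obtain ⟨h₂, e₂⟩ := (ha h₁).1
        exact ⟨h₂, by rw [← e₂, ← e₁, MonObj.comp_mul]; group⟩
      · obtain ⟨h₁, e₁⟩ := (ha h).2
        obtain ⟨h₂, e₂⟩ := (hb h₁).2
        exact ⟨h₂, by rw [← e₂, ← e₁, MonObj.comp_mul]; group⟩)
    (fun X a => (key X _).2 fun X' x h => by
      have ha := (key X _).1 ⟨a, rfl⟩ X' x h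
      rw [GrpObj.comp_inv, _root_.inv_inv]
      exact ⟨ha.2, ha.1⟩)
  exact ⟨T, gr, j, ⟨hmon, inferInstance, key⟩, hj, hsm⟩

theorem centralizer_openClosed {Z N : Over S} [GrpObj Z] [GrpObj N] (hH : SGA3x.IsMultTypeFT H)
    (j : Z ⟶ G) (k : N ⟶ G) (hj : Red.IsCentralizerOf i j) (hk : Red.IsNormalizerOf i k) :
    ∃ f : Z ⟶ N, f ≫ k = j ∧ IsOpenImmersion f.left ∧ IsClosedImmersion f.left := by
  have mH := CentralFib.locally_of_multTypeFT hH
  obtain ⟨-, hjm, hjp⟩ := hj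
  obtain ⟨-, hkm, hkp⟩ := hk
  -- both are closed in `G`
  obtain ⟨Z', _, j', ⟨-, hj'm, hj'p⟩, hj'c, hj's⟩ := MTTransporter.exists_centralizer i mH
  obtain ⟨N', _, k', ⟨-, hk'm, hk'p⟩, hk'c, hk's⟩ := exists_normalizer i hH
  haveI := hjm; haveI := hkm; haveI := hj'm; haveI := hk'm
  have comparison : ∀ {A B : Over S} (a : A ⟶ G) (b : B ⟶ G) [Mono a] [Mono b],
      (∀ (X : Over S) (g : X ⟶ G), (∃ z : X ⟶ A, z ≫ a = g) ↔ ∃ z : X ⟶ B, z ≫ b = g) →
      ∃ e : A ≅ B, e.hom ≫ b = a := by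
    intro A B a b _ _ h
    obtain ⟨p, hp⟩ := (h A a).1 ⟨𝟙 A, Category.id_comp a⟩
    obtain ⟨q, hq⟩ := (h B b).2 ⟨𝟙 B, Category.id_comp b⟩
    exact ⟨⟨p, q, by rw [← cancel_mono a, Category.assoc, hq, hp, Category.id_comp],
      by rw [← cancel_mono b, Category.assoc, hp, hq, Category.id_comp]⟩, hp⟩
  obtain ⟨eZ, heZ⟩ := comparison j j' fun X g => (hjp X g).trans (hj'p X g).symm
  obtain ⟨eN, heN⟩ := comparison k k' fun X g => (hkp X g).trans (hk'p X g).symm
  haveI := hj'c; haveI := hk'c; haveI := hj's; haveI := hk's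
  haveI : IsIso eZ.hom.left := (CentralEq.isIso_left_iff eZ.hom).2 inferInstance
  haveI : IsIso eN.hom.left := (CentralEq.isIso_left_iff eN.hom).2 inferInstance
  haveI : IsClosedImmersion j.left := by
    rw [← heZ]; exact inferInstanceAs (IsClosedImmersion (eZ.hom.left ≫ j'.left))
  haveI : IsClosedImmersion k.left := by
    rw [← heN]; exact inferInstanceAs (IsClosedImmersion (eN.hom.left ≫ k'.left))
  haveI : Smooth Z.hom := by
    rw [← Over.w eZ.hom]; exact inferInstanceAs (Smooth (eZ.hom.left ≫ Z'.hom))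
  haveI : Smooth N.hom := by
    rw [← Over.w eN.hom]; exact inferInstanceAs (Smooth (eN.hom.left ≫ N'.hom))
  obtain ⟨f, hf⟩ := (hkp Z j).2 fun X' x h => by
    have hc := (hjp Z j).1 ⟨𝟙 Z, Category.id_comp j⟩ X' x h
    exact ⟨⟨h, by rw [hc, mul_inv_cancel_right]⟩, ⟨h, by rw [_root_.mul_assoc, ← hc, inv_mul_cancel_left]⟩⟩
  have hfl : f.left ≫ k.left = j.left := congrArg CommaMorphism.left hf
  haveI : IsClosedImmersion f.left := by
    haveI : IsClosedImmersion (f.left ≫ k.left) := by rw [hfl]; infer_instance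
    exact IsClosedImmersion.of_comp f.left k.left
  refine ⟨f, hf, ?_, inferInstance⟩
  haveI : LocallyOfFinitePresentation (f.left ≫ N.hom) := by rw [Over.w f]; infer_instance
  haveI : LocallyOfFinitePresentation f.left := EGA43.Limit.locallyOfFinitePresentation_of_comp f.left N.hom
  haveI : Smooth f.left := (S1488.result f.left).2 ⟨inferInstance, fun A _ I hI a l w => by
    let b := l ≫ N.hom
    let n : (Over.map b).obj (𝟙_ _) ⟶ N := Over.homMk l (Category.id_comp _).symm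
    obtain ⟨hc, hc'⟩ := (normalizer_iff i (n ≫ k)).1 ((hkp _ _).1 ⟨n, rfl⟩)
    have hc₁ := (MTTransporterSub.contain_pt i i b (n ≫ k)).1 hc
    haveI : (Over.pullback b).IsRightAdjoint := (Over.mapPullbackAdj b).isRightAdjoint
    let iA := (Over.pullback b).map i
    let gA := BCPoints.pt b G _ (n ≫ k)
    let HA := Red.bc b H
    obtain ⟨φ, hφ⟩ := hc₁ HA (toUnit HA) (𝟙 HA)
    have eφ : ∀ {Y : Over (Spec (CommRingCat.of A))} (h : Y ⟶ HA),
        h ≫ φ ≫ iA = (toUnit Y ≫ gA) * (h ≫ iA) * (toUnit Y ≫ gA)⁻¹ := fun {Y} h => by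
      rw [← hφ]
      simp only [MonObj.comp_mul, GrpObj.comp_inv, Category.id_comp, ← Category.assoc, comp_toUnit, gA, iA]
    haveI : IsMonHom φ := BCPoints.isMonHom_of_mul φ fun Y x y => by
      rw [← cancel_mono iA, Category.assoc, eφ, MonObj.mul_comp _ _ iA, MonObj.mul_comp _ _ iA, Category.assoc,
        Category.assoc, eφ, eφ]
      group
    have hφ1 : φ = 𝟙 HA := MultHomLift.hom_ext I ⟨2, by simpa using hI⟩ (BCPoints.locally_bc b H mH)
      (BCPoints.locally_bc b H mH) φ (𝟙 HA) fun X p h => by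
      rw [← cancel_mono iA, Category.assoc, eφ, Category.comp_id]
      obtain ⟨h₁, rfl⟩ := (BCPoints.pt b H X).surjective h
      let t : (Over.map b).obj X ⟶ Z := Over.homMk (p.left ≫ a) (by
        have hp := Over.w p
        change p.left ≫ Spec.map _ = X.hom at hp
        show (p.left ≫ a) ≫ Z.hom = X.hom ≫ b
        rw [← Over.w f, ← hp, Category.assoc, Category.assoc]
        exact congrArg (p.left ≫ ·) ((Category.assoc _ _ _).symm.trans
          ((congrArg (· ≫ N.hom) w.symm).trans (Category.assoc _ _ _))))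
      have ht : t ≫ j = (Over.map b).map (toUnit X) ≫ n ≫ k := by
        rw [← hf]
        refine Over.OverMorphism.ext ?_
        have hp := Over.w p
        change p.left ≫ Spec.map _ = X.hom at hp
        show (p.left ≫ a) ≫ f.left ≫ k.left = X.hom ≫ l ≫ k.left
        rw [← hp, Category.assoc, Category.assoc]
        exact congrArg (p.left ≫ ·) ((Category.assoc _ _ _).symm.trans
          ((congrArg (· ≫ k.left) w.symm).trans (Category.assoc _ _ _)))
      have hcc := (hjp _ _).1 ⟨t, rfl⟩ _ (𝟙 _) h₁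
      rw [Category.id_comp, ht] at hcc
      rw [show toUnit X ≫ gA = BCPoints.pt b G X ((Over.map b).map (toUnit X) ≫ n ≫ k) from
        (BCPoints.pt_map_comp b _ _).symm, ← BCPoints.pt_comp, ← BCPoints.pt_mul, hcc, BCPoints.pt_mul,
        mul_inv_cancel_right]
    obtain ⟨z, hz⟩ := (hjp _ (n ≫ k)).2 fun X' x h => by
      let Y : Over (Spec (CommRingCat.of A)) := Over.mk x.left
      have hw : x.left ≫ b = X'.hom := by
        have := Over.w x
        change x.left ≫ 𝟙 _ ≫ b = X'.hom at this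
        rwa [Category.id_comp] at this
      let κ : X' ⟶ (Over.map b).obj Y := Over.homMk (𝟙 _) ((Category.id_comp _).trans hw)
      let κ' : (Over.map b).obj Y ⟶ X' := Over.homMk (𝟙 _) ((Category.id_comp _).trans hw.symm)
      have hκ : κ ≫ κ' = 𝟙 X' := Over.OverMorphism.ext (Category.id_comp _)
      have hx : κ' ≫ x = (Over.map b).map (toUnit Y) := Over.OverMorphism.ext (Category.id_comp _)
      have h1 := eφ (BCPoints.pt b H Y (κ' ≫ h))
      rw [hφ1, Category.id_comp, eq_mul_inv_iff_mul_eq, ← BCPoints.pt_comp,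
        show toUnit Y ≫ gA = BCPoints.pt b G Y ((Over.map b).map (toUnit Y) ≫ n ≫ k) from
          (BCPoints.pt_map_comp b _ _).symm, ← BCPoints.pt_mul, ← BCPoints.pt_mul] at h1
      have h2 := congrArg (κ ≫ ·) ((BCPoints.pt b G Y).injective h1)
      simp only [← hx, MonObj.comp_mul, ← Category.assoc, hκ, Category.id_comp] at h2
      rw [← Category.assoc]
      exact h2.symm
    have hzf : z ≫ f = n := by rw [← cancel_mono k, Category.assoc, hf, hz]
    refine ⟨z.left, ?_, congrArg CommaMorphism.left hzf⟩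
    rw [← cancel_mono f.left, Category.assoc, show z.left ≫ f.left = l from congrArg CommaMorphism.left hzf]
    exact w⟩
  exact IsOpenImmersion.of_flat_of_mono f.left

end Groth.Agent.SGA3cLib.MTNormalizer
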