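import Groth.Agent.SGA3cLib.MultFibTrivAction
import Groth.Agent.SGA3cLib.CentralDescent

/-! Centrality of a homomorphism from a group of multiplicative type is tested on the fibres. -/

set_option linter.style.haveILetI false
set_option autoImplicit false

universe u

open CategoryTheory CategoryTheory.Limits MonoidalCategory CartesianMonoidalCategory MonObj AlgebraicGeometry

noncomputable section

namespace Groth.Agent.SGA3cLib.CentralFib

theorem locally_of_multTypeFT {S : Scheme.{u}} {H : Over S} [GrpObj H] (hH : SGA3x.IsMultTypeFT H) :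
    TwC.Locally S TwC.Topology.fpqc (fun T g => ∃ (M : Type) (_ : AddCommGroup M),
      Nonempty (Grp.mk (Red.bc g H) ≅ Grp.mk (Red.DS T M))) := by
  obtain ⟨S', f, h1, h2, h3, h4⟩ := hH
  refine ⟨S', f, h1, h2, h3, fun s' => ?_⟩
  obtain ⟨U, hU, M, _, _, e⟩ := h4 s'
  exact ⟨U, hU, M, inferInstance, e⟩

variable {S : Scheme.{u}} {H G : Over S} [GrpObj H] [GrpObj G] (u : H ⟶ G) [IsMonHom u]

/-- Conjugation through `u`. -/
def conjAct : H ⊗ G ⟶ G := (fst H G ≫ u) * snd H G * (fst H G ≫ u)⁻¹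

theorem lift_conjAct {Y : Over S} (h : Y ⟶ H) (g : Y ⟶ G) :
    lift h g ≫ conjAct u = (h ≫ u) * g * (h ≫ u)⁻¹ := by
  simp [conjAct, MonObj.comp_mul, GrpObj.comp_inv, ← Category.assoc]

/-- Conjugation through `u` as an action. -/
def conjAction : AlgGrp.Action H G where
  act := conjAct u
  one_act := by
    have h1 : (η[H] ▷ G) = lift (1 : 𝟙_ _ ⊗ G ⟶ H) (snd _ _) := by
      apply CartesianMonoidalCategory.hom_ext
      · rw [whiskerRight_fst, lift_fst, Hom.one_def]
        congr 1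
      · rw [whiskerRight_snd, lift_snd]
    rw [h1, lift_conjAct, leftUnitor_hom, MonObj.one_comp, _root_.one_mul, inv_one, _root_.mul_one]
  mul_act := by
    let a := fst (H ⊗ H) G ≫ fst H H
    let b := fst (H ⊗ H) G ≫ snd H H
    have h1 : (μ[H] ▷ G) = lift (a * b) (snd _ _) := by
      apply CartesianMonoidalCategory.hom_ext
      · rw [whiskerRight_fst, lift_fst, Hom.mul_def, ← comp_lift, lift_fst_snd, Category.comp_id]
      · rw [whiskerRight_snd, lift_snd]
    have h2 : (α_ H H G).hom ≫ (H ◁ conjAct u) = lift a (lift b (snd _ _) ≫ conjAct u) := by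
      apply CartesianMonoidalCategory.hom_ext
      · simp [a]
      · simp only [Category.assoc, whiskerLeft_snd, lift_snd]
        rw [← Category.assoc]
        congr 1
        apply CartesianMonoidalCategory.hom_ext <;> simp [b]
    rw [h1, lift_conjAct, reassoc_of% h2, lift_conjAct, lift_conjAct, MonObj.mul_comp, mul_inv_rev]
    simp only [_root_.mul_assoc]

theorem central_of_fibres (hH : SGA3x.IsMultTypeFT H) [LocallyOfFiniteType G.hom]
    (h0 : ∀ (K : Type u) [Field K] (ω : Spec (CommRingCat.of K) ⟶ S) (Y : Over S) (_ : Y ⟶ Over.mk ω)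
      (g : Y ⟶ G) (h : Y ⟶ H), g * (h ≫ u) = (h ≫ u) * g)
    (Y : Over S) (g : Y ⟶ G) (h : Y ⟶ H) : g * (h ≫ u) = (h ≫ u) * g := by
  have h1 := MultFibTriv.action_trivial H G (locally_of_multTypeFT hH) (conjAction u) (fun K _ ω Y p h g => by
    show lift h g ≫ conjAct u = g
    rw [lift_conjAct, ← h0 K ω Y p g h, mul_inv_cancel_right]) Y h g
  change lift h g ≫ conjAct u = g at h1
  rw [lift_conjAct, mul_inv_eq_iff_eq_mul] at h1
  exact h1.symm

omit [IsMonHom u] in
/-- Centrality on a base change, on points above it. -/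
theorem commute_map {T : Scheme.{u}} (f : T ⟶ S) (v : Red.bc f H ⟶ Red.bc f G) (hv : (Over.pullback f).map u = v)
    (hf : ∀ (X : Over T) (g : X ⟶ Red.bc f G) (h : X ⟶ Red.bc f H), g * (h ≫ v) = (h ≫ v) * g)
    (X' : Over T) (g : (Over.map f).obj X' ⟶ G) (h : (Over.map f).obj X' ⟶ H) : g * (h ≫ u) = (h ≫ u) * g := by
  apply (BCPoints.pt f G X').injective
  have e : BCPoints.pt f G X' (h ≫ u) = BCPoints.pt f H X' h ≫ v := by
    rw [← hv]; exact BCPoints.pt_comp f h u
  rw [BCPoints.pt_mul f g (h ≫ u), BCPoints.pt_mul f (h ≫ u) g, e]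
  exact hf X' (BCPoints.pt f G X' g) (BCPoints.pt f H X' h)

omit [IsMonHom u] in
/-- Centrality on a fibre, on points above it. -/
theorem commute_of_bc {T T' : Scheme.{u}} (f : T ⟶ S)
    (hf : ∀ (X : Over T) (g : X ⟶ Red.bc f G) (h : X ⟶ Red.bc f H),
      g * (h ≫ (Over.pullback f).map u) = (h ≫ (Over.pullback f).map u) * g)
    (k : T' ⟶ T) {f' : T' ⟶ S} (hk : k ≫ f = f') (Y : Over S) (p : Y ⟶ Over.mk f') (g : Y ⟶ G) (h : Y ⟶ H) :
    g * (h ≫ u) = (h ≫ u) * g := by
  let i : Y ⟶ (Over.map f).obj (Over.mk (p.left ≫ k)) := Over.homMk (𝟙 _) (by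
    show 𝟙 _ ≫ (p.left ≫ k) ≫ f = Y.hom
    rw [Category.id_comp, Category.assoc, hk]; exact Over.w p)
  let j : (Over.map f).obj (Over.mk (p.left ≫ k)) ⟶ Y := Over.homMk (𝟙 _) (by
    show 𝟙 _ ≫ Y.hom = (p.left ≫ k) ≫ f
    rw [Category.id_comp, Category.assoc, hk]; exact (Over.w p).symm)
  have hij : i ≫ j = 𝟙 Y := Over.OverMorphism.ext (Category.id_comp _)
  have h1 : (j ≫ g) * ((j ≫ h) ≫ u) = ((j ≫ h) ≫ u) * (j ≫ g) :=
    commute_map u f _ rfl hf (Over.mk (p.left ≫ k)) (j ≫ g) (j ≫ h)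
  have h2 := congrArg (i ≫ ·) h1
  simp only [MonObj.comp_mul, ← Category.assoc, hij, Category.id_comp] at h2
  exact h2

theorem central_of_residueField (hH : SGA3x.IsMultTypeFT H) [LocallyOfFiniteType G.hom]
    (hfib : ∀ (s : S) (X : Over (Spec (S.residueField s))) (g : X ⟶ Red.bc (S.fromSpecResidueField s) G)
      (h : X ⟶ Red.bc (S.fromSpecResidueField s) H),
      g * (h ≫ (Over.pullback (S.fromSpecResidueField s)).map u) = (h ≫ (Over.pullback (S.fromSpecResidueField s)).map u) * g)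
    (Y : Over S) (g : Y ⟶ G) (h : Y ⟶ H) : g * (h ≫ u) = (h ≫ u) * g :=
  central_of_fibres u hH (fun K _ ω => by
    obtain ⟨⟨s, θ⟩, rfl⟩ := (Scheme.SpecToEquivOfField K S).symm.surjective ω
    exact commute_of_bc u _ (hfib s) (Spec.map θ) rfl) Y g h

end Groth.Agent.SGA3cLib.CentralFib
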