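import Groth.Agent.SGA3cLib.MultEssFree
import Groth.Agent.SGA3cLib.AveragingDescent
import Groth.Agent.SGA3cLib.Transporter
import Groth.Agent.H8Lim.Unramified
import Groth.Agent.S1488

/-!
# Transporters of homomorphisms from groups of multiplicative type

For `H` of multiplicative type the transporter of two homomorphisms `H ⟶ G` is closed in `G` (`G` separated), of
finite presentation, and formally smooth over the base when `G` is: a lift of a point of the transporter modulo a
square-zero ideal is corrected by the averaging argument.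
-/

set_option linter.style.haveILetI false
set_option autoImplicit false

universe u

open CategoryTheory CategoryTheory.Limits MonoidalCategory CartesianMonoidalCategory MonObj GrpObj AlgebraicGeometry

noncomputable section

namespace Groth.Agent.SGA3cLib.MTTransporter

variable {S : Scheme.{u}}

/-- Multiplicative type, of arbitrary type. -/
abbrev IsMTS (H : Over S) [GrpObj H] : Prop :=
  TwC.Locally S TwC.Topology.fpqc (fun T g => ∃ (M : Type) (_ : AddCommGroup M),
    Nonempty (Grp.mk (Red.bc g H) ≅ Grp.mk (Red.DS T M)))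

theorem quasiCompact_of_mult (H : Over S) [GrpObj H] (hH : IsMTS H) : QuasiCompact H.hom := by
  obtain ⟨S', f, hfl, -, hq, hU⟩ := hH
  haveI := hfl
  have hF := IsFpqcCov.of_forall f hq
  choose U hmem M _ e using hU
  have hUc : TopologicalSpace.IsOpenCover U :=
    TopologicalSpace.IsOpenCover.mk (eq_top_iff.2 fun y _ => TopologicalSpace.Opens.mem_iSup.2 ⟨y, hmem y⟩)
  haveI haff : IsAffineHom (pullback.snd H.hom f) := by
    rw [IsZariskiLocalAtTarget.iff_of_openCover (P := @IsAffineHom) (S'.openCoverOfIsOpenCover U hUc)]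
    intro (s : S')
    change IsAffineHom (pullback.snd (pullback.snd H.hom f) (U s).ι)
    rw [show pullback.snd (pullback.snd H.hom f) (U s).ι =
        (pullbackLeftPullbackSndIso H.hom f (U s).ι).hom ≫ pullback.snd H.hom ((U s).ι ≫ f) from
      (pullbackLeftPullbackSndIso_hom_snd _ _ _).symm,
      MorphismProperty.cancel_left_of_respectsIso @IsAffineHom]
    haveI : IsAffineHom (Red.DS (U s : Scheme.{u}) (M s)).hom := by
      have hd : IsAffineHom (Red.diag (ULift.{u} ℤ) (M s)).hom := by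
        show IsAffineHom (Spec.map _)
        infer_instance
      exact MorphismProperty.pullback_snd (P := @IsAffineHom) _ _ hd
    let i : Red.bc ((U s).ι ≫ f) H ≅ Red.DS (U s : Scheme.{u}) (M s) := (Grp.forget _).mapIso (e s).some
    show IsAffineHom (Red.bc ((U s).ι ≫ f) H).hom
    rw [← Over.w i.hom]
    infer_instance
  exact CentralEq.quasiCompact_of_cov f hF H.hom

variable {H G : Over S} [GrpObj H] [GrpObj G] (u₁ u₂ : H ⟶ G)

/-- A point of `G` carries `u₁` to `u₂`. -/
def Conj {X : Over S} (g : X ⟶ G) : Prop :=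
  ∀ (X' : Over S) (x : X' ⟶ X) (h : X' ⟶ H), (x ≫ g) * (h ≫ u₁) * (x ≫ g)⁻¹ = h ≫ u₂

theorem exists_closed (hH : IsMTS H) [IsSeparated G.hom] [LocallyOfFiniteType G.hom] :
    ∃ (T : Over S) (j : T ⟶ G), IsClosedImmersion j.left ∧ LocallyOfFinitePresentation j.left ∧
      ∀ (X : Over S) (g : X ⟶ G), (∃ t : X ⟶ T, t ≫ j = g) ↔ Conj u₁ u₂ g := by
  let φ : H ⊗ G ⟶ G := snd H G * (fst H G ≫ u₁) * (snd H G)⁻¹
  let ψ : H ⊗ G ⟶ G := fst H G ≫ u₂
  let Δ : G ⟶ G ⊗ G := lift (𝟙 G) (𝟙 G)
  have hΔ : Δ.left = pullback.diagonal G.hom := by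
    apply pullback.hom_ext
    · rw [pullback.diagonal_fst]; exact congrArg (fun t : G ⟶ G => t.left) (lift_fst (𝟙 G) (𝟙 G))
    · rw [pullback.diagonal_snd]; exact congrArg (fun t : G ⟶ G => t.left) (lift_snd (𝟙 G) (𝟙 G))
  haveI : IsClosedImmersion Δ.left := by rw [hΔ]; exact IsSeparated.isClosedImmersion_diagonal
  haveI : LocallyOfFinitePresentation Δ.left := by
    rw [hΔ]; exact H8Lim.locallyOfFinitePresentation_diagonal G.hom
  let k : pullback (lift φ ψ).left Δ.left ⟶ (H ⊗ G).left := pullback.fst _ _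
  haveI : IsClosedImmersion k := MorphismProperty.pullback_fst (P := @IsClosedImmersion) _ _ inferInstance
  haveI : LocallyOfFinitePresentation k :=
    MorphismProperty.pullback_fst (P := @LocallyOfFinitePresentation) _ _ inferInstance
  obtain ⟨T, t, ht, hT, htfp⟩ := WeilRes.exists_closedImmersion (snd H G).left k
    (S5356.essentiallyFree_baseChange H.hom G.hom (MultEssFree.essentiallyFree H hH))
  haveI := quasiCompact_of_mult H hH
  haveI : QuasiCompact (snd H G).left := inferInstanceAs (QuasiCompact (pullback.snd H.hom G.hom))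
  let T' : Over S := Over.mk (t ≫ G.hom)
  let j : T' ⟶ G := Over.homMk t rfl
  refine ⟨T', j, ht, htfp inferInstance inferInstance, fun X g => ?_⟩
  have hsq : IsPullback (H ◁ g).left (snd H X).left (snd H G).left g.left := by
    refine IsPullback.of_right (h₁₂ := (fst H G).left) (v₁₃ := H.hom) (h₂₂ := G.hom) ?_
      (congrArg CommaMorphism.left (whiskerLeft_snd H g)) (IsPullback.of_hasPullback H.hom G.hom)
    rw [show (H ◁ g).left ≫ (fst H G).left = (fst H X).left from congrArg CommaMorphism.left (whiskerLeft_fst H g),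
      Over.w g]
    exact IsPullback.of_hasPullback H.hom X.hom
  have h1 : WeilRes.Factors (snd H G).left k X.left g.left ↔ (H ◁ g) ≫ φ = (H ◁ g) ≫ ψ := by
    constructor
    · rintro ⟨l, hl⟩
      let l' := hsq.isoPullback.hom ≫ l ≫ pullback.snd (lift φ ψ).left Δ.left
      have hl' : l' ≫ Δ.left = ((H ◁ g) ≫ lift φ ψ).left := by
        change l' ≫ Δ.left = (H ◁ g).left ≫ (lift φ ψ).left
        simp only [l', Category.assoc, ← pullback.condition]
        change hsq.isoPullback.hom ≫ l ≫ k ≫ (lift φ ψ).left = _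
        rw [reassoc_of% hl, IsPullback.isoPullback_hom_fst_assoc]
      let x' : H ⊗ X ⟶ G := Over.homMk l' (by
        rw [← Over.w Δ, ← Category.assoc, hl']; exact Over.w ((H ◁ g) ≫ lift φ ψ))
      have hx' : x' ≫ Δ = (H ◁ g) ≫ lift φ ψ := Over.OverMorphism.ext hl'
      have e1 := congrArg (· ≫ fst G G) hx'
      have e2 := congrArg (· ≫ snd G G) hx'
      simp [Δ] at e1 e2
      rw [← e1, ← e2]
    · intro he
      have hx' : ((H ◁ g) ≫ φ) ≫ Δ = (H ◁ g) ≫ lift φ ψ := by
        simp only [Δ, comp_lift, Category.comp_id, he]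
      refine ⟨hsq.isoPullback.inv ≫ pullback.lift (H ◁ g).left ((H ◁ g) ≫ φ).left
        (congrArg CommaMorphism.left hx'.symm), ?_⟩
      rw [Category.assoc, pullback.lift_fst, IsPullback.isoPullback_inv_fst]
  constructor
  · rintro ⟨z, hz⟩ X' x h
    have he := h1.1 ((hT _ _).2 ⟨z.left, congrArg CommaMorphism.left hz⟩)
    have := congrArg (fun q => lift h x ≫ q) he
    simpa [φ, ψ, MonObj.comp_mul, GrpObj.comp_inv, ← Category.assoc, lift_whiskerLeft] using this
  · intro hc
    have he : (H ◁ g) ≫ φ = (H ◁ g) ≫ ψ := by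
      have := hc (H ⊗ X) (snd H X) (fst H X)
      simpa [φ, ψ, MonObj.comp_mul, GrpObj.comp_inv, ← Category.assoc] using this
    obtain ⟨z, hz⟩ := (hT _ _).1 (h1.2 he)
    exact ⟨Over.homMk z (by change z ≫ t ≫ G.hom = _; rw [← Category.assoc, hz]; exact Over.w g),
      Over.OverMorphism.ext hz⟩

/-- The transporter is formally smooth over the base. -/
theorem isFormallySmooth (hH : IsMTS H) [IsMonHom u₁] [IsMonHom u₂] [Smooth G.hom] {T : Over S} (j : T ⟶ G) [Mono j.left]
    (hT : ∀ (X : Over S) (g : X ⟶ G), (∃ t : X ⟶ T, t ≫ j = g) ↔ Conj u₁ u₂ g) :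
    MoreMor.IsFormallySmoothHom T.hom := by
  intro A _ I hI a b w
  let i : Spec (CommRingCat.of (A ⧸ I)) ⟶ Spec (CommRingCat.of A) := Spec.map (CommRingCat.ofHom (Ideal.Quotient.mk I))
  change i ≫ b = a ≫ T.hom at w
  obtain ⟨l, hl1, hl2⟩ := ((S1488.result G.hom).1 inferInstance).2 A I hI (a ≫ j.left) b
    (by rw [Category.assoc, Over.w j]; exact w)
  let Sp : Over (Spec (CommRingCat.of A)) := 𝟙_ _
  let GA := Red.bc b G
  let HA := Red.bc b H
  let g₁ : (Over.map b).obj Sp ⟶ G := Over.homMk l (by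
    show l ≫ G.hom = 𝟙 _ ≫ b
    rw [Category.id_comp]; exact hl2)
  let gA : Sp ⟶ GA := BCPoints.pt b G Sp g₁
  let v₁ := (Over.pullback b).map u₁
  let v₂ := (Over.pullback b).map u₂
  let u : HA ⟶ GA := (toUnit HA ≫ gA) * v₁ * (toUnit HA ≫ gA)⁻¹
  have hu : ∀ {Y : Over (Spec (CommRingCat.of A))} (h : Y ⟶ HA),
      h ≫ u = (toUnit Y ≫ gA) * (h ≫ v₁) * (toUnit Y ≫ gA)⁻¹ := fun {Y} h => by
    simp only [u, MonObj.comp_mul, GrpObj.comp_inv, ← Category.assoc, comp_toUnit]
  haveI : IsMonHom u := BCPoints.isMonHom_of_mul u fun Y x y => by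
    rw [hu, hu, hu, MonObj.mul_comp]
    simp only [_root_.mul_assoc, inv_mul_cancel_left]
  have hH' := BCPoints.locally_bc b H hH
  have hI' : I * I = ⊥ := by rw [← pow_two]; exact hI
  obtain ⟨g', hg'1, hg'2⟩ := Averaging.exists_conj I hI' HA GA hH' u v₂ (fun B _ _ hB h => by
    obtain ⟨h', rfl⟩ := (BCPoints.pt b H _).surjective h
    let q : A ⧸ I →+* B := Ideal.Quotient.lift I (algebraMap A B) fun x hx => hB hx
    have hq : CommRingCat.ofHom (algebraMap A B) = CommRingCat.ofHom (Ideal.Quotient.mk I) ≫ CommRingCat.ofHom q :=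
      CommRingCat.hom_ext (RingHom.ext fun x => rfl)
    let X' := (Over.map b).obj (Averaging.P A B)
    let tt : X' ⟶ T := Over.homMk (Spec.map (CommRingCat.ofHom q) ≫ a) (by
      show (Spec.map (CommRingCat.ofHom q) ≫ a) ≫ T.hom = Spec.map (CommRingCat.ofHom (algebraMap A B)) ≫ b
      rw [hq, Spec.map_comp, Category.assoc, Category.assoc, ← w])
    let τ : X' ⟶ (Over.map b).obj Sp := (Over.map b).map (toUnit (Averaging.P A B))
    have hτ : τ ≫ g₁ = tt ≫ j := Over.OverMorphism.ext (by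
      show Spec.map (CommRingCat.ofHom (algebraMap A B)) ≫ l = (Spec.map (CommRingCat.ofHom q) ≫ a) ≫ j.left
      rw [hq, Spec.map_comp, Category.assoc, hl1, Category.assoc])
    have hc := ((hT X' (τ ≫ g₁)).1 ⟨tt, hτ.symm⟩) X' (𝟙 _) h'
    rw [Category.id_comp] at hc
    have e1 : toUnit (Averaging.P A B) ≫ gA = BCPoints.pt b G _ (τ ≫ g₁) := (BCPoints.pt_map_comp b _ _).symm
    rw [hu, e1, ← BCPoints.pt_comp, ← BCPoints.pt_comp, ← BCPoints.pt_inv, ← BCPoints.pt_mul, ← BCPoints.pt_mul, hc])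
  -- the corrected point
  obtain ⟨g₂, hg₂⟩ := (BCPoints.pt b G Sp).surjective (g' * gA)
  have hconj : Conj u₁ u₂ g₂ := by
    intro X' x h
    let Y : Over (Spec (CommRingCat.of A)) := Over.mk x.left
    have hw : x.left ≫ b = X'.hom := by
      have := Over.w x
      change x.left ≫ 𝟙 _ ≫ b = X'.hom at this
      rwa [Category.id_comp] at this
    let κ : X' ⟶ (Over.map b).obj Y := Over.homMk (𝟙 _) ((Category.id_comp _).trans hw)
    let κ' : (Over.map b).obj Y ⟶ X' := Over.homMk (𝟙 _) ((Category.id_comp _).trans hw.symm)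
    have hκ : κ ≫ κ' = 𝟙 X' := Over.OverMorphism.ext (Category.id_comp _)
    have hx : κ' ≫ x = (Over.map b).map (toUnit Y) := Over.OverMorphism.ext (Category.id_comp _)
    have h2 := hg'2 Y (BCPoints.pt b H Y (κ' ≫ h))
    rw [hu] at h2
    have e1 : toUnit Y ≫ g' * (toUnit Y ≫ gA) = BCPoints.pt b G Y ((κ' ≫ x) ≫ g₂) := by
      rw [hx, BCPoints.pt_map_comp, hg₂, MonObj.comp_mul]
    have h3 : BCPoints.pt b G Y ((κ' ≫ h) ≫ u₂) =
        BCPoints.pt b G Y (((κ' ≫ x) ≫ g₂) * ((κ' ≫ h) ≫ u₁) * ((κ' ≫ x) ≫ g₂)⁻¹) := by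
      rw [BCPoints.pt_mul, BCPoints.pt_mul, BCPoints.pt_inv, ← e1, BCPoints.pt_comp b (κ' ≫ h) u₂,
        BCPoints.pt_comp b (κ' ≫ h) u₁, h2]
      simp only [v₁, _root_.mul_assoc, _root_.mul_inv_rev]
    have h4 := congrArg (κ ≫ ·) ((BCPoints.pt b G Y).injective h3)
    simp only [MonObj.comp_mul, GrpObj.comp_inv, ← Category.assoc, hκ, Category.id_comp] at h4
    exact h4.symm
  obtain ⟨t, ht⟩ := (hT _ g₂).2 hconj
  refine ⟨t.left, ?_, ?_⟩
  · rw [← cancel_mono j.left, Category.assoc, show t.left ≫ j.left = g₂.left from congrArg CommaMorphism.left ht]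
    let PI := Averaging.P A (A ⧸ I)
    have e : (Over.map b).map (toUnit PI) ≫ g₂ = (Over.map b).map (toUnit PI) ≫ g₁ := by
      apply (BCPoints.pt b G PI).injective
      rw [BCPoints.pt_map_comp, BCPoints.pt_map_comp, hg₂, MonObj.comp_mul, hg'1, _root_.one_mul]
    refine Eq.trans ?_ hl1
    show ((Over.map b).map (toUnit PI) ≫ g₂).left = ((Over.map b).map (toUnit PI) ≫ g₁).left
    rw [e]
  · have := Over.w t
    change t.left ≫ T.hom = 𝟙 _ ≫ b at this
    rwa [Category.id_comp] at this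

theorem exists_smooth (hH : IsMTS H) [IsMonHom u₁] [IsMonHom u₂] [IsSeparated G.hom] [Smooth G.hom] :
    ∃ (T : Over S) (j : T ⟶ G), IsClosedImmersion j.left ∧ Smooth T.hom ∧
      ∀ (X : Over S) (g : X ⟶ G), (∃ t : X ⟶ T, t ≫ j = g) ↔ Conj u₁ u₂ g := by
  obtain ⟨T, j, hj, hjfp, hT⟩ := exists_closed u₁ u₂ hH
  haveI := hjfp
  refine ⟨T, j, hj, (S1488.result T.hom).2 ⟨?_, isFormallySmooth u₁ u₂ hH j hT⟩, hT⟩
  rw [← Over.w j]
  infer_instance

/-- The centralizer of a homomorphism from a group of multiplicative type. -/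
theorem exists_centralizer (u : H ⟶ G) (hH : IsMTS H) [IsMonHom u] [IsSeparated G.hom] [Smooth G.hom] :
    ∃ (Z : Over S) (_ : GrpObj Z) (j : Z ⟶ G), Red.IsCentralizerOf u j ∧ IsClosedImmersion j.left ∧ Smooth Z.hom := by
  obtain ⟨T, j, hj, hsm, hT⟩ := exists_smooth u u hH
  haveI : Mono j := (Over.forget S).mono_of_mono_map (inferInstanceAs (Mono j.left))
  have key : ∀ (X : Over S) (g : X ⟶ G), (∃ t : X ⟶ T, t ≫ j = g) ↔
      ∀ (X' : Over S) (x : X' ⟶ X) (h : X' ⟶ H), (x ≫ g) * (h ≫ u) = (h ≫ u) * (x ≫ g) := fun X g =>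
    (hT X g).trans (forall₃_congr fun X' x h => mul_inv_eq_iff_eq_mul)
  obtain ⟨gr, hmon⟩ := exists_grpObj_of_subgroup j
    (fun X => (key X 1).2 fun X' x h => by simp)
    (fun X a b => (key X _).2 fun X' x h => by
      have ha := (key X _).1 ⟨a, rfl⟩ X' x h
      have hb := (key X _).1 ⟨b, rfl⟩ X' x h
      rw [MonObj.comp_mul, _root_.mul_assoc, hb, ← _root_.mul_assoc, ha, _root_.mul_assoc])
    (fun X a => (key X _).2 fun X' x h => by
      have ha : Commute (x ≫ a ≫ j) (h ≫ u) := (key X _).1 ⟨a, rfl⟩ X' x h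
      rw [GrpObj.comp_inv]
      exact ha.inv_left)
  exact ⟨T, gr, j, ⟨hmon, inferInstance, key⟩, hj, hsm⟩

end Groth.Agent.SGA3cLib.MTTransporter
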