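import Groth.Agent.SGA3cLib.FrobRank
import Mathlib.RingTheory.HopfAlgebra.Convolution
import Mathlib.RingTheory.Bialgebra.Convolution
import Mathlib.RingTheory.HopfAlgebra.TensorProduct
import Mathlib.RingTheory.Artinian.Ring
import Mathlib.RingTheory.Artinian.Module
import Mathlib.RingTheory.Ideal.IdempotentFG
import Mathlib.FieldTheory.IsAlgClosed.AlgebraicClosure
import Mathlib.FieldTheory.IsPerfectClosure
import Mathlib.GroupTheory.OrderOfElement

/-!
# A finite group scheme over a field is killed by its order
-/

set_option autoImplicit false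

universe u v

open TensorProduct WithConv

namespace Groth.Agent.SGA3cLib

/-- The `d`-th power of a nilpotent ideal of a `d`-dimensional algebra vanishes. -/
theorem ideal_pow_finrank_eq_bot {k : Type u} {A : Type v} [Field k] [CommRing A] [Algebra k A] [Module.Finite k A]
    (I : Ideal A) (hI : IsNilpotent I) : I ^ Module.finrank k A = ⊥ := by
  by_contra hne
  have h : ∀ j ≤ Module.finrank k A, Module.finrank k ((I ^ j).restrictScalars k) + j ≤ Module.finrank k A := by
    intro j
    induction j with
    | zero => intro _; simpa using Submodule.finrank_le _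
    | succ j ih =>
      intro hj
      have hlt : (I ^ (j + 1)).restrictScalars k < (I ^ j).restrictScalars k := by
        refine lt_of_le_of_ne (Ideal.pow_le_pow_right j.le_succ) fun he => ?_
        have he' : I ^ (j + 1) = I ^ j := Submodule.restrictScalars_injective k A A he
        have hst : ∀ m, I ^ (j + m) = I ^ j := by
          intro m
          induction m with
          | zero => rfl
          | succ m ihm => rw [← add_assoc, pow_succ, ihm, ← pow_succ, he']
        obtain ⟨N, hN⟩ := hI
        have hz : I ^ j = ⊥ := by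
          rw [← hst N, pow_add, hN, mul_zero]; rfl
        exact hne (le_bot_iff.mp (hz ▸ Ideal.pow_le_pow_right (by omega)))
      have := Submodule.finrank_lt_finrank_of_lt hlt
      have := ih (by omega)
      omega
  have h1 := h _ le_rfl
  refine hne ?_
  have h2 : (I ^ Module.finrank k A).restrictScalars k = ⊥ := Submodule.finrank_eq_zero.mp (by omega)
  exact (Submodule.restrictScalars_eq_bot_iff k A A).mp h2

theorem pow_ofConv_comp {k : Type u} {A B : Type*} [Field k] [CommRing A] [Algebra k A] [CommRing B] [Algebra k B]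
    {C : Type*} [CommRing C] [Bialgebra k C] (h : A →ₐ[k] B) (f : WithConv (C →ₐ[k] A)) (n : ℕ) :
    h.comp (f ^ n).ofConv = (toConv (h.comp f.ofConv) ^ n).ofConv := by
  induction n with
  | zero =>
    apply AlgHom.ext
    intro a
    simp
  | succ n ih => rw [pow_succ, pow_succ, AlgHom.comp_convMul_distrib, ih, toConv_ofConv]

theorem pow_finrank_eq_one_of_isAlgClosed (k : Type u) (A : Type v) [Field k] [IsAlgClosed k] [CommRing A]
    [HopfAlgebra k A] [Module.Finite k A] :
    (toConv (AlgHom.id k A)) ^ Module.finrank k A = 1 := by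
  classical
  haveI : IsArtinianRing A := IsArtinianRing.of_finite k A
  haveI : IsNoetherianRing A := IsNoetherianRing.of_finite k A
  let ε : A →ₐ[k] k := Bialgebra.counitAlgHom k A
  haveI : Nontrivial A := RingHom.domain_nontrivial ε.toRingHom
  have hmax : ∀ γ : A →ₐ[k] k, (RingHom.ker γ).IsMaximal := fun γ =>
    RingHom.ker_isMaximal_of_surjective γ fun t => ⟨algebraMap k A t, γ.commutes t⟩
  set M := RingHom.ker ε with hMdef
  -- the idempotent cutting out the connected component
  obtain ⟨N, hN⟩ := IsArtinian.monotone_stabilizes (R := A) (M := A)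
    ⟨fun i => OrderDual.toDual (M ^ i), fun i j hij => Ideal.pow_le_pow_right hij⟩
  have hN' : ∀ m, N ≤ m → M ^ N = M ^ m := fun m hm => hN m hm
  obtain ⟨f, hf, hfspan⟩ := (Ideal.isIdempotentElem_iff_of_fg (M ^ (N + 1)) (IsNoetherian.noetherian _)).mp
    (by rw [IsIdempotentElem, ← pow_add, ← hN' (N + 1 + (N + 1)) (by omega)]; exact hN' _ (by omega))
  have hfM : f ∈ M :=
    Ideal.pow_le_self (by omega) (hfspan ▸ Submodule.mem_span_singleton_self f)
  have hεf : ε f = 0 := hfM
  have hidem_val : ∀ (γ : A →ₐ[k] k), γ f = 0 ∨ γ f = 1 := fun γ =>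
    IsIdempotentElem.iff_eq_zero_or_one.mp (hf.map γ)
  have hγf : ∀ γ : A →ₐ[k] k, γ f = 0 → γ = ε := by
    intro γ hγ
    have hle : M ^ (N + 1) ≤ RingHom.ker γ := by
      rw [hfspan, Submodule.span_le, Set.singleton_subset_iff]; exact hγ
    have heq : M = RingHom.ker γ :=
      (hmax ε).eq_of_le (hmax γ).ne_top ((hmax γ).isPrime.le_of_pow_le hle)
    apply AlgHom.ext
    intro a
    have : a - algebraMap k A (ε a) ∈ M := by simp [M, ε]
    rw [heq, RingHom.mem_ker, map_sub, AlgHom.commutes, sub_eq_zero] at this
    exact this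
  -- the connected component
  let J : Ideal A := Ideal.span {f}
  let q : A →ₐ[k] A ⧸ J := Ideal.Quotient.mkₐ k J
  have hq0 : ∀ a, q a = 0 ↔ a ∈ J := fun a => Ideal.Quotient.eq_zero_iff_mem
  have hqf : q f = 0 := (hq0 f).mpr (Ideal.subset_span rfl)
  let ε0 : A ⧸ J →ₐ[k] k := Ideal.Quotient.liftₐ J ε fun a ha => by
    obtain ⟨b, rfl⟩ := Ideal.mem_span_singleton.mp ha
    rw [map_mul, hεf, zero_mul]
  have hε0 : ∀ a, ε0 (q a) = ε a := fun a => rfl
  have hnil0 : IsNilpotent (RingHom.ker ε0) := by
    refine ⟨N + 1, ?_⟩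
    have hker : RingHom.ker ε0 = M.map q := by
      refine le_antisymm (fun z hz => ?_) (Ideal.map_le_iff_le_comap.mpr fun a ha => by
        rw [Ideal.mem_comap, RingHom.mem_ker, hε0]; exact ha)
      obtain ⟨a, rfl⟩ := Ideal.Quotient.mk_surjective z
      exact Ideal.mem_map_of_mem q (show a ∈ M from hz)
    rw [hker, ← Ideal.map_pow, hfspan, Ideal.map_span, Set.image_singleton, hqf, Ideal.span_singleton_zero]
    rfl
  have hidem0 : ∀ z : A ⧸ J, IsIdempotentElem z → ε0 z = 0 → z = 0 := by
    intro z hz h0
    obtain ⟨m, hm⟩ := hnil0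
    have h := Ideal.pow_mem_pow (show z ∈ RingHom.ker ε0 from h0) (m + 1)
    rw [pow_succ (RingHom.ker ε0), hm, zero_mul, hz.pow_succ_eq] at h
    exact h
  -- the comultiplication descends
  let qq := (Algebra.TensorProduct.map q q).comp (Bialgebra.comulAlgHom k A)
  let ee : (A ⧸ J) ⊗[k] (A ⧸ J) →ₐ[k] k := Algebra.TensorProduct.lift ε0 ε0 fun _ _ => .all _ _
  have hkernil : ∀ t, IsNilpotent (t - algebraMap k _ (ee t)) := by
    intro t
    induction t using TensorProduct.induction_on with
    | zero => simp
    | tmul a b =>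
      have hn : ∀ a : A ⧸ J, IsNilpotent (a - algebraMap k _ (ε0 a)) := fun a => by
        obtain ⟨m, hm⟩ := hnil0
        refine ⟨m, ?_⟩
        have h := Ideal.pow_mem_pow (show a - algebraMap k _ (ε0 a) ∈ RingHom.ker ε0 by simp) m
        rwa [hm] at h
      have ha := (hn a).map (Algebra.TensorProduct.includeLeft : A ⧸ J →ₐ[k] (A ⧸ J) ⊗[k] (A ⧸ J))
      have hb := (hn b).map (Algebra.TensorProduct.includeRight : A ⧸ J →ₐ[k] (A ⧸ J) ⊗[k] (A ⧸ J))
      simp only [Algebra.TensorProduct.includeLeft_apply, Algebra.TensorProduct.includeRight_apply] at ha hb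
      have e : a ⊗ₜ[k] b - algebraMap k ((A ⧸ J) ⊗[k] (A ⧸ J)) (ee (a ⊗ₜ b)) =
          ((a - algebraMap k _ (ε0 a)) ⊗ₜ[k] 1) * (1 ⊗ₜ[k] b) +
            algebraMap k _ (ε0 a) * ((1 : A ⧸ J) ⊗ₜ[k] (b - algebraMap k _ (ε0 b))) := by
        simp only [ee, Algebra.TensorProduct.lift_tmul, Algebra.algebraMap_eq_smul_one,
          Algebra.TensorProduct.one_def, TensorProduct.sub_tmul, TensorProduct.tmul_sub,
          TensorProduct.tmul_smul, ← TensorProduct.smul_tmul', Algebra.TensorProduct.tmul_mul_tmul,
          sub_mul, mul_sub, one_mul, mul_one, smul_mul_assoc, mul_smul_comm, smul_smul]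
        rw [mul_comm (ε0 b)]; abel
      rw [e]
      exact (Commute.all _ _).isNilpotent_add ((Commute.all _ _).isNilpotent_mul_right ha)
        ((Commute.all _ _).isNilpotent_mul_left hb)
    | add x y hx hy =>
      rw [map_add, map_add, add_sub_add_comm]
      exact (Commute.all _ _).isNilpotent_add hx hy
  have hee : ∀ a, ee (qq a) = ε a := by
    intro a
    have : ee.comp qq = (toConv ε * toConv ε).ofConv := by
      apply AlgHom.ext
      intro b
      rw [AlgHom.convMul_apply]
      change ee (Algebra.TensorProduct.map q q (Coalgebra.comul b)) = _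
      induction Coalgebra.comul (R := k) b using TensorProduct.induction_on with
      | zero => simp
      | tmul x y => simp [ee, hε0]
      | add x y hx hy => simp only [map_add, hx, hy]
    rw [← AlgHom.comp_apply, this]
    have h1 : toConv ε = (1 : WithConv (A →ₐ[k] k)) := by
      apply WithConv.ext; apply AlgHom.ext; intro b; simp [ε]
    rw [h1, one_mul, AlgHom.convOne_apply]
    rfl
  have hΔ0 : ∀ a ∈ J, qq a = 0 := by
    have hqqf : qq f = 0 := by
      obtain ⟨m, hm⟩ := hkernil (qq f)
      rw [hee, hεf, map_zero, sub_zero] at hm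
      have h2 : qq f ^ (m + 1) = qq f := (hf.map qq).pow_succ_eq m
      rw [pow_succ, hm, zero_mul] at h2
      exact h2.symm
    intro a ha
    obtain ⟨b, rfl⟩ := Ideal.mem_span_singleton.mp ha
    rw [map_mul, hqqf, zero_mul]
  let Δ0 : A ⧸ J →ₐ[k] (A ⧸ J) ⊗[k] (A ⧸ J) := Ideal.Quotient.liftₐ J qq hΔ0
  let c : CounitalMul k (A ⧸ J) :=
    { ε := ε0
      Δ := Δ0
      counit_left := fun z => by
        obtain ⟨a, rfl⟩ := Ideal.Quotient.mk_surjective z
        have h := congrArg q (congrArg (TensorProduct.lid k A) (Coalgebra.rTensor_counit_comul (R := k) a))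
        simp only [TensorProduct.lid_tmul, one_smul] at h
        refine Eq.trans ?_ h
        change TensorProduct.lid k _ (ε0.toLinearMap.rTensor _ (Algebra.TensorProduct.map q q (Coalgebra.comul a))) = _
        induction Coalgebra.comul (R := k) a using TensorProduct.induction_on with
        | zero => simp
        | tmul x y => simp [hε0, ε]
        | add x y hx hy => simp only [map_add, hx, hy]
      counit_right := fun z => by
        obtain ⟨a, rfl⟩ := Ideal.Quotient.mk_surjective z
        have h := congrArg q (congrArg (TensorProduct.rid k A) (Coalgebra.lTensor_counit_comul (R := k) a))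
        simp only [TensorProduct.rid_tmul, one_smul] at h
        refine Eq.trans ?_ h
        change TensorProduct.rid k _ (ε0.toLinearMap.lTensor _ (Algebra.TensorProduct.map q q (Coalgebra.comul a))) = _
        induction Coalgebra.comul (R := k) a using TensorProduct.induction_on with
        | zero => simp
        | tmul x y => simp [hε0, ε]
        | add x y hx hy => simp only [map_add, hx, hy]
      nilpotent := hnil0 }
  set d := Module.finrank k (A ⧸ J) with hd
  -- translations and the component decomposition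
  let Γ := WithConv (A →ₐ[k] k)
  haveI : Finite Γ := by
    refine Finite.of_injective (fun γ : Γ => (⟨RingHom.ker γ.ofConv, hmax _⟩ : MaximalSpectrum A)) ?_
    intro γ δ h
    apply WithConv.ext
    apply AlgHom.ext
    intro a
    have h' : RingHom.ker γ.ofConv = RingHom.ker δ.ofConv := congrArg MaximalSpectrum.asIdeal h
    have : a - algebraMap k A (γ.ofConv a) ∈ RingHom.ker δ.ofConv := h' ▸ by simp
    rw [RingHom.mem_ker, map_sub, AlgHom.commutes, sub_eq_zero] at this
    exact this.symm
  haveI : Fintype Γ := Fintype.ofFinite Γ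
  let hat : Γ → WithConv (A →ₐ[k] A) := fun γ => toConv ((Algebra.ofId k A).comp γ.ofConv)
  let L : Γ → (A →ₐ[k] A) := fun γ => (hat γ * toConv (AlgHom.id k A)).ofConv
  have hLhat : ∀ γ δ : Γ, (L γ).comp (hat δ).ofConv = (hat δ).ofConv := fun γ δ => by
    apply AlgHom.ext
    intro a
    exact (L γ).commutes _
  have hatmul : ∀ γ δ : Γ, hat (γ * δ) = hat γ * hat δ := fun γ δ => by
    apply WithConv.ext
    exact AlgHom.comp_convMul_distrib (Algebra.ofId k A) γ δ
  have hLL : ∀ γ δ : Γ, (L γ).comp (L δ) = L (δ * γ) := by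
    intro γ δ
    change (L γ).comp (hat δ * toConv (AlgHom.id k A)).ofConv = _
    rw [AlgHom.comp_convMul_distrib, hLhat, ofConv_toConv, toConv_ofConv, AlgHom.comp_id]
    change (hat δ * (hat γ * toConv (AlgHom.id k A))).ofConv = (hat (δ * γ) * toConv (AlgHom.id k A)).ofConv
    rw [hatmul, mul_assoc]
  have hL1 : L 1 = AlgHom.id k A := by
    have : hat 1 = 1 := by
      apply WithConv.ext
      apply AlgHom.ext
      intro a
      simp [hat]
    change (hat 1 * toConv (AlgHom.id k A)).ofConv = _
    rw [this, one_mul]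
  have hεL : ∀ γ : Γ, ∀ a, ε (L γ a) = γ.ofConv a := by
    intro γ a
    change (ε.comp (hat γ * toConv (AlgHom.id k A)).ofConv) a = _
    rw [AlgHom.comp_convMul_distrib]
    have h1 : toConv (ε.comp (toConv (AlgHom.id k A)).ofConv) = (1 : Γ) := by
      apply WithConv.ext; apply AlgHom.ext; intro b; simp [ε]
    have h2 : toConv (ε.comp (hat γ).ofConv) = γ := by
      apply WithConv.ext; apply AlgHom.ext; intro b; simp [hat]
    rw [h1, h2, mul_one]
  let g : Γ → A := fun γ => L γ⁻¹ f
  have hLg : ∀ γ, L γ (g γ) = f := fun γ => by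
    change ((L γ).comp (L γ⁻¹)) f = f
    rw [hLL, inv_mul_cancel, hL1]
    rfl
  have hg0 : ∀ γ : Γ, γ.ofConv (g γ) = 0 := fun γ => by rw [← hεL, hLg]; exact hεf
  have hcard : Module.finrank k A = Fintype.card Γ * d := by
    let Φ : A →ₗ[k] (Γ → A ⧸ J) := LinearMap.pi fun γ => (q.comp (L γ)).toLinearMap
    have hinj : Function.Injective Φ := by
      rw [← LinearMap.ker_eq_bot, LinearMap.ker_eq_bot']
      intro a ha
      have hann : ∀ γ : Γ, (1 - g γ) * a = 0 := by
        intro γ
        obtain ⟨b, hb⟩ := Ideal.mem_span_singleton.mp ((hq0 _).mp (congrFun ha γ))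
        have : L γ ((1 - g γ) * a) = 0 := by
          rw [map_mul, map_sub, map_one, hLg, show L γ a = f * b from hb, ← mul_assoc, sub_mul,
            one_mul, hf.eq, sub_self, zero_mul]
        have h := congrArg (L γ⁻¹) this
        rw [map_zero, ← AlgHom.comp_apply, hLL, mul_inv_cancel, hL1] at h
        exact h
      let I : Ideal A := LinearMap.ker (LinearMap.toSpanSingleton A A a)
      by_contra hne
      have hI : I ≠ ⊤ := fun h => hne (by
        have h1 : (1 : A) ∈ I := h ▸ Submodule.mem_top
        simpa [I] using h1)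
      obtain ⟨Q, hQ, hIQ⟩ := Ideal.exists_le_maximal I hI
      haveI := hQ
      haveI : Field (A ⧸ Q) := Ideal.Quotient.field Q
      have hbij := IsAlgClosed.algebraMap_bijective_of_isIntegral (k := k) (K := A ⧸ Q)
      let φ : A →ₐ[k] k := (AlgEquiv.ofBijective (Algebra.ofId k (A ⧸ Q)) hbij).symm.toAlgHom.comp
        (Ideal.Quotient.mkₐ k Q)
      have hφ : ∀ y ∈ Q, φ y = 0 := fun y hy => by
        simp [φ, Ideal.Quotient.eq_zero_iff_mem.mpr hy]
      have h1 := hφ _ (hIQ (show (1 - g (toConv φ)) ∈ I by simpa [I] using hann (toConv φ)))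
      have h2 := hg0 (toConv φ)
      rw [ofConv_toConv] at h2
      rw [map_sub, map_one, h2, sub_zero] at h1
      exact one_ne_zero h1
    have hsurj : Function.Surjective Φ := by
      intro y
      choose a ha using fun γ => Ideal.Quotient.mk_surjective (y γ)
      refine ⟨∑ γ, L γ⁻¹ (a γ * (1 - f)), funext fun δ => ?_⟩
      change q (L δ (∑ γ, L γ⁻¹ (a γ * (1 - f)))) = y δ
      rw [map_sum, map_sum, Finset.sum_eq_single δ]
      · rw [← AlgHom.comp_apply (L δ), hLL, inv_mul_cancel, hL1, AlgHom.id_apply, map_mul, map_sub,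
          map_one, hqf, sub_zero, mul_one]
        exact ha δ
      · intro γ _ hne
        rw [← AlgHom.comp_apply (L δ), hLL, map_mul, map_mul]
        have hz : q (L (γ⁻¹ * δ) (1 - f)) = 0 := by
          refine hidem0 _ ((hf.one_sub.map (L (γ⁻¹ * δ))).map q) ?_
          rw [hε0, hεL, map_sub, map_one]
          rcases hidem_val (γ⁻¹ * δ).ofConv with h | h
          · exfalso
            apply hne
            have h1 : γ⁻¹ * δ = 1 := by
              apply WithConv.ext
              rw [hγf _ h]
              apply AlgHom.ext; intro b; simp [ε]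
            exact inv_mul_eq_one.mp h1
          · rw [h, sub_self]
        rw [hz, mul_zero]
      · simp
    rw [(LinearEquiv.ofBijective Φ ⟨hinj, hsurj⟩).finrank_eq, Module.finrank_pi_fintype]
    simp [d]
  -- the power landing in the connected component
  set f1 := toConv (AlgHom.id k A) ^ Fintype.card Γ with hf1
  have hf1γ : ∀ (γ : A →ₐ[k] k), γ.comp f1.ofConv = (1 : Γ).ofConv := fun γ => by
    rw [hf1, pow_ofConv_comp, ofConv_toConv, AlgHom.comp_id,
      show (toConv γ : Γ) ^ Fintype.card Γ = 1 from pow_card_eq_one]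
  have hf1f : f1.ofConv f = 0 := by
    have hall : ∀ Q : Ideal A, Q.IsMaximal → f1.ofConv f ∈ Q := by
      intro Q hQ
      haveI := hQ
      haveI : Field (A ⧸ Q) := Ideal.Quotient.field Q
      have hbij := IsAlgClosed.algebraMap_bijective_of_isIntegral (k := k) (K := A ⧸ Q)
      let φ : A →ₐ[k] k := (AlgEquiv.ofBijective (Algebra.ofId k (A ⧸ Q)) hbij).symm.toAlgHom.comp
        (Ideal.Quotient.mkₐ k Q)
      have h := DFunLike.congr_fun (hf1γ φ) f
      rw [AlgHom.comp_apply] at h
      have h2 : φ (f1.ofConv f) = 0 := by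
        rw [h, AlgHom.convOne_apply, ← Bialgebra.counitAlgHom_apply]
        exact (congrArg (algebraMap k k) hεf).trans (map_zero _)
      rw [← Ideal.Quotient.eq_zero_iff_mem]
      simpa [φ] using h2
    have hn : IsNilpotent (f1.ofConv f) := by
      rw [nilpotent_iff_mem_prime]
      intro Q hQ
      exact hall Q (IsArtinianRing.isMaximal_of_isPrime Q)
    obtain ⟨m, hm⟩ := hn
    have h2 := (hf.map f1.ofConv).pow_succ_eq m
    rw [pow_succ, hm, zero_mul] at h2
    exact h2.symm
  let u : WithConv (A →ₗ[k] A) := toConv f1.ofConv.toLinearMap - 1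
  have hu : ∀ j a, (u ^ (j + 1)) a ∈ (M ^ (j + 1)).map f1.ofConv := by
    have h0 : ∀ a, u a ∈ M.map f1.ofConv := by
      intro a
      have e : u a = f1.ofConv (a - algebraMap k A (ε a)) := by
        simp [u, ε]
      rw [e]
      exact Ideal.mem_map_of_mem _ (by simp [M, ε])
    intro j
    induction j with
    | zero => intro a; simpa using h0 a
    | succ j ih =>
      intro a
      change (u ^ (j + 1 + 1)).ofConv a ∈ _
      rw [pow_succ u (j + 1), LinearMap.convMul_apply]
      induction Coalgebra.comul (R := k) a using TensorProduct.induction_on with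
      | zero => simp
      | tmul x y =>
        rw [TensorProduct.map_tmul, LinearMap.mul'_apply, pow_succ M (j + 1), Ideal.map_mul]
        exact Ideal.mul_mem_mul (ih x) (h0 y)
      | add x y hx hy => rw [map_add, map_add]; exact add_mem hx hy
  have hud : u ^ d = 0 := by
    haveI : Nontrivial (A ⧸ J) := RingHom.domain_nontrivial ε0.toRingHom
    have hdpos : 0 < d := Module.finrank_pos
    have hMd : ∀ z ∈ M ^ d, f1.ofConv z = 0 := by
      intro z hz
      have h1 : q z ∈ (RingHom.ker ε0) ^ d := by
        have h := Ideal.mem_map_of_mem q hz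
        rw [Ideal.map_pow] at h
        exact Ideal.pow_right_mono (Ideal.map_le_iff_le_comap.mpr fun a ha => by
          rw [Ideal.mem_comap, RingHom.mem_ker, hε0]; exact ha) d h
      rw [ideal_pow_finrank_eq_bot _ hnil0] at h1
      obtain ⟨b, rfl⟩ := Ideal.mem_span_singleton.mp ((hq0 z).mp h1)
      rw [map_mul, hf1f, zero_mul]
    apply WithConv.ext
    apply LinearMap.ext
    intro a
    have h := hu (d - 1) a
    rw [Nat.sub_add_cancel hdpos] at h
    have : (M ^ d).map f1.ofConv = ⊥ := by
      rw [Ideal.map_eq_bot_iff_le_ker]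
      exact fun z hz => hMd z hz
    rw [this] at h
    simpa using h
  have hexp : ((1 : WithConv (A →ₗ[k] A)) + u) ^ d = 1 + u ^ d := by
    rcases CharP.char_is_prime_or_zero k (ringChar k) with hp | h0
    · haveI : Fact (ringChar k).Prime := ⟨hp⟩
      obtain ⟨r, hr⟩ := c.exists_finrank_eq_pow (ringChar k)
      haveI : Nontrivial (WithConv (A →ₗ[k] A)) := ⟨⟨1, 0, fun h => by
        have h1 := congrArg (fun w : WithConv (A →ₗ[k] A) => w (1 : A)) h
        simp at h1⟩⟩
      haveI : CharP (WithConv (A →ₗ[k] A)) (ringChar k) :=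
        charP_of_injective_algebraMap (algebraMap k _).injective (ringChar k)
      change ((1 : WithConv (A →ₗ[k] A)) + u) ^ Module.finrank k (A ⧸ J) = 1 + u ^ Module.finrank k (A ⧸ J)
      rw [hr, add_pow_char_pow_of_commute (p := ringChar k) (h := Commute.one_left u), one_pow]
    · haveI : CharP k 0 := by rw [← h0]; exact ringChar.charP k
      haveI := CharP.charP_to_charZero k
      change ((1 : WithConv (A →ₗ[k] A)) + u) ^ Module.finrank k (A ⧸ J) = 1 + u ^ Module.finrank k (A ⧸ J)
      rw [c.finrank_eq_one_of_charZero, pow_one, pow_one]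
  have hfin : toConv f1.ofConv.toLinearMap ^ d = 1 := by
    rw [show toConv f1.ofConv.toLinearMap = 1 + u by simp [u], hexp, hud, add_zero]
  apply WithConv.ext
  apply AlgHom.toLinearMap_injective
  apply WithConv.toConv_injective
  rw [hcard, pow_mul, AlgHom.toLinearMap_convPow, AlgHom.toLinearMap_convOne]
  exact hfin

/-- A finite group scheme over a field is killed by its order. -/
theorem pow_finrank_eq_one (k : Type u) (A : Type v) [Field k] [CommRing A] [HopfAlgebra k A] [Module.Finite k A] :
    (toConv (AlgHom.id k A)) ^ Module.finrank k A = 1 := by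
  let K := AlgebraicClosure k
  let incl : A →ₐ[k] K ⊗[k] A := Algebra.TensorProduct.includeRight
  let res : WithConv (K ⊗[k] A →ₐ[K] K ⊗[k] A) → WithConv (A →ₐ[k] K ⊗[k] A) :=
    fun g => toConv ((g.ofConv.restrictScalars k).comp incl)
  have hmul : ∀ g h, res (g * h) = res g * res h := by
    intro g h
    apply WithConv.ext
    apply AlgHom.ext
    intro a
    change (g * h) ((1 : K) ⊗ₜ[k] a) = _
    rw [AlgHom.convMul_apply, AlgHom.convMul_apply, TensorProduct.comul_tmul]
    simp only [Bialgebra.comul_one, Algebra.TensorProduct.one_def]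
    induction Coalgebra.comul (R := k) a using TensorProduct.induction_on with
    | zero => simp
    | tmul x y => simp [res, incl]
    | add x y hx hy => simp only [TensorProduct.tmul_add, map_add, hx, hy]
  have hone : res 1 = 1 := by
    apply WithConv.ext
    apply AlgHom.ext
    intro a
    simp [res, incl, Algebra.algebraMap_eq_smul_one, Algebra.TensorProduct.one_def, TensorProduct.smul_tmul']
  have hpow : ∀ n, res (toConv (AlgHom.id K (K ⊗[k] A)) ^ n) = toConv incl ^ n := by
    intro n
    induction n with
    | zero => simpa using hone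
    | succ n ih => rw [pow_succ, pow_succ, hmul, ih]; rfl
  have hK := pow_finrank_eq_one_of_isAlgClosed K (K ⊗[k] A)
  rw [Module.finrank_baseChange] at hK
  have h := hpow (Module.finrank k A)
  rw [hK, hone] at h
  apply WithConv.ext
  apply AlgHom.ext
  intro a
  apply Algebra.TensorProduct.includeRight_injective (A := K) (algebraMap k K).injective
  have e := pow_ofConv_comp incl (toConv (AlgHom.id k A)) (Module.finrank k A)
  rw [ofConv_toConv, AlgHom.comp_id, ← h] at e
  refine (DFunLike.congr_fun e a).trans ?_
  simp [incl]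

end Groth.Agent.SGA3cLib
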