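import Groth.Agent.SGA3cLib.HomTwConst
import Groth.Agent.SGA3cLib.GrpBC

/-! # The Cartier dual of a quasi-isotrivial group of multiplicative type -/

set_option linter.style.haveILetI false
set_option autoImplicit false
set_option backward.isDefEq.respectTransparency.types false
universe u

open CategoryTheory CategoryTheory.Limits MonoidalCategory CartesianMonoidalCategory MonObj AlgebraicGeometry
open Opposite

noncomputable section

namespace Groth.Agent.SGA3cLib.CartierDual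

variable {S : Scheme.{u}}

theorem comm_DS (S : Scheme.{u}) (M : Type) [AddCommGroup M] (X : Over S) (a b : X ⟶ Red.DS S M) :
    a * b = b * a :=
  dsFn_injective (MonoidHom.ext fun m => by rw [dsFn_mul, dsFn_mul, mul_comm])

theorem DSmap_add {U : Scheme.{u}} {M N : Type} [AddCommGroup M] [AddCommGroup N] (a b : N →+ M) {W : Over U}
    (p : W ⟶ Red.DS U M) : (p ≫ Red.DSmap U a) * (p ≫ Red.DSmap U b) = p ≫ Red.DSmap U (a + b) :=
  dsFn_injective (MonoidHom.ext fun n => by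
    simp only [dsFn_mul, S5427.dsFn_DSmap, ← map_mul]
    rfl)

theorem exists_iso_DS {U : Scheme.{u}} (q : U ⟶ S) (M : Type) [AddCommGroup M] :
    ∃ i : Red.bc q (Red.DS S M) ≅ Red.DS U M, IsMonHom i.hom ∧ IsMonHom i.inv := by
  let β : Over.pullback (IsTerminal.from specULiftZIsTerminal S) ⋙ Over.pullback q ≅
      Over.pullback (IsTerminal.from specULiftZIsTerminal U) :=
    GrpBC.bcCongr _ q _ (specULiftZIsTerminal.hom_ext _ _)
  exact ⟨β.app (Red.diag (ULift.{u} ℤ) M), GrpBC.isMonHom_app β _⟩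

section Group

variable {H G : Over S} [GrpObj H] [GrpObj G] (hc : ∀ (X : Over S) (a b : X ⟶ G), a * b = b * a)

include hc in
theorem isHomFamily_mul {T : Over S} {φ ψ : H ⊗ T ⟶ G} (hφ : AutFam.IsHomFamily H G φ)
    (hψ : AutFam.IsHomFamily H G ψ) : AutFam.IsHomFamily H G (φ * ψ) := by
  intro X g₁ g₂ t
  letI : CommGroup (X ⟶ G) := { (inferInstance : Group (X ⟶ G)) with mul_comm := hc X }
  simp only [MonObj.comp_mul, hφ X g₁ g₂ t, hψ X g₁ g₂ t]
  exact mul_mul_mul_comm _ _ _ _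

include hc in
theorem isHomFamily_inv {T : Over S} {φ : H ⊗ T ⟶ G} (hφ : AutFam.IsHomFamily H G φ) :
    AutFam.IsHomFamily H G φ⁻¹ := by
  intro X g₁ g₂ t
  simp only [GrpObj.comp_inv, hφ X g₁ g₂ t, mul_inv_rev]
  exact hc X _ _

theorem isHomFamily_one {T : Over S} : AutFam.IsHomFamily H G (1 : H ⊗ T ⟶ G) := by
  intro X g₁ g₂ t
  simp only [MonObj.comp_one]
  exact (_root_.one_mul _).symm

/-- families of homomorphisms form a group -/
def famSubgroup (T : Over S) : Subgroup (H ⊗ T ⟶ G) where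
  carrier := {φ | AutFam.IsHomFamily H G φ}
  mul_mem' := isHomFamily_mul hc
  one_mem' := isHomFamily_one
  inv_mem' := isHomFamily_inv hc

/-- the functor in groups -/
def famGrp : (Over S)ᵒᵖ ⥤ GrpCat.{u} where
  obj T := GrpCat.of (famSubgroup hc (unop T))
  map {T T'} t := GrpCat.ofHom (MonoidHom.mk'
    (fun φ : famSubgroup hc (unop T) =>
      (⟨(H ◁ t.unop) ≫ φ.1, HomSheaf.isHomFamily_whisker H G t.unop φ.2⟩ : famSubgroup hc (unop T')))
    fun a b => Subtype.ext (MonObj.comp_mul _ _ _))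
  map_id T := GrpCat.hom_ext (MonoidHom.ext fun φ => Subtype.ext (by
    show (H ◁ 𝟙 (unop T)) ≫ φ.1 = φ.1
    simp))
  map_comp t t' := GrpCat.hom_ext (MonoidHom.ext fun φ => Subtype.ext (by
    show (H ◁ (t'.unop ≫ t.unop)) ≫ φ.1 = (H ◁ t'.unop) ≫ (H ◁ t.unop) ≫ φ.1
    simp))

include hc in
theorem exists_grpObj {D : Over S} {υ : H ⊗ D ⟶ G} (h : AutFam.RepresentsHom H G D υ) :
    ∃ _ : GrpObj D, ∀ (X : Over S) (a b : X ⟶ D),
      (H ◁ (a * b)) ≫ υ = ((H ◁ a) ≫ υ) * ((H ◁ b) ≫ υ) := by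
  let rep : (famGrp hc ⋙ forget _).RepresentableBy D :=
    { homEquiv := fun {T} => Equiv.ofBijective
        (fun v => (⟨(H ◁ v) ≫ υ, HomSheaf.isHomFamily_whisker H G v h.1⟩ : famSubgroup hc T))
        ⟨fun v v' e => (h.2 T _ (HomSheaf.isHomFamily_whisker H G v' h.1)).unique (congrArg Subtype.val e) rfl,
          fun φ => ⟨_, Subtype.ext (h.2 T φ.1 φ.2).exists.choose_spec⟩⟩
      homEquiv_comp := fun f g => Subtype.ext (by
        show (H ◁ (f ≫ g)) ≫ υ = (H ◁ f) ≫ (H ◁ g) ≫ υ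
        simp) }
  letI : GrpObj D := GrpObj.ofRepresentableBy D (famGrp hc) rep
  refine ⟨this, fun X a b => ?_⟩
  exact congrArg Subtype.val (((yonedaGrpObjIsoOfRepresentableBy D (famGrp hc) rep).hom.app (op X)).hom.map_mul a b)

end Group

/-- the Cartier dual -/
theorem exists_dual {H : Over S} [GrpObj H]
    (hH : TwC.Locally S TwC.Topology.etale (fun S' f => ∃ (M : Type) (_ : AddCommGroup M),
      Nonempty (Grp.mk (Red.bc f H) ≅ Grp.mk (Red.DS S' M)))) :
    ∃ (D : Over S) (_ : GrpObj D) (υ : H ⊗ D ⟶ Red.Gm S), AutFam.RepresentsHom H (Red.Gm S) D υ ∧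
      (∀ (X : Over S) (h : X ⟶ H) (a b : X ⟶ D), lift h (a * b) ≫ υ = (lift h a ≫ υ) * (lift h b ≫ υ)) ∧
      TwC.IsTwConstGrp TwC.Topology.etale D := by
  have loc : ∀ s : S, ∃ (U : Scheme.{u}) (q : U ⟶ S), Etale q ∧ s ∈ Set.range q ∧
      ∃ (M : Type) (_ : AddCommGroup M) (e : Red.bc q H ≅ Red.DS U M) (d : Red.bc q (Red.Gm S) ≅ Red.DS U ℤ),
        IsMonHom e.hom ∧ IsMonHom d.hom := fun s => by
    obtain ⟨U, q, hq, hs, M, _, ⟨e⟩⟩ := hH s
    obtain ⟨d, hd, -⟩ := exists_iso_DS q ℤ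
    exact ⟨U, q, hq, hs, M, _, (Grp.forget _).mapIso e, d, e.hom.hom.isMonHom_hom, hd⟩
  obtain ⟨D, υ, hD, -⟩ := HomTwConst.exists_twConst (H := H) (G := Red.Gm S) fun s => by
    obtain ⟨U, q, hq, hs, M, _, e, d, he, hd⟩ := loc s
    exact ⟨U, q, hq, hs, M, ℤ, _, _, inferInstance, e, d, he, hd⟩
  obtain ⟨iG, hmul⟩ := exists_grpObj (comm_DS S ℤ) hD
  letI := iG
  refine ⟨D, iG, υ, hD, fun X h a b => ?_, fun s => ?_⟩
  · have e : ∀ c : X ⟶ D, lift h c ≫ υ = lift h (𝟙 X) ≫ (H ◁ c) ≫ υ := fun c => by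
      rw [lift_whiskerLeft_assoc, Category.id_comp]
    rw [e, e, e, hmul, MonObj.comp_mul]
  obtain ⟨U, q, hq, hs, M, _, e, d, he, hd⟩ := loc s
  obtain ⟨υ₀, hυ₀, val⟩ := HomDS.exists_universal' (U := U) (M := M) (N := ℤ)
  haveI : IsMonHom d.inv := inferInstance
  haveI : IsMonHom d.symm.hom := ‹IsMonHom d.inv›
  obtain ⟨υ₁, hυ₁, hυ₁e⟩ := HomDSBC.exists_congr' e d.symm hυ₀
  obtain ⟨φA, hφA, hform, huniv⟩ := HomSheaf.exists_univ_map q hυ₁
  let F := Over.map q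
  let A := TwC.const U (HomDS.Idx M ℤ)
  let B := Red.bc q D
  obtain ⟨a₀, ha₀, hu₀⟩ := hD.2 (F.obj A) φA hφA
  let k : A ⟶ B := BCPoints.pt q D A a₀
  let ε : F.obj B ⟶ D := (BCPoints.pt q D B).symm (𝟙 B)
  obtain ⟨a₁, ⟨ha₁, ha₁φ⟩, -⟩ := huniv (F.obj B) B.hom rfl ((H ◁ ε) ≫ υ) (HomSheaf.isHomFamily_whisker H _ ε hD.1)
  let k' : B ⟶ A := Over.homMk a₁.left ha₁
  have hk' : F.map k' = a₁ := Over.OverMorphism.ext rfl
  have hk : F.map k ≫ ε = a₀ := (BCPoints.pt q D A).injective (by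
    rw [BCPoints.pt_map_comp, Equiv.apply_symm_apply, Category.comp_id])
  let i : B ≅ A :=
    { hom := k'
      inv := k
      hom_inv_id := by
        apply (BCPoints.pt q D B).symm.injective
        have e1 : (BCPoints.pt q D B).symm (k' ≫ k) = a₁ ≫ a₀ := by
          rw [Equiv.symm_apply_eq, ← hk', BCPoints.pt_map_comp]
        rw [e1]
        exact (hD.2 _ _ (HomSheaf.isHomFamily_whisker H _ ε hD.1)).unique
          (by rw [MonoidalCategory.whiskerLeft_comp, Category.assoc, ha₀, ha₁φ]) rfl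
      inv_hom_id := by
        have e2 : F.map (k ≫ k') = F.map (𝟙 A) := by
          refine (huniv (F.obj A) A.hom rfl φA hφA).unique ⟨Over.w (k ≫ k'), ?_⟩ ⟨Over.w (𝟙 A), by simp⟩
          rw [Functor.map_comp, MonoidalCategory.whiskerLeft_comp, Category.assoc, hk', ha₁φ,
            ← MonoidalCategory.whiskerLeft_comp_assoc, hk, ha₀]
        have e3 := congrArg CommaMorphism.left e2
        exact Over.OverMorphism.ext e3 }
  let w : A ≅ TwC.const U (Multiplicative (ULift.{u} (HomDS.Idx M ℤ))) := HomTwConst.constULift U _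
  let i' : B ≅ TwC.const U (Multiplicative (ULift.{u} (HomDS.Idx M ℤ))) :=
    { hom := k' ≫ w.hom
      inv := w.inv ≫ k
      hom_inv_id := (i ≪≫ w).hom_inv_id
      inv_hom_id := (i ≪≫ w).inv_hom_id }
  refine ⟨U, q, hq, hs, Multiplicative (ULift.{u} (HomDS.Idx M ℤ)), inferInstance, i', fun m n => ?_⟩
  have hpt : ∀ m : Multiplicative (ULift.{u} (HomDS.Idx M ℤ)),
      TwC.pt U (Multiplicative (ULift.{u} (HomDS.Idx M ℤ))) m ≫ i'.inv =
        BCPoints.pt q D (𝟙_ (Over U)) (F.map (TwC.pt U (HomDS.Idx M ℤ) m.toAdd.down) ≫ a₀) := by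
    intro m
    rw [BCPoints.pt_map_comp]
    show TwC.pt U _ m ≫ w.inv ≫ k = _
    rw [← Category.assoc]
    congr 1
    apply Over.OverMorphism.ext
    exact Sigma.ι_desc _ _
  rw [hpt, hpt, hpt, ← BCPoints.pt_mul]
  congr 1
  set tt : HomDS.Idx M ℤ → (F.obj (𝟙_ (Over U)) ⟶ F.obj A) := fun a => F.map (TwC.pt U (HomDS.Idx M ℤ) a) with htt
  have hsum : (m * n).toAdd.down = m.toAdd.down + n.toAdd.down := rfl
  rw [hsum]
  refine (hD.2 _ _ (HomSheaf.isHomFamily_whisker H _ _ hD.1)).unique ?_ rfl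
  rw [hmul]
  simp only [MonoidalCategory.whiskerLeft_comp, Category.assoc, ha₀]
  refine HomSheaf.ext_map q fun X' g t => ?_
  apply (BCPoints.pt q _ X').injective
  have key : ∀ a : HomDS.Idx M ℤ, BCPoints.pt q (Red.Gm S) X'
      (lift g (F.map t) ≫ (H ◁ F.map (TwC.pt U (HomDS.Idx M ℤ) a)) ≫ φA) =
        ((BCPoints.pt q H X' g ≫ e.hom) ≫ Red.DSmap U a) ≫ d.inv := by
    intro a
    rw [lift_whiskerLeft_assoc, ← Functor.map_comp, hform, hυ₁e, lift_whiskerRight_assoc, ← Category.assoc, val,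
      Iso.symm_hom]
  rw [MonObj.comp_mul, BCPoints.pt_mul, key, key, key, ← DSmap_add]
  exact (@MonObj.mul_comp _ _ _ _ _ _ _ _ _ _ d.inv ‹IsMonHom d.inv›).symm

end Groth.Agent.SGA3cLib.CartierDual
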