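import Groth.Agent.SGA3cLib.HomFpqc
import Groth.Agent.SGA3cLib.CartierDual

/-! # The dual of a commutative twisted constant group -/

set_option linter.style.haveILetI false
set_option autoImplicit false
set_option backward.isDefEq.respectTransparency.types false
universe u

open CategoryTheory CategoryTheory.Limits MonoidalCategory CartesianMonoidalCategory MonObj AlgebraicGeometry
open Desc

noncomputable section

namespace Groth.Agent.SGA3cLib.DualTwConst

/-- an isomorphism onto a local representing object is an isomorphism of groups -/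
theorem exists_grp_iso {S U : Scheme.{u}} (q : U ⟶ S) {H G D : Over S} [GrpObj H] [GrpObj G] [GrpObj D]
    {υ : H ⊗ D ⟶ G} (hD : AutFam.RepresentsHom H G D υ)
    (hmul : ∀ (X : Over S) (a b : X ⟶ D), (H ◁ (a * b)) ≫ υ = ((H ◁ a) ≫ υ) * ((H ◁ b) ≫ υ))
    {A : Over U} [GrpObj A] {υ₁ : Red.bc q H ⊗ A ⟶ Red.bc q G}
    (h₁ : AutFam.RepresentsHom (Red.bc q H) (Red.bc q G) A υ₁)
    (hmul₁ : ∀ (X : Over U) (g : X ⟶ Red.bc q H) (a b : X ⟶ A),
      lift g (a * b) ≫ υ₁ = (lift g a ≫ υ₁) * (lift g b ≫ υ₁)) :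
    Nonempty (Grp.mk (Red.bc q D) ≅ Grp.mk A) := by
  obtain ⟨φA, hφA, hform, huniv⟩ := HomSheaf.exists_univ_map q h₁
  let F := Over.map q
  let B := Red.bc q D
  obtain ⟨a₀, ha₀, -⟩ := hD.2 (F.obj A) φA hφA
  let k : A ⟶ B := BCPoints.pt q D A a₀
  let ε : F.obj B ⟶ D := (BCPoints.pt q D B).symm (𝟙 B)
  obtain ⟨a₁, ⟨ha₁, ha₁φ⟩, -⟩ := huniv (F.obj B) B.hom rfl ((H ◁ ε) ≫ υ) (HomSheaf.isHomFamily_whisker H _ ε hD.1)
  let k' : B ⟶ A := Over.homMk a₁.left ha₁
  have hk' : F.map k' = a₁ := Over.OverMorphism.ext rfl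
  have hk : F.map k ≫ ε = a₀ := (BCPoints.pt q D A).injective (by
    rw [BCPoints.pt_map_comp, Equiv.apply_symm_apply, Category.comp_id])
  let i : A ≅ B :=
    { hom := k
      inv := k'
      inv_hom_id := by
        apply (BCPoints.pt q D B).symm.injective
        have e1 : (BCPoints.pt q D B).symm (k' ≫ k) = a₁ ≫ a₀ := by
          rw [Equiv.symm_apply_eq, ← hk', BCPoints.pt_map_comp]
        rw [e1]
        exact (hD.2 _ _ (HomSheaf.isHomFamily_whisker H _ ε hD.1)).unique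
          (by rw [MonoidalCategory.whiskerLeft_comp, Category.assoc, ha₀, ha₁φ]) rfl
      hom_inv_id := by
        have e2 : F.map (k ≫ k') = F.map (𝟙 A) := by
          refine (huniv (F.obj A) A.hom rfl φA hφA).unique ⟨Over.w (k ≫ k'), ?_⟩ ⟨Over.w (𝟙 A), by simp⟩
          rw [Functor.map_comp, MonoidalCategory.whiskerLeft_comp, Category.assoc, hk', ha₁φ,
            ← MonoidalCategory.whiskerLeft_comp_assoc, hk, ha₀]
        have e3 := congrArg CommaMorphism.left e2
        exact Over.OverMorphism.ext e3 }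
  haveI : IsMonHom i.hom := BCPoints.isMonHom_of_mul k fun W x y => by
    have e : ∀ z : W ⟶ A, z ≫ k = BCPoints.pt q D W (F.map z ≫ a₀) := fun z => (BCPoints.pt_map_comp q z a₀).symm
    rw [e, e, e, ← BCPoints.pt_mul]
    congr 1
    refine (hD.2 _ _ (HomSheaf.isHomFamily_whisker H G _ hD.1)).unique rfl ?_
    rw [hmul]
    simp only [MonoidalCategory.whiskerLeft_comp, Category.assoc, ha₀]
    refine (HomSheaf.ext_map q fun X' g t => ?_)
    apply (BCPoints.pt q _ X').injective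
    rw [MonObj.comp_mul, BCPoints.pt_mul]
    simp only [lift_whiskerLeft_assoc]
    erw [← Functor.map_comp, ← Functor.map_comp, ← Functor.map_comp]
    rw [hform, hform, hform, MonObj.comp_mul, hmul₁]
  exact ⟨(Grp.mkIso' i).symm⟩

section Const

variable {U : Scheme.{u}} {I : Type}

theorem exists_pt (c : (TwC.const U I).left) : ∃ i w, (TwC.pt U I i).left w = c := by
  obtain ⟨i, w, hw⟩ := (sigmaOpenCover (fun _ : I => U)).exists_eq c
  exact ⟨i, w, hw⟩

instance isOpenImmersion_pt (i : I) : IsOpenImmersion (TwC.pt U I i).left :=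
  inferInstanceAs (IsOpenImmersion (Sigma.ι (fun _ : I => U) i))

/-- A point of a constant scheme is locally one of the tautological sections. -/
theorem exists_restr {T : Over U} (v : T ⟶ TwC.const U I) (x : T.left) :
    ∃ (V : T.left.Opens) (i : I), x ∈ V ∧
      HomScheme.restrHom T V ≫ v = toUnit _ ≫ TwC.pt U I i := by
  obtain ⟨i, w, hw⟩ := exists_pt (v.left x)
  haveI := isOpenImmersion_pt (U := U) i
  let V := v.left ⁻¹ᵁ (TwC.pt U I i).left.opensRange
  let r := HomScheme.restrHom T V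
  refine ⟨V, i, ⟨w, hw⟩, ?_⟩
  have hr : Set.range (r ≫ v).left ⊆ Set.range (TwC.pt U I i).left := by
    rintro _ ⟨y, rfl⟩; exact y.2
  let t : HomScheme.restr T V ⟶ 𝟙_ (Over U) :=
    Over.homMk (IsOpenImmersion.lift (TwC.pt U I i).left (r ≫ v).left hr) (by
      show _ ≫ 𝟙 U = (HomScheme.restr T V).hom
      rw [Category.comp_id, ← Over.w (r ≫ v)]
      conv_rhs => rw [← IsOpenImmersion.lift_fac (TwC.pt U I i).left (r ≫ v).left hr, Category.assoc,
        Over.w (TwC.pt U I i)]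
      exact (Category.comp_id _).symm)
  rw [← toUnit_unique t (toUnit _)]
  exact Over.OverMorphism.ext (IsOpenImmersion.lift_fac _ _ _).symm

theorem eq_of_local {T Y : Over U} (a b : T ⟶ Y)
    (h : ∀ x : T.left, ∃ V : T.left.Opens, x ∈ V ∧ HomScheme.restrHom T V ≫ a = HomScheme.restrHom T V ≫ b) :
    a = b := by
  apply Over.OverMorphism.ext
  refine Scheme.hom_ext_of_forall _ _ fun x => ?_
  obtain ⟨V, hxV, hV⟩ := h x
  exact ⟨V, hxV, congrArg CommaMorphism.left hV⟩

end Const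

/-- characters of a constant group -/
theorem exists_universal_const {U : Scheme.{u}} {M : Type} [CommGroup M] (R : Over U) [GrpObj R]
    (e : R ≅ TwC.const U M) (he : TwC.IsConstGrp M R e) :
    ∃ υ : R ⊗ Red.DS U (Additive M) ⟶ Red.Gm U,
      AutFam.RepresentsHom R (Red.Gm U) (Red.DS U (Additive M)) υ ∧
      ∀ (X : Over U) (g : X ⟶ R) (a b : X ⟶ Red.DS U (Additive M)),
        lift g (a * b) ≫ υ = (lift g a ≫ υ) * (lift g b ≫ υ) := by
  let D := Red.DS U (Additive M)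
  let c : M → (ℤ →+ Additive M) := fun m => zmultiplesHom (Additive M) (Additive.ofMul m)
  haveI : ∀ i : ULift.{u} M, IsOpenImmersion (TwC.pt U M i.down).left := fun i => isOpenImmersion_pt i.down
  obtain ⟨ψ, hψ, -⟩ := HomScheme.glue (X := D) (Y := Red.Gm U)
    (fun _ : ULift.{u} M => 𝟙_ (Over U)) (fun i => TwC.pt U M i.down)
    (fun z => by obtain ⟨i, w, hw⟩ := exists_pt z; exact ⟨⟨i⟩, w, hw⟩)
    (fun i => fst _ _ ≫ Red.DSmap U (c i.down))
    (fun i j K a b hab => by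
      rcases isEmpty_or_nonempty K.left with hK | hK
      · refine HomDS.eq_of_isEmpty ?_ _ _
        exact Function.isEmpty (snd D K).left
      · have hij : i.down = j.down := by
          by_contra hne
          obtain ⟨k⟩ := hK
          have e1 := congrArg (fun q : K ⟶ TwC.const U M => q.left k) hab
          exact hne (congrArg Sigma.fst ((sigmaι_eq_iff (fun _ : M => U) i.down j.down (a.left k) (b.left k)).mp
            (by simpa [TwC.pt] using e1)))
        rw [hij, ← Category.assoc, ← Category.assoc, whiskerLeft_fst, whiskerLeft_fst])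
  let υ : R ⊗ D ⟶ Red.Gm U := lift (snd R D) (fst R D ≫ e.hom) ≫ ψ
  have val : ∀ (m : M) {W : Over U} (p : W ⟶ D) (g : W ⟶ R) (s : W ⟶ 𝟙_ (Over U)),
      g = s ≫ TwC.pt U M m ≫ e.inv → lift g p ≫ υ = p ≫ Red.DSmap U (c m) := by
    intro m W p g s hg
    rw [← Category.assoc (lift g p), comp_lift, lift_snd, lift_fst_assoc, hg, Category.assoc, Category.assoc,
      Iso.inv_hom_id, Category.comp_id, ← lift_whiskerLeft_assoc, hψ ⟨m⟩, lift_fst_assoc]
  -- sections
  let σ : ∀ (W : Over U), M → (W ⟶ R) := fun W m => toUnit W ≫ TwC.pt U M m ≫ e.inv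
  have hσ : ∀ (W : Over U) (m n : M), σ W m * σ W n = σ W (m * n) := fun W m n => by
    rw [← MonObj.comp_mul, he m n]
  have loc : ∀ {W : Over U} (g : W ⟶ R) (x : W.left), ∃ (V : W.left.Opens) (m : M), x ∈ V ∧
      HomScheme.restrHom W V ≫ g = σ _ m := by
    intro W g x
    obtain ⟨V, m, hx, hV⟩ := exists_restr (g ≫ e.hom) x
    refine ⟨V, m, hx, ?_⟩
    show _ = toUnit _ ≫ TwC.pt U M m ≫ e.inv
    rw [← Category.assoc (toUnit _), ← hV, Category.assoc, Category.assoc, e.hom_inv_id, Category.comp_id]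
  have hval : ∀ {W : Over U} (V : W.left.Opens) {g : W ⟶ R} (p : W ⟶ D) (m : M),
      HomScheme.restrHom W V ≫ g = σ _ m →
      HomScheme.restrHom W V ≫ lift g p ≫ υ = (HomScheme.restrHom W V ≫ p) ≫ Red.DSmap U (c m) :=
    fun {W} V {g} p m hm => by
      rw [← Category.assoc, comp_lift]
      exact val m _ _ (toUnit _) hm
  refine ⟨υ, ⟨fun X g₁ g₂ t => ?_, fun T φ hφ => ?_⟩, fun X g a b => ?_⟩
  · refine eq_of_local _ _ fun x => ?_
    obtain ⟨V₁, m, hx₁, hm⟩ := loc g₁ x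
    obtain ⟨V₂, n, hx₂, hn⟩ := loc g₂ x
    refine ⟨V₁ ⊓ V₂, ⟨hx₁, hx₂⟩, ?_⟩
    let r := HomScheme.restrHom X (V₁ ⊓ V₂)
    let r₁ : HomScheme.restr X (V₁ ⊓ V₂) ⟶ HomScheme.restr X V₁ := Over.homMk (X.left.homOfLE inf_le_left) (by simp)
    let r₂ : HomScheme.restr X (V₁ ⊓ V₂) ⟶ HomScheme.restr X V₂ := Over.homMk (X.left.homOfLE inf_le_right) (by simp)
    have e₁ : r₁ ≫ HomScheme.restrHom X V₁ = r := Over.OverMorphism.ext (X.left.homOfLE_ι (inf_le_left : V₁ ⊓ V₂ ≤ V₁))
    have e₂ : r₂ ≫ HomScheme.restrHom X V₂ = r := Over.OverMorphism.ext (X.left.homOfLE_ι (inf_le_right : V₁ ⊓ V₂ ≤ V₂))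
    have hm' : r ≫ g₁ = σ _ m := by
      rw [← e₁, Category.assoc, hm, ← Category.assoc, comp_toUnit]
    have hn' : r ≫ g₂ = σ _ n := by
      rw [← e₂, Category.assoc, hn, ← Category.assoc, comp_toUnit]
    rw [MonObj.comp_mul, hval _ _ m hm', hval _ _ n hn', hval _ _ (m * n) (by rw [MonObj.comp_mul, hm', hn', hσ]),
      CartierDual.DSmap_add]
    congr 2
    ext
    simp [c]
  · let φm : M → (T ⟶ Red.Gm U) := fun m => lift (σ T m) (𝟙 T) ≫ φ
    let ev : (T ⟶ Red.Gm U) →* Γ(T.left, ⊤) :=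
      { toFun := fun q => dsFn q (Multiplicative.ofAdd (1 : ℤ))
        map_one' := by simp only [dsFn_one]
        map_mul' := fun q q' => by simp only [dsFn_mul] }
    let hom : Multiplicative (Additive M) →* Γ(T.left, ⊤) := ev.comp (MonoidHom.mk'
      (fun m => φm (Additive.toMul (Multiplicative.toAdd m))) fun a b => by
        show lift (σ T (Additive.toMul (Multiplicative.toAdd a) * Additive.toMul (Multiplicative.toAdd b))) (𝟙 T) ≫ φ = _
        rw [← hσ, hφ])
    obtain ⟨p, hp⟩ := exists_dsPt (W := T) (M := Additive M) hom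
    have key : ∀ m, p ≫ Red.DSmap U (c m) = φm m := fun m => dsFn_injective (MonoidHom.ext_mint (by
      rw [S5427.dsFn_DSmap, hp]
      show dsFn (φm (Additive.toMul (c m (1 : ℤ)))) (Multiplicative.ofAdd (1 : ℤ)) = _
      simp [c]))
    refine ⟨p, eq_of_local _ _ fun x => ?_, fun p' hp' => dsFn_injective (MonoidHom.ext fun m => ?_)⟩
    · obtain ⟨V, m, hx, hm⟩ := loc (fst R T) x
      refine ⟨V, hx, ?_⟩
      have : (R ◁ p) = lift (fst R T) (snd R T ≫ p) := by
        apply CartesianMonoidalCategory.hom_ext <;> simp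
      rw [this, hval _ _ m hm, Category.assoc, Category.assoc, key]
      show _ ≫ snd R T ≫ lift (σ T m) (𝟙 T) ≫ φ = _
      rw [← Category.assoc, ← Category.assoc, comp_lift, Category.comp_id]
      have e1 : (HomScheme.restrHom (R ⊗ T) V ≫ snd R T) ≫ σ T m = σ _ m := by
        rw [← Category.assoc, comp_toUnit]
      rw [e1, ← hm]
      conv_rhs => rw [← Category.id_comp φ, ← lift_fst_snd, ← Category.assoc, comp_lift]
    · obtain ⟨m, rfl⟩ : ∃ m' : M, Multiplicative.ofAdd (Additive.ofMul m') = m := ⟨_, rfl⟩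
      have h1 : p' ≫ Red.DSmap U (c m) = φm m := by
        show _ = lift (σ T m) (𝟙 T) ≫ φ
        rw [← hp', lift_whiskerLeft_assoc, Category.id_comp]
        exact (val m p' _ (toUnit T) rfl).symm
      have h2 := congrArg (fun q => dsFn q (Multiplicative.ofAdd (1 : ℤ))) (h1.trans (key m).symm)
      simp only [S5427.dsFn_DSmap] at h2
      simpa [c] using h2
  · refine eq_of_local _ _ fun x => ?_
    obtain ⟨V, m, hx, hm⟩ := loc g x
    refine ⟨V, hx, ?_⟩
    rw [MonObj.comp_mul, hval _ _ m hm, hval _ _ m hm, hval _ _ m hm, MonObj.comp_mul]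
    exact @MonObj.mul_comp _ _ _ _ _ _ _ _ _ _ _ (S5427.isMonHom_DSmap (c m))

/-- the dual of a commutative twisted constant group -/
theorem exists_dual {S : Scheme.{u}} (R : Over S) [GrpObj R]
    (hR : TwC.Locally S TwC.Topology.fpqc (fun S' f => ∃ (M : Type) (_ : Group M) (e : Red.bc f R ≅ TwC.const S' M),
      TwC.IsConstGrp M (Red.bc f R) e))
    (hcomm : ∀ (X : Over S) (a b : X ⟶ R), a * b = b * a) :
    ∃ (D : Over S) (_ : GrpObj D) (υ : R ⊗ D ⟶ Red.Gm S), AutFam.RepresentsHom R (Red.Gm S) D υ ∧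
      (∀ (X : Over S) (r : X ⟶ R) (a b : X ⟶ D), lift r (a * b) ≫ υ = (lift r a ≫ υ) * (lift r b ≫ υ)) ∧
      TwC.Locally S TwC.Topology.fpqc (fun S' f => ∃ (M : Type) (_ : AddCommGroup M),
        Nonempty (Grp.mk (Red.bc f D) ≅ Grp.mk (Red.DS S' M))) := by
  obtain ⟨S', f, hfl, hfs, hfq, hloc⟩ := hR
  choose U hmem hU using hloc
  have piece : ∀ s', ∃ (N : Type) (_ : AddCommGroup N)
      (υ₁ : Red.bc ((U s').ι ≫ f) R ⊗ Red.DS (U s') N ⟶ Red.bc ((U s').ι ≫ f) (Red.Gm S)),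
      AutFam.RepresentsHom _ _ (Red.DS (U s' : Scheme.{u}) N) υ₁ ∧
      ∀ (X : Over (U s' : Scheme.{u})) (g : X ⟶ Red.bc ((U s').ι ≫ f) R) (a b : X ⟶ Red.DS (U s') N),
        lift g (a * b) ≫ υ₁ = (lift g a ≫ υ₁) * (lift g b ≫ υ₁) := by
    intro s'
    obtain ⟨M, iM, e, he⟩ := hU s'
    have hcM : ∀ a b : M, a * b = b * a := fun a b => by
      obtain ⟨a', ha'⟩ := (BCPoints.pt ((U s').ι ≫ f) R (𝟙_ _)).surjective (TwC.pt (U s' : Scheme.{u}) M a ≫ e.inv)
      obtain ⟨b', hb'⟩ := (BCPoints.pt ((U s').ι ≫ f) R (𝟙_ _)).surjective (TwC.pt (U s' : Scheme.{u}) M b ≫ e.inv)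
      have h1 := (he a b).symm.trans ((by rw [← ha', ← hb', ← BCPoints.pt_mul, hcomm, BCPoints.pt_mul]) :
        _ = (TwC.pt (U s' : Scheme.{u}) M b ≫ e.inv) * (TwC.pt (U s' : Scheme.{u}) M a ≫ e.inv))
      rw [he b a, cancel_mono] at h1
      have h2 := congrArg (fun q => q.left (⟨s', hmem s'⟩ : (U s' : Scheme.{u}))) h1
      exact congrArg Sigma.fst ((sigmaι_eq_iff (fun _ : M => (U s' : Scheme.{u})) (a * b) (b * a) ⟨s', hmem s'⟩ ⟨s', hmem s'⟩).mp
        (by simpa [TwC.pt] using h2))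
    letI : CommGroup M := { iM with mul_comm := hcM }
    obtain ⟨υ₀, hυ₀, hm₀⟩ := exists_universal_const _ e he
    obtain ⟨d, hd, hd'⟩ := CartierDual.exists_iso_DS ((U s').ι ≫ f) ℤ
    haveI : IsMonHom (Iso.refl (Red.bc ((U s').ι ≫ f) R)).hom := inferInstanceAs (IsMonHom (𝟙 _))
    haveI : IsMonHom d.symm.hom := hd'
    obtain ⟨υ₁, hυ₁, he₁⟩ := HomDSBC.exists_congr' (Iso.refl _) d.symm hυ₀
    refine ⟨Additive M, inferInstance, υ₁, hυ₁, fun X g a b => ?_⟩
    simp only [he₁, Iso.refl_hom, id_whiskerRight, Category.id_comp, Iso.symm_hom, ← Category.assoc, hm₀]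
    exact MonObj.mul_comp _ _ _
  choose N iN υ₁ hυ₁ hm₁ using piece
  choose L hL using fun s' => HomFpqc.nonempty_local _ (hυ₁ s')
  obtain ⟨D, υ, hD⟩ := HomFpqc.exists_representsHom L
    (HomFpqc.ofArrows_mem f hfq U fun x => ⟨x, hmem x⟩) fun s' => by
      rw [hL]
      refine MorphismProperty.pullback_snd (P := @IsAffineHom) _ _ ?_
      show IsAffineHom (Spec.map _)
      infer_instance
  obtain ⟨iG, hmul⟩ := CartierDual.exists_grpObj (CartierDual.comm_DS S ℤ) hD
  letI := iG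
  refine ⟨D, iG, υ, hD, fun X r a b => ?_, S', f, hfl, hfs, hfq, fun s' => ⟨U s', hmem s', N s', iN s', ?_⟩⟩
  · have e : ∀ c : X ⟶ D, lift r c ≫ υ = lift r (𝟙 X) ≫ (R ◁ c) ≫ υ := fun c => by
      rw [lift_whiskerLeft_assoc, Category.id_comp]
    rw [e, e, e, hmul, MonObj.comp_mul]
  · exact exists_grp_iso _ hD hmul (hυ₁ s') (hm₁ s')

end Groth.Agent.SGA3cLib.DualTwConst
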