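import Groth.Agent.SGA3cLib.HomDS
import Groth.Agent.SGA3cLib.GrpBC
import Groth.Prelude.Def_SGA3x
import Mathlib.RingTheory.TensorProduct.MonoidAlgebra

/-! # Base change of schemes of homomorphisms; the finite multiplicative case -/

set_option linter.style.haveILetI false
set_option autoImplicit false
set_option backward.isDefEq.respectTransparency.types false
universe u

open CategoryTheory CategoryTheory.Limits MonoidalCategory CartesianMonoidalCategory MonObj AlgebraicGeometry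
open scoped TensorProduct

noncomputable section

namespace Groth.Agent.SGA3cLib.HomDSBC

attribute [-instance] ULift.module ULift.smulLeft ULift.mulAction ULift.smulZeroClass ULift.distribSMul

variable {S U : Scheme.{u}} (f : U ⟶ S)

/-- Representability of homomorphisms commutes with base change. -/
theorem exists_bc {G H A : Over S} [GrpObj G] [GrpObj H] {υ : G ⊗ A ⟶ H} (h : AutFam.RepresentsHom G H A υ) :
    ∃ υ' : Red.bc f G ⊗ Red.bc f A ⟶ Red.bc f H,
      AutFam.RepresentsHom (Red.bc f G) (Red.bc f H) (Red.bc f A) υ' := by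
  let adj := Over.mapPullbackAdj f
  let F := Over.map f
  let pr := fun T : Over U => HomScheme.proj f G T
  haveI : ∀ T, IsIso (pr T) := fun T => HomScheme.isIso_proj f G T
  -- the value of a family
  have val : ∀ {X' T : Over U} (g : F.obj X' ⟶ G) (t : X' ⟶ T),
      F.map (lift (BCPoints.pt f G X' g) t) ≫ pr T = lift g (F.map t) := by
    intro X' T g t
    apply CartesianMonoidalCategory.hom_ext
    · simp only [pr, HomScheme.proj, Category.assoc, lift_fst]
      show F.map _ ≫ F.map (fst _ _) ≫ _ = _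
      rw [← Functor.map_comp_assoc, lift_fst]
      exact (((adj.homEquiv_counit (g := BCPoints.pt f G X' g)).symm).trans ((adj.homEquiv X' G).symm_apply_apply g)).trans (lift_fst _ _).symm
    · simp only [pr, HomScheme.proj, Category.assoc, lift_snd]
      show F.map _ ≫ F.map (snd _ _) = _
      rw [← Functor.map_comp, lift_snd]
  let tof : ∀ T : Over U, (G ⊗ F.obj T ⟶ H) → (Red.bc f G ⊗ T ⟶ Red.bc f H) :=
    fun T φ => adj.homEquiv _ H (pr T ≫ φ)
  have htof : ∀ {X' T : Over U} (φ : G ⊗ F.obj T ⟶ H) (g : F.obj X' ⟶ G) (t : X' ⟶ T),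
      lift (BCPoints.pt f G X' g) t ≫ tof T φ = BCPoints.pt f H X' (lift g (F.map t) ≫ φ) := by
    intro X' T φ g t
    rw [← val g t, Category.assoc]
    exact (adj.homEquiv_naturality_left _ _).symm
  have hom_iff : ∀ (T : Over U) (φ : G ⊗ F.obj T ⟶ H),
      AutFam.IsHomFamily G H φ ↔ AutFam.IsHomFamily (Red.bc f G) (Red.bc f H) (tof T φ) := by
    intro T φ
    constructor
    · intro hφ X' g₁ g₂ t
      obtain ⟨a, rfl⟩ := (BCPoints.pt f G X').surjective g₁
      obtain ⟨b, rfl⟩ := (BCPoints.pt f G X').surjective g₂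
      rw [← BCPoints.pt_mul, htof, htof, htof, hφ, BCPoints.pt_mul]
    · intro hψ X g₁ g₂ t
      let X' : Over U := Over.mk (t.left ≫ T.hom)
      let κ : F.obj X' ⟶ X := Over.homMk (𝟙 _) (by
        show 𝟙 _ ≫ X.hom = (t.left ≫ T.hom) ≫ f
        rw [Category.id_comp, ← Over.w t, Category.assoc]
        rfl)
      haveI : IsIso κ := by
        haveI : IsIso ((Over.forget S).map κ) := inferInstanceAs (IsIso (𝟙 X.left))
        exact isIso_of_reflects_iso κ (Over.forget S)
      let t' : X' ⟶ T := Over.homMk t.left rfl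
      have ht : κ ≫ t = F.map t' := Over.OverMorphism.ext (Category.id_comp _)
      rw [← cancel_epi κ]
      simp only [MonObj.comp_mul, ← Category.assoc, comp_lift, ht]
      apply (BCPoints.pt f H X').injective
      rw [BCPoints.pt_mul, ← htof, ← htof, ← htof, BCPoints.pt_mul]
      exact hψ X' _ _ t'
  let e₀ := adj.counit.app A
  let υ' := tof (Red.bc f A) ((G ◁ e₀) ≫ υ)
  refine ⟨υ', (hom_iff _ _).1 (fun X g₁ g₂ t => ?_), fun T ψ hψ => ?_⟩
  · simpa only [lift_whiskerLeft_assoc] using h.1 X g₁ g₂ (t ≫ e₀)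
  · obtain ⟨φ, rfl⟩ : ∃ φ, tof T φ = ψ := ⟨inv (pr T) ≫ (adj.homEquiv _ H).symm ψ, by simp [tof]⟩
    have key : ∀ a : T ⟶ Red.bc f A, ((Red.bc f G) ◁ a) ≫ υ' = tof T φ ↔
        (G ◁ (BCPoints.pt f A T).symm a) ≫ υ = φ := by
      intro a
      have e : ((Red.bc f G) ◁ a) ≫ υ' = tof T ((G ◁ (BCPoints.pt f A T).symm a) ≫ υ) := by
        show _ ≫ adj.homEquiv _ H (pr (Red.bc f A) ≫ _) = adj.homEquiv _ H (pr T ≫ _)
        rw [← adj.homEquiv_naturality_left,
          show (BCPoints.pt f A T).symm a = F.map a ≫ e₀ from adj.homEquiv_counit _ _ _,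
          MonoidalCategory.whiskerLeft_comp_assoc, ← Category.assoc (pr T) (G ◁ F.map a),
          HomScheme.proj_natural, Category.assoc]
      rw [e]
      refine ⟨fun h' => ?_, fun h' => by rw [h']⟩
      have := (adj.homEquiv _ H).injective h'
      rwa [cancel_epi] at this
    obtain ⟨a, ha, hu⟩ := h.2 (F.obj T) φ ((hom_iff T φ).2 hψ)
    refine ⟨BCPoints.pt f A T a, (key _).2 (by rw [Equiv.symm_apply_apply, ha]), fun a' ha' => ?_⟩
    rw [← hu _ ((key a').1 ha'), Equiv.apply_symm_apply]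

/-- Transport along isomorphisms of groups. -/
theorem exists_congr' {G G' H H' A : Over S} [GrpObj G] [GrpObj G'] [GrpObj H] [GrpObj H'] (e : G' ≅ G) (d : H ≅ H')
    [IsMonHom e.hom] [IsMonHom d.hom] {υ : G ⊗ A ⟶ H} (h : AutFam.RepresentsHom G H A υ) :
    ∃ υ' : G' ⊗ A ⟶ H', AutFam.RepresentsHom G' H' A υ' ∧ υ' = (e.hom ▷ A) ≫ υ ≫ d.hom := by
  haveI : IsMonHom e.inv := inferInstance
  haveI : IsMonHom d.inv := inferInstance
  have lw : ∀ {X T : Over S} {P Q : Over S} (x : X ⟶ P) (t : X ⟶ T) (m : P ⟶ Q), lift x t ≫ (m ▷ T) = lift (x ≫ m) t :=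
    fun x t m => lift_whiskerRight _ _ _
  refine ⟨(e.hom ▷ A) ≫ υ ≫ d.hom, ⟨fun X g₁ g₂ t => ?_, fun T φ hφ => ?_⟩, rfl⟩
  · simp only [← Category.assoc, lw, MonObj.mul_comp]
    rw [h.1, MonObj.mul_comp]
  · obtain ⟨a, ha, hu⟩ := h.2 T ((e.inv ▷ T) ≫ φ ≫ d.inv) (fun X g₁ g₂ t => by
      simp only [← Category.assoc, lw, MonObj.mul_comp]
      rw [hφ, MonObj.mul_comp])
    refine ⟨a, ?_, fun a' ha' => hu a' ?_⟩
    · show (G' ◁ a) ≫ (e.hom ▷ A) ≫ υ ≫ d.hom = φ
      rw [whisker_exchange_assoc, reassoc_of% ha, Iso.inv_hom_id, Category.comp_id]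
      simp
    · show (G ◁ a') ≫ υ = _
      rw [← ha']
      simp only [whisker_exchange_assoc, Category.assoc, Iso.hom_inv_id, Category.comp_id]
      simp

theorem exists_congr {G G' H H' A : Over S} [GrpObj G] [GrpObj G'] [GrpObj H] [GrpObj H'] (e : G' ≅ G) (d : H ≅ H')
    [IsMonHom e.hom] [IsMonHom d.hom] {υ : G ⊗ A ⟶ H} (h : AutFam.RepresentsHom G H A υ) :
    ∃ υ' : G' ⊗ A ⟶ H', AutFam.RepresentsHom G' H' A υ' :=
  let ⟨υ', h', _⟩ := exists_congr' e d h
  ⟨υ', h'⟩

theorem unique {G H A A' : Over S} [GrpObj G] [GrpObj H] {υ : G ⊗ A ⟶ H} {υ' : G ⊗ A' ⟶ H}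
    (h : AutFam.RepresentsHom G H A υ) (h' : AutFam.RepresentsHom G H A' υ') : Nonempty (A ≅ A') := by
  obtain ⟨a, ha, -⟩ := h'.2 A υ h.1
  obtain ⟨b, hb, -⟩ := h.2 A' υ' h'.1
  refine ⟨⟨a, b, (h.2 A υ h.1).unique ?_ (by simp), (h'.2 A' υ' h'.1).unique ?_ (by simp)⟩⟩
  · rw [MonoidalCategory.whiskerLeft_comp_assoc, hb, ha]
  · rw [MonoidalCategory.whiskerLeft_comp_assoc, ha, hb]

theorem finite_of_field (K : Type u) [Field K] (M : Type) [AddCommGroup M] [Algebra (ULift.{u} ℤ) K]
    (h : IsFinite (pullback.snd (Red.diag (ULift.{u} ℤ) M).hom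
      (Spec.map (CommRingCat.ofHom (algebraMap (ULift.{u} ℤ) K))))) : Finite M := by
  let Z := ULift.{u} ℤ
  let P := Multiplicative M
  have h2 := MorphismProperty.RespectsIso.precomp (P := @IsFinite)
    (pullbackSpecIso Z (MonoidAlgebra Z P) K).inv _ h
  erw [pullbackSpecIso_inv_snd] at h2
  have h3 := (IsFinite.SpecMap_iff _).1 h2
  let e := Algebra.TensorProduct.comm Z (MonoidAlgebra Z P) K
  have hs : Function.Surjective (e.toRingEquiv.toRingHom :
      MonoidAlgebra Z P ⊗[Z] K →+* K ⊗[Z] MonoidAlgebra Z P) := e.surjective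
  have h5 := RingHom.Finite.comp (RingHom.Finite.of_surjective (A := MonoidAlgebra Z P ⊗[Z] K) (B := K ⊗[Z] MonoidAlgebra Z P) _ hs) h3
  have h4 : Module.Finite K (K ⊗[Z] MonoidAlgebra Z P) := RingHom.finite_algebraMap.1 h5
  haveI : Module.Finite K (MonoidAlgebra K P) :=
    Module.Finite.equiv (MonoidAlgebra.scalarTensorEquiv (M := P) Z K).toLinearEquiv
  haveI : Finite P := Module.Finite.finite_basis (MonoidAlgebra.basis P K)
  exact Finite.of_equiv P Multiplicative.toAdd

/-- A finite diagonalisable group over a nonempty base has finitely many characters. -/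
theorem finite_of_isFinite_DS {U : Scheme.{u}} [hU : Nonempty U] (M : Type) [AddCommGroup M]
    (h : IsFinite (Red.DS U M).hom) : Finite M := by
  obtain ⟨x⟩ := hU
  obtain ⟨K, _, ξ⟩ : ∃ (K : Type u) (_ : Field K), Nonempty (Spec (CommRingCat.of K) ⟶ U) :=
    ⟨U.residueField x, inferInstance, ⟨U.fromSpecResidueField x⟩⟩
  let g := ξ.some ≫ IsTerminal.from specULiftZIsTerminal U
  letI : Algebra (ULift.{u} ℤ) K := (Spec.preimage g).hom.toAlgebra
  refine finite_of_field K M ?_
  have hg : g = Spec.map (CommRingCat.ofHom (algebraMap (ULift.{u} ℤ) K)) := (Spec.map_preimage g).symm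
  rw [← hg]
  have := (Iso.inv_comp_eq _).2
    (pullbackLeftPullbackSndIso_hom_snd (Red.diag (ULift.{u} ℤ) M).hom (IsTerminal.from specULiftZIsTerminal U) ξ.some).symm
  rw [← this]
  exact MorphismProperty.RespectsIso.precomp _ _ _ (MorphismProperty.pullback_snd (P := @IsFinite) _ _ h)

end Groth.Agent.SGA3cLib.HomDSBC
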