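import Groth.Agent.SGA3cLib.EtaleHom
import Groth.Agent.SGA3cLib.HomDSBC
import Groth.Agent.AlgSpLib.Diag

/-! # Homomorphisms between quasi-isotrivial groups of multiplicative type -/

set_option linter.style.haveILetI false
set_option autoImplicit false
set_option backward.isDefEq.respectTransparency.types false
universe u

open CategoryTheory CategoryTheory.Limits MonoidalCategory CartesianMonoidalCategory MonObj AlgebraicGeometry

noncomputable section

namespace Groth.Agent.SGA3cLib.HomTwConst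

theorem isSeparated_const (U : Scheme.{u}) (I : Type) : IsSeparated (TwC.const U I).hom := by
  let f : (TwC.const U I).left ⟶ U := (TwC.const U I).hom
  let ι₀ := Sigma.ι (fun _ : I => U)
  have hf : ∀ i, ι₀ i ≫ f = 𝟙 U := fun i => Sigma.ι_desc _ _
  haveI : ∀ i, IsOpenImmersion (ι₀ i) := fun i => inferInstance
  refine ⟨?_⟩
  have piece : ∀ x, ∃ i, x ∈ Set.range (ι₀ i) := fun x => by
    obtain ⟨i, w, hw⟩ := (sigmaOpenCover (fun _ : I => U)).exists_eq x
    exact ⟨i, w, hw⟩
  have disj : ∀ i j x, x ∈ Set.range (ι₀ i) → x ∈ Set.range (ι₀ j) → i = j := by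
    rintro i j _ ⟨a, rfl⟩ ⟨b, hb⟩
    exact (congrArg Sigma.fst ((sigmaι_eq_iff (fun _ : I => U) j i b a).1 hb)).symm
  have hrange : (Set.range (pullback.diagonal f))ᶜ = ⋃ (i : I) (j : I) (_ : i ≠ j),
      pullback.fst f f ⁻¹' Set.range (ι₀ i) ∩ pullback.snd f f ⁻¹' Set.range (ι₀ j) := by
    ext p
    simp only [Set.mem_compl_iff, Set.mem_iUnion, Set.mem_inter_iff, Set.mem_preimage]
    constructor
    · intro hp
      obtain ⟨i, hi⟩ := piece (pullback.fst f f p)
      obtain ⟨j, hj⟩ := piece (pullback.snd f f p)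
      refine ⟨i, j, fun hij => hp ?_, hi, hj⟩
      subst hij
      let m := pullback.map (ι₀ i ≫ f) (ι₀ i ≫ f) f f (ι₀ i) (ι₀ i) (𝟙 U) (by simp) (by simp)
      have hm : p ∈ Set.range m := by
        rw [Scheme.Pullback.range_map]
        exact ⟨hi, hj⟩
      obtain ⟨t, rfl⟩ := hm
      have e : m = pullback.fst (ι₀ i ≫ f) (ι₀ i ≫ f) ≫ ι₀ i ≫ pullback.diagonal f := by
        have h : pullback.fst (ι₀ i ≫ f) (ι₀ i ≫ f) = pullback.snd (ι₀ i ≫ f) (ι₀ i ≫ f) := by
          simpa [hf i] using (pullback.condition (f := ι₀ i ≫ f) (g := ι₀ i ≫ f))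
        apply pullback.hom_ext
        · simp [m, pullback.map]; exact pullback.lift_fst _ _ _
        · simp [m, h, pullback.map]; exact pullback.lift_snd _ _ _
      exact ⟨ι₀ i (pullback.fst (ι₀ i ≫ f) (ι₀ i ≫ f) t), by rw [e]; rfl⟩
    · rintro ⟨i, j, hij, hi, hj⟩ ⟨x, rfl⟩
      rw [← Scheme.Hom.comp_apply, pullback.diagonal_fst] at hi
      rw [← Scheme.Hom.comp_apply, pullback.diagonal_snd] at hj
      exact hij (disj i j x hi hj)
  have hclosed : IsClosed (Set.range (pullback.diagonal f)) := by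
    rw [← isOpen_compl_iff, hrange]
    exact isOpen_iUnion fun i => isOpen_iUnion fun j => isOpen_iUnion fun _ =>
      ((ι₀ i).isOpenEmbedding.isOpen_range.preimage (pullback.fst f f).continuous).inter
        ((ι₀ j).isOpenEmbedding.isOpen_range.preimage (pullback.snd f f).continuous)
  exact .of_isPreimmersion _ hclosed

theorem props_const (U : Scheme.{u}) (I : Type) :
    IsSeparated (TwC.const U I).hom ∧ LocallyQuasiFinite (TwC.const U I).hom ∧
      LocallyOfFiniteType (TwC.const U I).hom := by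
  haveI := HomDS.etale_const U I
  exact ⟨isSeparated_const U I, AlgSpLib.locallyQuasiFinite_of_etale _, inferInstance⟩

/-- change of index universe -/
def constULift (U : Scheme.{u}) (I : Type) : TwC.const U I ≅ TwC.const U (ULift.{u} I) :=
  Over.isoMk
    { hom := Sigma.desc fun i => Sigma.ι (fun _ : ULift.{u} I => U) ⟨i⟩
      inv := Sigma.desc fun i => Sigma.ι (fun _ : I => U) i.down
      hom_inv_id := by apply Sigma.hom_ext; intro i; simp
      inv_hom_id := by apply Sigma.hom_ext; intro i; simp }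
    (by apply Sigma.hom_ext; intro i; simp)

variable {S : Scheme.{u}} (H G : Over S) [GrpObj H] [GrpObj G]

/-- `H` and `G` are simultaneously diagonalisable etale-locally. -/
def LocallyDiag : Prop :=
  ∀ s : S, ∃ (U : Scheme.{u}) (q : U ⟶ S), Etale q ∧ s ∈ Set.range q ∧
    ∃ (M N : Type) (_ : AddCommGroup M) (_ : AddCommGroup N), AddGroup.FG N ∧
      ∃ (e : Red.bc q H ≅ Red.DS U M) (d : Red.bc q G ≅ Red.DS U N), IsMonHom e.hom ∧ IsMonHom d.hom

variable {H G}

theorem exists_local_rep {U : Scheme.{u}} (q : U ⟶ S) {M N : Type} [AddCommGroup M] [AddCommGroup N] [AddGroup.FG N]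
    (e : Red.bc q H ≅ Red.DS U M) (d : Red.bc q G ≅ Red.DS U N) [IsMonHom e.hom] [IsMonHom d.hom] :
    ∃ υ, AutFam.RepresentsHom (Red.bc q H) (Red.bc q G) (TwC.const U (HomDS.Idx M N)) υ := by
  obtain ⟨υ, hυ⟩ := HomDS.exists_universal (U := U) (M := M) (N := N)
  haveI : IsMonHom d.inv := inferInstance
  haveI : IsMonHom d.symm.hom := ‹IsMonHom d.inv›
  exact HomDSBC.exists_congr e d.symm hυ

theorem exists_twConst (h : LocallyDiag H G) :
    ∃ (A : Over S) (υ : H ⊗ A ⟶ G), AutFam.RepresentsHom H G A υ ∧ TwC.IsTwConst TwC.Topology.etale A := by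
  have h₁ : EtaleHom.EtaleLocalRep H G := fun s => by
    obtain ⟨U, q, hq, hs, M, N, _, _, hN, e, d, he, hd⟩ := h s
    haveI := hN
    obtain ⟨υ, hυ⟩ := exists_local_rep q e d
    exact ⟨U, q, hq, hs, _, υ, hυ, props_const U _⟩
  obtain ⟨A, υ, hA⟩ := EtaleHom.exists_representsHom h₁
  refine ⟨A, υ, hA, fun s => ?_⟩
  obtain ⟨U, q, hq, hs, M, N, _, _, hN, e, d, he, hd⟩ := h s
  haveI := hN
  obtain ⟨υ₁, hυ₁⟩ := exists_local_rep q e d
  obtain ⟨υ₂, hυ₂⟩ := HomDSBC.exists_bc q hA
  obtain ⟨i⟩ := HomDSBC.unique hυ₂ hυ₁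
  exact ⟨U, q, hq, hs, ULift.{u} (HomDS.Idx M N), ⟨i ≪≫ constULift U _⟩⟩

end Groth.Agent.SGA3cLib.HomTwConst
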