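import Groth.Agent.SGA3cLib.DSHom
import Groth.Agent.SGA3cLib.GrpBC
import Groth.Agent.SGA3cLib.FpqcEpi
import Groth.Agent.Et18.Descent
import Groth.Agent.FlatLocal.Descent
import Groth.Agent.Misc15.FreeMonoidAlgebra
import Groth.Prelude.Def_SGA3x
import Groth.Prelude.Def_TwC

/-! Loci where a homomorphism of groups of multiplicative type is a monomorphism, isomorphism or faithfully flat. -/

set_option linter.style.haveILetI false
set_option autoImplicit false

universe u

open CategoryTheory CategoryTheory.Limits MonoidalCategory CartesianMonoidalCategory MonObj AlgebraicGeometry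

noncomputable section

namespace Groth.Agent.SGA3cLib.MultHomLocus

/-- Faithfully flat morphisms. -/
abbrev FF : MorphismProperty Scheme.{u} := @Flat ⊓ @Surjective

instance flat_descends : MorphismProperty.DescendsAlong (@Flat : MorphismProperty Scheme.{u})
    (@Surjective ⊓ @Flat ⊓ @QuasiCompact) := by
  apply MorphismProperty.DescendsAlong.mk'
  intro X Y Z f g _ hf h
  haveI : Surjective f := hf.1.1
  haveI : Flat f := hf.1.2
  haveI : Flat (pullback.fst f g) := h
  haveI : Flat (pullback.snd f g ≫ g) := by rw [← pullback.condition]; infer_instance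
  exact FlatLocal.flat_of_comp (pullback.snd f g) g

instance ff_descends : MorphismProperty.DescendsAlong FF.{u} (@Surjective ⊓ @Flat ⊓ @QuasiCompact) := by
  apply MorphismProperty.DescendsAlong.mk'
  intro X Y Z f g _ hf h
  exact ⟨MorphismProperty.of_pullback_fst_of_descendsAlong (P := @Flat) hf h.1,
    MorphismProperty.of_pullback_fst_of_descendsAlong (P := @Surjective) hf h.2⟩

instance : IsZariskiLocalAtTarget FF.{u} := inferInstance

instance : (FF.{u}).IsStableUnderBaseChange := inferInstance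

instance mono_local : IsZariskiLocalAtTarget (MorphismProperty.monomorphisms Scheme.{u}) := by
  rw [← MorphismProperty.diagonal_isomorphisms]; infer_instance

instance : MorphismProperty.DescendsAlong (MorphismProperty.monomorphisms Scheme.{u})
    (@Surjective ⊓ @Flat ⊓ @QuasiCompact) := Et18.descends_monomorphisms

section Squares

variable {S : Scheme.{u}} {G H : Over S} (u : G ⟶ H)

theorem map_left_fst {T : Scheme.{u}} (g : T ⟶ S) :
    ((Over.pullback g).map u).left ≫ pullback.fst H.hom g = pullback.fst G.hom g ≫ u.left :=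
  pullback.lift_fst _ _ _

theorem map_left_snd {T : Scheme.{u}} (g : T ⟶ S) :
    ((Over.pullback g).map u).left ≫ pullback.snd H.hom g = pullback.snd G.hom g :=
  pullback.lift_snd _ _ _

theorem isPullback_map {T : Scheme.{u}} (g : T ⟶ S) :
    IsPullback (pullback.fst G.hom g) ((Over.pullback g).map u).left u.left (pullback.fst H.hom g) := by
  have e1 := map_left_snd u g
  have e2 := map_left_fst u g
  refine IsPullback.of_bot ?_ e2.symm (IsPullback.of_hasPullback H.hom g)
  rw [e1, Over.w u]
  exact IsPullback.of_hasPullback G.hom g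

variable (P : MorphismProperty Scheme.{u}) [P.IsStableUnderBaseChange]

theorem exists_sq {T T' : Scheme.{u}} (g : T ⟶ S) (k : T' ⟶ T) (g' : T' ⟶ S) (hk : k ≫ g = g') :
    ∃ m : pullback G.hom g' ⟶ pullback G.hom g, ∃ m' : pullback H.hom g' ⟶ pullback H.hom g,
      IsPullback m ((Over.pullback g').map u).left ((Over.pullback g).map u).left m' ∧
      IsPullback m' (pullback.snd H.hom g') (pullback.snd H.hom g) k := by
  let l : ∀ X : Over S, pullback X.hom g' ⟶ pullback X.hom g := fun X =>
    pullback.lift (pullback.fst _ _) (pullback.snd _ _ ≫ k) (by rw [Category.assoc, hk, pullback.condition])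
  have hl : ∀ X : Over S, IsPullback (l X) (pullback.snd X.hom g') (pullback.snd X.hom g) k := fun X => by
    have h0 : IsPullback (l X ≫ pullback.fst X.hom g) (pullback.snd X.hom g') X.hom (k ≫ g) := by
      simp only [l, pullback.lift_fst, hk]
      exact IsPullback.of_hasPullback X.hom g'
    exact IsPullback.of_right h0 (pullback.lift_snd _ _ _) (IsPullback.of_hasPullback X.hom g)
  refine ⟨l G, l H, ?_, hl H⟩
  have e2 : l G ≫ ((Over.pullback g).map u).left = ((Over.pullback g').map u).left ≫ l H := by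
    apply pullback.hom_ext
    · simp only [l, Category.assoc, pullback.lift_fst]
      rw [map_left_fst u g, map_left_fst u g', pullback.lift_fst_assoc]
    · simp only [l, Category.assoc, pullback.lift_snd]
      rw [map_left_snd u g, reassoc_of% (map_left_snd u g'), pullback.lift_snd]
  refine IsPullback.of_bot ?_ e2 (hl H)
  rw [map_left_snd u g, map_left_snd u g']
  exact hl G

theorem of_comp {T T' : Scheme.{u}} (g : T ⟶ S) (k : T' ⟶ T) (g' : T' ⟶ S) (hk : k ≫ g = g')
    (h : P ((Over.pullback g).map u).left) : P ((Over.pullback g').map u).left := by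
  obtain ⟨m, m', h₁, -⟩ := exists_sq u g k g' hk
  exact P.of_isPullback h₁ h

theorem iff_map_map {T T' : Scheme.{u}} (g : T ⟶ S) (k : T' ⟶ T) (g' : T' ⟶ S) (hk : k ≫ g = g') :
    P ((Over.pullback k).map ((Over.pullback g).map u)).left ↔ P ((Over.pullback g').map u).left := by
  let α := GrpBC.bcCongr g k g' hk
  refine P.arrow_mk_iso_iff (Arrow.isoMk ((Over.forget _).mapIso (α.app G)) ((Over.forget _).mapIso (α.app H)) ?_)
  exact (congrArg CommaMorphism.left (α.hom.naturality u)).symm

theorem of_fpqc [P.DescendsAlong (@Surjective ⊓ @Flat ⊓ @QuasiCompact)] [IsZariskiLocalAtTarget P]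
    {T T' : Scheme.{u}} (g : T ⟶ S) (k : T' ⟶ T) (hcov : IsFpqcCov k) (g' : T' ⟶ S) (hk : k ≫ g = g')
    (h : P ((Over.pullback g').map u).left) : P ((Over.pullback g).map u).left := by
  obtain ⟨m, m', h₁, h₂⟩ := exists_sq u g k g' hk
  -- `m'` is a covering
  let i := h₂.flip.isoPullback
  have hm' : IsFpqcCov (pullback.snd k (pullback.snd H.hom g)) := hcov.pullback_snd _
  refine hm'.descend P _ ?_
  have h3 : pullback.snd k (pullback.snd H.hom g) = i.inv ≫ m' := by
    rw [Iso.eq_inv_comp]
    exact IsPullback.isoPullback_hom_snd _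
  rw [h3]
  have h4 : IsPullback (m ) (((Over.pullback g').map u).left ≫ i.hom) ((Over.pullback g).map u).left (i.inv ≫ m') :=
    h₁.of_iso (Iso.refl _) (Iso.refl _) i (Iso.refl _) (by simp) (by simp) (by simp) (by simp)
  exact (MorphismProperty.arrow_mk_iso_iff P (Arrow.isoMk h4.isoPullback i
    (by simp))).mp h

end Squares

section Crit

variable {M N : Type} [AddCommGroup M] [AddCommGroup N] (φ : N →+ M)

theorem map_diagMap (U : Scheme.{u}) (P : MorphismProperty Scheme.{u}) [P.IsStableUnderBaseChange]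
    (h : P (Red.diagMap (ULift.{u} ℤ) φ).left) : P (Red.DSmap U φ).left :=
  P.of_isPullback (isPullback_map (Red.diagMap (ULift.{u} ℤ) φ) _) h

theorem mono_of_surjective (hφ : Function.Surjective φ) (U : Scheme.{u}) : Mono (Red.DSmap U φ).left := by
  haveI : IsClosedImmersion (Red.DSmap U φ).left := map_diagMap φ U @IsClosedImmersion
    (IsClosedImmersion.spec_of_surjective _ (fun b => by
      induction b using MonoidAlgebra.induction_linear with
      | zero => exact ⟨0, map_zero _⟩
      | add x y hx hy =>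
        obtain ⟨a, rfl⟩ := hx
        obtain ⟨b, rfl⟩ := hy
        exact ⟨a + b, map_add _ a b⟩
      | single g r =>
        obtain ⟨h, rfl⟩ := hφ g
        exact ⟨MonoidAlgebra.single h r, MonoidAlgebra.mapDomain_single⟩))
  infer_instance

theorem isIso_of_bijective (hφ : Function.Bijective φ) (U : Scheme.{u}) : IsIso (Red.DSmap U φ).left := by
  refine map_diagMap φ U (MorphismProperty.isomorphisms _) ?_
  let F := (MonoidAlgebra.mapDomainAlgHom (ULift.{u} ℤ) (ULift.{u} ℤ) (AddMonoidHom.toMultiplicative φ)).toRingHom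
  have : IsIso (CommRingCat.ofHom F) := by
    rw [ConcreteCategory.isIso_iff_bijective]
    exact ⟨MonoidAlgebra.mapDomain_injective hφ.1, fun b => by
      induction b using MonoidAlgebra.induction_linear with
      | zero => exact ⟨0, map_zero _⟩
      | add x y hx hy =>
        obtain ⟨a, ha⟩ := hx
        obtain ⟨b, hb⟩ := hy
        exact ⟨a + b, by rw [map_add, ha, hb]⟩
      | single g r =>
        obtain ⟨h, rfl⟩ := hφ.2 g
        exact ⟨MonoidAlgebra.single h r, MonoidAlgebra.mapDomain_single⟩⟩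
  show IsIso (Spec.map (CommRingCat.ofHom F))
  infer_instance

theorem ff_of_injective (hφ : Function.Injective φ) (U : Scheme.{u}) : FF (Red.DSmap U φ).left := by
  classical
  let f : Multiplicative N →* Multiplicative M := AddMonoidHom.toMultiplicative φ
  have hf : Function.Injective f := hφ
  let D := Multiplicative M ⧸ f.range
  have hbij : Function.Bijective fun dp : D × Multiplicative N => dp.1.out * f dp.2 := by
    refine ⟨fun a b h => ?_, fun q => ?_⟩
    · have h1 := congrArg (QuotientGroup.mk (s := f.range)) h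
      simp only [QuotientGroup.mk_mul_of_mem _ (show f a.2 ∈ f.range from ⟨_, rfl⟩),
        QuotientGroup.mk_mul_of_mem _ (show f b.2 ∈ f.range from ⟨_, rfl⟩), QuotientGroup.out_eq'] at h1
      refine Prod.ext h1 (hf ?_)
      have h' : a.1.out * f a.2 = b.1.out * f b.2 := h
      rw [h1] at h'
      exact mul_left_cancel h'
    · obtain ⟨h, hh⟩ : (QuotientGroup.mk q : D).out⁻¹ * q ∈ f.range :=
        QuotientGroup.eq.mp (QuotientGroup.out_eq' _)
      exact ⟨(QuotientGroup.mk q, h), by simp [hh]⟩
  have hff := Groth.Agent.Misc15.FreeMonoidAlgebra.faithfullyFlat (K := ULift.{u} ℤ) f _ hbij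
  refine map_diagMap φ U FF ?_
  exact (flat_and_surjective_SpecMap_iff
    (f := CommRingCat.ofHom (MonoidAlgebra.mapDomainRingHom (ULift.{u} ℤ) f))).mpr hff

variable {U : Scheme.{u}} {K : Type u} [Field K] (k : Spec (CommRingCat.of K) ⟶ U)

/-- A point over `k` from a character into a `K`-algebra. -/
theorem exists_pt (A : Type u) [CommRing A] [Algebra K A] (χ : Multiplicative M →* A) :
    ∃ p : (Over.map k).obj (Over.mk (Spec.map (CommRingCat.ofHom (algebraMap K A)))) ⟶ Red.DS U M,
      ∀ m, dsFn p m = (Scheme.ΓSpecIso (CommRingCat.of A)).inv (χ m) := by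
  obtain ⟨p, hp⟩ := exists_dsPt (U := U)
    (W := (Over.map k).obj (Over.mk (Spec.map (CommRingCat.ofHom (algebraMap K A)))))
    ((Scheme.ΓSpecIso (CommRingCat.of A)).inv.hom.toMonoidHom.comp χ)
  exact ⟨p, fun m => by rw [hp]; rfl⟩

theorem surjective_of_mono (h : Mono ((Over.pullback k).map (Red.DSmap U φ)).left) : Function.Surjective φ := by
  let L := Multiplicative M ⧸ (AddMonoidHom.toMultiplicative φ).range
  let A := MonoidAlgebra K L
  obtain ⟨p, hp⟩ := exists_pt k A ((MonoidAlgebra.of K L).comp (QuotientGroup.mk' _))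
  obtain ⟨p', hp'⟩ := exists_pt (M := M) k A 1
  have he : p ≫ Red.DSmap U φ = p' ≫ Red.DSmap U φ := by
    refine dsFn_injective (MonoidHom.ext fun n => ?_)
    rw [S5427.dsFn_DSmap, S5427.dsFn_DSmap, hp, hp']
    congr 1
    show MonoidAlgebra.of K L (QuotientGroup.mk _) = 1
    rw [(QuotientGroup.eq_one_iff (AddMonoidHom.toMultiplicative φ n)).mpr (MonoidHom.mem_range.mpr ⟨n, rfl⟩), map_one]
  haveI : Mono ((Over.pullback k).map (Red.DSmap U φ)) := (Over.forget _).mono_of_mono_map h
  have hh : (Over.mapPullbackAdj k).homEquiv _ _ p = (Over.mapPullbackAdj k).homEquiv _ _ p' := by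
    rw [← cancel_mono ((Over.pullback k).map (Red.DSmap U φ)), ← Adjunction.homEquiv_naturality_right,
      ← Adjunction.homEquiv_naturality_right, he]
  have hpp := (Equiv.injective _) hh
  intro m
  have hm : MonoidAlgebra.of K L (QuotientGroup.mk (Multiplicative.ofAdd m)) = 1 := by
    have h1 := hp (Multiplicative.ofAdd m)
    rw [hpp, hp'] at h1
    exact ((Scheme.ΓSpecIso (CommRingCat.of A)).commRingCatIsoToRingEquiv.symm.injective h1).symm
  obtain ⟨n, hn⟩ : Multiplicative.ofAdd m ∈ (AddMonoidHom.toMultiplicative φ).range := by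
    rw [← QuotientGroup.eq_one_iff]
    exact MonoidAlgebra.of_injective (hm.trans (map_one _).symm)
  exact ⟨Multiplicative.toAdd n, congrArg Multiplicative.toAdd hn⟩

theorem injective_of_ff (h : FF ((Over.pullback k).map (Red.DSmap U φ)).left) : Function.Injective φ := by
  rw [injective_iff_map_eq_zero]
  intro n hn
  haveI : Flat ((Over.pullback k).map (Red.DSmap U φ)).left := h.1
  haveI : Surjective ((Over.pullback k).map (Red.DSmap U φ)).left := h.2
  haveI : Epi ((Over.pullback k).map (Red.DSmap U φ)).left := Flat.epi_of_flat_of_surjective _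
  haveI : Epi ((Over.pullback k).map (Red.DSmap U φ)) := (Over.forget _).epi_of_epi_map (f := (Over.pullback k).map (Red.DSmap U φ)) ‹_›
  let z : ℤ →+ N := zmultiplesHom N n
  have he : Red.DSmap U φ ≫ Red.DSmap U z = Red.DSmap U φ ≫ Red.DSmap U (0 : ℤ →+ N) := by
    refine dsFn_injective (MonoidHom.ext fun a => ?_)
    rw [S5427.dsFn_DSmap, S5427.dsFn_DSmap]
    have h1 : ∀ (x : Multiplicative N),
        dsFn (Red.DSmap U φ) x = dsFn (𝟙 (Red.DS U M)) (AddMonoidHom.toMultiplicative φ x) := fun x => by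
      conv_lhs => rw [← Category.id_comp (Red.DSmap U φ)]
      exact S5427.dsFn_DSmap φ (𝟙 _) x
    rw [h1, h1]
    congr 1
    apply Multiplicative.toAdd.injective
    simp [z, hn]
  have he' : (Over.pullback k).map (Red.DSmap U z) = (Over.pullback k).map (Red.DSmap U (0 : ℤ →+ N)) := by
    rw [← cancel_epi ((Over.pullback k).map (Red.DSmap U φ)), ← Functor.map_comp, ← Functor.map_comp, he]
  let A := MonoidAlgebra K (Multiplicative N)
  obtain ⟨p, hp⟩ := exists_pt (M := N) k A (MonoidAlgebra.of K _)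
  have h2 : p ≫ Red.DSmap U z = p ≫ Red.DSmap U (0 : ℤ →+ N) := by
    apply ((Over.mapPullbackAdj k).homEquiv _ _).injective
    rw [Adjunction.homEquiv_naturality_right, Adjunction.homEquiv_naturality_right, he']
  have h3 := congrArg (fun q => dsFn q (Multiplicative.ofAdd (1 : ℤ))) h2
  simp only [S5427.dsFn_DSmap, hp] at h3
  have h4 := MonoidAlgebra.of_injective
    ((Scheme.ΓSpecIso (CommRingCat.of A)).commRingCatIsoToRingEquiv.symm.injective h3)
  simpa [z] using congrArg Multiplicative.toAdd h4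

theorem bijective_of_isIso (h : IsIso ((Over.pullback k).map (Red.DSmap U φ)).left) : Function.Bijective φ :=
  ⟨injective_of_ff φ k ⟨inferInstance, inferInstance⟩, surjective_of_mono φ k inferInstance⟩

end Crit

/-- The locus where a homomorphism to a group of multiplicative type and of finite type has a property which, for
homomorphisms of diagonalisable groups, only depends on the map of character groups. -/
theorem exists_clopen (P : MorphismProperty Scheme.{u}) [P.IsStableUnderBaseChange] [IsZariskiLocalAtTarget P]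
    [P.DescendsAlong (@Surjective ⊓ @Flat ⊓ @QuasiCompact)]
    (C : ∀ (M N : Type) [AddCommGroup M] [AddCommGroup N], (N →+ M) → Prop)
    (hC : ∀ (M N : Type) [AddCommGroup M] [AddCommGroup N] (φ : N →+ M), C M N φ →
      ∀ U : Scheme.{u}, P (Red.DSmap U φ).left)
    (hC' : ∀ (M N : Type) [AddCommGroup M] [AddCommGroup N] (φ : N →+ M) (U : Scheme.{u}) (K : Type u) [Field K]
      (k : Spec (CommRingCat.of K) ⟶ U), P ((Over.pullback k).map (Red.DSmap U φ)).left → C M N φ)
    {S : Scheme.{u}} (H Q : Over S) [GrpObj H] [GrpObj Q]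
    (hH : TwC.Locally S TwC.Topology.fpqc (fun S' g => ∃ (M : Type) (_ : AddCommGroup M),
      Nonempty (Grp.mk (Red.bc g H) ≅ Grp.mk (Red.DS S' M))))
    (hQ : SGA3x.IsMultTypeFT Q) (f : H ⟶ Q) [IsMonHom f] :
    ∃ U : S.Opens, IsClosed (U : Set S) ∧
      (∀ s : S, s ∈ U ↔ P ((Over.pullback (S.fromSpecResidueField s)).map f).left) ∧
      P ((Over.pullback U.ι).map f).left := by
  obtain ⟨S₁, f₁, hfl₁, hs₁, hq₁, hU₁⟩ := hH
  obtain ⟨S₂, f₂, hfl₂, hs₂, hq₂, hU₂⟩ := hQ
  let F : pullback f₁ f₂ ⟶ S := pullback.snd f₁ f₂ ≫ f₂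
  have hF : IsFpqcCov F := (IsFpqcCov.of_forall f₂ hq₂).comp ((IsFpqcCov.of_forall f₁ hq₁).pullback_snd f₂)
  haveI := hF.1
  haveI := hF.surjective
  let Z : Set S := {s | P ((Over.pullback (S.fromSpecResidueField s)).map f).left}
  -- invariance under field extensions
  have inv : ∀ (K : Type u) [Field K] (ω : Spec (CommRingCat.of K) ⟶ S) (x : Spec (CommRingCat.of K)),
      P ((Over.pullback ω).map f).left ↔ ω.base x ∈ Z := by
    intro K _ ω x
    obtain ⟨⟨s, θ⟩, rfl⟩ := (Scheme.SpecToEquivOfField K S).symm.surjective ω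
    have hs : ((Scheme.SpecToEquivOfField K S).symm ⟨s, θ⟩).base x = s := by
      show (S.fromSpecResidueField s).base ((Spec.map θ).base x) = s
      exact Scheme.fromSpecResidueField_apply _ _
    rw [hs]
    have hfs : Flat (Spec.map θ) ∧ Surjective (Spec.map θ) := by
      rw [flat_and_surjective_SpecMap_iff]
      letI := θ.hom.toAlgebra
      exact (inferInstanceAs (Module.FaithfullyFlat (S.residueField s) K))
    haveI := hfs.1
    haveI := hfs.2
    refine ⟨fun h => of_fpqc f P _ (Spec.map θ) (IsFpqcCov.of_forall _ fun V hV => ?_) _ rfl h,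
      fun h => of_comp f P _ (Spec.map θ) _ rfl h⟩
    exact ⟨Spec.map θ ⁻¹ᵁ V, (Spec.map θ).isCompact_preimage hV.isCompact,
      Set.image_preimage_eq _ (Spec.map θ).surjective⟩
  -- local constancy on the covering
  have loc : ∀ t : ↥(pullback f₁ f₂), ∃ (V : (pullback f₁ f₂).Opens) (c : Prop), t ∈ V ∧
      (∀ t' ∈ V, (F.base t' ∈ Z ↔ c)) ∧ (c → P ((Over.pullback (V.ι ≫ F)).map f).left) := by
    intro t
    obtain ⟨U₁, ht₁, M, _, ⟨e₁⟩⟩ := hU₁ ((pullback.fst f₁ f₂).base t)
    obtain ⟨U₂, ht₂, N, _, hN, ⟨e₂⟩⟩ := hU₂ ((pullback.snd f₁ f₂).base t)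
    haveI := hN
    let U : (pullback f₁ f₂).Opens := pullback.fst f₁ f₂ ⁻¹ᵁ U₁ ⊓ pullback.snd f₁ f₂ ⁻¹ᵁ U₂
    let c₁ : (U : Scheme.{u}) ⟶ U₁ := (pullback.fst f₁ f₂).resLE U₁ U inf_le_left
    let c₂ : (U : Scheme.{u}) ⟶ U₂ := (pullback.snd f₁ f₂).resLE U₂ U inf_le_right
    let g : (U : Scheme.{u}) ⟶ S := U.ι ≫ F
    obtain ⟨i₁, hi₁, hi₁'⟩ := GrpBC.nonempty_iso_restrict (U₁.ι ≫ f₁) c₁ g (by
      simp only [c₁, g, F, Scheme.Hom.resLE_comp_ι_assoc, pullback.condition]) H e₁
    obtain ⟨i₂, hi₂, hi₂'⟩ := GrpBC.nonempty_iso_restrict (U₂.ι ≫ f₂) c₂ g (by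
      simp only [c₂, g, F, Scheme.Hom.resLE_comp_ι_assoc]) Q e₂
    let u : Red.DS (U : Scheme.{u}) M ⟶ Red.DS (U : Scheme.{u}) N := i₁.inv ≫ (Over.pullback g).map f ≫ i₂.hom
    haveI : IsMonHom u := inferInstance
    obtain ⟨V, φ, htV, hV⟩ := DSHom.exists_eq_DSmap u (⟨t, ⟨ht₁, ht₂⟩⟩ : (U : Scheme.{u}))
    -- on `V` the homomorphism is `DSmap φ`
    have heq : ∀ {T : Scheme.{u}} (k : T ⟶ (U : Scheme.{u})), Set.range k.base ⊆ (V : Set U) →
        (P ((Over.pullback (k ≫ g)).map f).left ↔ P ((Over.pullback k).map (Red.DSmap (U : Scheme.{u}) φ)).left) := by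
      intro T k hk
      have h1 : (Over.pullback k).map u = (Over.pullback k).map (Red.DSmap (U : Scheme.{u}) φ) := by
        let W : Over (U : Scheme.{u}) := (Over.map k).obj (Red.bc k (Red.DS (U : Scheme.{u}) M))
        let pr : W ⟶ Red.DS (U : Scheme.{u}) M := (Over.mapPullbackAdj k).counit.app _
        have h2 := hV W (by
          rintro _ ⟨x, rfl⟩
          exact hk ⟨(pullback.snd _ k).base x, rfl⟩) pr
        have h3 := congrArg ((Over.mapPullbackAdj k).homEquiv _ _) h2
        rw [Adjunction.homEquiv_naturality_right, Adjunction.homEquiv_naturality_right] at h3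
        simp only [pr, Adjunction.homEquiv_unit, Adjunction.right_triangle_components] at h3
        simpa using h3
      rw [← iff_map_map f P g k (k ≫ g) rfl, ← h1]
      refine P.arrow_mk_iso_iff (Arrow.isoMk ((Over.forget _).mapIso ((Over.pullback k).mapIso i₁))
        ((Over.forget _).mapIso ((Over.pullback k).mapIso i₂)) ?_)
      show ((Over.pullback k).map i₁.hom).left ≫ ((Over.pullback k).map u).left =
        ((Over.pullback k).map ((Over.pullback g).map f)).left ≫ ((Over.pullback k).map i₂.hom).left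
      rw [← Over.comp_left, ← Over.comp_left, ← Functor.map_comp, ← Functor.map_comp, Iso.hom_inv_id_assoc]
    refine ⟨U.ι ''ᵁ V, C M N φ, ⟨_, htV, rfl⟩, ?_, fun hc => ?_⟩
    · rintro _ ⟨x, hx, rfl⟩
      let k := (U : Scheme.{u}).fromSpecResidueField x
      have hk : Set.range k.base ⊆ (V : Set U) := by
        rintro _ ⟨y, rfl⟩
        rw [Scheme.fromSpecResidueField_apply]
        exact hx
      let y : Spec ((U : Scheme.{u}).residueField x) := (default : PrimeSpectrum ((U : Scheme.{u}).residueField x))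
      have hx' : (k ≫ g).base y = F.base (U.ι.base x) := by
        show g.base (k.base y) = _
        rw [Scheme.fromSpecResidueField_apply]
        rfl
      refine Iff.trans (iff_of_eq (congrArg (fun z => z ∈ Z) hx'.symm)) ?_
      rw [← inv ((U : Scheme.{u}).residueField x) (k ≫ g) y, heq k hk]
      exact ⟨fun h => hC' M N φ _ _ k h, fun h => P.of_isPullback (isPullback_map _ k) (hC M N φ h _)⟩
    · let k : ((U.ι ''ᵁ V : (pullback f₁ f₂).Opens) : Scheme.{u}) ⟶ U :=
        IsOpenImmersion.lift U.ι (U.ι ''ᵁ V).ι (by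
          rintro _ ⟨y, rfl⟩
          obtain ⟨x, -, hx⟩ := y.2
          exact ⟨x, hx⟩)
      have hk' : k ≫ U.ι = (U.ι ''ᵁ V).ι := IsOpenImmersion.lift_fac _ _ _
      have hk : Set.range k.base ⊆ (V : Set U) := by
        rintro _ ⟨y, rfl⟩
        obtain ⟨x, hxV, hx⟩ := y.2
        have : x = k.base y := U.ι.isOpenEmbedding.injective (hx.trans congr($(hk').base y).symm)
        exact this ▸ hxV
      have := (heq k hk).mpr (P.of_isPullback (isPullback_map _ k) (hC M N φ hc _))
      rwa [show k ≫ g = (U.ι ''ᵁ V).ι ≫ F from by simp only [g, ← Category.assoc, hk']] at this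
  choose V c htV hVc hVP using loc
  have hpre : IsClopen (F.base ⁻¹' Z) := by
    constructor
    · rw [← isOpen_compl_iff, isOpen_iff_forall_mem_open]
      intro t ht
      exact ⟨V t, fun t' ht' => fun h => ht ((hVc t t (htV t)).mpr ((hVc t t' ht').mp h)), (V t).2, htV t⟩
    · rw [isOpen_iff_forall_mem_open]
      intro t ht
      exact ⟨V t, fun t' ht' => (hVc t t' ht').mpr ((hVc t t (htV t)).mp ht), (V t).2, htV t⟩
  have hquot : ∀ A : Set S, IsOpen (F.base ⁻¹' A) → IsOpen A := by
    intro A hA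
    rw [isOpen_iff_forall_mem_open]
    intro s hs
    obtain ⟨O, hsO, hO, W, e, hW, ⟨⟨hsur, hfl⟩, hqc⟩⟩ := hF.exists_resLE s
    refine ⟨O.ι.base '' (O.ι.base ⁻¹' A), Set.image_preimage_subset _ _, ?_, ⟨⟨s, hsO⟩, hs, rfl⟩⟩
    refine O.ι.isOpenEmbedding.isOpenMap _ ?_
    rw [← (Flat.isQuotientMap_of_surjective (F.resLE O W e)).isOpen_preimage, ← Set.preimage_comp]
    have : O.ι.base ∘ (F.resLE O W e).base = F.base ∘ W.ι.base := by
      funext y
      exact congr($(Scheme.Hom.resLE_comp_ι F e).base y)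
    rw [this, Set.preimage_comp]
    exact hA.preimage W.ι.continuous
  let U : S.Opens := ⟨Z, hquot _ hpre.2⟩
  refine ⟨U, ⟨hquot _ (by rw [Set.preimage_compl]; exact hpre.1.isOpen_compl)⟩, fun s => Iff.rfl, ?_⟩
  -- descend to `U`
  have hU : IsFpqcCov (pullback.snd F U.ι) := hF.pullback_snd _
  refine of_fpqc f P U.ι (pullback.snd F U.ι) hU (pullback.fst F U.ι ≫ F) (by rw [pullback.condition]) ?_
  let O : (pullback F U.ι).Opens → Prop := fun O => P ((Over.pullback (O.ι ≫ pullback.fst F U.ι ≫ F)).map f).left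
  have hcov : ∀ x : ↥(pullback F U.ι), ∃ B : (pullback F U.ι).Opens, x ∈ B ∧ O B := by
    intro x
    let t := (pullback.fst F U.ι).base x
    have ht : F.base t ∈ Z := by
      show (pullback.fst F U.ι ≫ F).base x ∈ Z
      rw [pullback.condition]
      exact ((pullback.snd F U.ι).base x).2
    refine ⟨pullback.fst F U.ι ⁻¹ᵁ V t, htV t, ?_⟩
    exact of_comp f P ((V t).ι ≫ F) ((pullback.fst F U.ι) ∣_ V t) _
      (by rw [← Category.assoc, morphismRestrict_ι, Category.assoc]) (hVP t ((hVc t t (htV t)).mp ht))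
  choose B hxB hB using hcov
  have hBc : TopologicalSpace.IsOpenCover B :=
    TopologicalSpace.IsOpenCover.mk (eq_top_iff.2 fun x _ => TopologicalSpace.Opens.mem_iSup.2 ⟨x, hxB x⟩)
  let g' := pullback.fst F U.ι ≫ F
  rw [IsZariskiLocalAtTarget.iff_of_openCover (P := P)
    (((pullback F U.ι).openCoverOfIsOpenCover B hBc).pullback₁ (pullback.snd Q.hom g'))]
  intro (x : ↥(pullback F U.ι))
  obtain ⟨m, m', h₁, h₂⟩ := exists_sq f g' (B x).ι ((B x).ι ≫ g') rfl
  let i := h₂.isoPullback
  have h4 : IsPullback m (((Over.pullback ((B x).ι ≫ g')).map f).left ≫ i.hom) ((Over.pullback g').map f).left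
      (pullback.fst (pullback.snd Q.hom g') (B x).ι) :=
    h₁.of_iso (Iso.refl _) (Iso.refl _) i (Iso.refl _) (by simp) (by simp) (by simp) (by simp [i])
  exact (P.arrow_mk_iso_iff (Arrow.isoMk h4.isoPullback i h4.isoPullback_hom_snd)).mp (hB x)

end Groth.Agent.SGA3cLib.MultHomLocus
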