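import Groth.Prelude.Def_SGA3x
import Groth.Agent.Misc15.ClosedLocal
import Mathlib.AlgebraicGeometry.Morphisms.FlatDescent
import Mathlib.AlgebraicGeometry.Morphisms.ClosedImmersion
import Mathlib.AlgebraicGeometry.Morphisms.FinitePresentation
import Mathlib.RingTheory.Finiteness.Descent
import Mathlib.RingTheory.Flat.FaithfullyFlat.Algebra
import Mathlib.LinearAlgebra.TensorProduct.Quotient

/-!
# The locus of the base over which a closed subscheme of an essentially free scheme is everything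
-/

set_option autoImplicit false
set_option backward.isDefEq.respectTransparency.types false

universe u

open CategoryTheory Limits AlgebraicGeometry TensorProduct

namespace Groth.Agent.SGA3cLib.WeilRes

variable {S Z Y : Scheme.{u}}

/-- The base change of `j` along `x` is the whole of `Z ×_S T`. -/
def Factors (f : Z ⟶ S) (j : Y ⟶ Z) (T : Scheme.{u}) (x : T ⟶ S) : Prop :=
  ∃ l, l ≫ j = pullback.fst f x

/-- A morphism factors through a monomorphism iff the base change of the latter is an isomorphism. -/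
theorem exists_lift_iff_isIso (j : Y ⟶ Z) [Mono j] {W : Scheme.{u}} (g : W ⟶ Z) :
    (∃ l, l ≫ j = g) ↔ IsIso (pullback.snd j g) := by
  refine ⟨fun ⟨l, hl⟩ => ?_, fun _ => ⟨inv (pullback.snd j g) ≫ pullback.fst j g, by simp [pullback.condition]⟩⟩
  refine ⟨pullback.lift l (𝟙 _) (by simp [hl]), ?_, pullback.lift_snd _ _ _⟩
  rw [← cancel_mono (pullback.snd j g), Category.assoc, pullback.lift_snd, Category.comp_id, Category.id_comp]

/-- Factoring through a monomorphism is local on the source. -/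
theorem exists_lift_of_openCover (j : Y ⟶ Z) [Mono j] {W : Scheme.{u}} (g : W ⟶ Z) (𝒰 : Scheme.OpenCover.{u} W)
    (h : ∀ i, ∃ l, l ≫ j = 𝒰.f i ≫ g) : ∃ l, l ≫ j = g := by
  choose l hl using h
  refine ⟨𝒰.glueMorphisms l fun a b => ?_, ?_⟩
  · rw [← cancel_mono j, Category.assoc, Category.assoc, hl, hl, pullback.condition_assoc]
  · refine 𝒰.hom_ext _ _ fun a => ?_
    rw [Scheme.Cover.ι_glueMorphisms_assoc, hl]

/-- Factoring through a closed immersion descends along fpqc covers of the source. -/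
theorem exists_lift_of_fpqc (j : Y ⟶ Z) [IsClosedImmersion j] {W W' : Scheme.{u}} (g : W ⟶ Z) (q : W' ⟶ W)
    [Surjective q] [Flat q] [QuasiCompact q] (h : ∃ l, l ≫ j = q ≫ g) : ∃ l, l ≫ j = g := by
  rw [exists_lift_iff_isIso]
  rw [exists_lift_iff_isIso] at h
  refine MorphismProperty.of_pullback_snd_of_descendsAlong (P := MorphismProperty.isomorphisms Scheme.{u})
    (Q := @Surjective ⊓ @Flat ⊓ @QuasiCompact) (g := q) ⟨⟨inferInstance, inferInstance⟩, inferInstance⟩ ?_
  have hsq : IsPullback (pullback.fst j g) (pullback.snd j g) j g := IsPullback.of_hasPullback j g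
  have h2 := (IsPullback.of_hasPullback (pullback.snd j g) q).paste_horiz hsq
  have e : pullback.snd (pullback.snd j g) q = h2.isoPullback.hom ≫ pullback.snd j (q ≫ g) := (h2.isoPullback_hom_snd).symm
  change IsIso (pullback.snd (pullback.snd j g) q)
  rw [e]; infer_instance

variable (f : Z ⟶ S) (j : Y ⟶ Z)

theorem Factors.comp {T T' : Scheme.{u}} (t : T' ⟶ T) {x : T ⟶ S} (h : Factors f j T x) :
    Factors f j T' (t ≫ x) := by
  obtain ⟨l, hl⟩ := h
  refine ⟨pullback.map f (t ≫ x) f x (𝟙 Z) t (𝟙 S) (by simp) (by simp) ≫ l, ?_⟩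
  rw [Category.assoc, hl, pullback.lift_fst, Category.comp_id]

theorem Factors.of_openCover [Mono j] {T : Scheme.{u}} (x : T ⟶ S) (𝒱 : Scheme.OpenCover.{u} T)
    (h : ∀ i, Factors f j _ (𝒱.f i ≫ x)) : Factors f j T x := by
  refine exists_lift_of_openCover j _ (Scheme.Pullback.openCoverOfRight 𝒱 f x) fun i => ?_
  obtain ⟨l, hl⟩ := h i
  refine ⟨l, hl.trans ?_⟩
  simp only [Scheme.Pullback.openCoverOfRight]
  exact ((pullback.lift_fst _ _ _).trans (Category.comp_id _)).symm

theorem Factors.of_fpqc [IsClosedImmersion j] {T T' : Scheme.{u}} (x : T ⟶ S) (t : T' ⟶ T)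
    [Surjective t] [Flat t] [QuasiCompact t] (h : Factors f j T' (t ≫ x)) : Factors f j T x := by
  obtain ⟨l, hl⟩ := h
  haveI : Surjective (pullback.fst (pullback.snd f x) t) := MorphismProperty.pullback_fst (P := @Surjective) _ _ inferInstance
  haveI : Flat (pullback.fst (pullback.snd f x) t) := MorphismProperty.pullback_fst (P := @Flat) _ _ inferInstance
  haveI : QuasiCompact (pullback.fst (pullback.snd f x) t) := MorphismProperty.pullback_fst (P := @QuasiCompact) _ _ inferInstance
  refine exists_lift_of_fpqc j (pullback.fst f x) (pullback.fst (pullback.snd f x) t)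
    ⟨(pullbackLeftPullbackSndIso f x t).hom ≫ l, ?_⟩
  rw [Category.assoc, hl, pullbackLeftPullbackSndIso_hom_fst]

/-- Coordinates of the elements of `I` in a split embedding of a projective module. -/
theorem tmul_one_eq_zero_iff {A B C : Type u} [CommRing A] [CommRing B] [CommRing C] [Algebra A B] [Algebra A C]
    (s : B →ₗ[A] B →₀ A) (hs : Finsupp.linearCombination A id ∘ₗ s = .id) (b : B) :
    b ⊗ₜ[A] (1 : C) = 0 ↔ ∀ i, algebraMap A C (s b i) = 0 := by
  constructor
  · intro h i
    have := congrArg (fun z => TensorProduct.lid A C (LinearMap.rTensor C ((Finsupp.lapply i).comp s) z)) h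
    simpa [Algebra.smul_def] using this
  · intro h
    have hb := LinearMap.congr_fun hs b
    simp only [LinearMap.comp_apply, LinearMap.id_apply, Finsupp.linearCombination_apply] at hb
    rw [← hb, Finsupp.sum, TensorProduct.sum_tmul]
    refine Finset.sum_eq_zero fun i _ => ?_
    rw [TensorProduct.smul_tmul, Algebra.smul_def, h i, zero_mul, TensorProduct.tmul_zero]

/-- An ideal of a faithfully flat algebra with descent data comes from the base. -/
theorem le_map_comap {A A' : Type u} [CommRing A] [CommRing A'] [Algebra A A'] [Module.FaithfullyFlat A A']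
    (J' : Ideal A') (h : ∀ y ∈ J', (1 : A' ⧸ J') ⊗ₜ[A] y = 0) :
    J' ≤ (J'.comap (algebraMap A A')).map (algebraMap A A') := by
  intro y hy
  set J := J'.comap (algebraMap A A')
  let ν : A ⧸ J →ₗ[A] A' ⧸ J' :=
    Submodule.liftQ J (Algebra.linearMap A (A' ⧸ J')) fun a ha => by
      change algebraMap A (A' ⧸ J') a = 0
      rw [IsScalarTower.algebraMap_apply A A' (A' ⧸ J')]
      exact Ideal.Quotient.eq_zero_iff_mem.2 ha
  have hν : Function.Injective ν := by
    rw [← LinearMap.ker_eq_bot, Submodule.ker_liftQ, eq_bot_iff, Submodule.map_le_iff_le_comap]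
    intro a ha
    simp only [Submodule.mem_comap, Submodule.mem_bot, Submodule.mkQ_apply]
    refine (Submodule.Quotient.mk_eq_zero J).2 ?_
    change algebraMap A A' a ∈ J'
    rw [← Ideal.Quotient.eq_zero_iff_mem]
    exact ha
  have h1 : (1 : A ⧸ J) ⊗ₜ[A] y = 0 := by
    apply Module.Flat.rTensor_preserves_injective_linearMap (M := A') ν hν
    rw [LinearMap.rTensor_tmul, map_zero]
    have : ν 1 = 1 := by
      change algebraMap A (A' ⧸ J') 1 = 1
      exact map_one _
    rw [this]; exact h y hy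
  have h2 := congrArg (TensorProduct.quotTensorEquivQuotSMul A' J) h1
  rw [map_zero] at h2
  change (TensorProduct.quotTensorEquivQuotSMul A' J) (Ideal.Quotient.mk J (1 : A) ⊗ₜ[A] y) = 0 at h2
  rw [TensorProduct.quotTensorEquivQuotSMul_mk_tmul, one_smul, Submodule.Quotient.mk_eq_zero,
    Ideal.smul_top_eq_map] at h2
  exact h2

/-- Over a base change covering `Z` by affines with projective rings, `Factors` is cut out by an ideal. -/
theorem exists_ideal [IsClosedImmersion j] (A' : CommRingCat.{u}) (q₀ : Spec A' ⟶ S) {Z' : Scheme.{u}}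
    (p₁ : Z' ⟶ Z) (p₂ : Z' ⟶ Spec A') (hsq : IsPullback p₁ p₂ f q₀)
    (hcov : ∀ z : Z', ∃ V : Z'.Opens, z ∈ V ∧ IsAffineOpen V ∧
      ∃ (B : CommRingCat.{u}) (c : Spec B ⟶ Z') (_ : IsOpenImmersion c) (ψ : A' ⟶ B),
        Set.range c.base = (V : Set Z') ∧ c ≫ p₂ = Spec.map ψ ∧
        (letI := ψ.hom.toAlgebra; Module.Projective A' B)) :
    ∃ J' : Ideal A', (∀ (C : CommRingCat.{u}) (χ : A' ⟶ C), Factors f j (Spec C) (Spec.map χ ≫ q₀) ↔ J' ≤ RingHom.ker χ.hom) ∧
      (CompactSpace Z' → LocallyOfFinitePresentation j → J'.FG) := by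
  classical
  choose V hzV _ B c hc ψ hcV hcψ hproj using hcov
  obtain ⟨κ, ι', hι', hfin⟩ : ∃ (κ : Type u) (ι' : κ → Z'), (∀ z, ∃ k, z ∈ V (ι' k)) ∧ (CompactSpace Z' → Finite κ) := by
    by_cases hcpt : CompactSpace Z'
    · obtain ⟨t, ht⟩ := isCompact_univ.elim_finite_subcover (fun z => (V z : Set Z')) (fun z => (V z).isOpen)
        fun z _ => Set.mem_iUnion.2 ⟨z, hzV z⟩
      refine ⟨t, Subtype.val, fun z => ?_, fun _ => inferInstance⟩
      obtain ⟨k, hk, hzk⟩ := Set.mem_iUnion₂.1 (ht (Set.mem_univ z))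
      exact ⟨⟨k, hk⟩, hzk⟩
    · exact ⟨Z', id, fun z => ⟨z, hzV z⟩, fun h => absurd h hcpt⟩
  haveI : ∀ k, IsOpenImmersion (c (ι' k)) := fun k => hc _
  have hI : ∀ k, ∃ (I : Ideal (B (ι' k))) (e : pullback j (c (ι' k) ≫ p₁) ≅ Spec (CommRingCat.of (B (ι' k) ⧸ I))),
      pullback.snd j (c (ι' k) ≫ p₁) = e.hom ≫ Spec.map (CommRingCat.ofHom (Ideal.Quotient.mk I)) := fun k =>
    IsClosedImmersion.Spec_iff.1 (MorphismProperty.pullback_snd (P := @IsClosedImmersion) _ _ inferInstance)
  choose I e he using hI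
  have hpiece : ∀ k (D : CommRingCat.{u}) (β : B (ι' k) ⟶ D),
      (∃ l, l ≫ j = Spec.map β ≫ c (ι' k) ≫ p₁) ↔ I k ≤ RingHom.ker β.hom := by
    intro k D β
    constructor
    · rintro ⟨l, hl⟩
      let l' := pullback.lift l (Spec.map β) hl ≫ (e k).hom
      have h1 : l' ≫ Spec.map (CommRingCat.ofHom (Ideal.Quotient.mk (I k))) = Spec.map β := by
        simp only [l', Category.assoc, ← he, pullback.lift_snd]
      obtain ⟨γ, hγ⟩ : ∃ γ, Spec.map γ = l' := ⟨_, Spec.map_preimage _⟩
      rw [← hγ, ← Spec.map_comp] at h1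
      rw [← Spec.map_injective h1]
      intro b hb
      change γ.hom (Ideal.Quotient.mk (I k) b) = 0
      rw [Ideal.Quotient.eq_zero_iff_mem.2 hb, map_zero]
    · intro h
      refine ⟨Spec.map (CommRingCat.ofHom (Ideal.Quotient.lift (I k) β.hom fun b hb => h hb)) ≫ (e k).inv ≫ pullback.fst _ _, ?_⟩
      rw [Category.assoc, Category.assoc, pullback.condition, he, Category.assoc, Iso.inv_hom_id_assoc,
        ← Spec.map_comp_assoc]
      congr 2
  letI alg : ∀ k, Algebra A' (B (ι' k)) := fun k => (ψ (ι' k)).hom.toAlgebra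
  have hs : ∀ k, ∃ s : B (ι' k) →ₗ[A'] B (ι' k) →₀ A', Finsupp.linearCombination A' id ∘ₗ s = .id := fun k =>
    Module.projective_def'.1 (hproj (ι' k))
  choose s hs using hs
  refine ⟨Ideal.span {a | ∃ k, ∃ b ∈ I k, ∃ i, s k b i = a}, fun C χ => ?_, fun hcpt hlfp => ?_⟩
  · letI : Algebra A' C := χ.hom.toAlgebra
    have hW : IsPullback (pullback.fst p₂ (Spec.map χ) ≫ p₁) (pullback.snd p₂ (Spec.map χ)) f (Spec.map χ ≫ q₀) :=
      (IsPullback.of_hasPullback p₂ (Spec.map χ)).paste_horiz hsq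
    have hF : Factors f j (Spec C) (Spec.map χ ≫ q₀) ↔ ∃ l, l ≫ j = pullback.fst p₂ (Spec.map χ) ≫ p₁ := by
      constructor
      · rintro ⟨l, hl⟩
        exact ⟨hW.isoPullback.hom ≫ l, by rw [Category.assoc, hl, IsPullback.isoPullback_hom_fst]⟩
      · rintro ⟨l, hl⟩
        exact ⟨hW.isoPullback.inv ≫ l, by rw [Category.assoc, hl, IsPullback.isoPullback_inv_fst]⟩
    rw [hF]
    have key : ∀ k, (∃ l, l ≫ j = (pullback.fst (c (ι' k) ≫ p₂) (Spec.map χ)) ≫ c (ι' k) ≫ p₁) ↔
        ∀ b ∈ I k, ∀ i, χ.hom (s k b i) = 0 := by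
      intro k
      rw [hcψ]
      let P := pullbackSpecIso A' (B (ι' k)) C
      have hfst : P.inv ≫ pullback.fst (Spec.map (ψ (ι' k))) (Spec.map χ) =
          Spec.map (CommRingCat.ofHom Algebra.TensorProduct.includeLeftRingHom) := pullbackSpecIso_inv_fst _ _ _
      have h' : (∃ l, l ≫ j = pullback.fst (Spec.map (ψ (ι' k))) (Spec.map χ) ≫ c (ι' k) ≫ p₁) ↔
          I k ≤ RingHom.ker (Algebra.TensorProduct.includeLeftRingHom : B (ι' k) →+* B (ι' k) ⊗[A'] C) := by
        refine Iff.trans ?_ (hpiece k (CommRingCat.of (B (ι' k) ⊗[A'] C)) (CommRingCat.ofHom Algebra.TensorProduct.includeLeftRingHom))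
        constructor
        · rintro ⟨l, hl⟩
          refine ⟨P.inv ≫ l, ?_⟩
          rw [← hfst, Category.assoc, hl, Category.assoc]
        · rintro ⟨l, hl⟩
          refine ⟨P.hom ≫ l, ?_⟩
          rw [Category.assoc, hl, ← hfst, Category.assoc, Iso.hom_inv_id_assoc]
      rw [h']
      exact forall₂_congr fun b _ => tmul_one_eq_zero_iff (s k) (hs k) b
    trans (∀ k, ∀ b ∈ I k, ∀ i, χ.hom (s k b i) = 0)
    · constructor
      · rintro ⟨l, hl⟩ k
        refine (key k).1 ⟨pullback.map (c (ι' k) ≫ p₂) (Spec.map χ) p₂ (Spec.map χ) (c (ι' k)) (𝟙 _) (𝟙 _) (by simp) (by simp) ≫ l, ?_⟩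
        rw [Category.assoc, hl, pullback.lift_fst_assoc, Category.assoc]
      · intro h
        let 𝒰 : Scheme.OpenCover.{u} Z' := Scheme.Cover.mkOfCovers κ (fun k => Spec (B (ι' k))) (fun k => c (ι' k))
          (fun z => by
            obtain ⟨k, hk⟩ := hι' z
            obtain ⟨w, hw⟩ := (hcV (ι' k)).ge hk
            exact ⟨k, w, hw⟩) (fun k => hc _)
        refine exists_lift_of_openCover j _ (Scheme.Pullback.openCoverOfLeft 𝒰 p₂ (Spec.map χ)) fun k => ?_
        obtain ⟨l, hl⟩ := (key k).2 (h k)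
        refine ⟨l, hl.trans ?_⟩
        exact ((pullback.lift_fst_assoc _ _ _ _).trans (Category.assoc _ _ _)).symm
    · rw [Ideal.span_le]
      constructor
      · rintro h a ⟨k, b, hb, i, rfl⟩
        exact h k b hb i
      · exact fun h k b hb i => h ⟨k, b, hb, i, rfl⟩
  · haveI := hfin hcpt
    have hIfg : ∀ k, (I k).FG := fun k => by
      have h1 : LocallyOfFinitePresentation (Spec.map (CommRingCat.ofHom (Ideal.Quotient.mk (I k)))) := by
        rw [← (MorphismProperty.cancel_left_of_respectsIso @LocallyOfFinitePresentation (e k).hom _), ← he]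
        exact MorphismProperty.pullback_snd (P := @LocallyOfFinitePresentation) _ _ hlfp
      rw [HasRingHomProperty.Spec_iff (P := @LocallyOfFinitePresentation)] at h1
      haveI : Algebra.FinitePresentation (B (ι' k)) (B (ι' k) ⧸ I k) := h1
      have h2 := Algebra.FinitePresentation.ker_fG_of_surjective (Ideal.Quotient.mkₐ (B (ι' k)) (I k)) Ideal.Quotient.mk_surjective
      rw [show (Ideal.Quotient.mkₐ (B (ι' k)) (I k)).toRingHom = Ideal.Quotient.mk (I k) from rfl, Ideal.mk_ker] at h2
      exact h2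
    choose G hG using hIfg
    cases nonempty_fintype κ
    suffices h : Ideal.span {a | ∃ k, ∃ b ∈ I k, ∃ i, s k b i = a} ≤
        Ideal.span (⋃ k, ⋃ g ∈ G k, Set.range fun p : ↥(s k g).support => s k g p.1) by
      have hf : (⋃ k, ⋃ g ∈ G k, Set.range fun p : ↥(s k g).support => s k g p.1).Finite := by
        refine Set.finite_iUnion fun k => (G k).finite_toSet.biUnion fun g _ => ?_
        exact Set.finite_range _
      refine ⟨hf.toFinset, le_antisymm ?_ ?_⟩
      · rw [Set.Finite.coe_toFinset]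
        refine Ideal.span_mono ?_
        rintro a ha
        simp only [Set.mem_iUnion, Set.mem_range] at ha
        obtain ⟨k, g, hg, p, rfl⟩ := ha
        exact ⟨k, g, hG k ▸ Ideal.subset_span hg, p.1, rfl⟩
      · rw [Set.Finite.coe_toFinset]; exact h
    rw [Ideal.span_le]
    rintro a ⟨k, b, hb, i, rfl⟩
    set M := Ideal.span (⋃ k, ⋃ g ∈ G k, Set.range fun p : ↥(s k g).support => s k g p.1)
    have hgen : ∀ g ∈ G k, ∀ φ : B (ι' k) →ₗ[A'] A', φ g ∈ M := by
      intro g hg φ
      have hb := LinearMap.congr_fun (hs k) g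
      simp only [LinearMap.comp_apply, LinearMap.id_apply, Finsupp.linearCombination_apply] at hb
      rw [← hb, Finsupp.sum, map_sum]
      refine M.sum_mem fun i hi => ?_
      rw [map_smul, smul_eq_mul]
      exact M.mul_mem_right _ (Ideal.subset_span (Set.mem_iUnion.2 ⟨k, Set.mem_iUnion₂.2 ⟨g, hg, ⟨i, hi⟩, rfl⟩⟩))
    suffices h' : ∀ φ : B (ι' k) →ₗ[A'] A', φ b ∈ M from h' ((Finsupp.lapply i).comp (s k))
    rw [← hG k] at hb
    induction hb using Submodule.span_induction with
    | mem x hx => exact hgen x hx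
    | zero => intro φ; simp
    | add x y _ _ hx hy => intro φ; rw [map_add]; exact M.add_mem (hx φ) (hy φ)
    | smul r x _ hx => intro φ; exact hx (φ.comp (LinearMap.mulLeft A' r))

/-- `Factors` is cut out by a closed subscheme, of finite presentation when `f` is quasi-compact and `j` of
finite presentation. -/
theorem exists_closedImmersion (hf : SGA3x.IsEssentiallyFree f) [IsClosedImmersion j] :
    ∃ (T : Scheme.{u}) (t : T ⟶ S), IsClosedImmersion t ∧
      (∀ (S' : Scheme.{u}) (x : S' ⟶ S), Factors f j S' x ↔ ∃ z, z ≫ t = x) ∧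
      (QuasiCompact f → LocallyOfFinitePresentation j → LocallyOfFinitePresentation t) := by
  choose U hsU hU S' hS' g hgf hgs hcov using hf
  have hlocal : ∀ s, ∃ (T : Scheme.{u}) (t : T ⟶ U s), IsClosedImmersion t ∧
      (∀ (T' : Scheme.{u}) (x : T' ⟶ U s), Factors f j T' (x ≫ (U s).ι) ↔ ∃ z, z ≫ t = x) ∧
      (QuasiCompact f → LocallyOfFinitePresentation j → LocallyOfFinitePresentation t) := by
    intro s
    haveI : IsAffine (U s : Scheme.{u}) := hU s
    haveI := hS' s
    haveI := hgf s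
    haveI := hgs s
    let A : CommRingCat.{u} := Γ(U s, ⊤)
    let A' : CommRingCat.{u} := Γ(S' s, ⊤)
    let α : A ⟶ A' := (g s).appTop
    let u₀ : Spec A ⟶ S := (U s : Scheme.{u}).isoSpec.inv ≫ (U s).ι
    let q₀ : Spec A' ⟶ S := Spec.map α ≫ u₀
    letI : Algebra A A' := α.hom.toAlgebra
    have hαff : α.hom.FaithfullyFlat := (Flat.flat_and_surjective_iff_faithfullyFlat_of_isAffine (g s)).1 ⟨hgf s, hgs s⟩
    haveI : Module.FaithfullyFlat A A' := hαff
    have hq : q₀ = (S' s).isoSpec.inv ≫ g s ≫ (U s).ι := by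
      simp only [q₀, u₀, α, Scheme.isoSpec_inv_naturality_assoc]
    have hsq : IsPullback (pullback.fst f (g s ≫ (U s).ι)) (pullback.snd f (g s ≫ (U s).ι) ≫ (S' s).isoSpec.hom) f q₀ :=
      (IsPullback.of_hasPullback f (g s ≫ (U s).ι)).of_iso (Iso.refl _) (Iso.refl _) (S' s).isoSpec (Iso.refl _)
        (by simp) (by simp) (by simp) (by rw [hq]; simp)
    obtain ⟨J', hJ', hJfg⟩ := exists_ideal f j A' q₀ _ _ hsq (fun z => by
      obtain ⟨V, hzV, hV, hVp⟩ := hcov s z
      haveI : IsAffine (V : Scheme.{u}) := hV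
      refine ⟨V, hzV, hV, Γ(V, ⊤), (V : Scheme.{u}).isoSpec.inv ≫ V.ι, inferInstance,
        (V.ι ≫ pullback.snd f (g s ≫ (U s).ι)).appTop, ?_, ?_, hVp⟩
      · rw [Scheme.Hom.comp_base, TopCat.coe_comp, Set.range_comp, ((V : Scheme.{u}).isoSpec.inv).surjective.range_eq,
          Set.image_univ]
        exact V.range_ι
      · rw [Category.assoc, ← Category.assoc V.ι, ← Category.assoc, ← Scheme.isoSpec_inv_naturality]
        simp)
    let J := J'.comap α.hom
    have hJmap : J' = J.map α.hom := by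
      refine le_antisymm ?_ Ideal.map_comap_le
      refine le_map_comap J' fun y hy => ?_
      let C : CommRingCat.{u} := CommRingCat.of ((A' ⧸ J') ⊗[A] A')
      let χ₁ : A' ⟶ C := CommRingCat.ofHom ((Algebra.TensorProduct.includeLeftRingHom).comp (Ideal.Quotient.mk J'))
      let χ₂ : A' ⟶ C := CommRingCat.ofHom (Algebra.TensorProduct.includeRight (R := A) (A := A' ⧸ J') (B := A')).toRingHom
      have h12 : α ≫ χ₁ = α ≫ χ₂ := by
        ext a
        change (algebraMap A (A' ⧸ J') a) ⊗ₜ[A] (1 : A') = (1 : A' ⧸ J') ⊗ₜ[A] algebraMap A A' a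
        rw [Algebra.algebraMap_eq_smul_one, Algebra.algebraMap_eq_smul_one, TensorProduct.smul_tmul]
      have h1 : Factors f j (Spec C) (Spec.map χ₁ ≫ q₀) := (hJ' C χ₁).2 fun b hb => by
        change (Ideal.Quotient.mk J' b) ⊗ₜ[A] (1 : A') = 0
        rw [Ideal.Quotient.eq_zero_iff_mem.2 hb, TensorProduct.zero_tmul]
      have h2 : Spec.map χ₁ ≫ q₀ = Spec.map χ₂ ≫ q₀ := by
        simp only [q₀, ← Spec.map_comp_assoc, h12]
      rw [h2] at h1
      exact (hJ' C χ₂).1 h1 hy
    have haff : ∀ (C : CommRingCat.{u}) (χ : A ⟶ C), Factors f j (Spec C) (Spec.map χ ≫ u₀) ↔ J ≤ RingHom.ker χ.hom := by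
      intro C χ
      letI : Algebra A C := χ.hom.toAlgebra
      let C' : CommRingCat.{u} := CommRingCat.of (C ⊗[A] A')
      let ρ : C ⟶ C' := CommRingCat.ofHom Algebra.TensorProduct.includeLeftRingHom
      let χ' : A' ⟶ C' := CommRingCat.ofHom (Algebra.TensorProduct.includeRight (R := A) (A := C) (B := A')).toRingHom
      have hcomm : χ ≫ ρ = α ≫ χ' := by
        ext a
        change (algebraMap A C a) ⊗ₜ[A] (1 : A') = (1 : C) ⊗ₜ[A] algebraMap A A' a
        rw [Algebra.algebraMap_eq_smul_one, Algebra.algebraMap_eq_smul_one, TensorProduct.smul_tmul]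
      have hρ : ρ.hom.FaithfullyFlat := by
        exact (RingHom.faithfullyFlat_algebraMap_iff (R := C) (S := C ⊗[A] A')).2 inferInstance
      obtain ⟨hρf, hρs⟩ := (flat_and_surjective_SpecMap_iff ρ).2 hρ
      have h1 : Factors f j (Spec C) (Spec.map χ ≫ u₀) ↔ Factors f j (Spec C') (Spec.map χ' ≫ q₀) := by
        have e : Spec.map χ' ≫ q₀ = Spec.map ρ ≫ Spec.map χ ≫ u₀ := by
          simp only [q₀, ← Spec.map_comp_assoc, hcomm]
        rw [e]
        exact ⟨fun h => h.comp f j _, fun h => h.of_fpqc f j _ _⟩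
      rw [h1, hJ', hJmap, Ideal.map_le_iff_le_comap, RingHom.comap_ker]
      have hinj : Function.Injective ρ.hom := by
        exact fun c c' h => Module.FaithfullyFlat.tensorProduct_mk_injective (A := A) (B := A') C
          (congrArg (TensorProduct.comm A C A') h)
      refine forall₂_congr fun a _ => ?_
      have e : χ'.hom (α.hom a) = ρ.hom (χ.hom a) := congrArg (fun t : A ⟶ C' => t.hom a) hcomm.symm
      simp only [RingHom.mem_ker, RingHom.comp_apply, e, map_eq_zero_iff _ hinj]
    let t₀ : Spec (CommRingCat.of (A ⧸ J)) ⟶ Spec A := Spec.map (CommRingCat.ofHom (Ideal.Quotient.mk J))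
    haveI : IsClosedImmersion t₀ := IsClosedImmersion.spec_of_surjective _ Ideal.Quotient.mk_surjective
    let t := t₀ ≫ (U s : Scheme.{u}).isoSpec.inv
    refine ⟨_, t, inferInstance, fun T' x => ⟨fun h => ?_, ?_⟩, fun hq' hlfp => ?_⟩
    · refine exists_lift_of_openCover t x T'.affineCover fun i => ?_
      obtain ⟨χ, hχ⟩ : ∃ χ, Spec.map χ = T'.affineCover.f i ≫ x ≫ (U s : Scheme.{u}).isoSpec.hom := ⟨_, Spec.map_preimage _⟩
      have h' : Factors f j _ (Spec.map χ ≫ u₀) := by
        have := h.comp f j (T'.affineCover.f i)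
        have e : T'.affineCover.f i ≫ x ≫ (U s).ι = Spec.map χ ≫ u₀ := by
          change _ = Spec.map χ ≫ (U s : Scheme.{u}).isoSpec.inv ≫ (U s).ι
          rw [hχ]
          erw [Category.assoc, Category.assoc, Iso.hom_inv_id_assoc]
          rfl
        rw [e] at this
        exact this
      refine ⟨Spec.map (CommRingCat.ofHom (Ideal.Quotient.lift J χ.hom fun a ha => (haff _ χ).1 h' ha)), ?_⟩
      rw [← cancel_mono (U s : Scheme.{u}).isoSpec.hom, Category.assoc, Category.assoc, Category.assoc, Iso.inv_hom_id,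
        Category.comp_id, ← hχ]
      change Spec.map _ ≫ Spec.map _ = _
      rw [← Spec.map_comp]
      rfl
    · rintro ⟨z, rfl⟩
      rw [Category.assoc, Category.assoc]
      refine Factors.comp f j z ?_
      exact (haff _ _).2 fun a ha => Ideal.Quotient.eq_zero_iff_mem.2 ha
    · haveI : QuasiCompact (pullback.snd f (g s ≫ (U s).ι)) := MorphismProperty.pullback_snd (P := @QuasiCompact) _ _ hq'
      have hfg' : J'.FG := hJfg (QuasiCompact.compactSpace_of_compactSpace (pullback.snd f (g s ≫ (U s).ι))) hlfp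
      have hfg : J.FG := Ideal.FG.of_FG_map_of_faithfullyFlat (S := A') (by rw [hJmap] at hfg'; exact hfg')
      haveI : LocallyOfFinitePresentation t₀ := by
        rw [HasRingHomProperty.Spec_iff (P := @LocallyOfFinitePresentation)]
        exact RingHom.FinitePresentation.of_surjective _ Ideal.Quotient.mk_surjective (show (RingHom.ker (Ideal.Quotient.mk J)).FG by rw [Ideal.mk_ker]; exact hfg)
      infer_instance
  choose Tl tl htl hTl hlfpl using hlocal
  have hcover : TopologicalSpace.IsOpenCover U :=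
    TopologicalSpace.IsOpenCover.mk (eq_top_iff.2 fun s _ => TopologicalSpace.Opens.mem_iSup.2 ⟨s, hsU s⟩)
  obtain ⟨T, t, ht, hT⟩ := Misc15.ClosedLocal.exists_closedImmersion S (fun T x => Factors f j T x)
    (fun _ _ t _ h => h.comp f j t) (fun _ x 𝒱 h => Factors.of_openCover f j x 𝒱 h) U hcover
    (fun s => ⟨Tl s, tl s, htl s, hTl s⟩)
  refine ⟨T, t, ht, hT, fun hq hlfp => ?_⟩
  rw [IsZariskiLocalAtTarget.iff_of_openCover (P := @LocallyOfFinitePresentation) (S.openCoverOfIsOpenCover U hcover)]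
  intro s
  change LocallyOfFinitePresentation (pullback.snd t (U s).ι)
  obtain ⟨a, ha⟩ := (hTl s _ (pullback.snd t (U s).ι)).1 (by
    rw [← pullback.condition]; exact (hT _ _).2 ⟨_, rfl⟩)
  obtain ⟨b, hb⟩ := (hT _ (tl s ≫ (U s).ι)).1 ((hTl s _ (tl s)).2 ⟨𝟙 _, Category.id_comp _⟩)
  haveI := htl s
  haveI : IsIso a := by
    refine ⟨pullback.lift b (tl s) hb, ?_, ?_⟩
    · rw [← cancel_mono (pullback.snd t (U s).ι), Category.assoc, pullback.lift_snd, ha, Category.id_comp]
    · rw [← cancel_mono (tl s), Category.assoc, ha, pullback.lift_snd, Category.id_comp]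
  rw [← ha]
  exact (MorphismProperty.cancel_left_of_respectsIso @LocallyOfFinitePresentation a (tl s)).2 (hlfpl s hq hlfp)

end Groth.Agent.SGA3cLib.WeilRes
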