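import Groth.Agent.SGA3cLib.NeutralDim
import Groth.Agent.S9355

/-!
# Constructibility of the dimension of the fibres of a group scheme
-/

set_option autoImplicit false
set_option linter.style.haveILetI false
set_option backward.isDefEq.respectTransparency.types false

universe u

open CategoryTheory Limits MonoidalCategory CartesianMonoidalCategory MonObj GrpObj AlgebraicGeometry
open TopologicalSpace Topology

noncomputable section

namespace Groth.Agent.SGA3cLib.NeutralDim

open AlgGrpLib EGA43.SectionComp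

variable {S : Scheme.{u}} (G : Over S) [GrpObj G] [LocallyOfFiniteType G.hom]

/-- The dimension of a fibre is the dimension at the unit point. -/
theorem dim_eq_fibreDimAt (s : S) :
    topologicalKrullDim ↥(G.hom.base ⁻¹' {s}) = FlatMor.fibreDimAt G.hom ((unit G).base s) := by
  rw [dim_fibre_eq]
  exact (fibreDimAt_eq_dim_comp G.hom (unit G) (unit_w G) s (isIrreducible_comp G s)
    (mem_comp_self G.hom (unit G) (unit_w G) s)).symm

theorem exists_dim_eq_nat (s : S) : ∃ m : ℕ, topologicalKrullDim ↥(G.hom.base ⁻¹' {s}) = (m : WithBot ℕ∞) := by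
  obtain ⟨ζ, hζ, hgen, -⟩ := exists_generic_comp G.hom (unit G) (unit_w G) s (isIrreducible_comp G s)
  exact ⟨_, (dim_fibre_eq G s).trans (topologicalKrullDim_comp_eq G.hom (unit G) (unit_w G) s hζ hgen)⟩

/-- Every point has an affine neighbourhood where the dimension is bounded with constructible level sets. -/
theorem exists_nhd_constructible [LocallyOfFinitePresentation G.hom] (s : S) :
    ∃ V : S.Opens, s ∈ V ∧ IsAffineOpen V ∧
      (∃ N : ℕ, ∀ t ∈ V, topologicalKrullDim ↥(G.hom.base ⁻¹' {t}) ≤ (N : WithBot ℕ∞)) ∧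
      ∀ n : ℕ, IsConstructible {t : V | topologicalKrullDim ↥(G.hom.base ⁻¹' {(t : S)}) ≤ (n : WithBot ℕ∞)} := by
  obtain ⟨V₀, hV₀, hsV₀, -⟩ := exists_isAffineOpen_mem_and_subset (x := s) (U := ⊤) trivial
  obtain ⟨U, hU, hsU, -⟩ := exists_isAffineOpen_mem_and_subset (x := (unit G).base s) (U := ⊤) trivial
  obtain ⟨r, hr, hsr⟩ := hV₀.exists_basicOpen_le (V := unit G ⁻¹ᵁ U) (⟨s, hsU⟩ : ↥(unit G ⁻¹ᵁ U)) hsV₀
  let V : S.Opens := S.basicOpen r
  have hV : IsAffineOpen V := hV₀.basicOpen r
  refine ⟨V, hsr, hV, ?_, fun n => ?_⟩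
  · have hVc : IsCompact (V : Set S) := hV.isCompact
    have hopen : ∀ n : ℕ, IsOpen {t : S | topologicalKrullDim ↥(G.hom.base ⁻¹' {t}) ≤ (n : WithBot ℕ∞)} :=
      fun n => by
        simp only [dim_eq_fibreDimAt G]
        exact (FlatMorDim.isOpen_fibreDimAt_le G.hom n).preimage (unit G).continuous
    obtain ⟨N, hN⟩ := hVc.elim_directed_cover _ hopen
      (fun t _ => Set.mem_iUnion.2 <| by
        obtain ⟨m, hm⟩ := exists_dim_eq_nat G t
        exact ⟨m, hm.le⟩)
      (Monotone.directed_le fun a b hab t ht => by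
        show _ ≤ ((b : ℕ) : WithBot ℕ∞)
        exact le_trans (show _ ≤ ((a : ℕ) : WithBot ℕ∞) from ht) (by exact_mod_cast hab))
    exact ⟨N, fun t ht => hN ht⟩
  · haveI : IsAffine V.toScheme := hV
    haveI : IsAffine U.toScheme := hU
    let φ : V.toScheme ⟶ U.toScheme := (unit G).resLE U V hr
    let A : U.toScheme.Opens :=
      U.ι ⁻¹ᵁ ⟨{x | FlatMor.fibreDimAt G.hom x ≤ (n : WithBot ℕ∞)}, FlatMorDim.isOpen_fibreDimAt_le G.hom n⟩
    have hA : IsCompact (A : Set U.toScheme) := by
      rw [U.ι.isEmbedding.isCompact_iff]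
      convert (S9355.result G.hom n) hU.isCompact U.isOpen using 1
      refine (Set.image_preimage_eq_inter_range (f := U.ι.base)
        (t := {x : G.left | FlatMor.fibreDimAt G.hom x ≤ (n : WithBot ℕ∞)})).trans ?_
      rw [U.range_ι]
    have hφ : ∀ t : V.toScheme, U.ι.base (φ.base t) = (unit G).base t.1 := fun t =>
      congrArg (fun ψ : V.toScheme ⟶ G.left => ψ.base t) (Scheme.Hom.resLE_comp_ι (unit G) hr)
    have h : IsConstructible ((φ ⁻¹ᵁ A : V.toScheme.Opens) : Set V.toScheme) :=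
      IsCompact.isConstructible (φ.isCompact_preimage hA) (φ ⁻¹ᵁ A).isOpen
    have heq : ((φ ⁻¹ᵁ A : V.toScheme.Opens) : Set V.toScheme) =
        {t : V.toScheme | topologicalKrullDim ↥(G.hom.base ⁻¹' {t.1}) ≤ (n : WithBot ℕ∞)} := by
      ext t
      show FlatMor.fibreDimAt G.hom (U.ι.base (φ.base t)) ≤ _ ↔ topologicalKrullDim ↥(G.hom.base ⁻¹' {t.1}) ≤ _
      rw [hφ t, ← dim_eq_fibreDimAt]
    rw [heq] at h
    exact h

/-- Locally the dimension takes finitely many values, with constructible level sets. -/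
theorem exists_nhd_levels [LocallyOfFinitePresentation G.hom] (s : S) :
    ∃ V : S.Opens, s ∈ V ∧ IsAffineOpen V ∧
      ((fun t : S => topologicalKrullDim ↥(G.hom.base ⁻¹' {t})) '' (V : Set S)).Finite ∧
      ∀ d : WithBot ℕ∞, IsConstructible {t : V | topologicalKrullDim ↥(G.hom.base ⁻¹' {(t : S)}) = d} := by
  obtain ⟨V, hsV, hV, ⟨N, hN⟩, hc⟩ := exists_nhd_constructible G s
  refine ⟨V, hsV, hV, ((Set.finite_Iic N).image (fun m : ℕ => (m : WithBot ℕ∞))).subset ?_, fun d => ?_⟩
  · rintro _ ⟨t, ht, rfl⟩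
    obtain ⟨m, hm⟩ := exists_dim_eq_nat G t
    exact ⟨m, by exact_mod_cast (hm ▸ hN t ht), hm.symm⟩
  · by_cases hd : ∃ m : ℕ, d = (m : WithBot ℕ∞)
    · obtain ⟨m, rfl⟩ := hd
      rcases m with _ | m
      · convert hc 0 using 1
        ext t
        obtain ⟨k, hk⟩ := exists_dim_eq_nat G (t : S)
        simp only [Set.mem_setOf_eq, hk]
        norm_cast
        omega
      · convert (hc (m + 1)).sdiff (hc m) using 1
        ext t
        obtain ⟨k, hk⟩ := exists_dim_eq_nat G (t : S)
        simp only [Set.mem_setOf_eq, Set.mem_diff, hk]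
        norm_cast
        omega
    · convert IsConstructible.empty using 1
      refine Set.eq_empty_of_forall_notMem fun t ht => hd ?_
      obtain ⟨k, hk⟩ := exists_dim_eq_nat G (t : S)
      exact ⟨k, ht.symm.trans hk⟩

end Groth.Agent.SGA3cLib.NeutralDim
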