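import Groth.Agent.SGA3cLib.Homogeneous
import Mathlib.AlgebraicGeometry.IdealSheaf.Subscheme

/-!
# Orbits of the neutral component in a homogeneous space over a field
-/

set_option autoImplicit false
set_option backward.isDefEq.respectTransparency.types false

universe u

open CategoryTheory Limits AlgebraicGeometry MonoidalCategory CartesianMonoidalCategory MonObj GrpObj

namespace Groth.Agent.SGA3cLib

open Groth.Agent.VarietyLib (mem_genericPoints_iff exists_genericPoints_specializes
  eq_of_specializes_genericPoints generalizing_genericPoints)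

variable {k : Type u} [Field k] {G X : Over (Spec (CommRingCat.of k))} [GrpObj G]
  (a : AlgGrp.Action G X)

/-- Points of `X ⊗ T` attached to `T`-points. -/
theorem fst_lift_id {S : Scheme.{u}} {X T : Over S} (x : T ⟶ X) (p : T.left) :
    (fst X T).left.base ((lift x (𝟙 T)).left.base p) = x.left.base p := by
  change (lift x (𝟙 T) ≫ fst X T).left.base p = _
  rw [lift_fst]

theorem generalizingMap_fst {Y : Over (Spec (CommRingCat.of k))} (L : Type u) [Field L]
    (j : Spec (CommRingCat.of L) ⟶ Spec (CommRingCat.of k)) :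
    GeneralizingMap (fst Y (Over.mk j)).left := by
  haveI : Flat (fst Y (Over.mk j)).left := MorphismProperty.pullback_fst (P := @Flat) _ _ (show Flat j from inferInstance)
  exact Flat.generalizingMap _

/-- The orbit of a point under the generic point of the neutral component is the maximal
generalization of the point. -/
theorem exists_orbit_point (hΦ : Surjective (lift a.act (snd G X)).left) {θ : G.left}
    (hθ : θ ∈ genericPoints G.left) (hθe : θ ⤳ η[G].left.base (IsLocalRing.closedPoint k))
    {z ξ : X.left} (hξ : ξ ∈ genericPoints X.left) (hξz : ξ ⤳ z) :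
    ∃ w : ↥(G ⊗ X).left, (fst G X).left.base w = θ ∧ (snd G X).left.base w = z ∧ a.act.left.base w = ξ := by
  let L := AlgebraicClosure (X.left.residueField z)
  let q : Spec (CommRingCat.of L) ⟶ X.left :=
    Spec.map (CommRingCat.ofHom (algebraMap (X.left.residueField z) L)) ≫ X.left.fromSpecResidueField z
  let j := q ≫ X.hom
  let T := Over.mk j
  let x : T ⟶ X := Over.homMk q
  let pt : ↥(Spec (CommRingCat.of L)) := IsLocalRing.closedPoint L
  obtain ⟨θ', hθ', hθ'e⟩ := exists_genericPoints_specializes (α := ↥(G ⊗ T).left)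
    ((lift (1 : T ⟶ G) (𝟙 T)).left.base pt)
  have hgen := orbit_mem_genericPoints a hΦ L j x hθ' hθ'e
  refine ⟨(lift (fst G T) (snd G T ≫ x)).left.base θ', ?_, ?_, ?_⟩
  · change (lift (fst G T) (snd G T ≫ x) ≫ fst G X).left.base θ' = θ
    rw [lift_fst]
    refine eq_of_specializes_of_homogeneous (regAction G) (surjective_regAction _)
      (z := η[G].left.base (IsLocalRing.closedPoint k))
      (generalizing_genericPoints (generalizingMap_fst L j) hθ') hθ ?_ hθe
    have h1 := hθ'e.map (fst G T).left.continuous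
    rw [fst_lift_id, Hom.one_def] at h1
    have h2 : (toUnit T ≫ η[G]).left.base pt = η[G].left.base (IsLocalRing.closedPoint k) :=
      congrArg η[G].left.base (Subsingleton.elim (α := ↥(Spec (CommRingCat.of k))) _ _)
    rwa [h2] at h1
  · change (lift (fst G T) (snd G T ≫ x) ≫ snd G X).left.base θ' = z
    rw [lift_snd]
    exact (X.left.range_fromSpecResidueField z).le ⟨_, rfl⟩
  · let o : G ⊗ T ⟶ X ⊗ T := lift (smulPt a (fst G T) (snd G T ≫ x)) (snd G T)
    have h0 : (lift (fst G T) (snd G T ≫ x)) ≫ a.act = o ≫ fst X T := (lift_fst _ _).symm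
    change (lift (fst G T) (snd G T ≫ x) ≫ a.act).left.base θ' = ξ
    rw [h0]
    refine eq_of_specializes_of_homogeneous a hΦ (z := z)
      (generalizing_genericPoints (generalizingMap_fst L j) hgen) hξ ?_ hξz
    have h1 := hθ'e.map (o ≫ fst X T).left.continuous
    have h2 : lift (1 : T ⟶ G) (𝟙 T) ≫ o ≫ fst X T = x := by
      simp only [o, lift_fst, comp_smulPt, lift_snd_assoc, Category.id_comp, one_smulPt]
    have h3 : (o ≫ fst X T).left.base ((lift (1 : T ⟶ G) (𝟙 T)).left.base pt) = z := by
      change (lift (1 : T ⟶ G) (𝟙 T) ≫ o ≫ fst X T).left.base pt = z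
      rw [h2]
      exact (X.left.range_fromSpecResidueField z).le ⟨_, rfl⟩
    rwa [h3] at h1

/-- Points of the neutral component preserve the maximal generalization. -/
theorem eq_of_act (hΦ : Surjective (lift a.act (snd G X)).left) {θ : G.left}
    (hθ : θ ∈ genericPoints G.left) (hθe : θ ⤳ η[G].left.base (IsLocalRing.closedPoint k))
    (w : ↥(G ⊗ X).left) (hw : θ ⤳ (fst G X).left.base w) {ξ₁ ξ₂ : X.left}
    (h₁ : ξ₁ ∈ genericPoints X.left) (h₂ : ξ₂ ∈ genericPoints X.left)
    (s₁ : ξ₁ ⤳ (snd G X).left.base w) (s₂ : ξ₂ ⤳ a.act.left.base w) : ξ₁ = ξ₂ := by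
  let P := (G ⊗ X).left
  let L := AlgebraicClosure (P.residueField w)
  let q : Spec (CommRingCat.of L) ⟶ P :=
    Spec.map (CommRingCat.ofHom (algebraMap (P.residueField w) L)) ≫ P.fromSpecResidueField w
  let j := q ≫ (G ⊗ X).hom
  let T := Over.mk j
  let pt : ↥(Spec (CommRingCat.of L)) := IsLocalRing.closedPoint L
  let v : T ⟶ G ⊗ X := Over.homMk q
  have hv : v.left.base pt = w := (P.range_fromSpecResidueField w).le ⟨_, rfl⟩
  let g : T ⟶ G := v ≫ fst G X
  let x : T ⟶ X := v ≫ snd G X
  obtain ⟨θ', hθ', hθ'e⟩ := exists_genericPoints_specializes (α := ↥(G ⊗ T).left)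
    ((lift (1 : T ⟶ G) (𝟙 T)).left.base pt)
  have hgen := orbit_mem_genericPoints a hΦ L j x hθ' hθ'e
  let o : G ⊗ T ⟶ X ⊗ T := lift (smulPt a (fst G T) (snd G T ≫ x)) (snd G T)
  let eT : ↥(G ⊗ T).left := (lift (1 : T ⟶ G) (𝟙 T)).left.base pt
  let gT : ↥(G ⊗ T).left := (lift g (𝟙 T)).left.base pt
  -- the neutral component of `G ⊗ T` contains `g`
  have hfst : (fst G T).left.base θ' = θ := by
    refine eq_of_specializes_of_homogeneous (regAction G) (surjective_regAction _)
      (z := η[G].left.base (IsLocalRing.closedPoint k))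
      (generalizing_genericPoints (generalizingMap_fst L j) hθ') hθ ?_ hθe
    have h1 := hθ'e.map (fst G T).left.continuous
    rw [fst_lift_id, Hom.one_def] at h1
    have h2 : (toUnit T ≫ η[G]).left.base pt = η[G].left.base (IsLocalRing.closedPoint k) :=
      congrArg η[G].left.base (Subsingleton.elim (α := ↥(Spec (CommRingCat.of k))) _ _)
    rwa [h2] at h1
  obtain ⟨θg, hθg, hθgs⟩ := exists_genericPoints_specializes gT
  have hθg' : θg = θ' := by
    refine eq_of_fst_eq_of_rational (regAction G) (surjective_regAction _) η[G] θ hθe L j hθg hθ' ?_ hfst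
    refine eq_of_specializes_of_homogeneous (regAction G) (surjective_regAction _)
      (z := (fst G T).left.base gT) (generalizing_genericPoints (generalizingMap_fst L j) hθg) hθ
      (hθgs.map (fst G T).left.continuous) ?_
    rw [fst_lift_id]
    change θ ⤳ (fst G X).left.base (v.left.base pt)
    rwa [hv]
  let L₀ := translateHomeo (regAction G) g
  have hLe : L₀ eT = gT := by
    rw [translateHomeo_apply]
    change (lift 1 (𝟙 T) ≫ translate (regAction G) g).left.base pt = _
    rw [lift_translate]
    refine congrArg (fun s : T ⟶ G => (lift s (𝟙 T)).left.base pt) ?_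
    change lift g 1 ≫ μ[G] = g
    rw [← Hom.mul_def, _root_.mul_one]
  have hLθ : L₀ θ' = θ' := eq_of_specializes_of_homogeneous (regAction (Red.bc j G)) (surjective_regAction _)
    (z := gT) (homeomorph_mem_genericPoints L₀ hθ') hθ' (hLe ▸ hθ'e.map L₀.continuous) (hθg' ▸ hθgs)
  have hcomm : translate (regAction G) g ≫ o = o ≫ translate a g := by
    apply CartesianMonoidalCategory.hom_ext
    · simp only [o, translate, Category.assoc, lift_fst, comp_smulPt, lift_snd_assoc]
      change smulPt a (lift (snd G T ≫ g) (fst G T) ≫ μ[G]) _ = _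
      rw [← Hom.mul_def, mul_smulPt]
    · simp [o, translate]
  have hD : ∀ y : T ⟶ X, (lift y (𝟙 T)).left.base pt = o.left.base eT ∨
      (lift y (𝟙 T)).left.base pt = translateHomeo a g (o.left.base eT) →
      o.left.base θ' ⤳ (lift y (𝟙 T)).left.base pt := by
    have h0 : o.left.base θ' ⤳ o.left.base eT := hθ'e.map o.left.continuous
    rintro y (h | h)
    · rwa [h]
    · rw [h]
      have h1 := h0.map (translateHomeo a g).continuous
      have h2 : translateHomeo a g (o.left.base θ') = o.left.base θ' := by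
        rw [translateHomeo_apply]
        change (o ≫ translate a g).left.base θ' = _
        rw [← hcomm]
        change o.left.base (L₀ θ') = _
        rw [hLθ]
      rwa [h2] at h1
  have he : lift (1 : T ⟶ G) (𝟙 T) ≫ o = lift x (𝟙 T) := by
    apply CartesianMonoidalCategory.hom_ext
    · simp only [o, Category.assoc, lift_fst, comp_smulPt, lift_snd_assoc, Category.id_comp, one_smulPt]
    · simp [o]
  have hxe : (lift x (𝟙 T)).left.base pt = o.left.base eT := by
    rw [← he]
    rfl
  have hgx : (lift (smulPt a g x) (𝟙 T)).left.base pt = translateHomeo a g (o.left.base eT) := by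
    rw [← hxe, translateHomeo_apply]
    change _ = (lift x (𝟙 T) ≫ translate a g).left.base pt
    rw [lift_translate]
  have t₁ := (hD x (Or.inl hxe)).map (fst X T).left.continuous
  have t₂ := (hD _ (Or.inr hgx)).map (fst X T).left.continuous
  rw [fst_lift_id] at t₁ t₂
  have e₁ : x.left.base pt = (snd G X).left.base w := by rw [← hv]; rfl
  have e₂ : (smulPt a g x).left.base pt = a.act.left.base w := by
    have : smulPt a g x = v ≫ a.act := by
      simp only [smulPt, g, x, ← comp_lift_assoc, lift_fst_snd, Category.id_comp]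
    rw [this, ← hv]
    rfl
  rw [e₁] at t₁
  rw [e₂] at t₂
  have hp := generalizing_genericPoints (generalizingMap_fst L j) hgen
  exact (eq_of_specializes_of_homogeneous a hΦ h₁ hp s₁ t₁).trans
    (eq_of_specializes_of_homogeneous a hΦ hp h₂ t₂ s₂)

/-- `(g, x) ↦ (g⁻¹, g • x)`. -/
noncomputable def flipPair : G ⊗ X ⟶ G ⊗ X := lift (fst G X)⁻¹ a.act

theorem flipPair_act : flipPair a ≫ a.act = snd G X := by
  have h : a.act = smulPt a (fst G X) (snd G X) := by rw [smulPt, lift_fst_snd, Category.id_comp]
  change smulPt a (fst G X)⁻¹ a.act = snd G X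
  rw [h, inv_smulPt]

theorem inv_fixes {θ : G.left} (hθ : θ ∈ genericPoints G.left)
    (hθe : θ ⤳ η[G].left.base (IsLocalRing.closedPoint k)) : (ι[G]).left.base θ = θ := by
  haveI : IsIso (ι[G]).left := inferInstanceAs (IsIso ((Over.forget _).map ι[G]))
  refine eq_of_specializes_of_homogeneous (regAction G) (surjective_regAction _)
    (z := η[G].left.base (IsLocalRing.closedPoint k))
    (homeomorph_mem_genericPoints (ι[G]).left.homeomorph hθ) hθ ?_ hθe
  have h1 := hθe.map (ι[G]).left.continuous
  have h2 : η[G] ≫ ι[G] = η[G] := GrpObj.one_inv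
  have h3 : (ι[G]).left.base (η[G].left.base (IsLocalRing.closedPoint k)) = η[G].left.base (IsLocalRing.closedPoint k) := by
    change (η[G] ≫ ι[G]).left.base _ = _
    rw [h2]
  rwa [h3] at h1

/-- The union of the components with generic point in an open is open. -/
theorem isOpen_setOf_max_mem (hΦ : Surjective (lift a.act (snd G X)).left) {θ : G.left}
    (hθ : θ ∈ genericPoints G.left) (hθe : θ ⤳ η[G].left.base (IsLocalRing.closedPoint k)) (U : X.left.Opens) :
    IsOpen {v : X.left | ∃ ξ ∈ genericPoints X.left, ξ ⤳ v ∧ ξ ∈ U} := by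
  let Z : TopologicalSpace.Closeds G.left := ⟨closure {θ}, isClosed_closure⟩
  let I := Scheme.IdealSheafData.vanishingIdeal Z
  have hr : Set.range I.subschemeι.base = closure {θ} := by
    rw [Scheme.IdealSheafData.range_subschemeι]
    exact Scheme.IdealSheafData.coe_support_vanishingIdeal Z
  let C : Over (Spec (CommRingCat.of k)) := Over.mk (I.subschemeι ≫ G.hom)
  let jC : C ⟶ G := Over.homMk I.subschemeι
  let m : C ⊗ X ⟶ G ⊗ X := jC ▷ X
  have hrm : ∀ w, w ∈ Set.range m.left.base ↔ θ ⤳ (fst G X).left.base w := by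
    intro w
    have hp : IsPullback m (fst C X) (fst G X) jC := by
      refine ⟨⟨by simp [m]⟩, ⟨PullbackCone.IsLimit.mk (by simp [m]) (fun c => lift c.snd (c.fst ≫ snd G X))
        (fun c => ?_) (fun c => by simp) (fun c q h1 h2 => ?_)⟩⟩
      · apply CartesianMonoidalCategory.hom_ext
        · simp [m, c.condition]
        · simp [m]
      · apply CartesianMonoidalCategory.hom_ext
        · rw [← h2]; simp
        · rw [← h1]; simp [m]
    have hp' := hp.map (Over.forget _)
    rw [specializes_iff_mem_closure, ← hr]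
    constructor
    · rintro ⟨c, rfl⟩
      refine ⟨(fst C X).left.base c, ?_⟩
      change (fst C X ≫ jC).left.base c = (m ≫ fst G X).left.base c
      simp [m]
    · rintro ⟨c, hc⟩
      obtain ⟨b, hb1, -⟩ := Scheme.Pullback.exists_preimage_pullback (f := (fst G X).left) (g := jC.left) w c hc.symm
      obtain ⟨c', rfl⟩ := hp'.isoPullback.hom.homeomorph.surjective b
      refine ⟨c', ?_⟩
      rw [← hb1]
      change _ = (hp'.isoPullback.hom ≫ pullback.fst _ _).base c'
      erw [hp'.isoPullback_hom_fst]
      rfl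
  haveI : UniversallyOpen (snd C X).left :=
    MorphismProperty.pullback_snd (P := @UniversallyOpen) (f := C.hom) (g := X.hom)
      (show UniversallyOpen C.hom from inferInstance)
  have : {v : X.left | ∃ ξ ∈ genericPoints X.left, ξ ⤳ v ∧ ξ ∈ U} =
      (snd C X).left.base '' ((m ≫ a.act).left.base ⁻¹' U) := by
    ext v
    constructor
    · rintro ⟨ξ, hξ, hξv, hξU⟩
      obtain ⟨w, hw1, hw2, hw3⟩ := exists_orbit_point a hΦ hθ hθe hξ hξv
      obtain ⟨c, rfl⟩ := (hrm w).2 (by rw [hw1])
      refine ⟨c, ?_, ?_⟩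
      · change a.act.left.base (m.left.base c) ∈ U
        rw [hw3]; exact hξU
      · rw [← hw2]
        change _ = (m ≫ snd G X).left.base c
        simp [m]
    · rintro ⟨c, hc, rfl⟩
      have hfstc : θ ⤳ (fst G X).left.base (m.left.base c) := (hrm _).1 ⟨c, rfl⟩
      obtain ⟨ξ₁, h₁, s₁⟩ := exists_genericPoints_specializes ((snd G X).left.base (m.left.base c))
      obtain ⟨ξ₂, h₂, s₂⟩ := exists_genericPoints_specializes (a.act.left.base (m.left.base c))
      have h12 := eq_of_act a hΦ hθ hθe _ hfstc h₁ h₂ s₁ s₂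
      refine ⟨ξ₁, h₁, ?_, h12 ▸ s₂.mem_open U.isOpen hc⟩
      have hs : (snd G X).left.base (m.left.base c) = (snd C X).left.base c := by
        change (m ≫ snd G X).left.base c = _
        simp [m]
      rwa [hs] at s₁
  rw [this]
  exact (snd C X).left.isOpenMap _ (U.isOpen.preimage (m ≫ a.act).left.continuous)

/-- The translates of an open by the neutral component. -/
theorem image_act_eq (hΦ : Surjective (lift a.act (snd G X)).left) {θ : G.left}
    (hθ : θ ∈ genericPoints G.left) (hθe : θ ⤳ η[G].left.base (IsLocalRing.closedPoint k)) (U : X.left.Opens) :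
    a.act.left.base '' {z : ↥(G ⊗ X).left | (fst G X).left.base z ∈ closure {θ} ∧ (snd G X).left.base z ∈ U} =
      {v : X.left | ∃ ξ ∈ genericPoints X.left, ξ ⤳ v ∧ ξ ∈ U} := by
  ext v
  constructor
  · rintro ⟨z, ⟨hz1, hz2⟩, rfl⟩
    obtain ⟨ξ₁, h₁, s₁⟩ := exists_genericPoints_specializes ((snd G X).left.base z)
    obtain ⟨ξ₂, h₂, s₂⟩ := exists_genericPoints_specializes (a.act.left.base z)
    have h12 := eq_of_act a hΦ hθ hθe z (specializes_iff_mem_closure.2 hz1) h₁ h₂ s₁ s₂
    exact ⟨ξ₂, h₂, s₂, h12 ▸ s₁.mem_open U.isOpen hz2⟩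
  · rintro ⟨ξ, hξ, hξv, hξU⟩
    obtain ⟨w, hw1, hw2, hw3⟩ := exists_orbit_point a hΦ hθ hθe hξ hξv
    refine ⟨(flipPair a).left.base w, ⟨?_, ?_⟩, ?_⟩
    · have e : flipPair a ≫ fst G X = fst G X ≫ ι[G] := (lift_fst _ _).trans rfl
      change (flipPair a ≫ fst G X).left.base w ∈ closure {θ}
      rw [e]
      change (ι[G]).left.base ((fst G X).left.base w) ∈ closure {θ}
      rw [hw1, inv_fixes hθ hθe]
      exact subset_closure rfl
    · change (flipPair a ≫ snd G X).left.base w ∈ U
      rw [show flipPair a ≫ snd G X = a.act from lift_snd _ _]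
      change a.act.left.base w ∈ U
      rw [hw3]; exact hξU
    · change (flipPair a ≫ a.act).left.base w = v
      rw [flipPair_act]
      exact hw2

end Groth.Agent.SGA3cLib
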