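import Groth.Agent.SGA3cLib.Components
import Groth.Prelude.Def_Red
import Mathlib.AlgebraicGeometry.AlgClosed.Basic
import Mathlib.AlgebraicGeometry.Morphisms.UniversallyOpen
import Mathlib.AlgebraicGeometry.Morphisms.Separated
import Mathlib.AlgebraicGeometry.Morphisms.FiniteType
import Mathlib.AlgebraicGeometry.Fiber

/-!
# Separatedness of homogeneous spaces
-/

set_option autoImplicit false
set_option backward.isDefEq.respectTransparency.types false

universe u

open CategoryTheory Limits AlgebraicGeometry MonoidalCategory CartesianMonoidalCategory MonObj GrpObj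

namespace Groth.Agent.SGA3cLib

open Groth.Agent.VarietyLib (mem_genericPoints_iff exists_genericPoints_specializes
  eq_of_specializes_genericPoints generalizing_genericPoints)

variable {S : Scheme.{u}} {G X : Over S} [GrpObj G] (a : AlgGrp.Action G X)

/-- A generic point of the base change of `X` to a field lies over a maximal point of the fibre. -/
theorem maximal_fst_of_mem_genericPoints (K : Type u) [Field K] (f : X.left ⟶ S)
    (j : Spec (CommRingCat.of K) ⟶ S) {w : ↥(pullback f j)} (hw : w ∈ genericPoints ↥(pullback f j))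
    (y : X.left) (hy : f.base y = f.base ((pullback.fst f j).base w))
    (hyw : y ⤳ (pullback.fst f j).base w) : y = (pullback.fst f j).base w := by
  set pt := IsLocalRing.closedPoint K
  set s := j.base pt with hs
  let l : Spec (CommRingCat.of K) ⟶ Spec (S.residueField s) :=
    Spec.map (Scheme.descResidueField (Scheme.stalkClosedPointTo j))
  have hl : l ≫ S.fromSpecResidueField s = j :=
    Scheme.descResidueField_stalkClosedPointTo_fromSpecResidueField K S j
  let q : pullback f j ⟶ f.fiber s := pullback.lift (pullback.fst f j) (pullback.snd f j ≫ l) (by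
    rw [Category.assoc, hl, pullback.condition])
  have hqι : q ≫ f.fiberι s = pullback.fst f j := pullback.lift_fst _ _ _
  have hq : IsPullback q (pullback.snd f j) (f.fiberToSpecResidueField s) l := by
    refine IsPullback.of_right ?_ (pullback.lift_snd _ _ _) (IsPullback.of_hasPullback f (S.fromSpecResidueField s))
    rw [show q ≫ pullback.fst f (S.fromSpecResidueField s) = pullback.fst f j from hqι, hl]
    exact IsPullback.of_hasPullback f j
  have hgen : GeneralizingMap q := by
    haveI : Flat q := MorphismProperty.of_isPullback hq.flip (P := @Flat) inferInstance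
    exact Flat.generalizingMap q
  have hfw : f.base ((pullback.fst f j).base w) = s := by
    change (pullback.fst f j ≫ f).base w = s
    rw [pullback.condition]
    exact congrArg j.base (Subsingleton.elim _ _)
  obtain ⟨y', rfl⟩ : y ∈ Set.range (f.fiberι s).base := by
    rw [f.range_fiberι]
    exact hy.trans hfw
  have h1 : (f.fiberι s).base y' ⤳ (f.fiberι s).base (q.base w) := by
    have e : (f.fiberι s).base (q.base w) = (pullback.fst f j).base w := by
      rw [← hqι]; rfl
    rwa [e]
  rw [(f.fiberι s).isEmbedding.isInducing.specializes_iff] at h1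
  have h2 := eq_of_specializes_genericPoints (generalizing_genericPoints hgen hw) h1
  rw [h2, ← hqι]
  rfl

/-- Over an algebraically closed point, some rational point of an open neighbourhood of the unit moves
two given rational points of a homogeneous space into an open containing the maximal points of the
fibre. -/
theorem exists_point_moving (hft : LocallyOfFiniteType G.hom) (hΦ : Surjective (lift a.act (snd G X)).left)
    (W : G.left.Opens) (hW : ∀ p : ↥(𝟙_ (Over S)).left, η[G].left.base p ∈ W)
    (K : Type u) [Field K] [IsAlgClosed K] (j : Spec (CommRingCat.of K) ⟶ S) (x y : Over.mk j ⟶ X)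
    (U : X.left.Opens)
    (hU : ∀ ξ : X.left, (∀ y, X.hom.base y = X.hom.base ξ → y ⤳ ξ → y = ξ) →
      X.hom.base ξ = j.base (IsLocalRing.closedPoint K) → ξ ∈ U) :
    ∃ g : Over.mk j ⟶ G, g.left.base (IsLocalRing.closedPoint K) ∈ W ∧
      (smulPt a g x).left.base (IsLocalRing.closedPoint K) ∈ U ∧
      (smulPt a g y).left.base (IsLocalRing.closedPoint K) ∈ U := by
  let T := Over.mk j
  set pt : ↥(Spec (CommRingCat.of K)) := IsLocalRing.closedPoint K
  let GT := pullback G.hom j
  let fsnd : GT ⟶ Spec (CommRingCat.of K) := pullback.snd G.hom j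
  haveI : LocallyOfFiniteType fsnd := MorphismProperty.pullback_snd (P := @LocallyOfFiniteType) _ _ hft
  haveI : JacobsonSpace ↥GT := LocallyOfFiniteType.jacobsonSpace fsnd
  let eT : T ⟶ G ⊗ T := lift 1 (𝟙 T)
  let e : GT := eT.left.base pt
  obtain ⟨θ, hθ, hθe⟩ := exists_genericPoints_specializes e
  -- rational points and closed points
  have hpoint : ∀ c : GT, IsClosed ({c} : Set GT) → ∃ g₀ : T ⟶ G, (lift g₀ (𝟙 T)).left.base pt = c := by
    intro c hc
    let σ := pointOfClosedPoint fsnd c hc
    have hσ : σ ≫ fsnd = 𝟙 _ := pointOfClosedPoint_comp _ _ _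
    let g₀ : T ⟶ G := Over.homMk (σ ≫ pullback.fst G.hom j) (by
      rw [Category.assoc, pullback.condition, ← Category.assoc]
      exact (congrArg (· ≫ j) hσ).trans (Category.id_comp j))
    refine ⟨g₀, ?_⟩
    have : (lift g₀ (𝟙 T)).left = σ := by
      apply pullback.hom_ext
      · exact congrArg (fun t : T ⟶ G => t.left) (lift_fst g₀ (𝟙 T))
      · exact (congrArg (fun t : T ⟶ T => t.left) (lift_snd g₀ (𝟙 T))).trans hσ.symm
    rw [this]
    exact pointOfClosedPoint_apply _ _ _ _
  have hclosed : ∀ Z : Set GT, Z.Nonempty → IsLocallyClosed Z → ∃ g₀ : T ⟶ G, (lift g₀ (𝟙 T)).left.base pt ∈ Z := by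
    intro Z h1 h2
    obtain ⟨c, hcZ, hc⟩ := nonempty_inter_closedPoints h1 h2
    obtain ⟨g₀, hg₀⟩ := hpoint c hc
    exact ⟨g₀, hg₀ ▸ hcZ⟩
  -- the orbit maps
  have key : ∀ z : T ⟶ X, (smulPt a (fst G T) (snd G T ≫ z)).left.base θ ∈ U := by
    intro z
    let o : G ⊗ T ⟶ X ⊗ T := lift (smulPt a (fst G T) (snd G T ≫ z)) (snd G T)
    have hos : Surjective o.left := surjective_orbit a hΦ z
    obtain ⟨ζ, hζ, -⟩ := exists_genericPoints_specializes ((lift z (𝟙 T)).left.base pt)
    obtain ⟨u, hu⟩ := o.left.surjective ζ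
    obtain ⟨ω, hω, hωu⟩ := exists_genericPoints_specializes u
    have hoω : o.left.base ω = ζ :=
      eq_of_specializes_genericPoints hζ (hu ▸ hωu.map o.left.continuous)
    obtain ⟨g₀, hg₀⟩ := hclosed (closure {ω}) ⟨ω, subset_closure rfl⟩ isClosed_closure.isLocallyClosed
    let L := translateHomeo (regAction G) g₀
    have hLe : L e = (lift g₀ (𝟙 T)).left.base pt := by
      rw [translateHomeo_apply]
      change (eT ≫ translate (regAction G) g₀).left.base pt = _
      rw [lift_translate]
      refine congrArg (fun t : T ⟶ G => (lift t (𝟙 T)).left.base pt) ?_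
      change lift g₀ 1 ≫ μ[G] = g₀
      rw [← Hom.mul_def, _root_.mul_one]
    have hGK := eq_of_specializes_of_homogeneous (regAction (Red.bc j G)) (surjective_regAction _)
      (z := (L e : GT)) (homeomorph_mem_genericPoints L hθ) hω (hθe.map L.continuous)
      (hLe ▸ specializes_iff_mem_closure.2 hg₀)
    have hcomm : translate (regAction G) g₀ ≫ o = o ≫ translate a g₀ := by
      apply CartesianMonoidalCategory.hom_ext
      · simp only [o, translate, Category.assoc, lift_fst, comp_smulPt, lift_snd_assoc]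
        change smulPt a (lift (snd G T ≫ g₀) (fst G T) ≫ μ[G]) _ = _
        rw [← Hom.mul_def, mul_smulPt]
      · simp [o, translate]
    have hgen : o.left.base θ ∈ genericPoints ↥(X ⊗ T).left := by
      have h1 : translateHomeo a g₀ (o.left.base θ) = ζ := by
        rw [translateHomeo_apply]
        change (o ≫ translate a g₀).left.base θ = ζ
        rw [← hcomm, ← hoω, ← hGK]
        rfl
      have h2 := homeomorph_mem_genericPoints (translateHomeo a g₀).symm hζ
      rwa [← h1, Homeomorph.symm_apply_apply] at h2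
    have hp : (smulPt a (fst G T) (snd G T ≫ z)).left.base θ = (pullback.fst X.hom j).base (o.left.base θ) := by
      change _ = (o ≫ fst X T).left.base θ
      rw [lift_fst]
    rw [hp]
    refine hU _ (fun y h1 h2 => maximal_fst_of_mem_genericPoints K X.hom j hgen y h1 h2) ?_
    change (pullback.fst X.hom j ≫ X.hom).base _ = _
    rw [pullback.condition]
    exact congrArg j.base (Subsingleton.elim _ _)
  have hWθ : θ ∈ ((fst G T).left.base ⁻¹' W : Set GT) := by
    refine hθe.mem_open (W.isOpen.preimage (fst G T).left.continuous) ?_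
    change (eT ≫ fst G T).left.base pt ∈ W
    rw [lift_fst, Hom.one_def]
    exact hW _
  let A : (T ⟶ X) → Set GT := fun z => (smulPt a (fst G T) (snd G T ≫ z)).left.base ⁻¹' U
  have hA : ∀ z, IsOpen (A z) := fun z => U.isOpen.preimage (smulPt a (fst G T) (snd G T ≫ z)).left.continuous
  obtain ⟨g₀, ⟨hgW, hgx⟩, hgy⟩ := hclosed (((fst G T).left.base ⁻¹' W ∩ A x) ∩ A y) ⟨θ, ⟨hWθ, key x⟩, key y⟩
    ((((W.isOpen.preimage (fst G T).left.continuous).inter (hA x)).inter (hA y)).isLocallyClosed)
  have hval : ∀ z : T ⟶ X, lift g₀ (𝟙 T) ≫ smulPt a (fst G T) (snd G T ≫ z) = smulPt a g₀ z := by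
    intro z; simp [comp_smulPt]
  refine ⟨g₀, ?_, ?_, ?_⟩
  · change (lift g₀ (𝟙 T) ≫ fst G T).left.base pt ∈ W at hgW
    rwa [lift_fst] at hgW
  · change (lift g₀ (𝟙 T) ≫ smulPt a (fst G T) (snd G T ≫ x)).left.base pt ∈ U at hgx
    rwa [hval] at hgx
  · change (lift g₀ (𝟙 T) ≫ smulPt a (fst G T) (snd G T ≫ y)).left.base pt ∈ U at hgy
    rwa [hval] at hgy

/-- A homogeneous space having, in each fibre, a separated open through all maximal points is separated. -/
theorem isSeparated_of_transitive (hft : LocallyOfFiniteType G.hom)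
    (hGo : ∃ W : G.left.Opens, (∀ p : ↥(𝟙_ (Over S)).left, η[G].left.base p ∈ W) ∧ UniversallyOpen (W.ι ≫ G.hom))
    (hΦ : Surjective (lift a.act (snd G X)).left)
    (hU : ∀ s : S, ∃ U : X.left.Opens, IsSeparated (U.ι ≫ X.hom) ∧
      ∀ ξ : X.left, (∀ y, X.hom.base y = X.hom.base ξ → y ⤳ ξ → y = ξ) → X.hom.base ξ = s → ξ ∈ U) :
    IsSeparated X.hom := by
  obtain ⟨W, hW, hWo⟩ := hGo
  let P := pullback X.hom X.hom
  let Δ : X.left ⟶ P := pullback.diagonal X.hom
  suffices h : IsClosed (Set.range Δ.base) from ⟨IsClosedImmersion.of_isPreimmersion Δ h⟩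
  refine isClosed_of_closure_subset fun z hz => ?_
  let K := AlgebraicClosure (P.residueField z)
  let qz : Spec (CommRingCat.of K) ⟶ P :=
    Spec.map (CommRingCat.ofHom (algebraMap (P.residueField z) K)) ≫ P.fromSpecResidueField z
  set pt : ↥(Spec (CommRingCat.of K)) := IsLocalRing.closedPoint K
  have hqz : qz.base pt = z := (P.range_fromSpecResidueField z).le ⟨_, rfl⟩
  let j := qz ≫ pullback.fst X.hom X.hom ≫ X.hom
  let T := Over.mk j
  haveI : Subsingleton ↥T.left := inferInstanceAs (Subsingleton ↥(Spec (CommRingCat.of K)))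
  haveI : AlgebraicGeometry.IsReduced T.left := inferInstanceAs (AlgebraicGeometry.IsReduced (Spec (CommRingCat.of K)))
  let x : T ⟶ X := Over.homMk (qz ≫ pullback.fst X.hom X.hom) (by simp [j, T])
  let y : T ⟶ X := Over.homMk (qz ≫ pullback.snd X.hom X.hom) (by
    simp only [j, T, Over.mk_hom, Category.assoc, pullback.condition])
  obtain ⟨U, hUsep, hUmax⟩ := hU (j.base pt)
  obtain ⟨g, hgW, hgx, hgy⟩ := exists_point_moving a hft hΦ W hW K j x y U hUmax
  -- the moved point lies in the closure of the diagonal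
  let gxy : T ⟶ X ⊗ X := lift (smulPt a g x) (smulPt a g y)
  let z' : P := gxy.left.base pt
  have hz' : z' ∈ closure (Set.range Δ.base) := by
    let WS : Over S := Over.mk (W.ι ≫ G.hom)
    let w : WS ⟶ G := Over.homMk W.ι
    let π : WS ⊗ (X ⊗ X) ⟶ X ⊗ X := snd _ _
    have hπ : IsOpenMap π.left.base := by
      haveI : UniversallyOpen π.left :=
        MorphismProperty.pullback_snd (P := @UniversallyOpen) (f := WS.hom) (g := (X ⊗ X).hom) hWo
      exact π.left.isOpenMap
    let Ψ : WS ⊗ (X ⊗ X) ⟶ X ⊗ X :=
      lift (smulPt a (fst _ _ ≫ w) (snd _ _ ≫ fst X X)) (smulPt a (fst _ _ ≫ w) (snd _ _ ≫ snd X X))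
    let Δ' : X ⟶ X ⊗ X := lift (𝟙 X) (𝟙 X)
    have hΔ' : Δ'.left = Δ := by
      apply pullback.hom_ext
      · rw [pullback.diagonal_fst]; exact congrArg (fun t : X ⟶ X => t.left) (lift_fst (𝟙 X) (𝟙 X))
      · rw [pullback.diagonal_snd]; exact congrArg (fun t : X ⟶ X => t.left) (lift_snd (𝟙 X) (𝟙 X))
    have hsub : π.left.base ⁻¹' Set.range Δ.base ⊆ Ψ.left.base ⁻¹' Set.range Δ.base := by
      let m : WS ⊗ X ⟶ WS ⊗ (X ⊗ X) := lift (fst _ _) (snd _ _ ≫ Δ')
      have hm : IsPullback m (snd WS X) π Δ' := by
        refine ⟨⟨by simp [m, π]⟩, ⟨PullbackCone.IsLimit.mk (by simp [m, π]) (fun c => lift (c.fst ≫ fst _ _) c.snd)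
          (fun c => ?_) (fun c => by simp) (fun c q h1 h2 => ?_)⟩⟩
        · apply CartesianMonoidalCategory.hom_ext
          · simp [m]
          · simpa [m] using c.condition.symm
        · apply CartesianMonoidalCategory.hom_ext
          · rw [← h1]; simp [m]
          · rw [← h2]; simp
      have hm' := hm.map (Over.forget _)
      intro p hp
      obtain ⟨x₁, hx₁⟩ := hp
      obtain ⟨q, hq1, hq2⟩ := Scheme.Pullback.exists_preimage_pullback (f := π.left) (g := Δ'.left) p x₁
        (by rw [hΔ']; exact hx₁.symm)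
      obtain ⟨q', hq'⟩ := hm'.isoPullback.hom.homeomorph.surjective q
      have hmq : m.left.base q' = p := by
        rw [← hq1, ← hq']
        change _ = (hm'.isoPullback.hom ≫ pullback.fst π.left Δ'.left).base q'
        erw [hm'.isoPullback_hom_fst]
        rfl
      refine ⟨(smulPt a (fst WS X ≫ w) (snd WS X)).left.base q', ?_⟩
      rw [← hmq, ← hΔ']
      change (smulPt a (fst WS X ≫ w) (snd WS X) ≫ Δ').left.base q' = (m ≫ Ψ).left.base q'
      refine congrArg (fun t : WS ⊗ X ⟶ X ⊗ X => t.left.base q') ?_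
      apply CartesianMonoidalCategory.hom_ext <;> simp [m, Ψ, Δ', comp_smulPt]
    obtain ⟨c, hc⟩ : ∃ c : ↥(W : Scheme.{u}), W.ι.base c = g.left.base pt :=
      ⟨⟨_, hgW⟩, rfl⟩
    let lg : Spec (CommRingCat.of K) ⟶ W :=
      IsOpenImmersion.lift W.ι g.left (by
        rintro _ ⟨t, rfl⟩
        rw [Subsingleton.elim t pt, ← hc]
        exact ⟨c, rfl⟩)
    have hlg : lg ≫ W.ι = g.left := IsOpenImmersion.lift_fac _ _ _
    let gW : T ⟶ WS := Over.homMk lg (by
      change lg ≫ W.ι ≫ G.hom = j
      rw [reassoc_of% hlg]; exact Over.w g)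
    have hgW' : gW ≫ w = g := Over.OverMorphism.ext hlg
    let xy : T ⟶ X ⊗ X := lift x y
    have hxy : xy.left = qz := by
      apply pullback.hom_ext
      · exact congrArg (fun t : T ⟶ X => t.left) (lift_fst x y)
      · exact congrArg (fun t : T ⟶ X => t.left) (lift_snd x y)
    let v : ↥(WS ⊗ (X ⊗ X)).left := (lift gW xy).left.base pt
    have hv1 : π.left.base v = z := by
      change ((lift gW xy ≫ π).left).base pt = z
      rw [lift_snd, hxy, hqz]
    have hv2 : Ψ.left.base v = z' := by
      change ((lift gW xy ≫ Ψ).left).base pt = gxy.left.base pt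
      refine congrArg (fun t : T ⟶ X ⊗ X => t.left.base pt) ?_
      apply CartesianMonoidalCategory.hom_ext <;> simp [Ψ, gxy, xy, comp_smulPt, hgW']
    have h1 : v ∈ closure (π.left.base ⁻¹' Set.range Δ.base) :=
      hπ.preimage_closure_subset_closure_preimage (show π.left.base v ∈ closure (Set.range Δ.base) from hv1 ▸ hz)
    rw [← hv2]
    exact closure_mono (Set.image_subset_iff.mpr hsub)
      (image_closure_subset_closure_image Ψ.left.continuous ⟨v, h1, rfl⟩)
  -- in the separated open the diagonal is closed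
  let V : P.Opens := (pullback.fst X.hom X.hom ⁻¹ᵁ U) ⊓ (pullback.snd X.hom X.hom ⁻¹ᵁ U)
  have hzV : z' ∈ V := by
    constructor
    · change (gxy ≫ fst X X).left.base pt ∈ U
      rw [lift_fst]; exact hgx
    · change (gxy ≫ snd X X).left.base pt ∈ U
      rw [lift_snd]; exact hgy
  have hrange : z' ∈ Set.range Δ.base := by
    let mU := pullback.map (U.ι ≫ X.hom) (U.ι ≫ X.hom) X.hom X.hom U.ι U.ι (𝟙 S) (by simp) (by simp)
    have hmU : Set.range mU.base = (V : Set P) := by
      rw [Scheme.Pullback.range_map]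
      simp [V]
    let ΔU := pullback.diagonal (U.ι ≫ X.hom)
    have hΔU : ΔU ≫ mU = U.ι ≫ Δ := by
      dsimp only [ΔU, mU, Δ]
      apply pullback.hom_ext <;> simp only [Category.assoc, pullback.map, pullback.lift_fst, pullback.lift_snd,
        pullback.diagonal_fst, pullback.diagonal_snd, pullback.diagonal_fst_assoc, pullback.diagonal_snd_assoc,
        Category.comp_id]
      all_goals first | exact (Category.assoc _ _ _).symm.trans ((congrArg (· ≫ U.ι) (pullback.diagonal_fst _)).trans (Category.id_comp _)) | exact (Category.assoc _ _ _).symm.trans ((congrArg (· ≫ U.ι) (pullback.diagonal_snd _)).trans (Category.id_comp _))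
    obtain ⟨v', hv'⟩ : z' ∈ Set.range mU.base := hmU.ge hzV
    haveI := hUsep.isClosedImmersion_diagonal
    have hcl : IsClosed (Set.range ΔU.base) := ΔU.isClosedEmbedding.isClosed_range
    have h1 : v' ∈ closure (Set.range ΔU.base) := by
      have h2 : mU.base ⁻¹' closure (Set.range Δ.base) ⊆ closure (mU.base ⁻¹' Set.range Δ.base) :=
        mU.isOpenEmbedding.isOpenMap.preimage_closure_subset_closure_preimage
      refine closure_mono ?_ (h2 (show mU.base v' ∈ _ from hv' ▸ hz'))
      rintro b ⟨x₁, hx₁⟩
      have hxU : x₁ ∈ U := by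
        have h3 := hmU.le ⟨b, rfl⟩
        rw [← hx₁] at h3
        have h4 : (Δ ≫ pullback.fst X.hom X.hom).base x₁ ∈ U := h3.1
        rwa [pullback.diagonal_fst] at h4
      refine ⟨⟨x₁, hxU⟩, mU.isOpenEmbedding.injective ?_⟩
      change (ΔU ≫ mU).base _ = mU.base b
      rw [hΔU]
      exact hx₁
    rw [hcl.closure_eq] at h1
    obtain ⟨x₂, hx₂⟩ := h1
    refine ⟨U.ι.base x₂, ?_⟩
    change (U.ι ≫ Δ).base x₂ = z'
    rw [← hΔU]
    change mU.base (ΔU.base x₂) = z'
    rw [hx₂, hv']
  -- so the two translated points agree, hence the original ones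
  haveI : IsClosedImmersion (pullback.snd Δ gxy.left) := by
    refine IsClosedImmersion.of_isPreimmersion _ ?_
    rw [Scheme.Pullback.range_snd]
    convert isClosed_univ
    rw [Set.eq_univ_iff_forall]
    intro t
    rw [Set.mem_preimage, Subsingleton.elim t pt]
    exact hrange
  haveI : Surjective (pullback.snd Δ gxy.left) := by
    refine ⟨fun t => ?_⟩
    have : t ∈ Set.range (pullback.snd Δ gxy.left).base := by
      rw [Scheme.Pullback.range_snd, Set.mem_preimage, Subsingleton.elim t pt]
      exact hrange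
    exact this
  haveI : IsIso (pullback.snd Δ gxy.left) := isIso_of_isClosedImmersion_of_surjective _
  let t₀ := inv (pullback.snd Δ gxy.left) ≫ pullback.fst Δ gxy.left
  have ht₀ : t₀ ≫ Δ = gxy.left := by simp [t₀, pullback.condition]
  have heq : smulPt a g x = smulPt a g y := by
    apply Over.OverMorphism.ext
    have e1 : (gxy ≫ fst X X).left = t₀ := by
      change gxy.left ≫ pullback.fst X.hom X.hom = _
      rw [← ht₀, Category.assoc, pullback.diagonal_fst, Category.comp_id]
    have e2 : (gxy ≫ snd X X).left = t₀ := by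
      change gxy.left ≫ pullback.snd X.hom X.hom = _
      rw [← ht₀, Category.assoc, pullback.diagonal_snd, Category.comp_id]
    rw [lift_fst] at e1
    rw [lift_snd] at e2
    exact e1.trans e2.symm
  have hxy' := congrArg (fun t : T ⟶ X => t.left) (smulPt_injective a g heq)
  refine ⟨(qz ≫ pullback.fst X.hom X.hom).base pt, ?_⟩
  conv_rhs => rw [← hqz]
  change ((qz ≫ pullback.fst X.hom X.hom) ≫ Δ).base pt = qz.base pt
  refine congrArg (fun t : Spec (CommRingCat.of K) ⟶ P => t.base pt) ?_
  apply pullback.hom_ext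
  · simp [Δ]
  · simp only [Δ, Category.assoc, pullback.diagonal_snd, Category.comp_id]
    exact hxy'

end Groth.Agent.SGA3cLib
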