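import Groth.Agent.SGA3cLib.ActionPoints
import Groth.Agent.VarietyLib.GeomComponents
import Groth.Agent.VarietyLib.GeomField

/-!
# A homogeneous space over a field has a unique irreducible component through each point
-/

set_option autoImplicit false
set_option backward.isDefEq.respectTransparency.types false

universe u

open CategoryTheory Limits AlgebraicGeometry MonoidalCategory CartesianMonoidalCategory MonObj GrpObj

namespace Groth.Agent.SGA3cLib

open Groth.Agent.VarietyLib (mem_genericPoints_iff exists_genericPoints_specializes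
  eq_of_specializes_genericPoints generalizing_genericPoints)

/-- Over an algebraically closed field, a maximal point has a single maximal point above it in any
field extension. -/
theorem eq_of_fst_eq_of_mem_genericPoints (k : Type u) [Field k] [IsAlgClosed k] {X : Scheme.{u}}
    (f : X ⟶ Spec (CommRingCat.of k)) (L : Type u) [Field L]
    (g : Spec (CommRingCat.of L) ⟶ Spec (CommRingCat.of k)) {y₁ y₂ : ↥(pullback f g)}
    (h₁ : y₁ ∈ genericPoints ↥(pullback f g)) (h₂ : y₂ ∈ genericPoints ↥(pullback f g))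
    (h : (pullback.fst f g).base y₁ = (pullback.fst f g).base y₂) : y₁ = y₂ := by
  let : Algebra k L := (Spec.preimage g).hom.toAlgebra
  haveI : GeometricallyIrreducible g := by
    have e : g = Spec.map (CommRingCat.ofHom (algebraMap k L)) := (Spec.map_preimage g).symm
    rw [e]
    exact VarietyLib.geometricallyIrreducible_algSpec k L
  set p := pullback.fst f g
  set ξ := p.base y₁
  have hirr : IsIrreducible (p.base ⁻¹' {ξ}) := by
    rw [← p.range_fiberι, ← Set.image_univ]
    exact (IrreducibleSpace.isIrreducible_univ _).image _ (p.fiberι ξ).continuous.continuousOn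
  obtain ⟨ω, hω⟩ := QuasiSober.sober hirr.closure isClosed_closure
  have hω' : ∀ y ∈ p.base ⁻¹' {ξ}, ω ⤳ y := fun y hy => hω.specializes (subset_closure hy)
  rw [← eq_of_specializes_genericPoints h₁ (hω' y₁ rfl), ← eq_of_specializes_genericPoints h₂ (hω' y₂ h.symm)]

theorem homeomorph_mem_genericPoints {α β : Type*} [TopologicalSpace α] [TopologicalSpace β] [T0Space α]
    [T0Space β] [QuasiSober β] [QuasiSober α] (e : α ≃ₜ β) {x : α} (hx : x ∈ genericPoints α) :
    e x ∈ genericPoints β := by
  rw [mem_genericPoints_iff]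
  intro y hy
  have h := eq_of_specializes_genericPoints hx
    (show e.symm y ⤳ x by simpa using hy.map e.symm.continuous)
  rw [← h, e.apply_symm_apply]

variable {k : Type u} [Field k] {G X : Over (Spec (CommRingCat.of k))} [GrpObj G]

/-- In a homogeneous space over a field (no finiteness, no separatedness), every point lies in exactly
one irreducible component. -/
theorem eq_of_specializes_of_homogeneous (a : AlgGrp.Action G X)
    (hΦ : Surjective (lift a.act (snd G X)).left) {z η₁ η₂ : X.left}
    (h₁ : η₁ ∈ genericPoints X.left) (h₂ : η₂ ∈ genericPoints X.left) (s₁ : η₁ ⤳ z) (s₂ : η₂ ⤳ z) :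
    η₁ = η₂ := by
  let kb := AlgebraicClosure k
  let s : Spec (CommRingCat.of kb) ⟶ Spec (CommRingCat.of k) :=
    Spec.map (CommRingCat.ofHom (algebraMap k kb))
  haveI : Surjective s := ⟨fun x => ⟨Classical.arbitrary _, Subsingleton.elim _ _⟩⟩
  let X₀ := pullback X.hom s
  haveI : Surjective (pullback.fst X.hom s) := inferInstance
  have hgen₀ : GeneralizingMap (pullback.fst X.hom s) := VarietyLib.generalizingMap_fst k X.hom kb
  obtain ⟨a₀, ha₀⟩ := (pullback.fst X.hom s).surjective η₁
  obtain ⟨ξ₀, hξ₀, hξ₀a⟩ := exists_genericPoints_specializes a₀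
  have hξ₀η : (pullback.fst X.hom s).base ξ₀ = η₁ :=
    eq_of_specializes_genericPoints h₁ (ha₀ ▸ hξ₀a.map (pullback.fst X.hom s).continuous)
  -- a common field extension
  let fz := X.left.fromSpecResidueField z ≫ X.hom
  let fξ := X₀.fromSpecResidueField ξ₀ ≫ pullback.snd X.hom s ≫ s
  haveI : Surjective fξ := ⟨fun x => ⟨Classical.arbitrary _, Subsingleton.elim _ _⟩⟩
  obtain ⟨c, -⟩ := (pullback.fst fz fξ).surjective (Classical.arbitrary _)
  let L := AlgebraicClosure ((pullback fz fξ).residueField c)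
  let qc : Spec (CommRingCat.of L) ⟶ pullback fz fξ :=
    Spec.map (CommRingCat.ofHom (algebraMap ((pullback fz fξ).residueField c) L)) ≫
      (pullback fz fξ).fromSpecResidueField c
  let m₀ : Spec (CommRingCat.of L) ⟶ X₀ := qc ≫ pullback.snd fz fξ ≫ X₀.fromSpecResidueField ξ₀
  let j₀ : Spec (CommRingCat.of L) ⟶ Spec (CommRingCat.of kb) := m₀ ≫ pullback.snd X.hom s
  let x₀ : Over.mk (j₀ ≫ s) ⟶ X := Over.homMk (qc ≫ pullback.fst fz fξ ≫ X.left.fromSpecResidueField z) (by
    have h := congrArg (qc ≫ ·) (pullback.condition (f := fz) (g := fξ))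
    simp only [fz, fξ, j₀, m₀, Category.assoc, Over.mk_hom] at h ⊢
    exact h)
  let y₀ : Over.mk (j₀ ≫ s) ⟶ X := Over.homMk (m₀ ≫ pullback.fst X.hom s) (by
    simp only [j₀, Over.mk_hom, Category.assoc, pullback.condition])
  obtain ⟨L', _, _, i, g, hg⟩ := exists_smulPt_eq a hΦ L (j₀ ≫ s) x₀ y₀
  let T := Over.mk (i ≫ j₀ ≫ s)
  let t : T ⟶ Over.mk (j₀ ≫ s) := Over.homMk i
  let sx : T ⟶ X ⊗ T := lift (t ≫ x₀) (𝟙 T)
  let sy : T ⟶ X ⊗ T := lift (t ≫ y₀) (𝟙 T)
  let pt : ↥(Spec (CommRingCat.of L')) := Classical.arbitrary _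
  let XT := pullback X.hom (i ≫ j₀ ≫ s)
  let p : XT ⟶ X.left := pullback.fst X.hom (i ≫ j₀ ≫ s)
  let zT : XT := sx.left.base pt
  let yT : XT := sy.left.base pt
  have hpz : p.base zT = z := by
    change ((sx ≫ fst X T).left).base pt = z
    rw [lift_fst]
    exact (X.left.range_fromSpecResidueField z).le ⟨_, rfl⟩
  have htr : translateHomeo a g zT = yT := by
    rw [translateHomeo_apply]
    change (sx ≫ translate a g).left.base pt = yT
    rw [lift_translate]
    exact congrArg (fun w : T ⟶ X => (lift w (𝟙 T)).left.base pt) hg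
  -- the comparison with the algebraically closed base
  let r : XT ⟶ X₀ := pullback.lift p (pullback.snd X.hom (i ≫ j₀ ≫ s) ≫ i ≫ j₀) (by
    simp only [p, pullback.condition, Category.assoc])
  have hrp : r ≫ pullback.fst X.hom s = p := pullback.lift_fst _ _ _
  have hr : IsPullback r (pullback.snd X.hom (i ≫ j₀ ≫ s)) (pullback.snd X.hom s) (i ≫ j₀) := by
    refine IsPullback.of_right ?_ (pullback.lift_snd _ _ _) (IsPullback.of_hasPullback X.hom s)
    rw [hrp]
    convert IsPullback.of_hasPullback X.hom (i ≫ j₀ ≫ s) using 1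
    exact Category.assoc _ _ _
  have hry : r.base yT = ξ₀ := by
    have e : (sy.left ≫ r : Spec (CommRingCat.of L') ⟶ X₀) = i ≫ m₀ := by
      apply pullback.hom_ext
      · rw [Category.assoc, hrp, Category.assoc]
        change (sy ≫ fst X T).left = _
        rw [lift_fst]
        rfl
      · have hs : sy.left ≫ pullback.snd X.hom (i ≫ j₀ ≫ s) = 𝟙 _ := by
          change (sy ≫ snd X T).left = _
          rw [lift_snd]
          rfl
        simp only [Category.assoc, r, pullback.lift_snd]
        rw [reassoc_of% hs]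
    have h2 : r.base yT = (i ≫ m₀).base pt := congrArg (fun q : Spec (CommRingCat.of L') ⟶ X₀ => q.base pt) e
    rw [h2]
    exact (X₀.range_fromSpecResidueField ξ₀).le ⟨_, rfl⟩
  have hgenp : GeneralizingMap p := by
    haveI : Flat p := MorphismProperty.pullback_fst (P := @Flat) _ _ inferInstance
    exact Flat.generalizingMap _
  have huy : ∀ ω₁ ω₂, ω₁ ∈ genericPoints XT → ω₂ ∈ genericPoints XT → ω₁ ⤳ yT → ω₂ ⤳ yT → ω₁ = ω₂ := by
    intro ω₁ ω₂ hω₁ hω₂ hs₁ hs₂
    let e := hr.isoPullback.hom.homeomorph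
    apply e.injective
    apply eq_of_fst_eq_of_mem_genericPoints kb _ L' (i ≫ j₀) (homeomorph_mem_genericPoints e hω₁)
      (homeomorph_mem_genericPoints e hω₂)
    have hfst : ∀ w : XT, (pullback.fst (pullback.snd X.hom s) (i ≫ j₀)).base (e w) = r.base w := fun w => by
      change (hr.isoPullback.hom ≫ pullback.fst _ _).base w = _
      rw [hr.isoPullback_hom_fst]
    have t₁ := hs₁.map r.continuous
    have t₂ := hs₂.map r.continuous
    rw [hry] at t₁ t₂
    rw [hfst, hfst, eq_of_specializes_genericPoints hξ₀ t₁, eq_of_specializes_genericPoints hξ₀ t₂]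
  have lift' : ∀ e ∈ genericPoints X.left, e ⤳ z → ∃ ω ∈ genericPoints XT, ω ⤳ zT ∧ p.base ω = e := by
    intro e he hs
    obtain ⟨e', he', hpe'⟩ := hgenp (show e ⤳ p.base zT from hpz ▸ hs)
    obtain ⟨ω, hω, hωe'⟩ := exists_genericPoints_specializes e'
    have t := hωe'.map p.continuous
    rw [hpe'] at t
    exact ⟨ω, hω, hωe'.trans he', eq_of_specializes_genericPoints he t⟩
  obtain ⟨ω₁, hω₁, hs₁, rfl⟩ := lift' η₁ h₁ s₁
  obtain ⟨ω₂, hω₂, hs₂, rfl⟩ := lift' η₂ h₂ s₂
  have := huy _ _ (homeomorph_mem_genericPoints (translateHomeo a g) hω₁)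
    (homeomorph_mem_genericPoints (translateHomeo a g) hω₂)
    (htr ▸ hs₁.map (translateHomeo a g).continuous) (htr ▸ hs₂.map (translateHomeo a g).continuous)
  rw [(translateHomeo a g).injective this]

/-- Every point lies in exactly one irreducible component. -/
theorem existsUnique_irreducibleComponent (a : AlgGrp.Action G X)
    (hΦ : Surjective (lift a.act (snd G X)).left) (z : X.left) :
    ∃! C, C ∈ irreducibleComponents ↥X.left ∧ z ∈ C := by
  refine ⟨irreducibleComponent z, ⟨irreducibleComponent_mem_irreducibleComponents z, mem_irreducibleComponent⟩, ?_⟩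
  rintro C ⟨hC, hzC⟩
  obtain ⟨η₁, hη₁, rfl⟩ := VarietyLib.exists_genericPoint_of_component hC
  obtain ⟨η₂, hη₂, h⟩ := VarietyLib.exists_genericPoint_of_component (irreducibleComponent_mem_irreducibleComponents z)
  rw [eq_of_specializes_of_homogeneous a hΦ hη₁ hη₂ (specializes_iff_mem_closure.2 hzC)
    (specializes_iff_mem_closure.2 (h ▸ mem_irreducibleComponent)), h]

/-- The left-regular action is transitive. -/
theorem surjective_regAction {S : Scheme.{u}} (H : Over S) [GrpObj H] :
    Surjective (lift (regAction H).act (snd H H)).left := by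
  let Φ := lift (regAction H).act (snd H H)
  let Ψ : H ⊗ H ⟶ H ⊗ H := lift (fst H H * (snd H H)⁻¹) (snd H H)
  have hμ : μ[H] = fst H H * snd H H := by rw [Hom.mul_def, lift_fst_snd, Category.id_comp]
  have h1 : Ψ ≫ Φ = 𝟙 _ := by
    apply CartesianMonoidalCategory.hom_ext <;> simp [Φ, Ψ, regAction, hμ, MonObj.comp_mul]
  have h2 : Φ ≫ Ψ = 𝟙 _ := by
    apply CartesianMonoidalCategory.hom_ext <;> simp [Φ, Ψ, regAction, hμ, MonObj.comp_mul, GrpObj.comp_inv]
  haveI : IsIso Φ := ⟨Ψ, h2, h1⟩
  haveI : IsIso Φ.left := inferInstanceAs (IsIso ((Over.forget _).map Φ))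
  exact inferInstanceAs (Surjective Φ.left)

end Groth.Agent.SGA3cLib
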