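import Groth.Agent.AlgGrpLib.ConnComp
import Groth.Agent.FlatMor12.SmoothSectionOpen
import Groth.Agent.H8Grp.NeutralPoints
import Groth.Agent.SGA3cLib.Transporter
import Groth.Agent.AlgSpLib.SmoothSource

/-!
# Neutral components of a group scheme which is smooth along the unit section

If `U` is an open neighbourhood of the unit section inside the union `G⁰` of the neutral components, then
`G⁰ = U · U`; this is open and, if `U` is smooth over the base, smooth.
-/

set_option autoImplicit false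
set_option linter.style.haveILetI false
set_option backward.isDefEq.respectTransparency.types false

universe u

open CategoryTheory Limits MonoidalCategory CartesianMonoidalCategory MonObj GrpObj AlgebraicGeometry
open TopologicalSpace

noncomputable section

namespace Groth.Agent.SGA3cLib.NeutralSmooth

open AlgGrpLib H8Grp

theorem isCompact_of_isConstructible {X : Scheme.{u}} [CompactSpace X] [QuasiSeparatedSpace X]
    {s : Set X} (hs : Topology.IsConstructible s) : IsCompact s := by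
  have : Nonempty {U : X.Opens // IsCompact (U : Set X)} := ⟨⟨⊥, by simp⟩⟩
  refine Topology.IsConstructible.induction_of_isTopologicalBasis
    (P := fun s _ => IsCompact s) (fun U : {U : X.Opens // IsCompact (U : Set X)} => (U.1 : Set X))
    (TopologicalSpace.isTopologicalBasis_of_isOpen_of_nhds ?_ ?_) (fun U => U.2) (fun i t ht => ?_)
    (fun _ _ _ _ h1 h2 => h1.union h2) s hs
  · rintro _ ⟨U, rfl⟩
    exact U.1.2
  · intro x v hx hv
    obtain ⟨_, ⟨W, hW, rfl⟩, hxW, hWv⟩ := X.isBasis_affineOpens.exists_subset_of_mem_open hx hv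
    exact ⟨_, ⟨⟨W, hW.isCompact⟩, rfl⟩, hxW, hWv⟩
  · exact IsCompact.diff i.2 (isOpen_biUnion fun j _ => j.1.2)

section Field

variable {k : Type u} [Field k] (G : Over (Spec (CommRingCat.of k))) [GrpObj G]

/-- Every point of the unit component of a group over a field is a product of two points of a given
neighbourhood of the unit. -/
theorem mem_mul_open (U : G.left.Opens) (he : ConnComp.e₀ G ∈ U) (y : G.left)
    (hy : y ∈ connectedComponent (ConnComp.e₀ G)) :
    ∃ q : ↥(G ⊗ G).left, (fst G G).left.base q ∈ U ∧ (snd G G).left.base q ∈ U ∧ μ[G].left.base q = y := by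
  rw [ConnComp.connectedComponent_eq] at hy
  obtain ⟨θ, hθ, hθmax⟩ := DimLib.exists_genericPoint_of_mem_components
    (irreducibleComponent_mem_irreducibleComponents (ConnComp.e₀ G))
  have hθU : θ ∈ U := (hθ.specializes mem_irreducibleComponent).mem_open U.isOpen he
  obtain ⟨ω, hωmax, hωy, hωσ, hω⟩ := ConnComp.exists_generic_lift G y
  let P := DenseMul.ptObj y
  let p := (fst G P).left
  let hh : ↥(G ⊗ P).left ≃ₜ ↥(G ⊗ P).left := ((Over.forget _).mapIso (DenseMul.sigma y)).hom.homeomorph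
  haveI : Flat p := MorphismProperty.pullback_fst (P := @Flat) (f := G.hom) (g := P.hom)
    (show Flat P.hom from inferInstance)
  have hωθ : p ω = θ := ConnComp.uniqueMax G y _ _ hωmax hθmax hωy (hθ.specializes hy)
  obtain ⟨ω₁, hω₁, hmax₁⟩ := DimLib.exists_maximal_specializes (X := (G ⊗ P).left) ω
  have hp₁ : p ω₁ = θ := by
    have h := (hω₁.map p.continuous)
    rw [hωθ] at h
    exact (hθmax _ h).symm
  have hσ₁ : p (hh ω₁) = θ := by
    have hm : ∀ z, z ⤳ hh ω₁ → hh ω₁ = z := fun z hz => by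
      have := hz.map hh.symm.continuous
      rw [hh.symm_apply_apply] at this
      rw [hmax₁ _ this, hh.apply_symm_apply]
    exact ConnComp.uniqueMax G (p (hh ω)) _ _ (DimLib.isMax_apply_of_flat p hm) hθmax
      ((hω₁.map hh.continuous).map p.continuous) (hθ.specializes hωσ)
  obtain ⟨q, ⟨a1, b1⟩, hq⟩ : ∃ q, q ∈ DenseMul.prodSet (U : Set G.left) (U : Set G.left) ∧
      μ[G].left.base q = y :=
    DenseMul.mem_mul_of_mem y ω₁ (hp₁.symm ▸ hθU) (show p (hh ω₁) ∈ _ from hσ₁.symm ▸ hθU)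
  exact ⟨q, a1, b1, hq⟩

end Field

variable {S : Scheme.{u}} {G : Over S} [GrpObj G]

/-- Products with inverses of neutral points are neutral. -/
theorem forall_mem_mul_inv {T : Over S} (a b : T ⟶ G) (ha : ∀ o, a.left.base o ∈ SGA3x.neutralSet G)
    (hb : ∀ o, b.left.base o ∈ SGA3x.neutralSet G) (o : T.left) :
    (a * b⁻¹).left.base o ∈ SGA3x.neutralSet G := by
  obtain ⟨t, ht⟩ := exists_ptv o
  have key : ∀ c : T ⟶ G, ptv (t ≫ c) = c.left.base o := fun c =>
    (show ptv (t ≫ c) = c.left.base (ptv t) from rfl).trans (congrArg _ ht)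
  rw [← key, MonObj.comp_mul, GrpObj.comp_inv]
  exact mul_mem_neutralSet (by rw [key]; exact ha o) (inv_mem_neutralSet (by rw [key]; exact hb o))

theorem forall_mem_one {T : Over S} (o : T.left) : (1 : T ⟶ G).left.base o ∈ SGA3x.neutralSet G := by
  obtain ⟨t, ht⟩ := exists_ptv o
  rw [← ht]
  show ptv (t ≫ (1 : T ⟶ G)) ∈ _
  rw [MonObj.comp_one]
  exact one_mem_neutralSet

/-- An open set equal to the neutral components carries an open subgroup structure. -/
theorem exists_openSubgroup (O : G.left.Opens) (hO : (O : Set G.left) = SGA3x.neutralSet G) :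
    ∃ _ : GrpObj (Over.mk (O.ι ≫ G.hom) : Over S),
      IsMonHom (Over.homMk O.ι rfl : (Over.mk (O.ι ≫ G.hom) : Over S) ⟶ G) := by
  let H : Over S := Over.mk (O.ι ≫ G.hom)
  let i : H ⟶ G := Over.homMk O.ι rfl
  haveI : IsOpenImmersion i.left := inferInstanceAs (IsOpenImmersion O.ι)
  haveI : Mono i := (Over.forget S).mono_of_mono_map (inferInstanceAs (Mono O.ι))
  have hr : Set.range i.left.base = (O : Set G.left) := O.range_ι
  have hlift : ∀ {T : Over S} (a : T ⟶ G), (∀ o, a.left.base o ∈ SGA3x.neutralSet G) → ∃ z : T ⟶ H, z ≫ i = a := by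
    intro T a ha
    have hsub : Set.range a.left.base ⊆ Set.range i.left.base := by
      rintro _ ⟨o, rfl⟩; rw [hr, hO]; exact ha o
    refine ⟨Over.homMk (IsOpenImmersion.lift i.left a.left hsub) ?_, ?_⟩
    · rw [← Over.w i, IsOpenImmersion.lift_fac_assoc]; exact Over.w a
    · ext : 1; exact IsOpenImmersion.lift_fac _ _ _
  have hmem : ∀ {T : Over S} (a : T ⟶ H) (o : T.left), (a ≫ i).left.base o ∈ SGA3x.neutralSet G :=
    fun a o => hO.le (hr.le ⟨a.left.base o, rfl⟩)
  exact exists_grpObj_of_subgroup i (fun T => hlift 1 forall_mem_one)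
    (fun T a b => hlift _ fun o => by
      have := forall_mem_mul_inv (a ≫ i) (b ≫ i)⁻¹ (hmem a)
        (fun o' => by simpa using forall_mem_mul_inv 1 (b ≫ i) forall_mem_one (hmem b) o') o
      rwa [_root_.inv_inv] at this)
    (fun T a => hlift _ fun o => by simpa using forall_mem_mul_inv 1 (a ≫ i) forall_mem_one (hmem a) o)

theorem pt_symm_left {S' : Scheme.{u}} (f : S' ⟶ S) {X' : Over S'} (a : X' ⟶ Red.bc f G) :
    ((BCPoints.pt f G X').symm a).left = a.left ≫ pullback.fst G.hom f := by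
  simp [BCPoints.pt, Over.mapPullbackAdj]

/-- A neutral point is a product of two points of a given neighbourhood of the unit in its fibre. -/
theorem exists_mul_eq (U : G.left.Opens) (x : G.left) (hx : x ∈ SGA3x.neutralSet G)
    (he : η[G].left.base (G.hom.base x) ∈ U) :
    ∃ z : ↥(G ⊗ G).left, (fst G G).left.base z ∈ U ∧ (snd G G).left.base z ∈ U ∧ μ[G].left.base z = x := by
  let s : S := G.hom.base x
  let g : Spec (CommRingCat.of (S.residueField s)) ⟶ S := S.fromSpecResidueField s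
  let Gs : Over (Spec (CommRingCat.of (S.residueField s))) := Red.bc g G
  let π : Gs.left ⟶ G.left := pullback.fst G.hom g
  have h0 : Set.range (G.hom.fiberι s).base = G.hom.base ⁻¹' ({s} : Set S) := G.hom.range_fiberι s
  have hxr : x ∈ Set.range π.base := h0.ge (show G.hom.base x ∈ ({s} : Set S) from rfl)
  obtain ⟨y, hy⟩ := hxr
  haveI : Subsingleton ↥(Spec (CommRingCat.of (S.residueField s))) :=
    inferInstanceAs (Subsingleton (PrimeSpectrum (S.residueField s)))
  have hyn : y ∈ SGA3x.neutralSet Gs := by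
    rw [S5322.result]
    show π.base y ∈ SGA3x.neutralSet G
    rw [hy]
    exact hx
  have hyc : y ∈ connectedComponent (ConnComp.e₀ Gs) := by
    obtain ⟨p, hp⟩ := Set.mem_iUnion.1 hyn
    have huniv : ∀ q, Gs.hom.base ⁻¹' {q} = Set.univ := fun q =>
      Set.eq_univ_of_forall fun z =>
        Subsingleton.elim (α := ↥(Spec (CommRingCat.of (S.residueField s)))) _ _
    rw [huniv, connectedComponentIn_univ] at hp
    rwa [Subsingleton.elim (α := ↥(Spec (CommRingCat.of (S.residueField s)))) p (IsLocalRing.closedPoint _)] at hp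
  have hg : g.base (IsLocalRing.closedPoint (S.residueField s)) = s := Scheme.fromSpecResidueField_apply _ _
  have hηs : η[Gs] = BCPoints.pt g G (𝟙_ _) 1 := by
    have : BCPoints.pt g G (𝟙_ (Over (Spec (CommRingCat.of (S.residueField s))))) 1 = 1 :=
      map_one (MonoidHom.mk' (BCPoints.pt g G (𝟙_ (Over (Spec (CommRingCat.of (S.residueField s))))))
        (BCPoints.pt_mul g))
    rw [this, Hom.one_def, toUnit_unique (toUnit (𝟙_ _)) (𝟙 _), Category.id_comp]
  have hπe : π.base (ConnComp.e₀ Gs) = η[G].left.base s := by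
    show π.base (η[Gs].left.base _) = _
    have h1 : η[Gs].left ≫ π = (1 : (Over.map g).obj (𝟙_ _) ⟶ G).left := by
      rw [hηs, ← pt_symm_left, Equiv.symm_apply_apply]
    rw [← Scheme.Hom.comp_apply, h1, Hom.one_def, Over.comp_left, Scheme.Hom.comp_apply]
    exact congrArg η[G].left.base hg
  obtain ⟨q, hqa, hqb, hqμ⟩ := mem_mul_open Gs (π ⁻¹ᵁ U) (show π.base _ ∈ U by rw [hπe]; exact he) y hyc
  let T : Over S := (Over.map g).obj (Gs ⊗ Gs)
  let a : T ⟶ G := (BCPoints.pt g G (Gs ⊗ Gs)).symm (fst Gs Gs)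
  let b : T ⟶ G := (BCPoints.pt g G (Gs ⊗ Gs)).symm (snd Gs Gs)
  refine ⟨(lift a b).left.base q, ?_, ?_, ?_⟩
  · show (lift a b ≫ fst G G).left.base q ∈ U
    rw [lift_fst, show a.left = _ from pt_symm_left g _]
    exact hqa
  · show (lift a b ≫ snd G G).left.base q ∈ U
    rw [lift_snd, show b.left = _ from pt_symm_left g _]
    exact hqb
  · show (lift a b ≫ μ[G]).left.base q = x
    have h2 : lift a b ≫ μ[G] = (BCPoints.pt g G (Gs ⊗ Gs)).symm μ[Gs] := by
      rw [← Hom.mul_def, Equiv.eq_symm_apply, BCPoints.pt_mul]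
      simp only [a, b, Equiv.apply_symm_apply]
      rw [Hom.mul_def, lift_fst_snd, Category.id_comp]
    rw [h2, pt_symm_left, Scheme.Hom.comp_apply, hqμ]
    exact hy

/-- Products of neutral points are neutral. -/
theorem mul_mem_neutral (z : ↥(G ⊗ G).left) (ha : (fst G G).left.base z ∈ SGA3x.neutralSet G)
    (hb : (snd G G).left.base z ∈ SGA3x.neutralSet G) : μ[G].left.base z ∈ SGA3x.neutralSet G := by
  let P : Over S := Over.mk ((G ⊗ G).left.fromSpecResidueField z ≫ (G ⊗ G).hom)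
  let p : P ⟶ G ⊗ G := Over.homMk ((G ⊗ G).left.fromSpecResidueField z)
  have hp : ∀ o : P.left, p.left.base o = z := fun o => Scheme.fromSpecResidueField_apply z o
  obtain ⟨o⟩ : Nonempty ↥(Spec ((G ⊗ G).left.residueField z)) :=
    inferInstanceAs (Nonempty (PrimeSpectrum ((G ⊗ G).left.residueField z)))
  have h1 : ∀ o', (p ≫ fst G G).left.base o' ∈ SGA3x.neutralSet G := fun o' => by
    rw [Over.comp_left, Scheme.Hom.comp_apply, hp]; exact ha
  have h2 : ∀ o', (p ≫ snd G G).left.base o' ∈ SGA3x.neutralSet G := fun o' => by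
    rw [Over.comp_left, Scheme.Hom.comp_apply, hp]; exact hb
  have h3 := forall_mem_mul_inv (p ≫ fst G G) (p ≫ snd G G)⁻¹ h1
    (fun o' => by simpa using forall_mem_mul_inv 1 (p ≫ snd G G) forall_mem_one h2 o') o
  rw [_root_.inv_inv, Hom.mul_def, ← comp_lift, lift_fst_snd, Category.comp_id, Over.comp_left,
    Scheme.Hom.comp_apply, hp] at h3
  exact h3

/-- The product of an open set with itself. -/
def mulSet (U : G.left.Opens) : Set G.left :=
  μ[G].left.base '' ((fst G G).left.base ⁻¹' (U : Set G.left) ∩ (snd G G).left.base ⁻¹' (U : Set G.left))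

theorem mulSet_eq (U : G.left.Opens) (D : Set S) (hU : (U : Set G.left) ⊆ SGA3x.neutralSet G)
    (hUD : (U : Set G.left) ⊆ G.hom.base ⁻¹' D) (he : ∀ s ∈ D, η[G].left.base s ∈ U) :
    mulSet U = SGA3x.neutralSet G ∩ G.hom.base ⁻¹' D := by
  refine Set.Subset.antisymm ?_ ?_
  · rintro _ ⟨z, ⟨ha, hb⟩, rfl⟩
    refine ⟨mul_mem_neutral z (hU ha) (hU hb), ?_⟩
    show G.hom.base _ ∈ D
    rw [← Scheme.Hom.comp_apply, Over.w μ[G], ← Over.w (fst G G), Scheme.Hom.comp_apply]
    exact hUD ha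
  · rintro x ⟨hx, hxD⟩
    obtain ⟨z, ha, hb, hz⟩ := exists_mul_eq U x hx (he _ hxD)
    exact ⟨z, ⟨ha, hb⟩, hz⟩

theorem isOpen_mulSet (U : G.left.Opens) [Smooth (U.ι ≫ G.hom)] :
    ∃ W : G.left.Opens, (W : Set G.left) = mulSet U ∧ Smooth (W.ι ≫ G.hom) := by
  let Uo : Over S := Over.mk (U.ι ≫ G.hom)
  let j : Uo ⟶ G := Over.homMk U.ι rfl
  haveI : Smooth Uo.hom := ‹_›
  let h : G ⊗ Uo ⟶ G := fst G Uo * (snd G Uo ≫ j)
  let sh : G ⊗ Uo ≅ G ⊗ Uo :=
    { hom := lift h (snd G Uo)
      inv := lift (fst G Uo * (snd G Uo ≫ j)⁻¹) (snd G Uo)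
      hom_inv_id := by
        apply CartesianMonoidalCategory.hom_ext
        · simp [h, MonObj.comp_mul, GrpObj.comp_inv]
        · simp
      inv_hom_id := by
        apply CartesianMonoidalCategory.hom_ext
        · simp [h, MonObj.comp_mul, GrpObj.comp_inv]
        · simp }
  haveI hfst : Smooth (fst G Uo).left :=
    MorphismProperty.pullback_fst (P := @Smooth) (f := G.hom) (g := Uo.hom) ‹_›
  haveI : Smooth h.left := by
    have e : h = sh.hom ≫ fst G Uo := (lift_fst _ _).symm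
    rw [e, Over.comp_left]
    haveI : IsIso sh.hom.left := ((Over.forget S).mapIso sh).isIso_hom
    infer_instance
  let V : (G ⊗ Uo).left.Opens := (fst G Uo).left ⁻¹ᵁ U
  let W : G.left.Opens := ⟨h.left.base '' (V : Set ↥(G ⊗ Uo).left), h.left.isOpenMap _ V.isOpen⟩
  let m : G ⊗ Uo ⟶ G ⊗ G := lift (fst G Uo) (snd G Uo ≫ j)
  have hrm : Set.range m.left.base = (snd G G).left.base ⁻¹' (U : Set G.left) := by
    have e : m.left = pullback.map G.hom Uo.hom G.hom G.hom (𝟙 _) j.left (𝟙 _) (by simp) (by simp [Uo, j]) := by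
      apply pullback.hom_ext
      · rw [pullback.lift_fst, Category.comp_id]
        exact congrArg Over.Hom.left (lift_fst (fst G Uo) (snd G Uo ≫ j))
      · rw [pullback.lift_snd]
        exact congrArg Over.Hom.left (lift_snd (fst G Uo) (snd G Uo ≫ j))
    rw [e, Scheme.Pullback.range_map]
    simp [j, Scheme.Opens.range_ι]
    rw [Scheme.Opens.range_ι]
  have hm : h = m ≫ μ[G] := Hom.mul_def _ _
  refine ⟨W, ?_, ?_⟩
  · refine Set.Subset.antisymm ?_ ?_
    · rintro _ ⟨t, ht, rfl⟩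
      refine ⟨m.left.base t, ⟨?_, hrm.le ⟨t, rfl⟩⟩, by rw [hm]; rfl⟩
      show (m ≫ fst G G).left.base t ∈ U
      rw [lift_fst]
      exact ht
    · rintro _ ⟨z, ⟨ha, hb⟩, rfl⟩
      obtain ⟨t, rfl⟩ := hrm.ge hb
      refine ⟨t, ?_, by rw [hm]; rfl⟩
      have := ha
      change (m ≫ fst G G).left.base t ∈ U at this
      rw [lift_fst] at this
      exact this
  · let g' : (V : Scheme.{u}) ⟶ (W : Scheme.{u}) := h.left.resLE W V fun t ht => ⟨t, ht, rfl⟩
    haveI : Smooth g' := IsZariskiLocalAtSource.resLE (P := @Smooth) _ ‹Smooth h.left›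
    haveI : Surjective g' := by
      refine ⟨?_⟩
      rintro ⟨_, t, ht, rfl⟩
      refine ⟨⟨t, ht⟩, Subtype.ext ?_⟩
      exact congrArg (fun φ : (V : Scheme.{u}) ⟶ G.left => φ.base ⟨t, ht⟩)
        (Scheme.Hom.resLE_comp_ι h.left (U := W) (V := V) (e := fun t ht => ⟨t, ht, rfl⟩))
    refine AlgSpLib.smooth_of_comp_fppf g' (W.ι ≫ G.hom) ?_
    rw [← Category.assoc, Scheme.Hom.resLE_comp_ι, Category.assoc, Over.w h, ← Over.w (fst G Uo)]
    let r : (V : Scheme.{u}) ⟶ (U : Scheme.{u}) := (fst G Uo).left.resLE U V le_rfl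
    haveI : Smooth r := IsZariskiLocalAtSource.resLE (P := @Smooth) _ hfst
    rw [← Category.assoc, ← Scheme.Hom.resLE_comp_ι (fst G Uo).left (U := U) (V := V) (e := le_rfl), Category.assoc]
    infer_instance

theorem isCompact_mulSet (O : G.left.Opens) (hO : IsCompact (O : Set G.left)) (D : S.Opens) (hD : IsAffineOpen D)
    (hOD : O ≤ G.hom ⁻¹ᵁ D) : IsCompact (mulSet O) := by
  let f' : (O : Scheme.{u}) ⟶ (D : Scheme.{u}) := G.hom.resLE D O hOD
  haveI : IsAffine (D : Scheme.{u}) := hD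
  haveI : CompactSpace ↥(O : Scheme.{u}) := isCompact_iff_compactSpace.mp hO
  haveI : QuasiCompact f' := AlgebraicGeometry.quasiCompact_of_compactSpace f'
  haveI : QuasiCompact (pullback.fst f' f') := MorphismProperty.pullback_fst (P := @QuasiCompact) _ _ ‹_›
  haveI : CompactSpace ↥(pullback f' f') := QuasiCompact.compactSpace_of_compactSpace (pullback.fst f' f')
  let m := pullback.map f' f' G.hom G.hom O.ι O.ι D.ι (Scheme.Hom.resLE_comp_ι _ _) (Scheme.Hom.resLE_comp_ι _ _)
  refine IsCompact.image ?_ μ[G].left.continuous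
  have : (fst G G).left.base ⁻¹' (O : Set G.left) ∩ (snd G G).left.base ⁻¹' (O : Set G.left) = Set.range m.base := by
    rw [Scheme.Pullback.range_map]
    simp only [Scheme.Opens.range_ι]
    rfl
  rw [this]
  exact isCompact_range m.continuous

/-- Near every point of the base, a compact open neighbourhood of the unit section inside the neutral
components. -/
theorem exists_nhd (U₀ : G.left.Opens) [Smooth (U₀.ι ≫ G.hom)] (hU₀ : ∀ s : S, η[G].left.base s ∈ U₀) (s : S) :
    ∃ (D : S.Opens) (O : G.left.Opens), IsAffineOpen D ∧ s ∈ D ∧ IsCompact (O : Set G.left) ∧ O ≤ G.hom ⁻¹ᵁ D ∧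
      O ≤ U₀ ∧ (O : Set G.left) ⊆ SGA3x.neutralSet G ∧ ∀ t ∈ D, η[G].left.base t ∈ O := by
  let f := G.hom
  let e : S ⟶ G.left := η[G].left
  have he : e ≫ f = 𝟙 S := Over.w η[G]
  have hfe : ∀ z, f (e z) = z := fun z => congrArg (fun φ : S ⟶ S => φ z) he
  obtain ⟨D₀, hD₀, hsD₀, -⟩ := exists_isAffineOpen_mem_and_subset (x := s) (U := ⊤) trivial
  obtain ⟨A, hA, heA, hAle⟩ := exists_isAffineOpen_mem_and_subset (x := e s) (U := U₀ ⊓ f ⁻¹ᵁ D₀)
    ⟨hU₀ s, show f (e s) ∈ D₀ from (hfe s).symm ▸ hsD₀⟩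
  obtain ⟨a, haA, hsa⟩ := hD₀.exists_basicOpen_le (V := e ⁻¹ᵁ A) ⟨s, heA⟩ hsD₀
  let D : S.Opens := S.basicOpen a
  let A' : G.left.Opens := A ⊓ f ⁻¹ᵁ D
  have hA' : IsAffineOpen A' := by
    have hle : A ≤ f ⁻¹ᵁ D₀ := fun z hz => (hAle hz).2
    have e' : G.left.basicOpen (f.appLE D₀ A hle a) = A ⊓ f ⁻¹ᵁ D := by
      rw [Scheme.Hom.appLE, CommRingCat.comp_apply, Scheme.basicOpen_res, ← Scheme.preimage_basicOpen]
    show IsAffineOpen (A ⊓ f ⁻¹ᵁ D)
    rw [← e']
    exact hA.basicOpen _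
  have hA'U : A' ≤ U₀ := fun z hz => (hAle hz.1).1
  haveI : IsAffine (D : Scheme.{u}) := hD₀.basicOpen a
  haveI : IsAffine (A' : Scheme.{u}) := hA'
  let f' : (A' : Scheme.{u}) ⟶ (D : Scheme.{u}) := f.resLE D A' inf_le_right
  let e' : (D : Scheme.{u}) ⟶ (A' : Scheme.{u}) := e.resLE A' D
    (fun z hz => ⟨haA hz, show f (e z) ∈ D from (hfe z).symm ▸ hz⟩)
  have hef : e' ≫ f' = 𝟙 _ := by
    rw [← cancel_mono D.ι, Category.assoc, Scheme.Hom.resLE_comp_ι, Scheme.Hom.resLE_comp_ι_assoc, he,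
      Category.comp_id, Category.id_comp]
  haveI : Smooth f' := by
    haveI : Smooth (A'.ι ≫ f) := by
      rw [← Scheme.homOfLE_ι G.left hA'U, Category.assoc]
      infer_instance
    have h : f' ≫ D.ι = A'.ι ≫ f := Scheme.Hom.resLE_comp_ι _ _
    exact MorphismProperty.of_postcomp (W := @Smooth) (W' := @IsOpenImmersion) f' D.ι inferInstance
      (by rw [h]; infer_instance)
  have hopen := FlatMor12.SmoothSectionOpen.isOpen_of_qc f' e' hef
  have hcpt : IsCompact (MoreMor.sectionComponents f' e') :=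
    isCompact_of_isConstructible
      (FlatMorSection.isLocallyConstructible_sectionComponents f' e' hef).isConstructible
  let O : G.left.Opens := A'.ι ''ᵁ ⟨_, hopen⟩
  have hfA : ∀ z : (A' : Scheme.{u}), (f' z).1 = f z.1 := fun z =>
    congrArg (fun φ : (A' : Scheme.{u}) ⟶ S => φ z) (Scheme.Hom.resLE_comp_ι f (e := inf_le_right))
  have heA' : ∀ z : (D : Scheme.{u}), (e' z).1 = e z.1 := fun z =>
    congrArg (fun φ : (D : Scheme.{u}) ⟶ G.left => φ z) (Scheme.Hom.resLE_comp_ι e (U := A')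
      (e := fun w hw => ⟨haA hw, show f (e w) ∈ D from (hfe w).symm ▸ hw⟩))
  refine ⟨D, O, hD₀.basicOpen a, hsa, hcpt.image A'.ι.continuous, ?_, ?_, ?_, fun t ht => ?_⟩
  · rintro _ ⟨z, -, rfl⟩
    exact z.2.2
  · rintro _ ⟨z, -, rfl⟩
    exact hA'U z.2
  · rintro _ ⟨z, hz, rfl⟩
    refine Set.mem_iUnion.2 ⟨f z.1, ?_⟩
    refine (isPreconnected_connectedComponentIn.image _ continuous_subtype_val.continuousOn).subset_connectedComponentIn
      ⟨e' (f' z), mem_connectedComponentIn (congrArg (fun φ : (D : Scheme.{u}) ⟶ (D : Scheme.{u}) => φ (f' z)) hef),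
        (heA' _).trans (congrArg e (hfA z))⟩ ?_ ⟨z, hz, rfl⟩
    rintro _ ⟨q, hq, rfl⟩
    exact (hfA q).symm.trans ((congrArg Subtype.val
      (connectedComponentIn_subset (f' ⁻¹' {f' z}) (e' (f' z)) hq)).trans (hfA z))
  · refine ⟨e' ⟨t, ht⟩, ?_, heA' _⟩
    show e' ⟨t, ht⟩ ∈ connectedComponentIn _ _
    have h1 : f' (e' ⟨t, ht⟩) = ⟨t, ht⟩ := congrArg (fun φ : (D : Scheme.{u}) ⟶ (D : Scheme.{u}) => φ ⟨t, ht⟩) hef
    rw [h1]
    exact mem_connectedComponentIn h1

/-- The neutral components of a group scheme smooth along the unit section form an open subscheme which is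
smooth and quasi-compact over the base. -/
theorem exists_neutralOpen (U₀ : G.left.Opens) [Smooth (U₀.ι ≫ G.hom)] (hU₀ : ∀ s : S, η[G].left.base s ∈ U₀) :
    ∃ W : G.left.Opens, (W : Set G.left) = SGA3x.neutralSet G ∧ Smooth (W.ι ≫ G.hom) ∧ QuasiCompact (W.ι ≫ G.hom) := by
  choose D O hD hsD hOc hOD hOU hON hηO using exists_nhd U₀ hU₀
  let U : G.left.Opens := ⨆ s, O s
  haveI : Smooth (U.ι ≫ G.hom) := by
    rw [← Scheme.homOfLE_ι G.left (iSup_le hOU : U ≤ U₀), Category.assoc]
    infer_instance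
  have hUN : (U : Set G.left) ⊆ SGA3x.neutralSet G := fun x hx => by
    obtain ⟨s, hs⟩ := Opens.mem_iSup.1 hx
    exact hON s hs
  obtain ⟨W, hW, hWs⟩ := isOpen_mulSet U
  have hWN : (W : Set G.left) = SGA3x.neutralSet G := by
    rw [hW, mulSet_eq U Set.univ hUN (fun _ _ => trivial) (fun s _ => Opens.mem_iSup.2 ⟨s, hηO s s (hsD s)⟩)]
    simp
  refine ⟨W, hWN, hWs, ?_⟩
  refine IsZariskiLocalAtTarget.of_iSup_eq_top (P := @QuasiCompact) (fun s => D s)
    (eq_top_iff.2 fun s _ => Opens.mem_iSup.2 ⟨s, hsD s⟩) fun s => ?_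
  haveI : IsAffine (D s : Scheme.{u}) := hD s
  haveI : CompactSpace ↥((W.ι ≫ G.hom) ⁻¹ᵁ D s).toScheme := isCompact_iff_compactSpace.mp (by
    rw [W.ι.isOpenEmbedding.isEmbedding.isCompact_iff]
    have e : W.ι.base '' ((W.ι ≫ G.hom) ⁻¹ᵁ D s : Set ↥W.toScheme) =
        SGA3x.neutralSet G ∩ G.hom.base ⁻¹' (D s : Set S) := by
      rw [← hWN, ← Set.image_preimage_eq_range_inter.trans (congrArg (· ∩ _) W.range_ι)]
      rfl
    rw [e, ← mulSet_eq (O s) (D s : Set S) (hON s) (hOD s) (hηO s)]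
    exact isCompact_mulSet (O s) (hOc s) (D s) (hD s) (hOD s))
  exact AlgebraicGeometry.quasiCompact_of_compactSpace _

end Groth.Agent.SGA3cLib.NeutralSmooth
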