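import Groth.Agent.SGA3cLib.CommutatorSpread
import Groth.Agent.S0414

/-! Derived series of a smooth group scheme spreads out over an open of an integral base. -/

set_option autoImplicit false
set_option linter.style.haveILetI false
set_option backward.isDefEq.respectTransparency.types false

universe u

open CategoryTheory CategoryTheory.Limits MonoidalCategory CartesianMonoidalCategory MonObj GrpObj AlgebraicGeometry
open Groth.Agent.SGA3Word26 Groth.Agent.SGA3Word26.Comm

noncomputable section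

namespace Groth.Agent.SGA3cLib.DerivedSpread

/-- A smooth normal closed subgroup. -/
structure Sub {T : Scheme.{u}} (G : Over T) [GrpObj G] where
  obj : Over T
  [grp : GrpObj obj]
  hom : obj ⟶ G
  isMonHom : IsMonHom hom
  closed : IsClosedImmersion hom.left
  lfp : LocallyOfFinitePresentation obj.hom
  qc : QuasiCompact obj.hom
  qs : QuasiSeparated obj.hom
  smooth : Smooth obj.hom
  normal : AlgGrp.IsNormalHom hom

attribute [instance] Sub.grp

/-- `K'` is the commutator subgroup of `K` with itself on every fibre. -/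
def IsStep {T : Scheme.{u}} {G : Over T} [GrpObj G] (K K' : Sub G) : Prop :=
  (∃ z : K.obj ⊗ K.obj ⟶ K'.obj, z ≫ K'.hom = cMap K.hom K.hom) ∧
    ∃ N : ℕ, Set.range K'.hom.left.base ⊆ wordsUpTo (cMap K.hom K.hom) N

theorem isNormalHom_bc {T T' : Scheme.{u}} (w : T' ⟶ T) {G H : Over T} [GrpObj G] [GrpObj H] (v : H ⟶ G)
    (h : AlgGrp.IsNormalHom v) : AlgGrp.IsNormalHom ((Over.pullback w).map v : Red.bc w H ⟶ Red.bc w G) := by
  refine (GrpLim26.normal_bc_iff w v).2 ?_
  obtain ⟨z, hz⟩ := (GrpLim26.normal_iff v).1 h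
  exact ⟨(Over.pullback w).map z, by rw [← hz]; exact ((Over.pullback w).map_comp z v).symm⟩

/-- Base change. -/
def Sub.bc {T T' : Scheme.{u}} (w : T' ⟶ T) {G : Over T} [GrpObj G] (K : Sub G) : Sub (Red.bc w G) where
  obj := Red.bc w K.obj
  hom := (Over.pullback w).map K.hom
  isMonHom := by haveI := K.isMonHom; infer_instance
  closed := MorphismProperty.of_isPullback (P := @IsClosedImmersion) (SGA3UnitSec.isPullback_map_left w K.hom) K.closed
  lfp := MorphismProperty.pullback_snd (P := @LocallyOfFinitePresentation) _ _ K.lfp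
  qc := MorphismProperty.pullback_snd (P := @QuasiCompact) _ _ K.qc
  qs := MorphismProperty.pullback_snd (P := @QuasiSeparated) _ _ K.qs
  smooth := MorphismProperty.pullback_snd (P := @Smooth) _ _ K.smooth
  normal := isNormalHom_bc w K.hom K.normal

theorem isStep_bc {T T' : Scheme.{u}} (w : T' ⟶ T) {G : Over T} [GrpObj G] {K K' : Sub G} (h : IsStep K K') :
    IsStep (K.bc w) (K'.bc w) := by
  obtain ⟨⟨z, hz⟩, N, hN⟩ := h
  refine ⟨⟨Functor.LaxMonoidal.μ (Over.pullback w) K.obj K.obj ≫ (Over.pullback w).map z, ?_⟩, N, ?_⟩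
  · show (_ ≫ (Over.pullback w).map z) ≫ (Over.pullback w).map K'.hom = _
    rw [Category.assoc, ← (Over.pullback w).map_comp, hz]
    exact WordsBC.μ_map_cMap w _ _
  · rintro _ ⟨x, rfl⟩
    show ((Over.pullback w).map K'.hom).left.base x ∈ wordsUpTo
      (cMap (G := Red.bc w G) ((Over.pullback w).map K.hom) ((Over.pullback w).map K.hom)) N
    rw [WordsBC.wordsUpTo_cMap_bc]
    show pullback.fst G.hom w (((Over.pullback w).map K'.hom).left.base x) ∈ wordsUpTo (cMap K.hom K.hom) N
    have e := congrArg (fun q => q.base x) (GrpLim26.map_left_fst w K'.hom)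
    simp only [Scheme.Hom.comp_apply] at e
    rw [e]
    exact hN ⟨_, rfl⟩

/-- Transport along an isomorphism. -/
def Sub.trans {T : Scheme.{u}} {G G' : Over T} [GrpObj G] [GrpObj G'] (K : Sub G) (e : G ≅ G') [IsMonHom e.hom] :
    Sub G' where
  obj := K.obj
  hom := K.hom ≫ e.hom
  isMonHom := by haveI := K.isMonHom; infer_instance
  closed := by
    haveI := K.closed
    haveI : IsIso e.hom.left := inferInstanceAs (IsIso ((Over.forget _).map e.hom))
    exact inferInstanceAs (IsClosedImmersion (K.hom.left ≫ e.hom.left))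
  lfp := K.lfp
  qc := K.qc
  qs := K.qs
  smooth := K.smooth
  normal := by
    intro T' g n
    obtain ⟨n', hn'⟩ := K.normal T' (g ≫ e.inv) n
    refine ⟨n', ?_⟩
    rw [← cancel_mono e.inv]
    simp only [MonObj.mul_comp, GrpObj.inv_comp, Category.assoc, Iso.hom_inv_id, Category.comp_id]
    exact hn'

theorem isStep_trans {T : Scheme.{u}} {G G' : Over T} [GrpObj G] [GrpObj G'] {K K' : Sub G} (e : G ≅ G')
    [IsMonHom e.hom] (h : IsStep K K') : IsStep (K.trans e) (K'.trans e) := by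
  obtain ⟨⟨z, hz⟩, N, hN⟩ := h
  have hc : cMap (K.hom ≫ e.hom) (K.hom ≫ e.hom) = cMap K.hom K.hom ≫ e.hom := by
    simp [cMap, MonObj.mul_comp, GrpObj.inv_comp]
  refine ⟨⟨z, ?_⟩, N, ?_⟩
  · show z ≫ K'.hom ≫ e.hom = cMap (K.hom ≫ e.hom) (K.hom ≫ e.hom)
    rw [hc, ← Category.assoc, hz]
  · rintro _ ⟨x, rfl⟩
    show (K'.hom ≫ e.hom).left.base x ∈ wordsUpTo (cMap (K.hom ≫ e.hom) (K.hom ≫ e.hom)) N
    rw [hc]
    obtain ⟨l, hl, y, hy⟩ := Set.mem_iUnion₂.1 (hN ⟨x, rfl⟩)
    refine Set.mem_biUnion hl ⟨y, ?_⟩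
    rw [← WordsBC.wMap_comp_hom]
    show e.hom.left.base ((wMap (cMap K.hom K.hom) l).left.base y) = _
    rw [hy]
    rfl

theorem exists_top {S : Scheme.{u}} [IsIntegral S] (G : Over S) [GrpObj G]
    [LocallyOfFinitePresentation G.hom] [QuasiCompact G.hom] [QuasiSeparated G.hom]
    (hsm : ∀ s : S, Smooth (G.hom.fiberToSpecResidueField s)) :
    ∃ U : S.Opens, (U : Set S).Nonempty ∧ ∃ K : Sub (Red.bc U.ι G), IsIso K.hom := by
  obtain ⟨V, hV, hflat, -⟩ := Groth.Agent.S0414.result G.hom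
  let GV := Red.bc V.ι G
  haveI : LocallyOfFinitePresentation GV.hom := inferInstanceAs (LocallyOfFinitePresentation (pullback.snd G.hom V.ι))
  haveI : Flat GV.hom := by
    show Flat (pullback.snd G.hom V.ι)
    rw [← pullbackRestrictIsoRestrict_hom_morphismRestrict]
    haveI := hflat
    infer_instance
  haveI : Smooth GV.hom := by
    refine Smooth.of_smooth_fiberToSpecResidueField _ fun x => ?_
    let t := (V : Scheme.{u}).fromSpecResidueField x
    have ht : Spec.map (V.ι.residueFieldMap x) ≫ S.fromSpecResidueField (V.ι x) = t ≫ V.ι :=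
      Scheme.Hom.SpecMap_residueFieldMap_fromSpecResidueField V.ι x
    have h1 := CommSpread.prop_bc_of_comp (P := @Smooth) (Spec.map (V.ι.residueFieldMap x)) ht G (hsm _)
    show Smooth (Red.bc t GV).hom
    rw [← Over.w (GrpLim26.cmp (rfl : t ≫ V.ι = t ≫ V.ι) G).hom]
    haveI : IsIso (GrpLim26.cmp (rfl : t ≫ V.ι = t ≫ V.ι) G).hom.left :=
      inferInstanceAs (IsIso ((Over.forget _).map (GrpLim26.cmp (rfl : t ≫ V.ι = t ≫ V.ι) G).hom))
    exact (MorphismProperty.cancel_left_of_respectsIso @Smooth _ _).2 h1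
  refine ⟨V, hV.nonempty, ⟨GV, 𝟙 GV, inferInstance, inferInstanceAs (IsClosedImmersion (𝟙 GV.left)),
    inferInstance, inferInstanceAs (QuasiCompact (pullback.snd G.hom V.ι)),
    inferInstanceAs (QuasiSeparated (pullback.snd G.hom V.ι)), inferInstance, ?_⟩, ?_⟩
  · intro T g n
    exact ⟨g * n * g⁻¹, by simp⟩
  · show IsIso (𝟙 GV)
    infer_instance

/-- A chain of successive commutator subgroups. -/
def HasChain {T : Scheme.{u}} (G : Over T) [GrpObj G] (n : ℕ) : Prop :=
  ∃ K : Fin (n + 1) → Sub G, IsIso (K 0).hom ∧ ∀ p : Fin n, IsStep (K p.castSucc) (K p.succ)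

theorem main {S : Scheme.{u}} [IsIntegral S] (G : Over S) [GrpObj G]
    [LocallyOfFinitePresentation G.hom] [QuasiCompact G.hom] [QuasiSeparated G.hom]
    (hsm : ∀ s : S, Smooth (G.hom.fiberToSpecResidueField s)) (n : ℕ) :
    ∃ U : S.Opens, (U : Set S).Nonempty ∧ HasChain (Red.bc U.ι G) n := by
  induction n with
  | zero =>
    obtain ⟨U, hU, K, hK⟩ := exists_top G hsm
    exact ⟨U, hU, fun _ => K, hK, fun p => p.elim0⟩
  | succ n ih =>
    obtain ⟨U, hU, K, hK0, hK⟩ := ih
    haveI : Nonempty (U : Scheme.{u}) := ⟨⟨_, hU.some_mem⟩⟩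
    haveI : IsIntegral (U : Scheme.{u}) := inferInstance
    let GU := Red.bc U.ι G
    haveI : LocallyOfFinitePresentation GU.hom := inferInstanceAs (LocallyOfFinitePresentation (pullback.snd G.hom U.ι))
    haveI : QuasiCompact GU.hom := inferInstanceAs (QuasiCompact (pullback.snd G.hom U.ι))
    haveI : QuasiSeparated GU.hom := inferInstanceAs (QuasiSeparated (pullback.snd G.hom U.ι))
    let L := K (Fin.last n)
    haveI := L.isMonHom; haveI := L.closed; haveI := L.lfp; haveI := L.qc; haveI := L.qs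
    have hsmL : Smooth (Red.bc ((U : Scheme.{u}).fromSpecResidueField (genericPoint (U : Scheme.{u}))) L.obj).hom :=
      MorphismProperty.pullback_snd (P := @Smooth) _ _ L.smooth
    obtain ⟨V, hV, D, gD, d, N, hd, hdc, hfp, hqc, hqs, hdsm, -, hdn, hz, hW⟩ :=
      CommSpread.main (U : Scheme.{u}) GU L.obj L.obj L.hom L.hom hsmL hsmL (Or.inr ⟨L.normal, L.normal⟩)
    let K' : Sub (Red.bc V.ι GU) := ⟨D, d, hd, hdc, hfp, hqc, hqs, hdsm, hdn ⟨L.normal, L.normal⟩⟩
    let W : S.Opens := U.ι ''ᵁ V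
    let e : (V : Scheme.{u}) ≅ (W : Scheme.{u}) := U.ι.isoImage V
    have he : e.inv ≫ V.ι ≫ U.ι = W.ι := by
      rw [Iso.inv_comp_eq, Scheme.Hom.isoImage_hom_ι]
    let κ : Red.bc e.inv (Red.bc V.ι GU) ≅ Red.bc W.ι G :=
      GrpLim26.cmp (rfl : e.inv ≫ V.ι = e.inv ≫ V.ι) GU ≪≫
        GrpLim26.cmp (by rw [Category.assoc]; exact he : (e.inv ≫ V.ι) ≫ U.ι = W.ι) G
    haveI : IsMonHom κ.hom := by
      simp only [κ, Iso.trans_hom]
      infer_instance
    let M : Fin (n + 2) → Sub (Red.bc V.ι GU) := fun p => Fin.lastCases (motive := fun _ => Sub (Red.bc V.ι GU)) K' (fun p => (K p).bc V.ι) p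
    refine ⟨W, ?_, fun p => ((M p).bc e.inv).trans κ, ?_, fun p => isStep_trans κ (isStep_bc e.inv ?_)⟩
    · obtain ⟨v, hv⟩ := hV
      exact ⟨U.ι v, ⟨v, hv, rfl⟩⟩
    · haveI := hK0
      show IsIso ((Over.pullback e.inv).map (M 0).hom ≫ κ.hom)
      have h0 : M 0 = (K 0).bc V.ι := by
        show Fin.lastCases (motive := fun _ => Sub (Red.bc V.ι GU)) K' (fun p => (K p).bc V.ι) (Fin.castSucc 0) = _
        rw [Fin.lastCases_castSucc]
      rw [h0]
      show IsIso ((Over.pullback e.inv).map ((Over.pullback V.ι).map (K 0).hom) ≫ κ.hom)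
      infer_instance
    · refine Fin.lastCases ?_ (fun q => ?_) p
      · simp only [M, Fin.succ_last, Fin.lastCases_last, Fin.lastCases_castSucc]
        exact ⟨hz, N, hW⟩
      · simp only [M, ← Fin.castSucc_succ, Fin.lastCases_castSucc]
        exact isStep_bc V.ι (hK q)

/-- After base change to a field a step is the smallest closed subgroup containing the commutators. -/
theorem isStep_fibre {T : Scheme.{u}} {L : Type u} [Field L] (v : Spec (CommRingCat.of L) ⟶ T) {G : Over T} [GrpObj G]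
    {K K' : Sub G} (h : IsStep K K') (Γ' : Over (Spec (CommRingCat.of L))) [GrpObj Γ'] (i' : Γ' ⟶ Red.bc v G)
    [IsMonHom i'] [IsClosedImmersion i'.left]
    (hc : ∃ c' : Red.bc v K.obj ⊗ Red.bc v K.obj ⟶ Γ', c' ≫ i' =
      cMap (G := Red.bc v G) ((Over.pullback v).map K.hom) ((Over.pullback v).map K.hom)) :
    ∃ j : Red.bc v K'.obj ⟶ Γ', j ≫ i' = (Over.pullback v).map K'.hom := by
  obtain ⟨c', hc'⟩ := hc
  obtain ⟨-, N, hN⟩ := isStep_bc v h
  haveI : Smooth (Red.bc v K'.obj).hom := (K'.bc v).smooth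
  haveI : IsReduced (Red.bc v K'.obj).left := AbSchLib.isReduced_of_smooth (Red.bc v K'.obj).hom
  obtain ⟨j, hj⟩ := RedSepLib.exists_lift_of_range_subset ((Over.pullback v).map K'.hom).left i'.left
    (hN.trans (WordsBC.wordsUpTo_le_of_factor _ c' i' hc' N))
  exact ⟨Over.homMk j (by rw [← Over.w i', ← Category.assoc, hj]; exact Over.w _), Over.OverMorphism.ext hj⟩

end Groth.Agent.SGA3cLib.DerivedSpread
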