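import Groth.Agent.SGA3cLib.NeutralSmooth
import Groth.Agent.EGA43.SectionComp.UnivOpenFP
import Groth.Agent.AlgGrpLib.Equidim
import Groth.Agent.MorProj.SmoothLocus
import Groth.Agent.AbSchLib.SmoothReduced

/-!
# Neutral components as section components; dimensions of the fibres of a group scheme
-/

set_option autoImplicit false
set_option linter.style.haveILetI false
set_option backward.isDefEq.respectTransparency.types false

universe u

open CategoryTheory Limits MonoidalCategory CartesianMonoidalCategory MonObj GrpObj AlgebraicGeometry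
open TopologicalSpace

noncomputable section

namespace Groth.Agent.SGA3cLib.NeutralDim

open AlgGrpLib EGA43.SectionComp

variable {S : Scheme.{u}} (G : Over S) [GrpObj G]

/-- The unit section of a group scheme. -/
abbrev unit : S ⟶ G.left := η[G].left

theorem unit_w : unit G ≫ G.hom = 𝟙 S := Over.w η[G]

theorem hom_unit (s : S) : G.hom.base ((unit G).base s) = s :=
  congrArg (fun φ : S ⟶ S => φ.base s) (unit_w G)

theorem neutralSet_inter_fibre (s : S) :
    SGA3x.neutralSet G ∩ G.hom.base ⁻¹' {s} = comp G.hom (unit G) s := by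
  refine Set.Subset.antisymm ?_ fun x hx => ⟨Set.mem_iUnion.2 ⟨s, hx⟩, connectedComponentIn_subset _ _ hx⟩
  rintro x ⟨hx, hxs⟩
  obtain ⟨p, hp⟩ := Set.mem_iUnion.1 hx
  have h1 : G.hom.base x = p := connectedComponentIn_subset (G.hom.base ⁻¹' {(𝟙_ (Over S)).hom.base p}) _ hp
  obtain rfl : p = s := h1.symm.trans hxs
  exact hp

theorem sectionComponents_eq : MoreMor.sectionComponents G.hom (unit G) = SGA3x.neutralSet G := by
  ext x
  constructor
  · intro hx
    exact ((neutralSet_inter_fibre G (G.hom.base x)).ge hx).1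
  · intro hx
    exact (neutralSet_inter_fibre G (G.hom.base x)).le ⟨hx, rfl⟩

/-- The fibre group. -/
abbrev fib (z : S) : Over (Spec (CommRingCat.of (S.residueField z))) := Red.bc (S.fromSpecResidueField z) G

theorem preimage_comp (z : S) :
    (G.hom.fiberι z).base ⁻¹' comp G.hom (unit G) z = irreducibleComponent (ConnComp.e₀ (fib G z)) := by
  haveI : Subsingleton ↥(Spec (CommRingCat.of (S.residueField z))) :=
    inferInstanceAs (Subsingleton (PrimeSpectrum (S.residueField z)))
  have h1 : SGA3x.neutralSet (fib G z) = connectedComponent (ConnComp.e₀ (fib G z)) := by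
    have huniv : ∀ q, (fib G z).hom.base ⁻¹' {q} = Set.univ := fun q =>
      Set.eq_univ_of_forall fun w =>
        Subsingleton.elim (α := ↥(Spec (CommRingCat.of (S.residueField z)))) _ _
    show (⋃ p, connectedComponentIn _ _) = _
    simp only [huniv, connectedComponentIn_univ]
    refine Set.Subset.antisymm (Set.iUnion_subset fun p => ?_) fun x hx => ?_
    · rw [Subsingleton.elim (α := ↥(Spec (CommRingCat.of (S.residueField z)))) p (IsLocalRing.closedPoint _)]
    · exact Set.mem_iUnion.2 ⟨IsLocalRing.closedPoint _, hx⟩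
  have h2 : (G.hom.fiberι z).base ⁻¹' comp G.hom (unit G) z = SGA3x.neutralSet (fib G z) := by
    rw [S5322.result, ← neutralSet_inter_fibre]
    ext w
    exact ⟨fun hw => hw.1, fun hw => ⟨hw, (G.hom.range_fiberι z).le ⟨w, rfl⟩⟩⟩
  rw [h2, h1, ConnComp.connectedComponent_eq]

/-- Neutral components are geometrically irreducible. -/
theorem isGeomIrrComp (z : S) : IsGeomIrrComp G.hom (unit G) z := by
  intro K _ _
  let g : Spec (CommRingCat.of K) ⟶ Spec (CommRingCat.of (S.residueField z)) :=
    Spec.map (CommRingCat.ofHom (algebraMap (IsLocalRing.ResidueField (S.presheaf.stalk z)) K))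
  let P : Over (Spec (CommRingCat.of (S.residueField z))) := Over.mk g
  have h := ConnComp.isIrreducible_fst_preimage (fib G z) P K rfl
  rw [← preimage_comp] at h
  exact h

theorem isIrreducible_comp (z : S) : IsIrreducible (comp G.hom (unit G) z) :=
  isIrreducible_comp_of_geom G.hom (unit G) z (isGeomIrrComp G z _)

set_option maxHeartbeats 1000000 in
/-- The dimension of a fibre is the dimension of its neutral component. -/
theorem dim_fibre_eq [LocallyOfFiniteType G.hom] (z : S) :
    topologicalKrullDim ↥(G.hom.base ⁻¹' {z}) = topologicalKrullDim ↥(comp G.hom (unit G) z) := by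
  obtain ⟨ζ, hζ, hgen, hmax⟩ := exists_generic_comp G.hom (unit G) (unit_w G) z (isIrreducible_comp G z)
  haveI : LocallyOfFiniteType (fib G z).hom := MorphismProperty.pullback_snd G.hom _ inferInstance
  obtain ⟨w, rfl⟩ := (G.hom.range_fiberι z).ge (comp_subset G.hom (unit G) z hζ)
  have hw : ∀ v : (fib G z).left, v ⤳ w → w = v := fun v hv => by
    have := hmax _ (hv.map (G.hom.fiberι z).continuous) ((G.hom.range_fiberι z).le ⟨v, rfl⟩)
    exact ((G.hom.fiberι z).isEmbedding.injective this).symm
  rw [topologicalKrullDim_comp_eq G.hom (unit G) (unit_w G) z hζ hgen,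
    ← (G.hom.fiberHomeo z).isHomeomorph.topologicalKrullDim_eq]
  refine (AlgGrpLib.ptDim_eq_topologicalKrullDim_of_maximal (fib G z) hw).symm.trans ?_
  exact_mod_cast EGA43.FibDepth.ptDim_fiber G.hom z w

theorem upperSemicontinuous_dim [LocallyOfFiniteType G.hom] :
    UpperSemicontinuous (fun s : S => topologicalKrullDim ↥(G.hom.base ⁻¹' {s})) := by
  simp only [dim_fibre_eq G]
  exact upperSemicontinuous_dim_comp G.hom (unit G) (unit_w G) (isIrreducible_comp G)

omit [GrpObj G] in
theorem geomReduced_of_smooth_fibre (z : S) (hsm : Smooth (G.hom.fiberToSpecResidueField z))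
    (w : ↥(G.hom.fiber z)) :
    FBase.IsGeomReducedAt (G.hom.fiberToSpecResidueField z) w := by
  intro K _ _ x' _
  haveI : Smooth (FBase.bcStr (G.hom.fiberToSpecResidueField z) K) :=
    MorphismProperty.pullback_snd (P := @Smooth) _ _ hsm
  haveI : IsReduced (Spec (CommRingCat.of K)) := inferInstance
  haveI := AbSchLib.isReduced_of_smooth (FBase.bcStr (G.hom.fiberToSpecResidueField z) K)
  infer_instance

/-- Over a reduced base, smooth fibres of constant dimension give smoothness along the unit section. -/
theorem exists_smooth_nhd_unit [IsReduced S] [LocallyOfFinitePresentation G.hom]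
    (hfib : ∀ s : S, Smooth (G.hom.fiberToSpecResidueField s))
    (hdim : IsLocallyConstant (fun s : S => topologicalKrullDim ↥(G.hom.base ⁻¹' {s}))) :
    ∃ U : G.left.Opens, Smooth (U.ι ≫ G.hom) ∧ ∀ s : S, (unit G).base s ∈ U := by
  refine ⟨G.hom.smoothLocus, ?_, fun s => ?_⟩
  · rw [← Scheme.Hom.smoothLocus_eq_top_iff, ← Scheme.Hom.preimage_smoothLocus_eq]
    exact Scheme.Opens.ι_preimage_self _
  have hs : G.hom.base ((unit G).base s) = s := hom_unit G s
  haveI : ∀ y, LocallyOfFinitePresentation (G.hom.fiberToSpecResidueField y) := fun y =>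
    MorphismProperty.pullback_snd G.hom _ inferInstance
  rw [MorProj.mem_smoothLocus_iff_flat_and_fiber]
  haveI : Smooth (G.hom.fiberToSpecResidueField (G.hom.base ((unit G).base s))) := hfib _
  refine ⟨?_, ?_⟩
  · refine flat_stalkMap_of_dim_const G.hom (unit G) (unit_w G) (isGeomIrrComp G) _ ?_ ?_
      (geomReduced_of_smooth_fibre G _ (hfib _) _)
    · rw [sectionComponents_eq]
      exact ((neutralSet_inter_fibre G s).ge (mem_comp_self G.hom (unit G) (unit_w G) s)).1
    · refine ⟨_, hdim.isOpen_fiber (topologicalKrullDim ↥(G.hom.base ⁻¹' {G.hom.base ((unit G).base s)})) |>.mem_nhds rfl,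
        fun z hz => ?_⟩
      rw [← dim_fibre_eq, ← dim_fibre_eq]
      exact hz
  · rw [Scheme.Hom.smoothLocus_eq_top]
    trivial

end Groth.Agent.SGA3cLib.NeutralDim
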