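import Groth.Agent.SGA3cLib.CentralEqBasic
import Groth.Agent.S5356

/-! Groups of multiplicative type are essentially free over the base. -/

set_option linter.style.haveILetI false
set_option autoImplicit false
set_option backward.isDefEq.respectTransparency.types false

universe u

open CategoryTheory CategoryTheory.Limits MonoidalCategory CartesianMonoidalCategory MonObj AlgebraicGeometry

noncomputable section

namespace Groth.Agent.SGA3cLib.MultEssFree

/-- The target of a ring map is projective over the source. -/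
def IsProj {A B : Type u} [CommRing A] [CommRing B] (φ : A →+* B) : Prop :=
  letI := φ.toAlgebra; Module.Projective A B

theorem isProj_of_bijective {A B : Type u} [CommRing A] [CommRing B] (φ : A →+* B) (h : Function.Bijective φ) :
    IsProj φ := by
  unfold IsProj
  letI := φ.toAlgebra
  exact Module.Projective.of_equiv (AlgEquiv.ofBijective (Algebra.ofId A B) h).toLinearEquiv

theorem isProj_comp {A B C : Type u} [CommRing A] [CommRing B] [CommRing C] (φ : A →+* B) (ψ : B →+* C)
    (hφ : IsProj φ) (hψ : IsProj ψ) : IsProj (ψ.comp φ) := by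
  unfold IsProj at *
  letI := φ.toAlgebra
  letI := ψ.toAlgebra
  letI := (ψ.comp φ).toAlgebra
  haveI : IsScalarTower A B C := .of_algebraMap_eq fun _ => rfl
  obtain ⟨s, hs⟩ := hψ.out
  haveI : Module.Projective A (Π₀ _ : C, B) := inferInstance
  classical
  haveI : Module.Projective A (C →₀ B) := Module.Projective.of_equiv (finsuppLequivDFinsupp A).symm
  exact Module.Projective.of_split (s.restrictScalars A) ((Finsupp.linearCombination B (id : C → C)).restrictScalars A)
    (LinearMap.ext fun c => hs c)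

theorem isProj_eval {J : Type u} [DecidableEq J] (R : J → CommRingCat.{u}) (i : J) :
    IsProj (Pi.evalRingHom (fun j => R j) i) := by
  unfold IsProj
  letI := (Pi.evalRingHom (fun j => R j) i).toAlgebra
  let sec : R i →ₗ[Π j, R j] (Π j, R j) :=
    { toFun := fun a => Pi.single (M := fun j => R j) i a
      map_add' := fun a b => Pi.single_add (f := fun j => R j) i a b
      map_smul' := fun r a => funext fun j => by
        by_cases h : j = i
        · subst h; rw [RingHom.id_apply, Pi.smul_apply', Pi.single_eq_same, Pi.single_eq_same]; rfl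
        · rw [RingHom.id_apply, Pi.smul_apply', Pi.single_eq_of_ne h, Pi.single_eq_of_ne h, smul_zero] }
  exact Module.Projective.of_split sec (Algebra.linearMap (Π j, R j) (R i))
    (LinearMap.ext fun a => Pi.single_eq_same (M := fun j => R j) i a)

/-- The projection of a morphism between affine schemes which is a projection to an affine scheme. -/
theorem isProj_of_iso {X Y : Scheme.{u}} (e : X ≅ Y) : IsProj e.hom.appTop.hom :=
  isProj_of_bijective _ ((ConcreteCategory.isIso_iff_bijective e.hom.appTop).mp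
    (inferInstanceAs (IsIso (Scheme.Γ.map e.hom.op))))

theorem isAffine_DS {R : CommRingCat.{u}} (M : Type) [AddCommGroup M] : IsAffine (Red.DS (Spec R) M).left :=
  inferInstanceAs (IsAffine (pullback (Spec.map _) _))

theorem isProj_DS {R : CommRingCat.{u}} (M : Type) [AddCommGroup M] :
    IsProj (Red.DS (Spec R) M).hom.appTop.hom := by
  let D := Red.diag (ULift.{u} ℤ) M
  let t := IsTerminal.from specULiftZIsTerminal (Spec R)
  haveI : IsAffine D.left := inferInstanceAs (IsAffine (Spec _))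
  haveI : IsAffine (pullback D.hom t) := isAffine_DS M
  refine S5356.projective_appTop (IsPullback.of_hasPullback D.hom t) ?_
  let C : ULift.{u} ℤ →+* MonoidAlgebra (ULift.{u} ℤ) (Multiplicative M) :=
    algebraMap (ULift.{u} ℤ) (MonoidAlgebra (ULift.{u} ℤ) (Multiplicative M))
  have hC : IsProj C := by
    unfold IsProj
    have : C.toAlgebra = (inferInstance : Algebra (ULift.{u} ℤ) (MonoidAlgebra (ULift.{u} ℤ) (Multiplicative M))) :=
      Algebra.algebra_ext _ _ fun _ => rfl
    rw [this]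
    exact Module.Projective.of_free
  have h1 : D.hom = Spec.map (CommRingCat.ofHom C) := rfl
  let i₁ := Scheme.ΓSpecIso (CommRingCat.of (ULift.{u} ℤ))
  let i₂ := Scheme.ΓSpecIso (CommRingCat.of (MonoidAlgebra (ULift.{u} ℤ) (Multiplicative M)))
  have h2 : D.hom.appTop.hom = (i₂.inv.hom.comp C).comp i₁.hom.hom := by
    rw [h1]
    refine RingHom.ext fun x => i₂.commRingCatIsoToRingEquiv.injective ?_
    exact (congrArg (fun g => g.hom x) (Scheme.ΓSpecIso_naturality (CommRingCat.ofHom C))).trans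
      (Iso.inv_hom_id_apply i₂ _).symm
  show IsProj D.hom.appTop.hom
  rw [h2]
  exact isProj_comp _ _ (isProj_of_bijective _ i₁.commRingCatIsoToRingEquiv.bijective)
    (isProj_comp _ _ hC (isProj_of_bijective _ i₂.symm.commRingCatIsoToRingEquiv.bijective))

theorem essentiallyFree {S : Scheme.{u}} (H : Over S) [GrpObj H]
    (hH : TwC.Locally S TwC.Topology.fpqc (fun T g => ∃ (M : Type) (_ : AddCommGroup M),
      Nonempty (Grp.mk (Red.bc g H) ≅ Grp.mk (Red.DS T M)))) : SGA3x.IsEssentiallyFree H.hom := by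
  classical
  obtain ⟨S', f, hfl, hsu, hq, hsplit⟩ := hH
  haveI := hfl
  choose Us hmem M _ e using hsplit
  intro s
  obtain ⟨U, hU, hsU, -⟩ := exists_isAffineOpen_mem_and_subset (U := ⊤) (x := s) trivial
  obtain ⟨W, hW, hWU⟩ := hq U hU
  have hB : ∀ w : S', ∃ B : S'.Opens, IsAffineOpen B ∧ (w ∈ W → w ∈ B ∧ B ≤ W) ∧ B ≤ Us w := fun w => by
    by_cases hw : w ∈ W
    · obtain ⟨B, hB, hwB, hle⟩ := exists_isAffineOpen_mem_and_subset (U := W ⊓ Us w) (x := w) ⟨hw, hmem w⟩
      exact ⟨B, hB, fun _ => ⟨hwB, fun y hy => (hle hy).1⟩, fun y hy => (hle hy).2⟩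
    · exact ⟨⊥, isAffineOpen_bot S', fun h => (hw h).elim, bot_le⟩
  choose B hBaff hBW hBU using hB
  obtain ⟨t, ht⟩ := hW.elim_finite_subcover (fun w : ↥(W : Set S') => (B w.1 : Set S')) (fun w => (B w.1).isOpen)
    fun w hw => Set.mem_iUnion.2 ⟨⟨w, hw⟩, (hBW w hw).1⟩
  let pt : ULift.{u} (Fin t.card) → S' := fun i => (t.equivFin.symm i.down).1.1
  let R : ULift.{u} (Fin t.card) → CommRingCat.{u} := fun i => Γ(S', B (pt i))
  let T : Scheme.{u} := Spec (CommRingCat.of (Π i, R i))
  let j : ∀ i, Spec (R i) ⟶ T := fun i => Spec.map (CommRingCat.ofHom (Pi.evalRingHom (fun i => R i) i))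
  have hj : ∀ i, Sigma.ι (fun i => Spec (R i)) i ≫ sigmaSpec R = j i := fun i => ι_sigmaSpec R i
  haveI : ∀ i, IsOpenImmersion (j i) := fun i => by rw [← hj]; infer_instance
  have hto : ∀ i, Set.range ((hBaff (pt i)).fromSpec ≫ f).base ⊆ Set.range U.ι.base := by
    rintro i _ ⟨y, rfl⟩
    rw [Scheme.Opens.range_ι, ← hWU]
    refine ⟨(hBaff (pt i)).fromSpec.base y, (hBW _ (t.equivFin.symm i.down).1.2).2 ?_, rfl⟩
    rw [← SetLike.mem_coe, ← (hBaff (pt i)).range_fromSpec]
    exact ⟨y, rfl⟩
  let gc : ∀ i, Spec (R i) ⟶ (U : Scheme.{u}) := fun i =>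
    IsOpenImmersion.lift U.ι ((hBaff (pt i)).fromSpec ≫ f) (hto i)
  let g : T ⟶ (U : Scheme.{u}) := inv (sigmaSpec R) ≫ Sigma.desc gc
  have hjg : ∀ i, j i ≫ g = gc i := fun i => by
    rw [← hj, Category.assoc]; simp [g]
  have hgU : ∀ i, j i ≫ g ≫ U.ι = (hBaff (pt i)).fromSpec ≫ f := fun i => by
    rw [reassoc_of% (hjg i), IsOpenImmersion.lift_fac]
  have hjsurj : ∀ y : T, ∃ i, y ∈ Set.range (j i).base := fun y => by
    obtain ⟨z, rfl⟩ := (sigmaSpec R).surjective y
    obtain ⟨⟨i, z₀⟩, rfl⟩ := (sigmaMk (fun i => Spec (R i))).surjective z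
    refine ⟨i, z₀, ?_⟩
    rw [sigmaMk_mk, ← hj]; rfl
  haveI : IsAffine T := inferInstanceAs (IsAffine (Spec _))
  have hgfl : Flat g := by
    have hd : Flat (Sigma.desc gc) := by
      rw [IsZariskiLocalAtSource.iff_of_openCover (P := @Flat) (sigmaOpenCover _)]
      intro i
      change Flat (Sigma.ι (fun i => Spec (R i)) i ≫ Sigma.desc gc)
      rw [Sigma.ι_desc]
      have : Flat (gc i ≫ U.ι) := by rw [IsOpenImmersion.lift_fac]; infer_instance
      exact MorphismProperty.of_postcomp (W := @Flat) (W' := @IsOpenImmersion) _ U.ι inferInstance this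
    haveI := hd
    exact inferInstanceAs (Flat (inv (sigmaSpec R) ≫ Sigma.desc gc))
  have hgs : Surjective g := ⟨fun y => by
    obtain ⟨w, hw, hwy⟩ := hWU.ge y.2
    obtain ⟨a, ha⟩ := Set.mem_iUnion.1 (ht hw)
    obtain ⟨hat, hwa⟩ := Set.mem_iUnion.1 ha
    let i : ULift.{u} (Fin t.card) := ⟨t.equivFin ⟨a, hat⟩⟩
    have hi : pt i = a.1 := by simp [pt, i]
    obtain ⟨z, hz⟩ : w ∈ Set.range (hBaff (pt i)).fromSpec.base := by
      rw [(hBaff (pt i)).range_fromSpec, hi]; exact hwa
    refine ⟨(j i).base z, U.ι.isOpenEmbedding.injective ?_⟩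
    show (j i ≫ g ≫ U.ι).base z = U.ι.base y
    rw [hgU, Scheme.Hom.comp_apply, hz]
    exact hwy⟩
  refine ⟨U, hsU, hU, T, inferInstance, g, hgfl, hgs, fun x => ?_⟩
  let p := pullback.snd H.hom (g ≫ U.ι)
  obtain ⟨i, hi⟩ := hjsurj (p.base x)
  let gi : Spec (R i) ⟶ S := j i ≫ g ≫ U.ι
  let m : pullback H.hom gi ⟶ pullback H.hom (g ≫ U.ι) :=
    pullback.map _ _ _ _ (𝟙 _) (j i) (𝟙 _) (by simp) (by simp [gi])
  have hm : IsPullback m (pullback.snd H.hom gi) p (j i) := by
    refine IsPullback.of_right ?_ (pullback.lift_snd _ _ _) (IsPullback.of_hasPullback H.hom (g ≫ U.ι))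
    rw [pullback.lift_fst, Category.comp_id]
    exact IsPullback.of_hasPullback H.hom gi
  haveI : IsOpenImmersion m :=
    MorphismProperty.of_isPullback (P := @IsOpenImmersion) hm.flip inferInstance
  have hxm : x ∈ m.opensRange := by
    show x ∈ Set.range m.base
    have : x ∈ Set.range (pullback.fst p (j i)).base := by
      rw [Scheme.Pullback.range_fst]; exact hi
    obtain ⟨w, rfl⟩ := this
    exact ⟨hm.isoPullback.inv.base w, by rw [← Scheme.Hom.comp_apply, IsPullback.isoPullback_inv_fst]⟩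
  let c : Spec (R i) ⟶ (Us (pt i) : Scheme.{u}) :=
    IsOpenImmersion.lift (Us (pt i)).ι (hBaff (pt i)).fromSpec (by
      rw [Scheme.Opens.range_ι, (hBaff (pt i)).range_fromSpec]; exact hBU (pt i))
  obtain ⟨a, -, -⟩ := GrpBC.nonempty_iso_restrict ((Us (pt i)).ι ≫ f) c gi (by
    rw [IsOpenImmersion.lift_fac_assoc]; exact (hgU i).symm) H (e (pt i)).some
  haveI : IsAffine (Red.DS (Spec (R i)) (M (pt i))).left := isAffine_DS (M (pt i))
  let ea : pullback H.hom gi ≅ (Red.DS (Spec (R i)) (M (pt i))).left := (Over.forget _).mapIso a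
  haveI : IsAffine (pullback H.hom gi) := .of_isIso ea.hom
  refine ⟨m.opensRange, hxm, isAffineOpen_opensRange m, ?_⟩
  let em := m.isoOpensRange
  have hfac : m.opensRange.ι ≫ p = em.inv ≫ ea.hom ≫ (Red.DS (Spec (R i)) (M (pt i))).hom ≫ j i := by
    have hw : ea.hom ≫ (Red.DS (Spec (R i)) (M (pt i))).hom = pullback.snd H.hom gi := Over.w a.hom
    rw [reassoc_of% hw, ← hm.w, ← Category.assoc, Scheme.Hom.isoOpensRange_inv_comp]
  show IsProj (m.opensRange.ι ≫ p).appTop.hom
  have hjp : IsProj (j i).appTop.hom := by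
    let C := CommRingCat.ofHom (Pi.evalRingHom (fun i => R i) i)
    let i₁ := Scheme.ΓSpecIso (CommRingCat.of (Π i, R i))
    let i₂ := Scheme.ΓSpecIso (R i)
    have h2 : (j i).appTop.hom = (i₂.inv.hom.comp C.hom).comp i₁.hom.hom := by
      refine RingHom.ext fun z => i₂.commRingCatIsoToRingEquiv.injective ?_
      exact (congrArg (fun φ => φ.hom z) (Scheme.ΓSpecIso_naturality C)).trans (Iso.inv_hom_id_apply i₂ _).symm
    rw [h2]
    exact isProj_comp _ _ (isProj_of_bijective _ i₁.commRingCatIsoToRingEquiv.bijective)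
      (isProj_comp _ _ (isProj_eval R i) (isProj_of_bijective _ i₂.symm.commRingCatIsoToRingEquiv.bijective))
  rw [hfac, Scheme.Hom.comp_appTop, Scheme.Hom.comp_appTop, Scheme.Hom.comp_appTop, CommRingCat.hom_comp,
    CommRingCat.hom_comp, CommRingCat.hom_comp]
  exact isProj_comp _ _ (isProj_comp _ _ (isProj_comp _ _ hjp (isProj_DS _)) (isProj_of_iso ea))
    (isProj_of_iso em.symm)

end Groth.Agent.SGA3cLib.MultEssFree
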