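import Groth.Agent.S5427

/-! Homomorphisms between diagonalisable groups are, locally on the base, given by maps of character groups. -/

set_option linter.style.haveILetI false
set_option autoImplicit false

universe u

open CategoryTheory CategoryTheory.Limits MonoidalCategory CartesianMonoidalCategory MonObj AlgebraicGeometry

noncomputable section

namespace Groth.Agent.SGA3cLib.DSHom

variable {M N : Type} [AddCommGroup M] [AddCommGroup N]

section Algebra

variable {R : Type u} [CommRing R] {P : Type} [CommGroup P]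

/-- A family of group-like elements indexed by a finitely generated group is given, near any prime, by a homomorphism of groups. -/
theorem exists_away [DecidableEq P] {Q : Type} [CommGroup Q] [Group.FG Q] (f : Q →* MonoidAlgebra R P)
    (hcoef : ∀ n a b, (f n).coeff a * (f n).coeff b = if a = b then (f n).coeff a else 0)
    (hone : ∀ n, (f n).coeff.sum (fun _ r => r) = 1) (x : PrimeSpectrum R) :
    ∃ (c : R) (φ : Q →* P), c ∉ x.asIdeal ∧
      ∀ (A : Type u) [CommRing A] (t : R →+* A), IsUnit (t c) →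
        ∀ n, MonoidAlgebra.mapRingHom P t (f n) = MonoidAlgebra.single (φ n) 1 := by
  classical
  obtain ⟨G, hG⟩ := Group.fg_iff.mp ‹Group.FG Q›
  let k := R ⧸ x.asIdeal
  let q : R →+* k := Ideal.Quotient.mk _
  have hq : ∀ n, ∃! m, (f n).coeff m ∉ x.asIdeal := by
    intro n
    obtain ⟨m, hm⟩ : ∃ m, (f n).coeff m ∉ x.asIdeal := by
      by_contra! hall
      exact x.2.ne_top ((Ideal.eq_top_iff_one _).mpr (hone n ▸ Ideal.sum_mem _ fun m _ => hall m))
    refine ⟨m, hm, fun m' hm' => ?_⟩
    by_contra hne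
    have h := hcoef n m' m
    rw [if_neg hne] at h
    exact (x.2.mul_notMem hm' hm) (h ▸ x.asIdeal.zero_mem)
  choose φ hφ hφu using hq
  have hsingle : ∀ n, MonoidAlgebra.mapRingHom P q (f n) = MonoidAlgebra.single (φ n) 1 := fun n => by
    refine MonoidAlgebra.ext (Finsupp.ext fun m => ?_)
    simp only [MonoidAlgebra.coeff_single, Finsupp.single_apply]
    have hc : (MonoidAlgebra.mapRingHom P q (f n)).coeff m = q ((f n).coeff m) := by simp
    rw [hc]
    split_ifs with h
    · subst h
      have h2 := hcoef n (φ n) (φ n)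
      rw [if_pos rfl] at h2
      have : q ((f n).coeff (φ n)) * (q ((f n).coeff (φ n)) - 1) = 0 := by
        rw [mul_sub, _root_.mul_one, ← map_mul, h2, sub_self]
      rcases mul_eq_zero.mp this with h0 | h1
      · exact absurd (Ideal.Quotient.eq_zero_iff_mem.mp h0) (hφ n)
      · exact sub_eq_zero.mp h1
    · exact Ideal.Quotient.eq_zero_iff_mem.mpr (by_contra fun hm => h (hφu n m hm).symm)
  haveI : Nontrivial k := Ideal.Quotient.nontrivial_iff.mpr x.2.ne_top
  have hφmul : ∀ a b, φ (a * b) = φ a * φ b := fun a b => by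
    have h := hsingle (a * b)
    rw [map_mul, map_mul, hsingle, hsingle, MonoidAlgebra.single_mul_single, _root_.one_mul] at h
    exact (MonoidAlgebra.single_left_inj one_ne_zero).mp h.symm
  let φ' : Q →* P := MonoidHom.mk' φ hφmul
  obtain ⟨hclo, hfin⟩ := hG
  let c : R := ∏ n ∈ hfin.toFinset, (f n).coeff (φ n)
  refine ⟨c, φ', fun hc => ?_, fun A _ t ht => ?_⟩
  · obtain ⟨n, -, hn⟩ := x.2.prod_mem_iff.mp hc
    exact hφ n hn
  · let l : Q →* MonoidAlgebra A P := (MonoidAlgebra.mapRingHom P t).toMonoidHom.comp f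
    let r : Q →* MonoidAlgebra A P := (MonoidAlgebra.of A P).comp φ'
    suffices h : l = r from fun n => DFunLike.congr_fun h n
    refine MonoidHom.eq_of_eqOn_dense hclo fun n hn => MonoidAlgebra.ext (Finsupp.ext fun m => ?_)
    have hu : t ((f n).coeff (φ n)) = 1 := by
      have hun : IsUnit (t ((f n).coeff (φ n))) := by
        simp only [c, map_prod, IsUnit.prod_iff] at ht
        exact ht n (hfin.mem_toFinset.mpr hn)
      have h2 := hcoef n (φ n) (φ n)
      rw [if_pos rfl] at h2
      exact hun.mul_eq_left.mp (by rw [← map_mul, h2])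
    show (MonoidAlgebra.mapRingHom P t (f n)).coeff m = (MonoidAlgebra.single (φ n) (1 : A)).coeff m
    have hc : (MonoidAlgebra.mapRingHom P t (f n)).coeff m = t ((f n).coeff m) := by simp
    rw [hc, MonoidAlgebra.coeff_single, Finsupp.single_apply]
    split_ifs with h
    · subst h; exact hu
    · have h2 := congrArg t (hcoef n m (φ n))
      rw [if_neg (Ne.symm h), map_mul, hu, _root_.mul_one, map_zero] at h2
      exact h2

end Algebra

variable {U : Scheme.{u}}

/-- Near every point, a homomorphism of diagonalisable groups is induced by a homomorphism of characters. -/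
theorem exists_eq_DSmap [AddGroup.FG N] (u : Red.DS U M ⟶ Red.DS U N) [IsMonHom u] (x : U) :
    ∃ (V : U.Opens) (φ : N →+ M), x ∈ V ∧
      ∀ (W : Over U), Set.range W.hom.base ⊆ (V : Set U) → ∀ p : W ⟶ Red.DS U M, p ≫ u = p ≫ Red.DSmap U φ := by
  classical
  obtain ⟨A₀, hA₀, hxA, -⟩ := exists_isAffineOpen_mem_and_subset (U := ⊤) (x := x) trivial
  let R : CommRingCat.{u} := Γ(U, A₀)
  let P := Multiplicative M
  let C₁ : R ⟶ CommRingCat.of (MonoidAlgebra R P) := CommRingCat.ofHom MonoidAlgebra.singleOneRingHom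
  let W₁ : Over U := Over.mk (Spec.map C₁ ≫ hA₀.fromSpec)
  obtain ⟨tu, htu⟩ := exists_dsPt (W := W₁) (M := M)
    ((Scheme.ΓSpecIso (CommRingCat.of (MonoidAlgebra R P))).inv.hom.toMonoidHom.comp (MonoidAlgebra.of R P))
  let f : Multiplicative N →* MonoidAlgebra R P :=
    (Scheme.ΓSpecIso (CommRingCat.of (MonoidAlgebra R P))).hom.hom.toMonoidHom.comp (dsFn (tu ≫ u))
  -- the value at an arbitrary point over the chart
  have formula : ∀ (W : Over U) (w : W.left ⟶ Spec R), w ≫ hA₀.fromSpec = W.hom → ∀ (p : W ⟶ Red.DS U M) n,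
      dsFn (p ≫ u) n = MonoidAlgebra.liftNCRingHom (theta w) (dsFn p) (fun _ _ => Commute.all _ _) (f n) := by
    intro W w hw p n
    let L : MonoidAlgebra R P →+* Γ(W.left, ⊤) :=
      MonoidAlgebra.liftNCRingHom (theta w) (dsFn p) (fun _ _ => Commute.all _ _)
    have hC : C₁ ≫ CommRingCat.ofHom L = CommRingCat.ofHom (theta w) := by
      ext r
      show L (MonoidAlgebra.single 1 r) = _
      simp [L, MonoidAlgebra.liftNCRingHom]
    let h : W ⟶ W₁ := Over.homMk (W.left.toSpecΓ ≫ Spec.map (CommRingCat.ofHom L)) (by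
      show (W.left.toSpecΓ ≫ Spec.map (CommRingCat.ofHom L)) ≫ Spec.map C₁ ≫ hA₀.fromSpec = W.hom
      rw [Category.assoc, ← Spec.map_comp_assoc, hC, ← Category.assoc, toSpecΓ_SpecMap_theta, hw])
    have hp : h ≫ tu = p := by
      refine dsFn_injective (MonoidHom.ext fun m => ?_)
      rw [dsFn_comp, htu]
      refine (appTop_toSpecΓ_SpecMap (CommRingCat.ofHom L) _).trans ?_
      show L (MonoidAlgebra.single m 1) = _
      simp [L, MonoidAlgebra.liftNCRingHom]
    rw [← hp, Category.assoc, dsFn_comp,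
      show dsFn (tu ≫ u) n = (Scheme.ΓSpecIso (CommRingCat.of (MonoidAlgebra R P))).inv (f n) from
        (Iso.hom_inv_id_apply _ _).symm, hp]
    exact appTop_toSpecΓ_SpecMap (CommRingCat.ofHom L) (f n)
  -- the elements are group-like
  let E : CommRingCat.{u} := CommRingCat.of (MonoidAlgebra R (P × P))
  let C₂ : R ⟶ E := CommRingCat.ofHom MonoidAlgebra.singleOneRingHom
  let W₂ : Over U := Over.mk (Spec.map C₂ ≫ hA₀.fromSpec)
  let mk : (P →* P × P) → (Multiplicative M →* Γ(W₂.left, ⊤)) := fun ψ =>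
    (Scheme.ΓSpecIso E).inv.hom.toMonoidHom.comp ((MonoidAlgebra.of R (P × P)).comp ψ)
  let i₁ : P →* P × P := MonoidHom.inl _ _
  let i₂ : P →* P × P := MonoidHom.inr _ _
  let d : P →* P × P := (MonoidHom.id _).prod (MonoidHom.id _)
  have hd : ∀ a, d a = (a, a) := fun a => rfl
  obtain ⟨p₁, hp₁⟩ := exists_dsPt (mk i₁)
  obtain ⟨p₂, hp₂⟩ := exists_dsPt (mk i₂)
  obtain ⟨p₃, hp₃⟩ := exists_dsPt (mk d)
  have hp : p₁ * p₂ = p₃ := dsFn_injective (MonoidHom.ext fun m => by
    rw [dsFn_mul, hp₁, hp₂, hp₃]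
    simp only [mk, MonoidHom.comp_apply]
    rw [← map_mul, ← map_mul]
    congr 2
    exact Prod.ext (_root_.mul_one _) (_root_.one_mul _))
  have hpt : ∀ (ψ : P →* P × P) (p : W₂ ⟶ Red.DS U M), dsFn p = mk ψ → ∀ n,
      dsFn (p ≫ u) n = (Scheme.ΓSpecIso E).inv (MonoidAlgebra.mapDomainRingHom R ψ (f n)) := fun ψ p hψ n => by
    rw [formula W₂ (Spec.map C₂) rfl p n, hψ]
    refine (DFunLike.congr_fun (f := MonoidAlgebra.liftNCRingHom _ _ _)
      (g := (Scheme.ΓSpecIso E).inv.hom.comp (MonoidAlgebra.mapDomainRingHom R ψ)) ?_ (f n))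
    refine MonoidAlgebra.ringHom_ext (fun r => ?_) (fun m => ?_)
    · have h0 : theta (Spec.map C₂) r = (Scheme.ΓSpecIso E).inv (C₂ r) := theta_SpecMap C₂ r
      simp [MonoidAlgebra.liftNCRingHom, theta] at h0 ⊢
      refine h0.trans ?_
      have h1 : MonoidAlgebra.mapDomain (⇑ψ) (MonoidAlgebra.single (1 : P) r) = MonoidAlgebra.single 1 r := by
        rw [MonoidAlgebra.mapDomain_single, map_one]
      show _ = (Scheme.ΓSpecIso E).inv (MonoidAlgebra.mapDomain (⇑ψ) (MonoidAlgebra.single (1 : P) r))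
      rw [h1]
      rfl
    · simp [MonoidAlgebra.liftNCRingHom, mk]
      show _ = (Scheme.ΓSpecIso E).inv (MonoidAlgebra.mapDomain (⇑ψ) (MonoidAlgebra.single m (1 : R)))
      rw [MonoidAlgebra.mapDomain_single]
  have hgl : ∀ n, MonoidAlgebra.mapDomainRingHom R d (f n) =
      MonoidAlgebra.mapDomainRingHom R i₁ (f n) * MonoidAlgebra.mapDomainRingHom R i₂ (f n) := fun n => by
    apply (Scheme.ΓSpecIso E).commRingCatIsoToRingEquiv.symm.injective
    rw [map_mul]
    show (Scheme.ΓSpecIso E).inv _ = (Scheme.ΓSpecIso E).inv _ * (Scheme.ΓSpecIso E).inv _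
    rw [← hpt d p₃ hp₃ n, ← hpt i₁ p₁ hp₁ n, ← hpt i₂ p₂ hp₂ n, ← dsFn_mul, ← MonObj.mul_comp p₁ p₂ u, hp]
  have hprod : ∀ (y z : MonoidAlgebra R P) (a b : P),
      (MonoidAlgebra.mapDomainRingHom R i₁ y * MonoidAlgebra.mapDomainRingHom R i₂ z).coeff (a, b) =
        y.coeff a * z.coeff b := fun y z a b => by
    induction y using MonoidAlgebra.induction_linear with
    | zero => simp
    | add x y hx hy => simp only [map_add, add_mul, MonoidAlgebra.coeff_add, Finsupp.add_apply, hx, hy]
    | single p r =>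
      induction z using MonoidAlgebra.induction_linear with
      | zero => simp
      | add x y hx hy => simp only [map_add, mul_add, MonoidAlgebra.coeff_add, Finsupp.add_apply, hx, hy]
      | single p' r' =>
        simp [i₁, i₂, MonoidAlgebra.single_mul_single, MonoidAlgebra.coeff_single, Finsupp.single_apply, Prod.ext_iff]
        split_ifs <;> simp_all
  have hdiag : ∀ (y : MonoidAlgebra R P) (a b : P),
      (MonoidAlgebra.mapDomainRingHom R d y).coeff (a, b) = if a = b then y.coeff a else 0 := fun y a b => by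
    induction y using MonoidAlgebra.induction_linear with
    | zero => simp
    | add x y hx hy =>
      simp only [map_add, MonoidAlgebra.coeff_add, Finsupp.add_apply, hx, hy]
      split_ifs <;> simp
    | single p r =>
      simp [d, MonoidAlgebra.coeff_single, Finsupp.single_apply, Prod.ext_iff]
      split_ifs <;> first | rfl | (rename_i hh hn; exact absurd (hh.1.symm.trans hh.2) hn) | simp_all
  have hcoef : ∀ n a b, (f n).coeff a * (f n).coeff b = if a = b then (f n).coeff a else 0 := fun n a b => by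
    rw [← hprod, ← hgl, hdiag]
  -- augmentation
  have hone : ∀ n, (f n).coeff.sum (fun _ r => r) = 1 := fun n => by
    let W₀ : Over U := Over.mk hA₀.fromSpec
    have h := formula W₀ (𝟙 _) (Category.id_comp _) 1 n
    rw [show (1 : W₀ ⟶ Red.DS U M) ≫ u = 1 from MonObj.one_comp u, dsFn_one] at h
    have h2 := congrArg (Scheme.ΓSpecIso R).hom h
    have h3 : ∀ y : MonoidAlgebra R P,
        (Scheme.ΓSpecIso R).hom (MonoidAlgebra.liftNCRingHom (theta (𝟙 (Spec R))) (dsFn (1 : W₀ ⟶ Red.DS U M))
          (fun _ _ => Commute.all _ _) y) = y.coeff.sum (fun _ r => r) := fun y => by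
      induction y using MonoidAlgebra.induction_linear with
      | zero => simp
      | add x y hx hy =>
        rw [map_add, map_add, hx, hy, MonoidAlgebra.coeff_add, Finsupp.sum_add_index (by simp) (by simp)]
      | single p r =>
        rw [MonoidAlgebra.coeff_single, Finsupp.sum_single_index rfl]
        simp only [MonoidAlgebra.liftNCRingHom, MonoidHom.coe_coe, RingHom.coe_mk]
        have h1 : dsFn (1 : W₀ ⟶ Red.DS U M) p = 1 := dsFn_one p
        simp [h1, theta]
    exact (h3 _).symm.trans (h2.symm.trans (map_one _))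
  obtain ⟨x', hx'⟩ : ∃ x', hA₀.fromSpec.base x' = x := ⟨hA₀.primeIdealOf ⟨x, hxA⟩, hA₀.fromSpec_primeIdealOf ⟨x, hxA⟩⟩
  haveI : Group.FG (Multiplicative N) := inferInstance
  obtain ⟨c, φ, hc, hφ⟩ := exists_away f hcoef hone x'
  refine ⟨hA₀.fromSpec ''ᵁ PrimeSpectrum.basicOpen c, AddMonoidHom.toMultiplicative.symm φ, ⟨x', hc, hx'⟩, fun W hW p => ?_⟩
  have hWA : Set.range W.hom.base ⊆ Set.range hA₀.fromSpec.base := fun y hy => by
    obtain ⟨z, -, rfl⟩ := hW hy
    exact ⟨z, rfl⟩
  let w : W.left ⟶ Spec R := IsOpenImmersion.lift hA₀.fromSpec W.hom hWA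
  have hw : w ≫ hA₀.fromSpec = W.hom := IsOpenImmersion.lift_fac _ _ _
  have hunit : IsUnit (theta w c) := by
    refine RingedSpace.isUnit_of_isUnit_germ W.left.toLocallyRingedSpace.toRingedSpace ⊤ _ fun y _ => ?_
    have hy : w.base y ∈ PrimeSpectrum.basicOpen c := by
      obtain ⟨z, hz, hzy⟩ := hW ⟨y, rfl⟩
      have : z = w.base y := hA₀.fromSpec.isOpenEmbedding.injective (hzy.trans congr($(hw).base y).symm)
      exact this ▸ hz
    refine (Scheme.mem_basicOpen W.left (U := ⊤) _ y trivial).mp ?_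
    show y ∈ W.left.basicOpen (w.appTop ((Scheme.ΓSpecIso R).inv c))
    rw [← Scheme.preimage_basicOpen_top]
    show w.base y ∈ (Spec R).basicOpen ((Scheme.ΓSpecIso R).inv c)
    rw [basicOpen_eq_of_affine]
    exact hy
  refine dsFn_injective (MonoidHom.ext fun n => ?_)
  rw [formula W w hw p n, S5427.dsFn_DSmap]
  have key : MonoidAlgebra.liftNCRingHom (theta w) (dsFn p) (fun _ _ => Commute.all _ _) =
      (MonoidAlgebra.liftNCRingHom (RingHom.id _) (dsFn p) (fun _ _ => Commute.all _ _)).comp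
        (MonoidAlgebra.mapRingHom P (theta w)) := by
    refine MonoidAlgebra.ringHom_ext (fun r => ?_) (fun m => ?_)
    · simp [MonoidAlgebra.liftNCRingHom]
    · simp [MonoidAlgebra.liftNCRingHom]
  rw [key, RingHom.comp_apply, hφ _ (theta w) hunit n]
  simp [MonoidAlgebra.liftNCRingHom]

end Groth.Agent.SGA3cLib.DSHom
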