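import Groth.Agent.SGA3cLib.HomSchemeAlg
import Groth.Agent.Misc15.AffinePoints
import Groth.Agent.Misc15.OverGlue

/-! # Schemes of morphisms out of finite locally free schemes into affine schemes -/

set_option linter.style.haveILetI false
set_option autoImplicit false
set_option backward.isDefEq.respectTransparency.types false
universe u

open CategoryTheory Limits MonoidalCategory CartesianMonoidalCategory AlgebraicGeometry Opposite
open scoped TensorProduct

noncomputable section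

namespace Groth.Agent.SGA3cLib.HomScheme

variable {S : Scheme.{u}}

/-- `(Z, ev)` is universal for morphisms `X ⊗ T ⟶ Y` with `T` satisfying `C`. -/
def UnivOn {X Y Z : Over S} (ev : X ⊗ Z ⟶ Y) (C : Over S → Prop) : Prop :=
  ∀ T : Over S, C T → ∀ φ : X ⊗ T ⟶ Y, ∃! v : T ⟶ Z, (X ◁ v) ≫ ev = φ

/-- `T` lies over `U` -/
def LiesIn (U : S.Opens) (T : Over S) : Prop := ∀ t : T.left, T.hom t ∈ U

abbrev restr (T : Over S) (V : T.left.Opens) : Over S := Over.mk (V.ι ≫ T.hom)

abbrev restrHom (T : Over S) (V : T.left.Opens) : restr T V ⟶ T := Over.homMk V.ι rfl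

instance (T : Over S) (V : T.left.Opens) : IsOpenImmersion (restrHom T V).left :=
  inferInstanceAs (IsOpenImmersion V.ι)

/-- morphisms out of `X ⊗ T` glue along opens covering `T` -/
theorem glue {X Y T : Over S} {J : Type u} (W : J → Over S) (r : ∀ i, W i ⟶ T)
    [∀ i, IsOpenImmersion (r i).left] (hcov : ∀ t : T.left, ∃ i w, (r i).left w = t)
    (φ : ∀ i, X ⊗ W i ⟶ Y)
    (h : ∀ (i j : J) (K : Over S) (a : K ⟶ W i) (b : K ⟶ W j), a ≫ r i = b ≫ r j →
      (X ◁ a) ≫ φ i = (X ◁ b) ≫ φ j) :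
    ∃! ψ : X ⊗ T ⟶ Y, ∀ i, (X ◁ r i) ≫ ψ = φ i := by
  let 𝒰 : T.left.OpenCover :=
    { I₀ := J, X := fun i => (W i).left, f := fun i => (r i).left
      mem₀ := by
        rw [Scheme.presieve₀_mem_precoverage_iff]
        exact ⟨fun t => by obtain ⟨i, w, hw⟩ := hcov t; exact ⟨i, w, hw⟩, inferInstance⟩ }
  let 𝒱 := 𝒰.pullback₁ (snd X T).left
  let K : ∀ i, Over S := fun i => Over.mk (pullback.fst (snd X T).left (r i).left ≫ (X ⊗ T).hom)
  let k₁ : ∀ i, K i ⟶ X ⊗ T := fun i => Over.homMk (pullback.fst (snd X T).left (r i).left) rfl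
  let k₂ : ∀ i, K i ⟶ W i := fun i => Over.homMk (pullback.snd (snd X T).left (r i).left) (by
    show _ ≫ (W i).hom = pullback.fst (snd X T).left (r i).left ≫ (X ⊗ T).hom
    rw [← Over.w (snd X T), ← Over.w (r i), pullback.condition_assoc])
  let k : ∀ i, K i ⟶ X ⊗ W i := fun i => lift (k₁ i ≫ fst X T) (k₂ i)
  have hk : ∀ i, k i ≫ (X ◁ r i) = k₁ i := fun i => by
    apply CartesianMonoidalCategory.hom_ext
    · simp [k]
    · rw [Category.assoc, whiskerLeft_snd, lift_snd_assoc]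
      exact Over.OverMorphism.ext pullback.condition.symm
  refine existsUnique_of_exists_of_unique ?_ ?_
  · have hc : ∀ i j, pullback.fst (𝒱.f i) (𝒱.f j) ≫ (k i ≫ φ i).left =
        pullback.snd (𝒱.f i) (𝒱.f j) ≫ (k j ≫ φ j).left := by
      intro i j
      let L : Over S := Over.mk (pullback.fst (k₁ i).left (k₁ j).left ≫ (K i).hom)
      let l₁ : L ⟶ K i := Over.homMk (pullback.fst (k₁ i).left (k₁ j).left) rfl
      let l₂ : L ⟶ K j := Over.homMk (pullback.snd (k₁ i).left (k₁ j).left) (by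
        show pullback.snd (k₁ i).left (k₁ j).left ≫ (K j).hom = pullback.fst (k₁ i).left (k₁ j).left ≫ (K i).hom
        rw [← Over.w (k₁ i), ← Over.w (k₁ j), pullback.condition_assoc])
      have hl : l₁ ≫ k₁ i = l₂ ≫ k₁ j := Over.OverMorphism.ext pullback.condition
      have hab : (l₁ ≫ k₂ i) ≫ r i = (l₂ ≫ k₂ j) ≫ r j := by
        have e : ∀ i, k₂ i ≫ r i = k₁ i ≫ snd X T := fun i => by
          rw [← hk i, Category.assoc, whiskerLeft_snd, lift_snd_assoc]
        rw [Category.assoc, Category.assoc, e, e, reassoc_of% hl]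
      have e1 : ∀ (i : J) (l : L ⟶ K i), l ≫ k i =
          lift (l ≫ k₁ i ≫ fst X T) (𝟙 L) ≫ (X ◁ (l ≫ k₂ i)) := fun i l => by
        apply CartesianMonoidalCategory.hom_ext <;> simp [k]
      have : l₁ ≫ k i ≫ φ i = l₂ ≫ k j ≫ φ j := by
        rw [← Category.assoc, ← Category.assoc, e1, e1, Category.assoc, Category.assoc, h i j L _ _ hab,
          reassoc_of% hl]
      exact congrArg CommaMorphism.left this
    obtain ⟨ψ₀, hψ₀'⟩ : ∃ ψ : (X ⊗ T).left ⟶ Y.left, ∀ i, 𝒱.f i ≫ ψ = (k i ≫ φ i).left :=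
      ⟨_, fun i => Scheme.Cover.ι_glueMorphisms 𝒱 _ hc i⟩
    have hψ₀ : ∀ i, (k₁ i).left ≫ ψ₀ = (k i ≫ φ i).left := hψ₀'
    have hw : ψ₀ ≫ Y.hom = (X ⊗ T).hom := by
      refine Scheme.Cover.hom_ext 𝒱 _ _ fun i => ?_
      show (k₁ i).left ≫ ψ₀ ≫ Y.hom = _
      rw [← Category.assoc, hψ₀, Over.w]
      rfl
    refine ⟨Over.homMk ψ₀ hw, fun i => ?_⟩
    let m : X ⊗ W i ⟶ K i := Over.homMk (pullback.lift (X ◁ r i).left (snd X (W i)).left
      (congrArg CommaMorphism.left (whiskerLeft_snd X (r i)))) (by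
        show _ ≫ pullback.fst (snd X T).left (r i).left ≫ (X ⊗ T).hom = _
        rw [pullback.lift_fst_assoc]
        exact Over.w (X ◁ r i))
    have hm₁ : m ≫ k₁ i = X ◁ r i := Over.OverMorphism.ext (pullback.lift_fst _ _ _)
    have hm₂ : m ≫ k₂ i = snd X (W i) := Over.OverMorphism.ext (pullback.lift_snd _ _ _)
    have hm : m ≫ k i = 𝟙 _ := by
      apply CartesianMonoidalCategory.hom_ext
      · simp only [k, Category.assoc, lift_fst, reassoc_of% hm₁, whiskerLeft_fst, Category.id_comp]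
      · simp only [k, Category.assoc, lift_snd, hm₂, Category.id_comp]
    rw [← hm₁, Category.assoc]
    have : k₁ i ≫ Over.homMk ψ₀ hw = k i ≫ φ i := Over.OverMorphism.ext (hψ₀ i)
    rw [this, ← Category.assoc, hm, Category.id_comp]
  · intro ψ ψ' hψ hψ'
    apply Over.OverMorphism.ext
    refine Scheme.Cover.hom_ext 𝒱 _ _ fun i => ?_
    show (k₁ i).left ≫ ψ.left = (k₁ i).left ≫ ψ'.left
    rw [← Over.comp_left, ← Over.comp_left, ← hk i, Category.assoc, Category.assoc, hψ, hψ']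

theorem hom_ext_tensor {X Y T : Over S} (ψ ψ' : X ⊗ T ⟶ Y) {J : Type u} (W : J → Over S) (r : ∀ i, W i ⟶ T)
    [∀ i, IsOpenImmersion (r i).left] (hcov : ∀ t : T.left, ∃ i w, (r i).left w = t)
    (h : ∀ i, (X ◁ r i) ≫ ψ = (X ◁ r i) ≫ ψ') : ψ = ψ' := by
  obtain ⟨χ, -, hu⟩ := glue W r hcov (fun i => (X ◁ r i) ≫ ψ) fun i j K a b hab => by
    rw [← MonoidalCategory.whiskerLeft_comp_assoc, hab, MonoidalCategory.whiskerLeft_comp_assoc]
  rw [hu ψ fun i => rfl, hu ψ' fun i => (h i).symm]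

/-- The functor `T ↦ Hom(X ⊗ T, Y)`. -/
abbrev homPsh (X Y : Over S) : (Over S)ᵒᵖ ⥤ Type u := (tensorLeft X).op ⋙ yoneda.obj Y

theorem isSheaf_homPsh (X Y : Over S) : Presheaf.IsSheaf (Scheme.zariskiTopology.over S) (homPsh X Y) := by
  rw [isSheaf_iff_isSheaf_of_type]
  intro T R hR x hx
  obtain ⟨𝒰, hle⟩ := Scheme.exists_cover_of_mem_grothendieckTopology
    ((GrothendieckTopology.mem_over_iff _ _).1 hR)
  let W : 𝒰.I₀ → Over S := fun i => Over.mk (𝒰.f i ≫ T.hom)
  let r : ∀ i, W i ⟶ T := fun i => Over.homMk (𝒰.f i) rfl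
  have hr : ∀ i, R.arrows (r i) := fun i => by
    have := hle _ _ (Presieve.ofArrows.mk i)
    exact (Sieve.overEquiv_iff R _).1 this
  haveI : ∀ i, IsOpenImmersion (r i).left := fun i => 𝒰.map_prop i
  have hcov : ∀ t : T.left, ∃ i w, (r i).left w = t := fun t => ⟨_, 𝒰.covers t⟩
  obtain ⟨ψ, hψ, hu⟩ := glue W r hcov (fun i => x (r i) (hr i))
    (fun i j K a b hab => hx a b (hr i) (hr j) hab)
  refine ⟨ψ, fun Y' f hf => ?_, fun ψ' hψ' => hu ψ' fun i => hψ' (r i) (hr i)⟩
  let W' : 𝒰.I₀ → Over S := fun i => Over.mk (pullback.fst f.left (r i).left ≫ Y'.hom)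
  let r' : ∀ i, W' i ⟶ Y' := fun i => Over.homMk (pullback.fst f.left (r i).left) rfl
  haveI : ∀ i, IsOpenImmersion (r' i).left := fun i =>
    inferInstanceAs (IsOpenImmersion (pullback.fst f.left (r i).left))
  refine hom_ext_tensor _ _ W' r' (fun t => ?_) fun i => ?_
  · obtain ⟨i, w, hw⟩ := hcov (f.left t)
    obtain ⟨z, hz, -⟩ := Scheme.Pullback.exists_preimage_pullback t w hw.symm
    exact ⟨i, z, hz⟩
  · let q : Over.mk (pullback.fst f.left (r i).left ≫ Y'.hom) ⟶ W i :=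
      Over.homMk (pullback.snd f.left (r i).left) (by
        show _ ≫ (W i).hom = pullback.fst f.left (r i).left ≫ Y'.hom
        rw [← Over.w f, ← Over.w (r i), pullback.condition_assoc])
    let p : Over.mk (pullback.fst f.left (r i).left ≫ Y'.hom) ⟶ Y' :=
      Over.homMk (pullback.fst f.left (r i).left) rfl
    have hpq : p ≫ f = q ≫ r i := Over.OverMorphism.ext pullback.condition
    show (X ◁ p) ≫ (X ◁ f) ≫ ψ = (X ◁ p) ≫ x f hf
    rw [← MonoidalCategory.whiskerLeft_comp_assoc, hpq, MonoidalCategory.whiskerLeft_comp_assoc, hψ]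
    exact hx q p (hr i) hf hpq.symm

/-- universality on affine test schemes over `U` gives universality on all test schemes over `U` -/
theorem univOn_of_affine {X Y Z : Over S} (ev : X ⊗ Z ⟶ Y) (U : S.Opens)
    (h : UnivOn ev fun T => IsAffine T.left ∧ LiesIn U T) : UnivOn ev (LiesIn U) := by
  intro T hT φ
  have hV : ∀ (T : Over S), LiesIn U T → ∀ V : T.left.affineOpens,
      IsAffine (restr T V.1).left ∧ LiesIn U (restr T V.1) := fun T hT V => ⟨V.2, fun t => hT (V.1.ι t)⟩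
  have cov : ∀ (T : Over S) (t : T.left), ∃ (V : T.left.affineOpens) (w : (restr T V.1).left),
      (restrHom T V.1).left w = t := fun T t => by
    obtain ⟨V, hV, ht, -⟩ := exists_isAffineOpen_mem_and_subset (U := (⊤ : T.left.Opens)) (x := t) trivial
    exact ⟨⟨V, hV⟩, ⟨t, ht⟩, rfl⟩
  have uniq : ∀ (T : Over S), LiesIn U T → ∀ v v' : T ⟶ Z, (X ◁ v) ≫ ev = (X ◁ v') ≫ ev → v = v' := by
    intro T hT v v' hvv
    apply Over.OverMorphism.ext
    refine Scheme.hom_ext_of_forall _ _ fun t => ?_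
    obtain ⟨V, w, hw⟩ := cov T t
    refine ⟨V.1, hw ▸ w.2, ?_⟩
    have := (h _ (hV T hT V) ((X ◁ (restrHom T V.1 ≫ v)) ≫ ev)).unique (y₁ := restrHom T V.1 ≫ v)
      (y₂ := restrHom T V.1 ≫ v') rfl (by
        simp only [MonoidalCategory.whiskerLeft_comp, Category.assoc, hvv])
    exact congrArg CommaMorphism.left this
  refine existsUnique_of_exists_of_unique ?_ (fun v v' e e' => uniq T hT v v' (e.trans e'.symm))
  choose vs hvs using fun V : T.left.affineOpens => (h _ (hV T hT V) ((X ◁ restrHom T V.1) ≫ φ)).exists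
  let 𝒰 : T.left.OpenCover := T.left.openCoverOfIsOpenCover (fun V : T.left.affineOpens => V.1)
    (TopologicalSpace.IsOpenCover.mk (iSup_affineOpens_eq_top _))
  have hc : ∀ V V' : T.left.affineOpens, pullback.fst V.1.ι V'.1.ι ≫ (vs V).left =
      pullback.snd V.1.ι V'.1.ι ≫ (vs V').left := fun V V' => by
    let L : Over S := Over.mk (pullback.fst V.1.ι V'.1.ι ≫ V.1.ι ≫ T.hom)
    let a : L ⟶ restr T V.1 := Over.homMk (pullback.fst V.1.ι V'.1.ι) rfl
    let b : L ⟶ restr T V'.1 := Over.homMk (pullback.snd V.1.ι V'.1.ι) (by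
      show _ ≫ V'.1.ι ≫ T.hom = pullback.fst V.1.ι V'.1.ι ≫ V.1.ι ≫ T.hom
      rw [pullback.condition_assoc])
    have hab : a ≫ restrHom T V.1 = b ≫ restrHom T V'.1 := Over.OverMorphism.ext pullback.condition
    exact congrArg CommaMorphism.left (uniq L (fun t => hT (V.1.ι _)) (a ≫ vs V) (b ≫ vs V') (by
      rw [MonoidalCategory.whiskerLeft_comp, MonoidalCategory.whiskerLeft_comp, Category.assoc, Category.assoc,
        hvs, hvs, ← MonoidalCategory.whiskerLeft_comp_assoc, hab, MonoidalCategory.whiskerLeft_comp_assoc]))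
  let v₀ : T.left ⟶ Z.left := 𝒰.glueMorphisms (fun V => (vs V).left) hc
  have hv₀ : ∀ V : T.left.affineOpens, V.1.ι ≫ v₀ = (vs V).left := fun V => 𝒰.ι_glueMorphisms _ _ V
  let v : T ⟶ Z := Over.homMk v₀ (Scheme.Cover.hom_ext 𝒰 _ _ fun V => by
    show V.1.ι ≫ v₀ ≫ Z.hom = V.1.ι ≫ T.hom
    rw [← Category.assoc, hv₀, Over.w]
    rfl)
  refine ⟨v, hom_ext_tensor _ _ (fun V : T.left.affineOpens => restr T V.1) (fun V => restrHom T V.1) (cov T)
    fun V => ?_⟩
  have : restrHom T V.1 ≫ v = vs V := Over.OverMorphism.ext (hv₀ V)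
  rw [← MonoidalCategory.whiskerLeft_comp_assoc, this, hvs]

section Affine

variable {R : Type u} [CommRing R]

theorem exists_affine (X Y : Over (Spec (CommRingCat.of R))) [IsFinite X.hom] [Flat X.hom]
    [LocallyOfFinitePresentation X.hom] [IsAffine Y.left] :
    ∃ (Z : Over (Spec (CommRingCat.of R))) (ev : X ⊗ Z ⟶ Y), IsAffine Z.left ∧
      UnivOn ev (fun T => IsAffine T.left) ∧ (LocallyOfFiniteType Y.hom → LocallyOfFiniteType Z.hom) ∧
      (LocallyOfFinitePresentation Y.hom → LocallyOfFinitePresentation Z.hom) := by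
  haveI : IsAffine X.left := isAffine_of_isAffineHom X.hom
  obtain ⟨B, _, _, ⟨eX⟩⟩ := Misc15.AffinePoints.exists_sp X
  obtain ⟨A, _, _, ⟨eY⟩⟩ := Misc15.AffinePoints.exists_sp Y
  have hX : ∀ (P : MorphismProperty Scheme.{u}) [P.RespectsIso], P X.hom → P (CoactBr.sp R B).hom :=
    fun P _ h => by rw [← Over.w eX.hom]; exact MorphismProperty.RespectsIso.precomp _ eX.hom.left _ h
  have h1 : (algebraMap R B).Finite := (IsFinite.SpecMap_iff _).1 (hX @IsFinite inferInstance)
  have h2 : (algebraMap R B).Flat := HasRingHomProperty.Spec_iff.1 (hX @Flat inferInstance)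
  have h3 : (algebraMap R B).FinitePresentation :=
    HasRingHomProperty.Spec_iff.1 (hX @LocallyOfFinitePresentation inferInstance)
  haveI : Module.Finite R B := RingHom.finite_algebraMap.1 h1
  haveI : Module.Flat R B := RingHom.flat_algebraMap_iff.1 h2
  haveI : Algebra.FinitePresentation R B := RingHom.finitePresentation_algebraMap.1 h3
  haveI : Module.FinitePresentation R B := Module.FinitePresentation.of_finite_of_finitePresentation R B
  haveI : Module.Projective R B := Module.Flat.projective_of_finitePresentation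
  obtain ⟨Q, _, _, w, hw, hft, hfp⟩ := HomSchemeAlg.exists_univ (R := R) (B := B) A
  haveI := Misc15.AffinePoints.isIso_Q (R := R) B Q
  let ev : X ⊗ CoactBr.sp R Q ⟶ Y :=
    (eX.inv ▷ _) ≫ inv (Misc15.AffinePoints.Q B Q) ≫ CoactBr.pt w ≫ eY.hom
  refine ⟨CoactBr.sp R Q, ev, inferInstanceAs (IsAffine (Spec _)), ?_, fun h => ?_, fun h => ?_⟩
  · intro T hT φ
    haveI := hT
    obtain ⟨C, _, _, ⟨eT⟩⟩ := Misc15.AffinePoints.exists_sp T
    haveI := Misc15.AffinePoints.isIso_Q (R := R) B C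
    obtain ⟨f, hf⟩ := Misc15.AffinePoints.pt_surjective
      (Misc15.AffinePoints.Q B C ≫ (eX.hom ⊗ₘ eT.hom) ≫ φ ≫ eY.inv)
    have key : ∀ q : Q →ₐ[R] C, (X ◁ (eT.inv ≫ CoactBr.pt q)) ≫ ev = φ ↔
        (Algebra.TensorProduct.map (AlgHom.id R B) q).comp w = f := by
      intro q
      have e : (X ◁ (eT.inv ≫ CoactBr.pt q)) ≫ ev =
          (eX.inv ⊗ₘ eT.inv) ≫ inv (Misc15.AffinePoints.Q B C) ≫
            CoactBr.pt ((Algebra.TensorProduct.map (AlgHom.id R B) q).comp w) ≫ eY.hom := by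
        have hnat : (𝟙 _ ⊗ₘ CoactBr.pt q) ≫ inv (Misc15.AffinePoints.Q B Q) =
            inv (Misc15.AffinePoints.Q B C) ≫ CoactBr.pt (Algebra.TensorProduct.map (AlgHom.id R B) q) := by
          rw [IsIso.comp_inv_eq, Category.assoc, Misc15.AffinePoints.pt_map_comp_Q, CoactBr.pt_id,
            IsIso.inv_hom_id_assoc]
        rw [CoactBr.pt_comp, Category.assoc, ← reassoc_of% hnat]
        simp only [ev, ← id_tensorHom, ← tensorHom_id, tensorHom_comp_tensorHom_assoc, Category.comp_id,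
          Category.id_comp]
      rw [e]
      constructor
      · intro hq
        apply CoactBr.pt_injective
        rw [hf, ← hq]
        simp only [tensorHom_comp_tensorHom_assoc, Iso.hom_inv_id, id_tensorHom_id, Category.id_comp,
          IsIso.hom_inv_id_assoc, Category.assoc, Category.comp_id]
      · intro hq
        rw [hq, hf]
        simp only [Category.assoc, Iso.inv_hom_id, Category.comp_id, IsIso.inv_hom_id_assoc,
          tensorHom_comp_tensorHom_assoc, id_tensorHom_id, Category.id_comp]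
    obtain ⟨q, hq, hu⟩ := hw C f
    refine ⟨eT.inv ≫ CoactBr.pt q, (key q).2 hq, fun v hv => ?_⟩
    obtain ⟨q', hq'⟩ := Misc15.AffinePoints.pt_surjective (eT.hom ≫ v)
    have hv' : v = eT.inv ≫ CoactBr.pt q' := by rw [hq', Iso.inv_hom_id_assoc]
    subst hv'
    rw [hu q' ((key q').1 hv)]
  · have : LocallyOfFiniteType (CoactBr.sp R A).hom := by
      rw [← Over.w eY.hom]; exact MorphismProperty.RespectsIso.precomp _ eY.hom.left _ h
    exact HasRingHomProperty.Spec_iff.2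
      (RingHom.finiteType_algebraMap.2 (hft (RingHom.finiteType_algebraMap.1 (HasRingHomProperty.Spec_iff.1 this))))
  · have : LocallyOfFinitePresentation (CoactBr.sp R A).hom := by
      rw [← Over.w eY.hom]; exact MorphismProperty.RespectsIso.precomp _ eY.hom.left _ h
    exact HasRingHomProperty.Spec_iff.2 (RingHom.finitePresentation_algebraMap.2
      (hfp (RingHom.finitePresentation_algebraMap.1 (HasRingHomProperty.Spec_iff.1 this))))

end Affine

section Transfer

variable {U : Scheme.{u}} (ι₀ : U ⟶ S) [Mono ι₀]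

/-- `(ι_* (ι^* X ⊗ T)) ⟶ X ⊗ ι_* T` -/
abbrev proj (X : Over S) (T : Over U) :
    (Over.map ι₀).obj ((Over.pullback ι₀).obj X ⊗ T) ⟶ X ⊗ (Over.map ι₀).obj T :=
  lift ((Over.map ι₀).map (fst _ _) ≫ (Over.mapPullbackAdj ι₀).counit.app X) ((Over.map ι₀).map (snd _ _))

omit [Mono ι₀] in
theorem isIso_proj (X : Over S) (T : Over U) : IsIso (proj ι₀ X T) := by
  suffices IsIso (proj ι₀ X T).left from
    haveI : IsIso ((Over.forget S).map (proj ι₀ X T)) := this
    isIso_of_reflects_iso _ (Over.forget S)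
  have h : IsPullback ((fst ((Over.pullback ι₀).obj X) T).left ≫ pullback.fst X.hom ι₀)
      (snd ((Over.pullback ι₀).obj X) T).left X.hom (T.hom ≫ ι₀) :=
    (IsPullback.of_hasPullback (pullback.snd X.hom ι₀) T.hom).paste_horiz (IsPullback.of_hasPullback X.hom ι₀) |>.of_iso
      (Iso.refl _) (Iso.refl _) (Iso.refl _) (Iso.refl _) (by simp) (by simp) (by simp) (by simp)
  have e : (proj ι₀ X T).left = h.isoPullback.hom := by
    apply pullback.hom_ext
    · simp [proj, Over.mapPullbackAdj]; exact pullback.lift_fst _ _ _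
    · simp [proj]; exact pullback.lift_snd _ _ _
  rw [e]
  infer_instance

omit [Mono ι₀] in
theorem proj_natural (X : Over S) {T T' : Over U} (v : T' ⟶ T) :
    proj ι₀ X T' ≫ (X ◁ (Over.map ι₀).map v) =
      (Over.map ι₀).map (((Over.pullback ι₀).obj X) ◁ v) ≫ proj ι₀ X T := by
  apply CartesianMonoidalCategory.hom_ext
  · simp [proj, ← Functor.map_comp_assoc]
  · simp [proj, ← Functor.map_comp, ← Functor.map_comp_assoc]

theorem transfer (X Y : Over S) {Z : Over U} (ev : (Over.pullback ι₀).obj X ⊗ Z ⟶ (Over.pullback ι₀).obj Y)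
    (h : UnivOn ev fun T => IsAffine T.left) :
    ∃ ev' : X ⊗ (Over.map ι₀).obj Z ⟶ Y,
      UnivOn ev' fun T => IsAffine T.left ∧ ∃ t : T.left ⟶ U, t ≫ ι₀ = T.hom := by
  let adj := Over.mapPullbackAdj ι₀
  haveI := isIso_proj ι₀ X Z
  refine ⟨inv (proj ι₀ X Z) ≫ (adj.homEquiv _ Y).symm ev, ?_⟩
  rintro T ⟨hT, t, ht⟩ φ
  let T₀ : Over U := Over.mk t
  let e : (Over.map ι₀).obj T₀ ≅ T := Over.isoMk (Iso.refl _) (by simp [T₀, ht])
  haveI := isIso_proj ι₀ X T₀
  let φ₀ := adj.homEquiv _ Y (proj ι₀ X T₀ ≫ (X ◁ e.hom) ≫ φ)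
  have key : ∀ v₀ : T₀ ⟶ Z, (X ◁ (e.inv ≫ (Over.map ι₀).map v₀)) ≫ inv (proj ι₀ X Z) ≫ (adj.homEquiv _ Y).symm ev = φ ↔
      (((Over.pullback ι₀).obj X) ◁ v₀) ≫ ev = φ₀ := by
    intro v₀
    rw [← cancel_epi (X ◁ e.hom), ← cancel_epi (proj ι₀ X T₀), ← MonoidalCategory.whiskerLeft_comp_assoc,
      Iso.hom_inv_id_assoc, ← Category.assoc (proj ι₀ X T₀) (X ◁ _), proj_natural, Category.assoc,
      IsIso.hom_inv_id_assoc, ← Adjunction.homEquiv_naturality_left_symm, Equiv.symm_apply_eq]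
  obtain ⟨v₀, hv₀, hu⟩ := h T₀ hT φ₀
  refine ⟨e.inv ≫ (Over.map ι₀).map v₀, (key v₀).2 hv₀, fun v hv => ?_⟩
  let v' : T₀ ⟶ Z := Over.homMk v.left (by
    rw [← cancel_mono ι₀, Category.assoc]
    exact (Over.w v).trans ht.symm)
  have hv' : v = e.inv ≫ (Over.map ι₀).map v' := Over.OverMorphism.ext (Category.id_comp _).symm
  rw [hv', hu v' ((key v').1 (hv' ▸ hv))]

end Transfer

/-- The scheme of morphisms. -/
theorem exists_homScheme (X Y : Over S) [IsFinite X.hom] [Flat X.hom] [LocallyOfFinitePresentation X.hom]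
    [IsAffineHom Y.hom] :
    ∃ (M : Over S) (ev : X ⊗ M ⟶ Y), IsAffineHom M.hom ∧
      (LocallyOfFiniteType Y.hom → LocallyOfFiniteType M.hom) ∧
      (LocallyOfFinitePresentation Y.hom → LocallyOfFinitePresentation M.hom) ∧
      ∀ (T : Over S) (φ : X ⊗ T ⟶ Y), ∃! v : T ⟶ M, (X ◁ v) ≫ ev = φ := by
  have piece : ∀ V : S.affineOpens, ∃ (Z : Over S) (ev : X ⊗ Z ⟶ Y), IsAffine Z.left ∧ LiesIn V.1 Z ∧
      UnivOn ev (LiesIn V.1) ∧
      (LocallyOfFiniteType Y.hom → ∃ t : Z.left ⟶ V.1, t ≫ V.1.ι = Z.hom ∧ LocallyOfFiniteType t) ∧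
      (LocallyOfFinitePresentation Y.hom →
        ∃ t : Z.left ⟶ V.1, t ≫ V.1.ι = Z.hom ∧ LocallyOfFinitePresentation t) := by
    intro V
    let ι₀ : Spec (CommRingCat.of Γ(S, V.1)) ⟶ S := V.2.fromSpec
    let X₀ := (Over.pullback ι₀).obj X
    let Y₀ := (Over.pullback ι₀).obj Y
    haveI : IsFinite X₀.hom := MorphismProperty.pullback_snd (P := @IsFinite) _ _ inferInstance
    haveI : Flat X₀.hom := MorphismProperty.pullback_snd (P := @Flat) _ _ inferInstance
    haveI : LocallyOfFinitePresentation X₀.hom :=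
      MorphismProperty.pullback_snd (P := @LocallyOfFinitePresentation) _ _ inferInstance
    haveI : IsAffineHom Y₀.hom := MorphismProperty.pullback_snd (P := @IsAffineHom) _ _ inferInstance
    haveI : IsAffine Y₀.left := isAffine_of_isAffineHom Y₀.hom
    obtain ⟨Z₀, ev₀, hZ₀, huniv, hft, hfp⟩ := exists_affine X₀ Y₀
    obtain ⟨ev, hev⟩ := transfer ι₀ X Y ev₀ huniv
    refine ⟨(Over.map ι₀).obj Z₀, ev, hZ₀, fun t => ?_, univOn_of_affine ev V.1 fun T hT φ => hev T ⟨hT.1,
      IsOpenImmersion.lift ι₀ T.hom ?_, IsOpenImmersion.lift_fac _ _ _⟩ φ, fun h => ?_, fun h => ?_⟩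
    · show V.2.fromSpec (Z₀.hom t) ∈ V.1
      have : V.2.fromSpec (Z₀.hom t) ∈ Set.range V.2.fromSpec := ⟨_, rfl⟩
      rwa [V.2.range_fromSpec] at this
    · show Set.range T.hom ⊆ Set.range V.2.fromSpec
      rw [V.2.range_fromSpec]; rintro _ ⟨t, rfl⟩; exact hT.2 t
    · haveI : LocallyOfFiniteType Z₀.hom :=
        hft (MorphismProperty.pullback_snd (P := @LocallyOfFiniteType) _ _ h)
      exact ⟨Z₀.hom ≫ V.2.isoSpec.inv, by rw [Category.assoc, V.2.isoSpec_inv_ι]; rfl, inferInstance⟩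
    · haveI : LocallyOfFinitePresentation Z₀.hom :=
        hfp (MorphismProperty.pullback_snd (P := @LocallyOfFinitePresentation) _ _ h)
      exact ⟨Z₀.hom ≫ V.2.isoSpec.inv, by rw [Category.assoc, V.2.isoSpec_inv_ι]; rfl, inferInstance⟩
  choose Z ev hZa hZin huniv hft hfp using piece
  let F := homPsh X Y
  let p : F ⟶ yoneda.obj (Over.mk (𝟙 S)) :=
    { app := fun T => TypeCat.ofHom fun _ => Over.homMk (unop T).hom (Category.comp_id _)
      naturality := fun T T' t => ConcreteCategory.hom_ext _ _ fun _ =>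
        Over.OverMorphism.ext (Over.w t.unop).symm }
  let j : ∀ V : S.affineOpens, (yoneda.obj (Z V) : (Over S)ᵒᵖ ⥤ Type u) ⟶ F := fun V =>
    { app := fun T => TypeCat.ofHom fun z => (X ◁ z) ≫ ev V
      naturality := fun T T' t => ConcreteCategory.hom_ext _ _ fun z => by
        show (X ◁ (t.unop ≫ _)) ≫ ev V = (X ◁ t.unop) ≫ (X ◁ _) ≫ ev V
        rw [MonoidalCategory.whiskerLeft_comp, Category.assoc] }
  have lies : ∀ (V : S.affineOpens) (T : Over S) (z : T ⟶ Z V), LiesIn V.1 T := fun V T z t => by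
    rw [← Over.w z, Scheme.Hom.comp_apply]; exact hZin V _
  have hcov : (⨆ V : S.affineOpens, V.1) = ⊤ := iSup_affineOpens_eq_top _
  obtain ⟨M, ⟨rep⟩⟩ := Misc15.OverGlue.exists_representableBy F p (fun V : S.affineOpens => V.1)
    (fun T φ => by
      show ⨆ V : S.affineOpens, T.hom ⁻¹ᵁ V.1 = ⊤
      rw [← Scheme.Hom.preimage_iSup, hcov, Scheme.Hom.preimage_top])
    Z j (fun V T z z' h => (huniv V T (lies V T z) ((X ◁ z) ≫ ev V)).unique rfl h.symm)
    (fun V T z => by rintro _ ⟨t, rfl⟩; exact lies V T z t)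
    (fun V T φ hT => (huniv V T (fun t => hT ⟨t, rfl⟩) φ).exists)
    (isSheaf_homPsh X Y)
  let evM : X ⊗ M ⟶ Y := rep.homEquiv (𝟙 M)
  have hev : ∀ {T : Over S} (v : T ⟶ M), (X ◁ v) ≫ evM = rep.homEquiv v := fun v =>
    (rep.homEquiv_comp v (𝟙 M)).symm.trans (congrArg rep.homEquiv (Category.comp_id v))
  have hM : ∀ (T : Over S) (φ : X ⊗ T ⟶ Y), ∃! v : T ⟶ M, (X ◁ v) ≫ evM = φ := fun T φ => by
    simp only [hev]
    exact rep.homEquiv.bijective.existsUnique φ
  -- the restriction of `M` over an affine open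
  have loc : ∀ V : S.affineOpens, ∃ z : Z V ⟶ M, IsPullback z.left (IsOpenImmersion.lift V.1.ι (Z V).hom
      (by rw [Scheme.Opens.range_ι]; rintro _ ⟨t, rfl⟩; exact hZin V t)) M.hom V.1.ι := by
    intro V
    obtain ⟨z, hz, -⟩ := hM (Z V) (ev V)
    let P : Over S := Over.mk (pullback.fst M.hom V.1.ι ≫ M.hom)
    let p₁ : P ⟶ M := Over.homMk (pullback.fst M.hom V.1.ι) rfl
    have hP : LiesIn V.1 P := fun t => by
      show (pullback.fst M.hom V.1.ι ≫ M.hom) t ∈ V.1
      rw [pullback.condition, Scheme.Hom.comp_apply]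
      exact (pullback.snd M.hom V.1.ι t).2
    obtain ⟨w, hw, -⟩ := huniv V P hP ((X ◁ p₁) ≫ evM)
    refine ⟨z, ?_⟩
    set lz := IsOpenImmersion.lift V.1.ι (Z V).hom _
    have hlz : lz ≫ V.1.ι = (Z V).hom := IsOpenImmersion.lift_fac _ _ _
    let m : Z V ⟶ P := Over.homMk (pullback.lift z.left lz ((Over.w z).trans hlz.symm)) (by
      show _ ≫ pullback.fst M.hom V.1.ι ≫ M.hom = _
      rw [pullback.lift_fst_assoc, Over.w])
    have hmp : m ≫ p₁ = z := Over.OverMorphism.ext (pullback.lift_fst _ _ _)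
    have h1 : m ≫ w = 𝟙 _ := (huniv V (Z V) (hZin V) (ev V)).unique (by
      simp only [MonoidalCategory.whiskerLeft_comp, Category.assoc, hw]
      rw [← MonoidalCategory.whiskerLeft_comp_assoc, hmp, hz]) (by simp)
    have h2 : w ≫ z = p₁ := (hM P ((X ◁ p₁) ≫ evM)).unique (by
      simp only [MonoidalCategory.whiskerLeft_comp, Category.assoc, hz, hw]) rfl
    have h3 : w ≫ m = 𝟙 P := by
      apply Over.OverMorphism.ext
      apply pullback.hom_ext
      · have := congrArg CommaMorphism.left h2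
        show (w.left ≫ m.left) ≫ pullback.fst M.hom V.1.ι = 𝟙 _ ≫ pullback.fst M.hom V.1.ι
        rw [Category.id_comp, Category.assoc]
        exact (congrArg (w.left ≫ ·) (pullback.lift_fst _ _ _)).trans this
      · rw [← cancel_mono V.1.ι]
        show ((w.left ≫ m.left) ≫ pullback.snd M.hom V.1.ι) ≫ V.1.ι = (𝟙 _ ≫ pullback.snd M.hom V.1.ι) ≫ V.1.ι
        rw [Category.id_comp, Category.assoc, Category.assoc]
        refine (congrArg (w.left ≫ ·) ((pullback.lift_snd_assoc _ _ _ _).trans hlz)).trans ?_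
        exact (Over.w w).trans pullback.condition
    haveI : IsIso m := ⟨w, h1, h3⟩
    haveI : IsIso m.left := inferInstanceAs (IsIso ((Over.forget S).map m))
    exact IsPullback.of_iso_pullback ⟨(Over.w z).trans hlz.symm⟩ (asIso m.left)
      (pullback.lift_fst _ _ _) (pullback.lift_snd _ _ _)
  have prop : ∀ (P : MorphismProperty Scheme.{u}) [IsZariskiLocalAtTarget P],
      (∀ V : S.affineOpens, ∀ t : (Z V).left ⟶ V.1, t ≫ V.1.ι = (Z V).hom → P t) → P M.hom := by
    intro P _ hP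
    refine IsZariskiLocalAtTarget.of_iSup_eq_top (fun V : S.affineOpens => V.1) hcov fun V => ?_
    obtain ⟨z, hz⟩ := loc V
    let e := (isPullback_morphismRestrict M.hom V.1).flip.isoIsPullback _ _ hz
    have : M.hom ∣_ V.1 = e.hom ≫ IsOpenImmersion.lift V.1.ι (Z V).hom
        (by rw [Scheme.Opens.range_ι]; rintro _ ⟨t, rfl⟩; exact hZin V t) :=
      (IsPullback.isoIsPullback_hom_snd _ _ (isPullback_morphismRestrict M.hom V.1).flip hz).symm
    rw [this]
    exact MorphismProperty.RespectsIso.precomp _ e.hom _ (hP V _ (IsOpenImmersion.lift_fac _ _ _))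
  refine ⟨M, evM, prop @IsAffineHom fun V t _ => ?_, fun h => prop _ fun V t ht => ?_,
    fun h => prop _ fun V t ht => ?_, hM⟩
  · haveI := hZa V
    haveI : IsAffine (V.1 : Scheme.{u}) := V.2
    infer_instance
  · obtain ⟨t', ht', hp⟩ := hft V h
    rw [(cancel_mono V.1.ι).1 (ht.trans ht'.symm)]; exact hp
  · obtain ⟨t', ht', hp⟩ := hfp V h
    rw [(cancel_mono V.1.ι).1 (ht.trans ht'.symm)]; exact hp

end Groth.Agent.SGA3cLib.HomScheme
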