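import Groth.Agent.SGA3cLib.DSHom
import Groth.Agent.SGA3cLib.BCPoints
import Groth.Agent.SGA3cLib.HomScheme
import Groth.Agent.SGA1Quot.GeomTransitive
import Groth.Prelude.Def_TwC
import Groth.Prelude.Def_AutFam

/-! # Homomorphisms of diagonalisable groups form a constant scheme -/

set_option linter.style.haveILetI false
set_option autoImplicit false
set_option backward.isDefEq.respectTransparency.types false
universe u

open CategoryTheory CategoryTheory.Limits MonoidalCategory CartesianMonoidalCategory MonObj AlgebraicGeometry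

noncomputable section

namespace Groth.Agent.SGA3cLib.HomDS

variable {U : Scheme.{u}} {M N : Type} [AddCommGroup M] [AddCommGroup N]

/-- Different maps of character groups are different at every point. -/
theorem eq_of_points {W : Over U} (hW : Nonempty W.left) {a a' : N →+ M}
    (h : ∀ (W' : Over U) (_ : W' ⟶ W) (p : W' ⟶ Red.DS U M), p ≫ Red.DSmap U a = p ≫ Red.DSmap U a') : a = a' := by
  obtain ⟨x⟩ := hW
  obtain ⟨K, _, ξ⟩ : ∃ (K : Type u) (_ : Field K), Nonempty (Spec (CommRingCat.of K) ⟶ W.left) :=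
    ⟨W.left.residueField x, inferInstance, ⟨W.left.fromSpecResidueField x⟩⟩
  let E : CommRingCat.{u} := CommRingCat.of (MonoidAlgebra K (Multiplicative M))
  let c : CommRingCat.of K ⟶ E := CommRingCat.ofHom MonoidAlgebra.singleOneRingHom
  let W₁ : Over U := Over.mk (Spec.map c ≫ ξ.some ≫ W.hom)
  let r : W₁ ⟶ W := Over.homMk (Spec.map c ≫ ξ.some) (Category.assoc _ _ _)
  obtain ⟨p, hp⟩ := exists_dsPt (W := W₁) (M := M)
    ((Scheme.ΓSpecIso E).inv.hom.toMonoidHom.comp (MonoidAlgebra.of K (Multiplicative M)))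
  ext n
  have h1 := congrArg (fun q => dsFn q (Multiplicative.ofAdd n)) (h W₁ r p)
  simp only [S5427.dsFn_DSmap, hp, MonoidHom.comp_apply] at h1
  have h2 := congrArg (Scheme.ΓSpecIso E).hom h1
  simp only [RingHom.toMonoidHom_eq_coe, MonoidHom.coe_coe] at h2
  erw [Iso.inv_hom_id_apply, Iso.inv_hom_id_apply] at h2
  exact Multiplicative.ofAdd.injective ((MonoidAlgebra.single_left_inj one_ne_zero).1 h2)

/-- A family of homomorphisms of diagonalisable groups is locally given by maps of character groups. -/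
theorem exists_local [AddGroup.FG N] {T : Over U} (φ : Red.DS U M ⊗ T ⟶ Red.DS U N)
    (hφ : AutFam.IsHomFamily (Red.DS U M) (Red.DS U N) φ) (x : T.left) :
    ∃ (V : T.left.Opens) (a : N →+ M), x ∈ V ∧ ∀ (W : Over U) (t : W ⟶ T), (∀ w, t.left w ∈ V) →
      ∀ p : W ⟶ Red.DS U M, lift p t ≫ φ = p ≫ Red.DSmap U a := by
  let D := Red.DS T.left M
  let F := Over.map T.hom
  obtain ⟨p₀, hp₀⟩ := exists_dsPt (W := F.obj D) (M := M) (dsFn (U := T.left) (W := D) (M := M) (𝟙 D))
  let t₀ : F.obj D ⟶ T := Over.homMk D.hom rfl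
  obtain ⟨u, hu⟩ := exists_dsPt (W := D) (M := N) (dsFn (U := U) (W := F.obj D) (M := N) (lift p₀ t₀ ≫ φ))
  -- points of `D` over `T` as points of `DS U M`
  have tr : ∀ {W : Over T.left} (p : W ⟶ D) (p' : F.obj W ⟶ Red.DS U M) (t' : F.obj W ⟶ T), t'.left = W.hom →
      (∀ m, dsFn p' m = dsFn p m) → ∀ n, dsFn (p ≫ u) n = dsFn (lift p' t' ≫ φ) n := by
    intro W p p' t' ht' hp' n
    have e1 : F.map p ≫ p₀ = p' := dsFn_injective (MonoidHom.ext fun m => by
      rw [dsFn_comp, hp₀, hp']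
      conv_rhs => rw [← Category.comp_id p, dsFn_comp]
      rfl)
    have e2 : F.map p ≫ t₀ = t' := Over.OverMorphism.ext ((Over.w p).trans ht'.symm)
    rw [← e1, ← e2, ← comp_lift, Category.assoc, dsFn_comp (F.map p), dsFn_comp p, hu]
    rfl
  have lifts : ∀ {W : Over T.left} (p : W ⟶ D), ∃ p' : F.obj W ⟶ Red.DS U M, dsFn p' = dsFn (U := T.left) (W := W) (M := M) p :=
    fun {W} p => exists_dsPt (W := F.obj W) (dsFn (U := T.left) (W := W) (M := M) p)
  have hmul : ∀ (W : Over T.left) (p q : W ⟶ D), (p * q) ≫ u = (p ≫ u) * (q ≫ u) := by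
    intro W p q
    obtain ⟨p', hp'⟩ := lifts p
    obtain ⟨q', hq'⟩ := lifts q
    refine dsFn_injective (MonoidHom.ext fun n => ?_)
    let t' : F.obj W ⟶ T := Over.homMk W.hom rfl
    rw [dsFn_mul, tr p p' t' rfl (fun m => by rw [hp']), tr q q' t' rfl (fun m => by rw [hq']),
      tr (p * q) (p' * q') t' rfl (fun m => by rw [dsFn_mul, dsFn_mul, hp', hq']), hφ _ p' q' t', dsFn_mul]
  haveI : IsMonHom u := BCPoints.isMonHom_of_mul u fun W p q => hmul W p q
  obtain ⟨V, a, hxV, hV⟩ := DSHom.exists_eq_DSmap u x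
  refine ⟨V, a, hxV, fun W t ht p => ?_⟩
  let W' : Over T.left := Over.mk t.left
  let κ : F.obj W' ⟶ W := Over.homMk (𝟙 _) ((Category.id_comp _).trans (Over.w t).symm)
  haveI : IsIso κ := by
    haveI : IsIso ((Over.forget U).map κ) := inferInstanceAs (IsIso (𝟙 W.left))
    exact isIso_of_reflects_iso κ (Over.forget U)
  rw [← cancel_epi κ, ← Category.assoc, comp_lift, ← Category.assoc]
  obtain ⟨q, hq⟩ := exists_dsPt (W := W') (M := M) (dsFn (U := U) (W := F.obj W') (M := M) (κ ≫ p))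
  refine dsFn_injective (MonoidHom.ext fun n => ?_)
  rw [← tr q (κ ≫ p) (κ ≫ t) (Category.id_comp _) (fun m => by rw [hq]),
    hV W' (by rintro _ ⟨w, rfl⟩; exact ht w) q, S5427.dsFn_DSmap, S5427.dsFn_DSmap, hq]

/-- the index type -/
abbrev Idx (M N : Type) [AddCommGroup M] [AddCommGroup N] : Type := N →+ M

theorem ι_disjoint {i j : Idx M N} {K : Over U} (a b : K ⟶ 𝟙_ (Over U))
    (h : a ≫ TwC.pt U (Idx M N) i = b ≫ TwC.pt U (Idx M N) j) (hK : Nonempty K.left) : i = j := by
  by_contra hij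
  obtain ⟨k⟩ := hK
  have e := congrArg (fun q : K ⟶ TwC.const U (Idx M N) => q.left k) h
  exact hij (congrArg Sigma.fst ((sigmaι_eq_iff (fun _ : Idx M N => U) i j (a.left k) (b.left k)).mp (by simpa [TwC.pt] using e)))

instance isOpenImmersion_pt (i : Idx M N) : IsOpenImmersion (TwC.pt U (Idx M N) i).left :=
  inferInstanceAs (IsOpenImmersion (Sigma.ι (fun _ : Idx M N => U) i))

theorem exists_pt (c : (TwC.const U (Idx M N)).left) : ∃ i w, (TwC.pt U (Idx M N) i).left w = c := by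
  obtain ⟨i, w, hw⟩ := (sigmaOpenCover (fun _ : Idx M N => U)).exists_eq c
  exact ⟨i, w, hw⟩

theorem eq_of_isEmpty {S : Scheme.{u}} {X Y : Over S} (hX : IsEmpty X.left) (f g : X ⟶ Y) : f = g :=
  Over.OverMorphism.ext (Scheme.hom_ext_of_forall _ _ fun x => (hX.false x).elim)

theorem restr_factor {T : Over U} {i : Idx M N} (v : T ⟶ TwC.const U (Idx M N)) :
    ∃ t : HomScheme.restr T (v.left ⁻¹ᵁ (TwC.pt U (Idx M N) i).left.opensRange) ⟶ 𝟙_ (Over U),
      HomScheme.restrHom T _ ≫ v = t ≫ TwC.pt U (Idx M N) i := by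
  haveI := isOpenImmersion_pt (U := U) i
  let r := HomScheme.restrHom T (v.left ⁻¹ᵁ (TwC.pt U (Idx M N) i).left.opensRange)
  have hr : Set.range (r ≫ v).left ⊆ Set.range (TwC.pt U (Idx M N) i).left := by
    rintro _ ⟨x, rfl⟩; exact x.2
  refine ⟨toUnit _, Over.OverMorphism.ext ?_⟩
  have e := IsOpenImmersion.lift_fac (TwC.pt U (Idx M N) i).left (r ≫ v).left hr
  have : IsOpenImmersion.lift (TwC.pt U (Idx M N) i).left (r ≫ v).left hr = (toUnit (HomScheme.restr T _)).left := by
    have h2 := congrArg (· ≫ (TwC.const U (Idx M N)).hom) e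
    simp only [Category.assoc, Over.w] at h2
    refine (Category.comp_id _).symm.trans (h2.trans ?_)
    exact ((Category.comp_id _).symm.trans (Over.w (toUnit (HomScheme.restr T _)))).symm
  rw [this] at e
  exact e.symm

theorem exists_universal' [AddGroup.FG N] :
    ∃ υ : Red.DS U M ⊗ TwC.const U (Idx M N) ⟶ Red.DS U N,
      AutFam.RepresentsHom (Red.DS U M) (Red.DS U N) (TwC.const U (Idx M N)) υ ∧
      ∀ (i : Idx M N) (W : Over U) (p : W ⟶ Red.DS U M) (s : W ⟶ 𝟙_ (Over U)),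
        lift p (s ≫ TwC.pt U (Idx M N) i) ≫ υ = p ≫ Red.DSmap U i := by
  haveI : ∀ i : ULift.{u} (Idx M N), IsOpenImmersion (TwC.pt U (Idx M N) i.down).left :=
    fun i => isOpenImmersion_pt i.down
  obtain ⟨υ, hυ, -⟩ := HomScheme.glue (X := Red.DS U M) (Y := Red.DS U N)
    (fun _ : ULift.{u} (Idx M N) => 𝟙_ (Over U)) (fun i => TwC.pt U (Idx M N) i.down)
    (fun c => by obtain ⟨i, w, hw⟩ := exists_pt c; exact ⟨⟨i⟩, w, hw⟩)
    (fun i => fst _ _ ≫ Red.DSmap U i.down)
    (fun i j K a b hab => by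
      rcases isEmpty_or_nonempty K.left with hK | hK
      · refine eq_of_isEmpty ?_ _ _
        exact Function.isEmpty (snd (Red.DS U M) K).left
      · rw [ι_disjoint a b hab hK, ← Category.assoc, ← Category.assoc, whiskerLeft_fst, whiskerLeft_fst])
  have val : ∀ (i : Idx M N) {W : Over U} (p : W ⟶ Red.DS U M) (s : W ⟶ 𝟙_ (Over U)),
      lift p (s ≫ TwC.pt U (Idx M N) i) ≫ υ = p ≫ Red.DSmap U i := fun i W p s => by
    rw [← lift_whiskerLeft_assoc, hυ ⟨i⟩, lift_fst_assoc]
  refine ⟨υ, ⟨fun X g₁ g₂ t => ?_, fun T φ hφ => ?_⟩, fun i W p s => val i p s⟩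
  · apply Over.OverMorphism.ext
    refine Scheme.hom_ext_of_forall _ _ fun x => ?_
    obtain ⟨i, w, hw⟩ := exists_pt (t.left x)
    refine ⟨t.left ⁻¹ᵁ (TwC.pt U (Idx M N) i).left.opensRange, ⟨w, hw⟩, ?_⟩
    obtain ⟨s, hs⟩ := restr_factor (i := i) t
    haveI := S5427.isMonHom_DSmap (U := U) i
    let r := HomScheme.restrHom X (t.left ⁻¹ᵁ (TwC.pt U (Idx M N) i).left.opensRange)
    refine congrArg CommaMorphism.left (?_ : r ≫ _ = r ≫ _)
    rw [MonObj.comp_mul]
    simp only [← Category.assoc, comp_lift, hs]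
    simp only [Category.assoc, r]
    erw [hs]
    simp only [val, MonObj.comp_mul, MonObj.mul_comp]
  · choose V a hxV hV using fun x => exists_local φ hφ x
    have hcov : TopologicalSpace.IsOpenCover V :=
      TopologicalSpace.IsOpenCover.mk (top_le_iff.1 fun x _ => TopologicalSpace.Opens.mem_iSup.2 ⟨x, hxV x⟩)
    let v : ∀ x, HomScheme.restr T (V x) ⟶ TwC.const U (Idx M N) := fun x => toUnit _ ≫ TwC.pt U (Idx M N) (a x)
    let 𝒰 := T.left.openCoverOfIsOpenCover V hcov
    have hc : ∀ x y, pullback.fst (V x).ι (V y).ι ≫ (v x).left = pullback.snd (V x).ι (V y).ι ≫ (v y).left := by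
      intro x y
      let L : Over U := Over.mk (pullback.fst (V x).ι (V y).ι ≫ (V x).ι ≫ T.hom)
      let l₁ : L ⟶ HomScheme.restr T (V x) := Over.homMk (pullback.fst (V x).ι (V y).ι) rfl
      let l₂ : L ⟶ HomScheme.restr T (V y) := Over.homMk (pullback.snd (V x).ι (V y).ι) (by
        show _ ≫ (V y).ι ≫ T.hom = pullback.fst (V x).ι (V y).ι ≫ (V x).ι ≫ T.hom
        rw [pullback.condition_assoc])
      refine congrArg CommaMorphism.left (?_ : l₁ ≫ v x = l₂ ≫ v y)
      rcases isEmpty_or_nonempty L.left with hL | hL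
      · exact eq_of_isEmpty hL _ _
      · have : a x = a y := eq_of_points hL fun W' w p => by
          have e : w ≫ l₁ ≫ HomScheme.restrHom T (V x) = w ≫ l₂ ≫ HomScheme.restrHom T (V y) := by
            congr 1; exact Over.OverMorphism.ext pullback.condition
          rw [← hV x W' (w ≫ l₁ ≫ HomScheme.restrHom T (V x)) (fun q => ((w.left ≫ l₁.left) q).2) p, e,
            hV y W' (w ≫ l₂ ≫ HomScheme.restrHom T (V y)) (fun q => ((w.left ≫ l₂.left) q).2) p]
        simp only [v, this, ← Category.assoc]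
        congr 1
        exact toUnit_unique _ _
    obtain ⟨v₀, hv₀⟩ : ∃ v₀ : T.left ⟶ (TwC.const U (Idx M N)).left, ∀ x, (V x).ι ≫ v₀ = (v x).left :=
      ⟨_, fun x => Scheme.Cover.ι_glueMorphisms 𝒰 (fun x => (v x).left) hc x⟩
    let v' : T ⟶ TwC.const U (Idx M N) := Over.homMk v₀ (Scheme.Cover.hom_ext 𝒰 _ _ fun x => by
      show (V x).ι ≫ v₀ ≫ _ = (V x).ι ≫ T.hom
      rw [← Category.assoc, hv₀, Over.w]
      rfl)
    have hv' : ∀ x, HomScheme.restrHom T (V x) ≫ v' = v x := fun x => Over.OverMorphism.ext (hv₀ x)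
    refine ⟨v', ?_, fun v'' hv'' => ?_⟩
    · refine HomScheme.hom_ext_tensor _ _ (fun x => HomScheme.restr T (V x)) (fun x => HomScheme.restrHom T (V x))
        (fun t => ⟨t, ⟨t, hxV t⟩, rfl⟩) fun x => ?_
      rw [← MonoidalCategory.whiskerLeft_comp_assoc, hv']
      rw [← Category.id_comp ((Red.DS U M) ◁ HomScheme.restrHom T (V x)), ← lift_fst_snd, lift_whiskerLeft,
        hV x _ _ (fun q => ((snd (Red.DS U M) (HomScheme.restr T (V x))).left q).2), ← Category.id_comp (_ ◁ v x),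
        ← lift_fst_snd, lift_whiskerLeft]
      simp only [v, ← Category.assoc, val]
    · apply Over.OverMorphism.ext
      refine Scheme.hom_ext_of_forall _ _ fun x => ?_
      obtain ⟨i, w, hw⟩ := exists_pt (v''.left x)
      let O := V x ⊓ v''.left ⁻¹ᵁ (TwC.pt U (Idx M N) i).left.opensRange
      refine ⟨O, ⟨hxV x, ⟨w, hw⟩⟩, ?_⟩
      let r := HomScheme.restrHom T O
      let r₁ : HomScheme.restr T O ⟶ HomScheme.restr T (V x) :=
        Over.homMk (T.left.homOfLE inf_le_left) (by simp)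
      let r₂ : HomScheme.restr T O ⟶
          HomScheme.restr T (v''.left ⁻¹ᵁ (TwC.pt U (Idx M N) i).left.opensRange) :=
        Over.homMk (T.left.homOfLE inf_le_right) (by simp)
      have e₁ : r₁ ≫ HomScheme.restrHom T (V x) = r := Over.OverMorphism.ext (T.left.homOfLE_ι (inf_le_left : O ≤ V x))
      have e₂ : r₂ ≫ HomScheme.restrHom T _ = r := Over.OverMorphism.ext (T.left.homOfLE_ι (inf_le_right : O ≤ v''.left ⁻¹ᵁ (TwC.pt U (Idx M N) i).left.opensRange))
      obtain ⟨s, hs⟩ := restr_factor (i := i) v''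
      have hi : i = a x := eq_of_points (W := HomScheme.restr T O) ⟨⟨x, hxV x, ⟨w, hw⟩⟩⟩ fun W' q p => by
        have h1 := congrArg (lift p (q ≫ r) ≫ ·) hv''
        simp only [lift_whiskerLeft_assoc] at h1
        rw [hV x W' (q ≫ r) (fun z => (q.left z).2.1) p] at h1
        rw [← h1, Category.assoc, ← e₂, Category.assoc, hs, ← Category.assoc, ← Category.assoc, val]
      refine congrArg CommaMorphism.left (?_ : r ≫ v'' = r ≫ v')
      conv_rhs => rw [← e₁, Category.assoc, hv']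
      conv_lhs => rw [← e₂, Category.assoc, hs]
      simp only [v, hi, ← Category.assoc]
      congr 1
      exact toUnit_unique _ _

theorem exists_universal [AddGroup.FG N] :
    ∃ υ : Red.DS U M ⊗ TwC.const U (Idx M N) ⟶ Red.DS U N,
      AutFam.RepresentsHom (Red.DS U M) (Red.DS U N) (TwC.const U (Idx M N)) υ :=
  let ⟨υ, h, _⟩ := exists_universal' (U := U) (M := M) (N := N)
  ⟨υ, h⟩

theorem etale_const (U : Scheme.{u}) (I : Type) : Etale (TwC.const U I).hom :=
  IsZariskiLocalAtSource.sigmaDesc fun _ => inferInstance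

theorem isFinite_const (U : Scheme.{u}) (I : Type) [Finite I] : IsFinite (TwC.const U I).hom := by
  haveI := SGA1Quot.GeomTrans.isFinite_sigmaDesc (G := ULift.{u} I) (fun _ => 𝟙 U) fun _ => inferInstance
  let e : (∐ fun _ : I => U) ⟶ ∐ fun _ : ULift.{u} I => U := Sigma.desc fun i => Sigma.ι (fun _ : ULift.{u} I => U) ⟨i⟩
  let e' : (∐ fun _ : ULift.{u} I => U) ⟶ ∐ fun _ : I => U := Sigma.desc fun i => Sigma.ι (fun _ : I => U) i.down
  haveI : IsIso e := ⟨e', by apply Sigma.hom_ext; intro i; simp [e, e'], by apply Sigma.hom_ext; intro i; simp [e, e']⟩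
  have : (TwC.const U I).hom = e ≫ Sigma.desc fun _ : ULift.{u} I => 𝟙 U := by
    apply Sigma.hom_ext; intro i; simp [e]
  rw [this]; infer_instance

end Groth.Agent.SGA3cLib.HomDS
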