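import Groth.Agent.SGA3cLib.FreeGraph
import Groth.Agent.SGA3cLib.CentralEqBasic
import Groth.Agent.SGA3cLib.ActionPoints

/-! Free actions of groups of multiplicative type on affine schemes: globalisation. -/

set_option linter.style.haveILetI false
set_option autoImplicit false

universe u

open CategoryTheory CategoryTheory.Limits MonoidalCategory CartesianMonoidalCategory MonObj AlgebraicGeometry

noncomputable section

namespace Groth.Agent.SGA3cLib.FreeGraph

/-- The comparison of the base change of a product with the product of the base changes. -/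
def comparison {S T : Scheme.{u}} (g : T ⟶ S) (A B : Over S) :
    Red.bc g (A ⊗ B) ⟶ Red.bc g A ⊗ Red.bc g B :=
  lift ((Over.pullback g).map (fst A B)) ((Over.pullback g).map (snd A B))

theorem isIso_comparison {S T : Scheme.{u}} (g : T ⟶ S) (A B : Over S) : IsIso (comparison g A B) := by
  let inv' : Red.bc g A ⊗ Red.bc g B ⟶ Red.bc g (A ⊗ B) := BCPoints.pt g (A ⊗ B) _
    (lift ((BCPoints.pt g A _).symm (fst (Red.bc g A) (Red.bc g B))) ((BCPoints.pt g B _).symm (snd (Red.bc g A) (Red.bc g B))))
  refine ⟨inv', ?_, ?_⟩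
  · refine (BCPoints.pt g (A ⊗ B) _).symm.injective ?_
    rw [Equiv.symm_apply_eq]
    unfold inv'
    rw [← BCPoints.pt_map_comp]
    congr 1
    apply CartesianMonoidalCategory.hom_ext
    · rw [Category.assoc, lift_fst]
      refine (BCPoints.pt g A _).injective ?_
      rw [BCPoints.pt_map_comp, Equiv.apply_symm_apply, comparison, lift_fst, BCPoints.pt_comp, Equiv.apply_symm_apply,
        Category.id_comp]
    · rw [Category.assoc, lift_snd]
      refine (BCPoints.pt g B _).injective ?_
      rw [BCPoints.pt_map_comp, Equiv.apply_symm_apply, comparison, lift_snd, BCPoints.pt_comp, Equiv.apply_symm_apply,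
        Category.id_comp]
  · apply CartesianMonoidalCategory.hom_ext
    · rw [Category.assoc, comparison, lift_fst, Category.id_comp]
      unfold inv'
      rw [← BCPoints.pt_comp, lift_fst, Equiv.apply_symm_apply]
    · rw [Category.assoc, comparison, lift_snd, Category.id_comp]
      unfold inv'
      rw [← BCPoints.pt_comp, lift_snd, Equiv.apply_symm_apply]

theorem pt_comparison {S T : Scheme.{u}} (g : T ⟶ S) (A B : Over S) {Y : Over T} (a : (Over.map g).obj Y ⟶ A)
    (b : (Over.map g).obj Y ⟶ B) :
    BCPoints.pt g (A ⊗ B) Y (lift a b) ≫ comparison g A B = lift (BCPoints.pt g A Y a) (BCPoints.pt g B Y b) := by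
  rw [comparison, comp_lift, ← BCPoints.pt_comp, ← BCPoints.pt_comp, lift_fst, lift_snd]

/-- The graph of a free action is a closed immersion. -/
theorem isClosedImmersion_graph {S : Scheme.{u}} (G X : Over S) [GrpObj G]
    (hG : TwC.Locally S TwC.Topology.fpqc (fun S' f => ∃ (M : Type) (_ : AddCommGroup M),
      Nonempty (Grp.mk (Red.bc f G) ≅ Grp.mk (Red.DS S' M))))
    (hX : IsAffineHom X.hom) (a : AlgGrp.Action G X)
    (hfree : ∀ (Y : Over S) (g : Y ⟶ G) (x : Y ⟶ X), lift g x ≫ a.act = x → g = 1) :
    IsClosedImmersion (lift a.act (snd G X)).left := by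
  obtain ⟨S', F, hfl, -, hq, hU⟩ := hG
  haveI := hfl
  have hF := IsFpqcCov.of_forall F hq
  haveI := Et18.descends_isClosedImmersion.{u}
  suffices h : ∀ w : S', F.base w ∈ (⊤ : S.Opens) → ∃ B : S'.Opens, w ∈ B ∧
      IsClosedImmersion ((Over.pullback (B.ι ≫ F)).map (lift a.act (snd G X))).left by
    have h1 := CentralEq.of_locally (lift a.act (snd G X)) @IsClosedImmersion F hF ⊤ h
    have h2 := MultHomLocus.of_comp (lift a.act (snd G X)) @IsClosedImmersion (⊤ : S.Opens).ι S.topIso.inv (𝟙 S)
      (S.topIso.inv_hom_id) h1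
    exact (MorphismProperty.arrow_mk_iso_iff @IsClosedImmersion
      (Arrow.isoMk (@asIso _ _ _ _ (pullback.fst (G ⊗ X).hom (𝟙 S)) inferInstance)
        (@asIso _ _ _ _ (pullback.fst (X ⊗ X).hom (𝟙 S)) inferInstance)
        (MultHomLocus.map_left_fst (lift a.act (snd G X)) (𝟙 S)).symm)).mp h2
  intro w _
  obtain ⟨U, hwU, M, _, ⟨e⟩⟩ := hU w
  obtain ⟨P, hP, hwP, hPU⟩ := exists_isAffineOpen_mem_and_subset (U := U) (x := w) hwU
  refine ⟨P, hwP, ?_⟩
  let g : Spec Γ(S', P) ⟶ S := hP.fromSpec ≫ F
  suffices h : IsClosedImmersion ((Over.pullback g).map (lift a.act (snd G X))).left from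
    MultHomLocus.of_comp _ @IsClosedImmersion g hP.isoSpec.hom _ (by simp [g]) h
  let c : Spec Γ(S', P) ⟶ U := IsOpenImmersion.lift U.ι hP.fromSpec (by
    rw [U.range_ι, hP.range_fromSpec]; exact hPU)
  obtain ⟨σ₁, hσ₁, -⟩ := GrpBC.nonempty_iso_restrict (U.ι ≫ F) c g
    (by rw [← Category.assoc, IsOpenImmersion.lift_fac]) G e
  haveI := hσ₁
  let GR := Red.bc g G
  let XR := Red.bc g X
  haveI : IsAffineHom XR.hom := by
    haveI := hX
    exact inferInstanceAs (IsAffineHom (pullback.snd X.hom g))
  haveI : IsAffine XR.left := isAffine_of_isAffineHom XR.hom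
  haveI : IsAffineHom (Red.DS (Spec Γ(S', P)) M).hom := by
    have hd : IsAffineHom (Red.diag (ULift.{u} ℤ) M).hom := by
      show IsAffineHom (Spec.map _)
      infer_instance
    exact MorphismProperty.pullback_snd (P := @IsAffineHom) _ _ hd
  haveI : IsAffineHom GR.hom := by rw [← Over.w σ₁.hom]; infer_instance
  haveI : IsAffine GR.left := isAffine_of_isAffineHom GR.hom
  let e₀ : Red.bc (𝟙 (Spec Γ(S', P))) GR ≅ Red.DS (Spec Γ(S', P)) M :=
    (GrpBC.bcCongr g (𝟙 (Spec Γ(S', P))) g (Category.id_comp g)).app G ≪≫ σ₁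
  haveI : IsMonHom e₀.hom := by
    let b₀ : Red.bc (𝟙 (Spec Γ(S', P))) GR ≅ Red.bc g G :=
      (GrpBC.bcCongr g (𝟙 (Spec Γ(S', P))) g (Category.id_comp g)).app G
    haveI : IsMonHom b₀.hom := (GrpBC.isMonHom_app _ G).1
    show IsMonHom (b₀.hom ≫ σ₁.hom)
    infer_instance
  obtain ⟨σ⟩ := Averaging.exists_split (R₀ := Γ(S', P)) (H := GR) (𝟙 _)
    (Grp.mkIso e₀ (IsMonHom.one_hom _) (IsMonHom.mul_hom _)) (R := Γ(S', P)) (𝟙 _)
    (by rw [Category.id_comp]; exact (Spec.map_id _).symm)
  haveI := isIso_comparison g G X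
  haveI := isIso_comparison g X X
  let act' : GR ⊗ XR ⟶ XR := inv (comparison g G X) ≫ (Over.pullback g).map a.act
  have hpt : ∀ {Y : Over (Spec Γ(S', P))} (p : (Over.map g).obj Y ⟶ G) (x : (Over.map g).obj Y ⟶ X),
      lift (BCPoints.pt g G Y p) (BCPoints.pt g X Y x) ≫ act' = BCPoints.pt g X Y (lift p x ≫ a.act) := by
    intro Y p x
    rw [← pt_comparison, Category.assoc, BCPoints.pt_comp]
    congr 1
    rw [IsIso.hom_inv_id_assoc]
  have h1 : ∀ (Y : Over (Spec Γ(S', P))), BCPoints.pt g G Y 1 = 1 := fun Y =>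
    map_one (MonoidHom.mk' (BCPoints.pt g G Y) (BCPoints.pt_mul g))
  have key := isClosedImmersion_graph_split σ act'
    (fun Y x => by
      obtain ⟨x, rfl⟩ := (BCPoints.pt g X Y).surjective x
      rw [← h1 Y, hpt]
      exact congrArg _ (one_smulPt a x))
    (fun Y p q x => by
      obtain ⟨x, rfl⟩ := (BCPoints.pt g X Y).surjective x
      obtain ⟨p, rfl⟩ := (BCPoints.pt g G Y).surjective p
      obtain ⟨q, rfl⟩ := (BCPoints.pt g G Y).surjective q
      rw [← BCPoints.pt_mul, hpt, hpt, hpt]
      exact congrArg _ (mul_smulPt a p q x))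
    (fun Y p x h => by
      obtain ⟨x, rfl⟩ := (BCPoints.pt g X Y).surjective x
      obtain ⟨p, rfl⟩ := (BCPoints.pt g G Y).surjective p
      rw [hpt] at h
      rw [hfree _ p x ((BCPoints.pt g X Y).injective h), h1])
  have e2 : (Over.pullback g).map (lift a.act (snd G X)) ≫ comparison g X X =
      comparison g G X ≫ lift act' (snd GR XR) := by
    apply CartesianMonoidalCategory.hom_ext
    · rw [Category.assoc, Category.assoc, lift_fst, show comparison g X X ≫ fst _ _ = (Over.pullback g).map (fst X X) from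
        lift_fst _ _, ← Functor.map_comp, lift_fst]
      exact (IsIso.hom_inv_id_assoc (comparison g G X) _).symm
    · rw [Category.assoc, Category.assoc, lift_snd, show comparison g X X ≫ snd _ _ = (Over.pullback g).map (snd X X) from
        lift_snd _ _, ← Functor.map_comp, lift_snd]
      exact (lift_snd _ _).symm
  rw [show (Over.pullback g).map (lift a.act (snd G X)) =
    comparison g G X ≫ lift act' (snd GR XR) ≫ inv (comparison g X X) by
      rw [← Category.assoc, IsIso.eq_comp_inv, e2]]
  haveI : IsIso (comparison g G X).left := inferInstanceAs (IsIso ((Over.forget _).map (comparison g G X)))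
  haveI : IsIso (inv (comparison g X X)).left := inferInstanceAs (IsIso ((Over.forget _).map (inv (comparison g X X))))
  haveI := key
  show IsClosedImmersion ((comparison g G X).left ≫ (lift act' (snd GR XR)).left ≫ (inv (comparison g X X)).left)
  infer_instance

/-- Orbit maps of free actions are closed immersions. -/
theorem isClosedImmersion_orbitMap {S : Scheme.{u}} (G X : Over S) [GrpObj G] (a : AlgGrp.Action G X)
    (h : IsClosedImmersion (lift a.act (snd G X)).left) (o : 𝟙_ (Over S) ⟶ X) :
    IsClosedImmersion (a.orbitMap o).left := by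
  let l : G ⟶ G ⊗ X := lift (𝟙 G) (toUnit G ≫ o)
  let r : X ⟶ X ⊗ X := lift (𝟙 X) (toUnit X ≫ o)
  have hsq : IsPullback (a.orbitMap o) l r (lift a.act (snd G X)) := by
    have w : a.orbitMap o ≫ r = l ≫ lift a.act (snd G X) := by
      simp only [r, l, AlgGrp.Action.orbitMap, comp_lift, lift_snd, Category.comp_id]
      congr 1
      rw [← Category.assoc]
      congr 1
      exact toUnit_unique _ _
    have key : ∀ (s : PullbackCone r (lift a.act (snd G X))),
        (s.snd ≫ fst G X) ≫ l = s.snd ∧ (s.snd ≫ fst G X) ≫ a.orbitMap o = s.fst := by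
      intro s
      have e1 : s.fst = s.snd ≫ a.act := by
        have := congrArg (· ≫ fst X X) s.condition
        simpa [r] using this
      have e2 : toUnit s.pt ≫ o = s.snd ≫ snd G X := by
        have := congrArg (· ≫ snd X X) s.condition
        simp only [r, Category.assoc, lift_snd] at this
        rw [← this, ← Category.assoc]
        congr 1
        exact toUnit_unique _ _
      have e3 : (s.snd ≫ fst G X) ≫ l = s.snd := by
        apply CartesianMonoidalCategory.hom_ext
        · simp [l]
        · rw [Category.assoc, Category.assoc]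
          simp only [l, lift_snd]
          rw [← e2, ← Category.assoc (fst G X), ← Category.assoc]
          congr 1
          exact toUnit_unique _ _
      refine ⟨e3, ?_⟩
      rw [AlgGrp.Action.orbitMap, ← Category.assoc, e3, e1]
    refine IsPullback.of_isLimit (c := PullbackCone.mk _ _ w) (PullbackCone.IsLimit.mk _ (fun s => s.snd ≫ fst G X)
      (fun s => (key s).2) (fun s => (key s).1) (fun s m _ hm => ?_))
    rw [← hm]
    simp [l]
  exact MorphismProperty.of_isPullback (P := @IsClosedImmersion) (hsq.map (Over.forget S)).flip h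

end Groth.Agent.SGA3cLib.FreeGraph
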