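import Groth.Agent.SGA3cLib.MultHomLift

/-! Subgroups of multiplicative type and nilpotent thickenings; homomorphisms trivial modulo a nilpotent ideal. -/

set_option linter.style.haveILetI false
set_option autoImplicit false

universe u

open CategoryTheory CategoryTheory.Limits MonoidalCategory CartesianMonoidalCategory MonObj GrpObj AlgebraicGeometry

noncomputable section

namespace Groth.Agent.SGA3cLib.SubgroupConj

open Averaging MultHomLift

variable {R : Type u} [CommRing R]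

/-- `Spec (R / J)` over `Spec R`. -/
abbrev PQ (J : Ideal R) : Over (Spec (CommRingCat.of R)) :=
  Over.mk (Spec.map (CommRingCat.ofHom (Ideal.Quotient.mk J)))

theorem pt_one {S S' : Scheme.{u}} (f : S' ⟶ S) {G : Over S} [GrpObj G] (X' : Over S') :
    BCPoints.pt f G X' 1 = 1 :=
  map_one (MonoidHom.mk' (BCPoints.pt f G X') (BCPoints.pt_mul f))

/-- Factorisations over the points of a closed subscheme, from an isomorphism of base changes. -/
theorem exists_factor_of_bc {S S' : Scheme.{u}} (f : S' ⟶ S) {G H H' : Over S} (i : H ⟶ G) (i' : H' ⟶ G)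
    (ψ : Red.bc f H ⟶ Red.bc f H') (hψ : ψ ≫ (Over.pullback f).map i' = (Over.pullback f).map i)
    {X : Over S} (p : X ⟶ Over.mk f) (h : X ⟶ H) : ∃ h' : X ⟶ H', h' ≫ i' = h ≫ i := by
  let κ : X ⟶ (Over.map f).obj (Over.mk p.left) := Over.homMk (𝟙 _) ((Category.id_comp _).trans (Over.w p))
  let κ' : (Over.map f).obj (Over.mk p.left) ⟶ X := Over.homMk (𝟙 _) ((Category.id_comp _).trans (Over.w p).symm)
  have hκ : κ ≫ κ' = 𝟙 X := Over.OverMorphism.ext (Category.id_comp _)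
  obtain ⟨y, hy⟩ := (BCPoints.pt f H' _).surjective (BCPoints.pt f H _ (κ' ≫ h) ≫ ψ)
  refine ⟨κ ≫ y, ?_⟩
  have h1 : y ≫ i' = (κ' ≫ h) ≫ i := (BCPoints.pt f G _).injective (by
    rw [BCPoints.pt_comp, BCPoints.pt_comp, hy, Category.assoc, hψ])
  rw [Category.assoc, h1, ← Category.assoc, reassoc_of% hκ]

theorem mono_of_isImmersion {S : Scheme.{u}} {X Y : Over S} (i : X ⟶ Y) [IsImmersion i.left] : Mono i :=
  haveI : Mono i.left := inferInstance
  (Over.forget S).mono_of_mono_map (inferInstanceAs (Mono i.left))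

/-- Subgroups of multiplicative type conjugate modulo `J` are isomorphic, compatibly modulo `J`. -/
theorem exists_iso_conj (J : Ideal R) (hJ : IsNilpotent J) (G H H' : Over (Spec (CommRingCat.of R)))
    [GrpObj G] [GrpObj H] [GrpObj H'] (hH : IsMT H) (hH' : IsMT H')
    (i : H ⟶ G) [IsMonHom i] [IsImmersion i.left] (i' : H' ⟶ G) [IsMonHom i'] [IsImmersion i'.left]
    (g₀ : PQ J ⟶ G)
    (h₁ : ∀ (X : Over (Spec (CommRingCat.of R))) (p : X ⟶ PQ J) (h : X ⟶ H),
      ∃ h' : X ⟶ H', (p ≫ g₀) * (h ≫ i) * (p ≫ g₀)⁻¹ = h' ≫ i')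
    (h₂ : ∀ (X : Over (Spec (CommRingCat.of R))) (p : X ⟶ PQ J) (h' : X ⟶ H'),
      ∃ h : X ⟶ H, (p ≫ g₀)⁻¹ * (h' ≫ i') * (p ≫ g₀) = h ≫ i) :
    ∃ φ : H ≅ H', IsMonHom φ.hom ∧ ∀ (X : Over (Spec (CommRingCat.of R))) (p : X ⟶ PQ J) (h : X ⟶ H),
      h ≫ φ.hom ≫ i' = (p ≫ g₀) * (h ≫ i) * (p ≫ g₀)⁻¹ := by
  haveI := mono_of_isImmersion i
  haveI := mono_of_isImmersion i'
  obtain ⟨φ₀, hφ₀⟩ := h₁ (PQ J ⊗ H) (fst _ _) (snd _ _)
  obtain ⟨ψ₀, hψ₀⟩ := h₂ (PQ J ⊗ H') (fst _ _) (snd _ _)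
  have eφ : ∀ (X : Over (Spec (CommRingCat.of R))) (p : X ⟶ PQ J) (x : X ⟶ H),
      lift p x ≫ φ₀ ≫ i' = (p ≫ g₀) * (x ≫ i) * (p ≫ g₀)⁻¹ := fun X p x => by
    rw [← hφ₀, MonObj.comp_mul, MonObj.comp_mul, GrpObj.comp_inv, lift_fst_assoc, lift_snd_assoc]
  have eψ : ∀ (X : Over (Spec (CommRingCat.of R))) (p : X ⟶ PQ J) (y : X ⟶ H'),
      lift p y ≫ ψ₀ ≫ i = (p ≫ g₀)⁻¹ * (y ≫ i') * (p ≫ g₀) := fun X p y => by
    rw [← hψ₀, MonObj.comp_mul, MonObj.comp_mul, GrpObj.comp_inv, lift_fst_assoc, lift_snd_assoc]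
  have hmul : ∀ (X : Over (Spec (CommRingCat.of R))) (p : X ⟶ PQ J) (x y : X ⟶ H),
      lift p (x * y) ≫ φ₀ = (lift p x ≫ φ₀) * (lift p y ≫ φ₀) := fun X p x y => by
    rw [← cancel_mono i', Category.assoc, eφ, MonObj.mul_comp, MonObj.mul_comp, Category.assoc, Category.assoc, eφ, eφ]
    group
  obtain ⟨φ, hφ, hφ'⟩ := MultHomLift.exists_iso J hJ hH hH' φ₀ hmul ψ₀
    (fun X p x => by
      rw [← cancel_mono i, Category.assoc]
      exact (eψ X p _).trans (by rw [Category.assoc]; erw [eφ X p x]; group))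
    (fun X p y => by
      rw [← cancel_mono i', Category.assoc]
      exact (eφ X p _).trans (by rw [Category.assoc]; erw [eψ X p y]; group))
  refine ⟨φ, hφ, fun X p h => ?_⟩
  have h' : h ≫ φ.hom = lift p h ≫ φ₀ := hφ' X p h
  rw [← Category.assoc, h', Category.assoc]
  exact eφ X p h

/-- Subgroups of multiplicative type equal modulo `J` are isomorphic, compatibly modulo `J`. -/
theorem exists_iso_of_bc (J : Ideal R) (hJ : IsNilpotent J) (G H H' : Over (Spec (CommRingCat.of R)))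
    [GrpObj G] [GrpObj H] [GrpObj H'] (hH : IsMT H) (hH' : IsMT H')
    (i : H ⟶ G) [IsMonHom i] [IsImmersion i.left] (i' : H' ⟶ G) [IsMonHom i'] [IsImmersion i'.left]
    (ψ : Red.bc (PQ J).hom H ≅ Red.bc (PQ J).hom H')
    (hψ : ψ.hom ≫ (Over.pullback (PQ J).hom).map i' = (Over.pullback (PQ J).hom).map i) :
    ∃ φ : H ≅ H', IsMonHom φ.hom ∧ ∀ (X : Over (Spec (CommRingCat.of R))) (_ : X ⟶ PQ J) (h : X ⟶ H),
      h ≫ φ.hom ≫ i' = h ≫ i := by
  obtain ⟨φ, hφ, h⟩ := exists_iso_conj J hJ G H H' hH hH' i i' 1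
    (fun X p h => by
      obtain ⟨h', e⟩ := exists_factor_of_bc _ i i' ψ.hom hψ p h
      exact ⟨h', by rw [MonObj.comp_one, e]; group⟩)
    (fun X p h' => by
      obtain ⟨h, e⟩ := exists_factor_of_bc _ i' i ψ.inv (by rw [← hψ, Iso.inv_hom_id_assoc]) p h'
      exact ⟨h, by rw [MonObj.comp_one, e]; group⟩)
  exact ⟨φ, hφ, fun X p x => by rw [h X p x, MonObj.comp_one]; group⟩

/-- A homomorphism from a group of multiplicative type which is trivial modulo a square-zero ideal is trivial. -/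
theorem trivial_of_squareZero (J : Ideal R) (hJ : J * J = ⊥) (H G : Over (Spec (CommRingCat.of R))) [GrpObj H] [GrpObj G]
    (hH : IsMT H) (w : H ⟶ G) [IsMonHom w]
    (h0 : ∀ (X : Over (Spec (CommRingCat.of R))) (_ : X ⟶ PQ J) (h : X ⟶ H), h ≫ w = 1) :
    ∀ (X : Over (Spec (CommRingCat.of R))) (h : X ⟶ H), h ≫ w = 1 := by
  haveI : IsMonHom (1 : H ⟶ G) := BCPoints.isMonHom_of_mul 1 fun X x y => by simp [MonObj.comp_one]
  obtain ⟨g, -, hg⟩ := Averaging.exists_conj J hJ H G hH 1 w fun A _ _ hA h => by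
    rw [MonObj.comp_one]
    exact (h0 _ (Over.homMk (Spec.map (CommRingCat.ofHom (Ideal.Quotient.lift J (algebraMap R A) fun a ha => hA ha))) (by
      show Spec.map _ ≫ Spec.map _ = Spec.map (CommRingCat.ofHom (algebraMap R A))
      rw [← Spec.map_comp, ← CommRingCat.ofHom_comp, Ideal.Quotient.lift_comp_mk])) h).symm
  intro X h
  rw [hg X h, MonObj.comp_one]
  group

theorem trivial_of_pow (k : ℕ) : ∀ {R : Type u} [CommRing R] (J : Ideal R) (_ : J ^ 2 ^ k = ⊥)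
    (H G : Over (Spec (CommRingCat.of R))) [GrpObj H] [GrpObj G] (_ : IsMT H) (w : H ⟶ G) [IsMonHom w]
    (_ : ∀ (X : Over (Spec (CommRingCat.of R))) (_ : X ⟶ PQ J) (h : X ⟶ H), h ≫ w = 1),
    ∀ (X : Over (Spec (CommRingCat.of R))) (h : X ⟶ H), h ≫ w = 1 := by
  induction k with
  | zero =>
    intro R _ J hJ H G _ _ hH w _ h0
    rw [pow_zero, pow_one] at hJ
    exact trivial_of_squareZero J (by rw [hJ, Ideal.bot_mul]) H G hH w h0
  | succ k ih =>
    intro R _ J hJ H G _ _ hH w _ h0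
    let K : Ideal R := J ^ 2
    have hK : K ^ 2 ^ k = ⊥ := by rw [← pow_mul, ← pow_succ']; exact hJ
    let mkK : R →+* R ⧸ K := Ideal.Quotient.mk K
    let f : Spec (CommRingCat.of (R ⧸ K)) ⟶ Spec (CommRingCat.of R) := Spec.map (CommRingCat.ofHom mkK)
    let J' : Ideal (R ⧸ K) := J.map mkK
    have hJ' : J' * J' = ⊥ := by rw [← pow_two, ← Ideal.map_pow]; exact Ideal.map_quotient_self _
    let α : R ⧸ J →+* (R ⧸ K) ⧸ J' := Ideal.Quotient.lift J ((Ideal.Quotient.mk J').comp mkK) fun r hr => by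
      rw [RingHom.comp_apply, Ideal.Quotient.eq_zero_iff_mem]; exact Ideal.mem_map_of_mem _ hr
    let a : (Over.map f).obj (PQ J') ⟶ PQ J := Over.homMk (Spec.map (CommRingCat.ofHom α)) (by
      show Spec.map _ ≫ Spec.map _ = Spec.map _ ≫ Spec.map _
      rw [← Spec.map_comp, ← Spec.map_comp, ← CommRingCat.ofHom_comp, Ideal.Quotient.lift_comp_mk, CommRingCat.ofHom_comp])
    let w' : Red.bc f H ⟶ Red.bc f G := (Over.pullback f).map w
    haveI : IsMonHom w' := inferInstanceAs (IsMonHom ((Over.pullback f).map w))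
    have h1 := trivial_of_squareZero J' hJ' (Red.bc f H) (Red.bc f G) (BCPoints.locally_bc f H hH) w' fun X' p' h' => by
      obtain ⟨h, rfl⟩ := (BCPoints.pt f H X').surjective h'
      rw [← BCPoints.pt_comp, h0 _ ((Over.map f).map p' ≫ a) h, pt_one]
    refine ih K hK H G hH w fun X p h => ?_
    let κ : X ⟶ (Over.map f).obj (Over.mk p.left) := Over.homMk (𝟙 _) ((Category.id_comp _).trans (Over.w p))
    let κ' : (Over.map f).obj (Over.mk p.left) ⟶ X := Over.homMk (𝟙 _) ((Category.id_comp _).trans (Over.w p).symm)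
    have hκ : κ ≫ κ' = 𝟙 X := Over.OverMorphism.ext (Category.id_comp _)
    have h2 : (κ' ≫ h) ≫ w = 1 := (BCPoints.pt f G _).injective (by rw [BCPoints.pt_comp, pt_one]; exact h1 _ _)
    calc h ≫ w = κ ≫ (κ' ≫ h) ≫ w := by rw [Category.assoc, reassoc_of% hκ]
      _ = 1 := by rw [h2, MonObj.comp_one]

/-- A homomorphism from a group of multiplicative type which is trivial modulo a nilpotent ideal is trivial. -/
theorem trivial_of_nilpotent (J : Ideal R) (hJ : IsNilpotent J) (H G : Over (Spec (CommRingCat.of R))) [GrpObj H] [GrpObj G]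
    (hH : IsMT H) (w : H ⟶ G) [IsMonHom w]
    (h0 : ∀ (X : Over (Spec (CommRingCat.of R))) (_ : X ⟶ PQ J) (h : X ⟶ H), h ≫ w = 1) :
    ∀ (X : Over (Spec (CommRingCat.of R))) (h : X ⟶ H), h ≫ w = 1 := by
  obtain ⟨n, hn⟩ := hJ
  exact trivial_of_pow n J (bot_unique ((Ideal.pow_le_pow_right Nat.lt_two_pow_self.le).trans hn.le)) H G hH w h0

end Groth.Agent.SGA3cLib.SubgroupConj
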