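import Groth.Agent.SGA3cLib.MTTransporter
import Groth.Agent.SGA3cLib.CentralFib
import Groth.Agent.SGA3cLib.SubgroupConj
import Groth.Agent.SGA3cLib.FreeGraphGlobal
import Groth.Agent.EGA43.Limit.Basic
import Groth.Agent.S5273

/-!
# Transporters and normalizers of subgroups of multiplicative type

The transporter of a subgroup of multiplicative type into another (by inclusion or by equality) in a smooth affine
group is closed and smooth, the normalizer is a closed smooth subgroup, and the centralizer is open and closed in it.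
-/

set_option linter.style.haveILetI false
set_option autoImplicit false

universe u

open CategoryTheory CategoryTheory.Limits MonoidalCategory CartesianMonoidalCategory MonObj GrpObj AlgebraicGeometry

noncomputable section

namespace Groth.Agent.SGA3cLib.MTTransporterSub

open MTTransporter (IsMTS)

variable {S : Scheme.{u}}

/-- A monomorphism from a group of multiplicative type to an affine group is a closed immersion. -/
theorem isClosedImmersion_of_mono {H G : Over S} [GrpObj H] [GrpObj G] (hH : IsMTS H) [IsAffineHom G.hom]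
    (i : H ⟶ G) [IsMonHom i] [Mono i] : IsClosedImmersion i.left := by
  let a : AlgGrp.Action H G :=
    { act := (fst H G ≫ i) * snd H G
      one_act := by
        rw [MonObj.comp_mul, ← Category.assoc, whiskerRight_fst, whiskerRight_snd, Category.assoc, IsMonHom.one_hom,
          leftUnitor_hom]
        rw [show fst (𝟙_ (Over S)) G ≫ η[G] = 1 by rw [Hom.one_def, toUnit_unique (toUnit _) (fst _ _)],
          _root_.one_mul]
      mul_act := by
        let p := fst (H ⊗ H) G ≫ fst H H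
        let q := fst (H ⊗ H) G ≫ snd H H
        have h1 : (μ[H] ▷ G) ≫ fst H G = p * q := by
          rw [whiskerRight_fst, Hom.mul_def, ← comp_lift, lift_fst_snd, Category.comp_id]
        rw [MonObj.comp_mul, reassoc_of% h1, whiskerRight_snd, MonObj.mul_comp, _root_.mul_assoc]
        simp only [MonObj.comp_mul, ← Category.assoc, associator_hom_fst, whiskerLeft_fst, whiskerLeft_snd]
        simp only [Category.assoc, whiskerLeft_fst_assoc, associator_hom_fst_assoc, whiskerLeft_snd, MonObj.comp_mul,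
          associator_hom_snd_fst_assoc, associator_hom_snd_snd, p, q] }
  have hact : ∀ {X : Over S} (h : X ⟶ H) (g : X ⟶ G), lift h g ≫ a.act = (h ≫ i) * g := fun {X} h g => by
    show lift h g ≫ ((fst H G ≫ i) * snd H G) = _
    rw [MonObj.comp_mul, ← Category.assoc, lift_fst, lift_snd]
  have hfree : ∀ (Y : Over S) (h : Y ⟶ H) (g : Y ⟶ G), lift h g ≫ a.act = g → h = 1 := fun Y h g hg => by
    rw [hact, mul_eq_right] at hg
    rw [← cancel_mono i, hg, MonObj.one_comp]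
  have hX : IsAffineHom G.hom := inferInstance
  have h := FreeGraph.isClosedImmersion_orbitMap H G a (FreeGraph.isClosedImmersion_graph H G hH hX a hfree) η[G]
  have e : a.orbitMap η[G] = i := by
    show lift (𝟙 H) (toUnit H ≫ η[G]) ≫ a.act = i
    rw [hact, Category.id_comp, ← Hom.one_def, _root_.mul_one]
  rwa [e] at h

variable {H₁ H₂ G : Over S} [GrpObj H₁] [GrpObj H₂] [GrpObj G] (i₁ : H₁ ⟶ G) (i₂ : H₂ ⟶ G)

/-- The conjugate of `i₁` by a point is contained in `i₂`. -/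
def Contain {X : Over S} (g : X ⟶ G) : Prop :=
  ∀ (X' : Over S) (x : X' ⟶ X) (h : X' ⟶ H₁), ∃ h' : X' ⟶ H₂, (x ≫ g) * (h ≫ i₁) * (x ≫ g)⁻¹ = h' ≫ i₂

/-- Containment of conjugates over a base change. -/
theorem contain_pt {S' : Scheme.{u}} (b : S' ⟶ S) {Y : Over S'} (g : (Over.map b).obj Y ⟶ G) :
    Contain i₁ i₂ g ↔ Contain ((Over.pullback b).map i₁) ((Over.pullback b).map i₂) (BCPoints.pt b G Y g) := by
  constructor
  · intro hc Y' y h
    obtain ⟨h₁, rfl⟩ := (BCPoints.pt b H₁ Y').surjective h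
    obtain ⟨h', hh'⟩ := hc _ ((Over.map b).map y) h₁
    refine ⟨BCPoints.pt b H₂ Y' h', ?_⟩
    rw [← BCPoints.pt_map_comp, ← BCPoints.pt_comp, ← BCPoints.pt_comp, ← BCPoints.pt_inv, ← BCPoints.pt_mul,
      ← BCPoints.pt_mul, hh']
  · intro hc X' x h
    let Y' : Over S' := Over.mk (x.left ≫ Y.hom)
    let y : Y' ⟶ Y := Over.homMk x.left rfl
    have hw : (x.left ≫ Y.hom) ≫ b = X'.hom := (Category.assoc _ _ _).trans (Over.w x)
    let κ : X' ⟶ (Over.map b).obj Y' := Over.homMk (𝟙 _) ((Category.id_comp _).trans hw)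
    let κ' : (Over.map b).obj Y' ⟶ X' := Over.homMk (𝟙 _) ((Category.id_comp _).trans hw.symm)
    have hκ : κ ≫ κ' = 𝟙 X' := Over.OverMorphism.ext (Category.id_comp _)
    have hx : κ' ≫ x = (Over.map b).map y := Over.OverMorphism.ext (Category.id_comp _)
    obtain ⟨h', hh'⟩ := hc Y' y (BCPoints.pt b H₁ Y' (κ' ≫ h))
    obtain ⟨h'', rfl⟩ := (BCPoints.pt b H₂ Y').surjective h'
    refine ⟨κ ≫ h'', ?_⟩
    rw [← BCPoints.pt_map_comp, ← BCPoints.pt_comp, ← BCPoints.pt_comp, ← BCPoints.pt_inv, ← BCPoints.pt_mul,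
      ← BCPoints.pt_mul] at hh'
    have h4 := congrArg (κ ≫ ·) ((BCPoints.pt b G Y').injective hh')
    simp only [← hx, MonObj.comp_mul, GrpObj.comp_inv, ← Category.assoc, hκ, Category.id_comp] at h4
    exact h4

/-- Formal smoothness of a subscheme of a smooth group from lifting of its points over affine schemes. -/
theorem isFormallySmooth_of_lift {T : Over S} (j : T ⟶ G) [Mono j.left]
    (hlift : ∀ (A : Type u) [CommRing A] (b : Spec (CommRingCat.of A) ⟶ S) (I : Ideal A), I * I = ⊥ →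
      ∀ g₀ : SubgroupConj.PQ I ⟶ Red.bc b G, (∃ t : (Over.map b).obj (SubgroupConj.PQ I) ⟶ T, BCPoints.pt b G _ (t ≫ j) = g₀) →
      ∃ g : 𝟙_ _ ⟶ Red.bc b G, toUnit (SubgroupConj.PQ I) ≫ g = g₀ ∧
        ∃ t : (Over.map b).obj (𝟙_ _) ⟶ T, BCPoints.pt b G _ (t ≫ j) = g) :
    MoreMor.IsFormallySmoothHom T.hom := by
  intro A _ I hI a b w
  let t₀ : (Over.map b).obj (SubgroupConj.PQ I) ⟶ T := Over.homMk a w.symm
  obtain ⟨g, hg, t, ht⟩ := hlift A b I (by rw [← pow_two]; exact hI) _ ⟨t₀, rfl⟩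
  refine ⟨t.left, ?_, ?_⟩
  · rw [← cancel_mono j.left]
    have h1 : (Over.map b).map (toUnit (SubgroupConj.PQ I)) ≫ t ≫ j = t₀ ≫ j := by
      apply (BCPoints.pt b G _).injective
      rw [BCPoints.pt_map_comp, ht, hg]
    exact (Category.assoc _ _ _).trans (congrArg (fun q => q.left) h1)
  · have := Over.w t
    change t.left ≫ T.hom = 𝟙 _ ≫ b at this
    rwa [Category.id_comp] at this

/-! ### Over an affine base -/

section Affine

variable {A : Type u} [CommRing A] {K₁ K₂ GA : Over (Spec (CommRingCat.of A))} [GrpObj K₁] [GrpObj K₂] [GrpObj GA]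
  (v₁ : K₁ ⟶ GA) [IsMonHom v₁] (v₂ : K₂ ⟶ GA) [IsMonHom v₂] [Mono v₂]

/-- The homomorphism extending conjugation modulo `I`. -/
theorem exists_ext (I : Ideal A) (hI : IsNilpotent I) (h₁ : IsMTS K₁) (h₂ : IsMTS K₂)
    (g₀ : SubgroupConj.PQ I ⟶ GA) (hc : Contain v₁ v₂ g₀) :
    ∃ φ : K₁ ⟶ K₂, IsMonHom φ ∧ ∀ (X : Over (Spec (CommRingCat.of A))) (p : X ⟶ SubgroupConj.PQ I) (h : X ⟶ K₁),
      h ≫ φ ≫ v₂ = (p ≫ g₀) * (h ≫ v₁) * (p ≫ g₀)⁻¹ := by
  obtain ⟨φ₀, hφ₀⟩ := hc (SubgroupConj.PQ I ⊗ K₁) (fst _ _) (snd _ _)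
  have eφ : ∀ (X : Over (Spec (CommRingCat.of A))) (p : X ⟶ SubgroupConj.PQ I) (x : X ⟶ K₁),
      lift p x ≫ φ₀ ≫ v₂ = (p ≫ g₀) * (x ≫ v₁) * (p ≫ g₀)⁻¹ := fun X p x => by
    rw [← hφ₀, MonObj.comp_mul, MonObj.comp_mul, GrpObj.comp_inv, lift_fst_assoc, lift_snd_assoc]
  have hmul : ∀ (X : Over (Spec (CommRingCat.of A))) (p : X ⟶ SubgroupConj.PQ I) (x y : X ⟶ K₁),
      lift p (x * y) ≫ φ₀ = (lift p x ≫ φ₀) * (lift p y ≫ φ₀) := fun X p x y => by
    rw [← cancel_mono v₂, Category.assoc, eφ, MonObj.mul_comp, MonObj.mul_comp, Category.assoc, Category.assoc, eφ, eφ]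
    group
  obtain ⟨φ, hφ, hφ'⟩ := MultHomLift.exists_hom I hI h₁ h₂ φ₀ hmul
  refine ⟨φ, hφ, fun X p h => ?_⟩
  rw [← Category.assoc, hφ' X p h, Category.assoc]
  exact eφ X p h

theorem exists_lift_contain (I : Ideal A) (hI : IsNilpotent I) [Smooth GA.hom] (h₁ : IsMTS K₁) (h₂ : IsMTS K₂)
    (g₀ : SubgroupConj.PQ I ⟶ GA) (hc : Contain v₁ v₂ g₀) :
    ∃ g : 𝟙_ _ ⟶ GA, toUnit (SubgroupConj.PQ I) ≫ g = g₀ ∧ Contain v₁ v₂ g := by
  obtain ⟨φ, hφ, hφ'⟩ := exists_ext v₁ v₂ I hI h₁ h₂ g₀ hc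
  obtain ⟨g, hg, hconj⟩ := Agent.S5273.result I hI K₁ GA h₁ inferInstance v₁ (φ ≫ v₂) g₀ hφ'
  refine ⟨g, hg, fun X' x h => ⟨h ≫ φ, ?_⟩⟩
  rw [Category.assoc, hconj X' h, toUnit_unique x (toUnit X')]

theorem exists_lift_equal [Mono v₁] (I : Ideal A) (hI : IsNilpotent I) [Smooth GA.hom] (h₁ : IsMTS K₁) (h₂ : IsMTS K₂)
    (g₀ : SubgroupConj.PQ I ⟶ GA) (hc : Contain v₁ v₂ g₀) (hc' : Contain v₂ v₁ g₀⁻¹) :
    ∃ g : 𝟙_ _ ⟶ GA, toUnit (SubgroupConj.PQ I) ≫ g = g₀ ∧ Contain v₁ v₂ g ∧ Contain v₂ v₁ g⁻¹ := by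
  obtain ⟨φ, hφ, hφ'⟩ := exists_ext v₁ v₂ I hI h₁ h₂ g₀ hc
  obtain ⟨ψ, hψ, hψ'⟩ := exists_ext v₂ v₁ I hI h₂ h₁ g₀⁻¹ hc'
  have e₁ : ψ ≫ φ = 𝟙 K₂ := MultHomLift.hom_ext I hI h₂ h₂ _ _ fun X p h => by
    rw [← cancel_mono v₂, Category.comp_id, Category.assoc, Category.assoc, ← Category.assoc h ψ,
      hφ' X p (h ≫ ψ), Category.assoc h ψ v₁, hψ' X p h, GrpObj.comp_inv]
    group
  obtain ⟨g, hg, hconj⟩ := Agent.S5273.result I hI K₁ GA h₁ inferInstance v₁ (φ ≫ v₂) g₀ hφ'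
  refine ⟨g, hg, fun X' x h => ⟨h ≫ φ, ?_⟩, fun X' x h => ⟨h ≫ ψ, ?_⟩⟩
  · rw [Category.assoc, hconj X' h, toUnit_unique x (toUnit X')]
  · have h1 := hconj X' (h ≫ ψ)
    rw [Category.assoc h ψ, reassoc_of% e₁] at h1
    rw [h1, GrpObj.comp_inv, toUnit_unique x (toUnit X')]
    group

end Affine

/-! ### Representability -/

/-- The points at which a family of maps from a group of multiplicative type lands in a closed subscheme of finite
presentation form a closed subscheme of finite presentation. -/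
theorem exists_closed_into {H P A Y : Over S} [GrpObj H] (hH : IsMTS H) (φ : H ⊗ P ⟶ A) (y : Y ⟶ A)
    [IsClosedImmersion y.left] [LocallyOfFinitePresentation y.left] :
    ∃ (T : Over S) (t : T ⟶ P), IsClosedImmersion t.left ∧ LocallyOfFinitePresentation t.left ∧
      ∀ (S' : Over S) (g : S' ⟶ P), (∃ z : S' ⟶ T, z ≫ t = g) ↔
        ∀ (S'' : Over S) (s : S'' ⟶ S') (x : S'' ⟶ H), ∃ x' : S'' ⟶ Y, lift x (s ≫ g) ≫ φ = x' ≫ y := by
  haveI : Mono y := (Over.forget S).mono_of_mono_map (inferInstanceAs (Mono y.left))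
  let k : pullback φ.left y.left ⟶ (H ⊗ P).left := pullback.fst _ _
  haveI : IsClosedImmersion k := MorphismProperty.pullback_fst (P := @IsClosedImmersion) _ _ inferInstance
  haveI : LocallyOfFinitePresentation k :=
    MorphismProperty.pullback_fst (P := @LocallyOfFinitePresentation) _ _ inferInstance
  obtain ⟨T, t, ht, hT, htfp⟩ := WeilRes.exists_closedImmersion (snd H P).left k
    (S5356.essentiallyFree_baseChange H.hom P.hom (MultEssFree.essentiallyFree H hH))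
  haveI := MTTransporter.quasiCompact_of_mult H hH
  haveI : QuasiCompact (snd H P).left := inferInstanceAs (QuasiCompact (pullback.snd H.hom P.hom))
  let T' : Over S := Over.mk (t ≫ P.hom)
  let t' : T' ⟶ P := Over.homMk t rfl
  refine ⟨T', t', ht, htfp inferInstance inferInstance, fun S' g => ?_⟩
  have hsq : IsPullback (H ◁ g).left (snd H S').left (snd H P).left g.left := by
    refine IsPullback.of_right (h₁₂ := (fst H P).left) (v₁₃ := H.hom) (h₂₂ := P.hom) ?_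
      (congrArg CommaMorphism.left (whiskerLeft_snd H g)) (IsPullback.of_hasPullback H.hom P.hom)
    rw [show (H ◁ g).left ≫ (fst H P).left = (fst H S').left from congrArg CommaMorphism.left (whiskerLeft_fst H g),
      Over.w g]
    exact IsPullback.of_hasPullback H.hom S'.hom
  have h1 : WeilRes.Factors (snd H P).left k S'.left g.left ↔ ∃ x' : H ⊗ S' ⟶ Y, (H ◁ g) ≫ φ = x' ≫ y := by
    constructor
    · rintro ⟨l, hl⟩
      let l' := hsq.isoPullback.hom ≫ l ≫ pullback.snd φ.left y.left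
      have hl' : l' ≫ y.left = ((H ◁ g) ≫ φ).left := by
        change l' ≫ y.left = (H ◁ g).left ≫ φ.left
        simp only [l', Category.assoc, ← pullback.condition]
        change hsq.isoPullback.hom ≫ l ≫ k ≫ φ.left = _
        rw [reassoc_of% hl, IsPullback.isoPullback_hom_fst_assoc]
      exact ⟨Over.homMk l' (by rw [← Over.w y, ← Category.assoc, hl']; exact Over.w ((H ◁ g) ≫ φ)),
        Over.OverMorphism.ext hl'.symm⟩
    · rintro ⟨x', hx'⟩
      refine ⟨hsq.isoPullback.inv ≫ pullback.lift (H ◁ g).left x'.left (congrArg CommaMorphism.left hx'), ?_⟩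
      rw [Category.assoc, pullback.lift_fst, IsPullback.isoPullback_inv_fst]
  constructor
  · rintro ⟨z, hz⟩ S'' s x
    obtain ⟨x', hx'⟩ := h1.1 ((hT _ _).2 ⟨z.left, congrArg CommaMorphism.left hz⟩)
    refine ⟨lift x s ≫ x', ?_⟩
    rw [Category.assoc, ← hx', ← Category.assoc, lift_whiskerLeft]
  · intro h
    obtain ⟨x', hx'⟩ := h (H ⊗ S') (snd H S') (fst H S')
    have e : lift (fst H S') (snd H S' ≫ g) = H ◁ g := by
      apply CartesianMonoidalCategory.hom_ext <;> simp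
    rw [e] at hx'
    obtain ⟨z, hz⟩ := (hT _ _).1 (h1.2 ⟨x', hx'⟩)
    exact ⟨Over.homMk z (by change z ≫ t ≫ P.hom = _; rw [← Category.assoc, hz]; exact Over.w g),
      Over.OverMorphism.ext hz⟩

variable [IsMonHom i₁] [IsMonHom i₂]

theorem exists_closed_contain (h₁ : IsMTS H₁) [IsClosedImmersion i₂.left] [LocallyOfFinitePresentation i₂.left] :
    ∃ (T : Over S) (j : T ⟶ G), IsClosedImmersion j.left ∧ LocallyOfFinitePresentation j.left ∧
      ∀ (X : Over S) (g : X ⟶ G), (∃ t : X ⟶ T, t ≫ j = g) ↔ Contain i₁ i₂ g := by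
  obtain ⟨T, t, ht, htfp, hT⟩ := exists_closed_into h₁ (snd H₁ G * (fst H₁ G ≫ i₁) * (snd H₁ G)⁻¹) i₂
  refine ⟨T, t, ht, htfp, fun X g => (hT X g).trans (forall₃_congr fun X' x h => exists_congr fun h' => ?_)⟩
  rw [MonObj.comp_mul, MonObj.comp_mul, GrpObj.comp_inv, lift_snd, ← Category.assoc, lift_fst]

theorem fp_of_mono (h₂ : SGA3x.IsMultTypeFT H₂) [LocallyOfFiniteType G.hom] : LocallyOfFinitePresentation i₂.left := by
  haveI : LocallyOfFinitePresentation (i₂.left ≫ G.hom) := by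
    rw [Over.w i₂]; exact TrivLocus.locallyOfFinitePresentation_of_multTypeFT H₂ h₂
  exact EGA43.Limit.locallyOfFinitePresentation_of_comp i₂.left G.hom

variable [Mono i₁] [Mono i₂] [IsAffineHom G.hom] [Smooth G.hom]

theorem exists_contain (h₁ : SGA3x.IsMultTypeFT H₁) (h₂ : SGA3x.IsMultTypeFT H₂) :
    ∃ (T : Over S) (j : T ⟶ G), IsClosedImmersion j.left ∧ Smooth T.hom ∧
      ∀ (X : Over S) (g : X ⟶ G), (∃ t : X ⟶ T, t ≫ j = g) ↔ Contain i₁ i₂ g := by
  have m₁ := CentralFib.locally_of_multTypeFT h₁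
  have m₂ := CentralFib.locally_of_multTypeFT h₂
  haveI := isClosedImmersion_of_mono m₂ i₂
  haveI := fp_of_mono i₂ h₂
  obtain ⟨T, j, hj, hjfp, hT⟩ := exists_closed_contain i₁ i₂ m₁
  haveI := hjfp
  refine ⟨T, j, hj, (S1488.result T.hom).2 ⟨by rw [← Over.w j]; infer_instance, ?_⟩, hT⟩
  refine isFormallySmooth_of_lift j fun A _ b I hI g₀ ⟨t₀, ht₀⟩ => ?_
  have hc₀ := (contain_pt i₁ i₂ b (t₀ ≫ j)).1 ((hT _ _).1 ⟨t₀, rfl⟩)
  rw [ht₀] at hc₀
  haveI : (Over.pullback b).IsRightAdjoint := (Over.mapPullbackAdj b).isRightAdjoint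
  haveI : Smooth (Red.bc b G).hom := MorphismProperty.pullback_snd (P := @Smooth) _ _ inferInstance
  obtain ⟨g, hg, hgc⟩ := exists_lift_contain ((Over.pullback b).map i₁) ((Over.pullback b).map i₂) I
    ⟨2, by rw [pow_two]; exact hI⟩ (BCPoints.locally_bc b H₁ m₁) (BCPoints.locally_bc b H₂ m₂) g₀ hc₀
  obtain ⟨g', rfl⟩ := (BCPoints.pt b G _).surjective g
  obtain ⟨t, ht⟩ := (hT _ g').2 ((contain_pt i₁ i₂ b g').2 hgc)
  exact ⟨_, hg, t, by rw [ht]⟩

theorem exists_equal (h₁ : SGA3x.IsMultTypeFT H₁) (h₂ : SGA3x.IsMultTypeFT H₂) :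
    ∃ (T : Over S) (j : T ⟶ G), IsClosedImmersion j.left ∧ Smooth T.hom ∧
      ∀ (X : Over S) (g : X ⟶ G), (∃ t : X ⟶ T, t ≫ j = g) ↔ Contain i₁ i₂ g ∧ Contain i₂ i₁ g⁻¹ := by
  have m₁ := CentralFib.locally_of_multTypeFT h₁
  have m₂ := CentralFib.locally_of_multTypeFT h₂
  haveI := isClosedImmersion_of_mono m₁ i₁
  haveI := isClosedImmersion_of_mono m₂ i₂
  haveI := fp_of_mono i₁ h₁
  haveI := fp_of_mono i₂ h₂
  obtain ⟨T₁, j₁, hj₁, hj₁fp, hT₁⟩ := exists_closed_contain i₁ i₂ m₁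
  obtain ⟨T₂, j₂, hj₂, hj₂fp, hT₂⟩ := exists_closed_contain i₂ i₁ m₂
  haveI := hj₁fp
  haveI := hj₂fp
  haveI := hj₁
  haveI := hj₂
  let ι' : G ⟶ G := (𝟙 G)⁻¹
  have hι : ι' ≫ ι' = 𝟙 G := by simp [ι', GrpObj.comp_inv]
  have hgι : ∀ {X : Over S} (g : X ⟶ G), g ≫ ι' = g⁻¹ := fun g => by simp [ι', GrpObj.comp_inv]
  haveI : IsIso ι' := ⟨ι', hι, hι⟩
  haveI : IsIso ι'.left := (CentralEq.isIso_left_iff ι').2 inferInstance
  let j₂' : T₂ ⟶ G := j₂ ≫ ι'
  haveI : IsClosedImmersion j₂'.left := inferInstanceAs (IsClosedImmersion (j₂.left ≫ ι'.left))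
  haveI : LocallyOfFinitePresentation j₂'.left :=
    inferInstanceAs (LocallyOfFinitePresentation (j₂.left ≫ ι'.left))
  let j : pullback j₁.left j₂'.left ⟶ G.left := pullback.fst _ _ ≫ j₁.left
  haveI : IsClosedImmersion (pullback.fst j₁.left j₂'.left) :=
    MorphismProperty.pullback_fst (P := @IsClosedImmersion) _ _ inferInstance
  haveI : LocallyOfFinitePresentation (pullback.fst j₁.left j₂'.left) :=
    MorphismProperty.pullback_fst (P := @LocallyOfFinitePresentation) _ _ inferInstance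
  let T : Over S := Over.mk (j ≫ G.hom)
  let jj : T ⟶ G := Over.homMk j rfl
  have hT : ∀ (X : Over S) (g : X ⟶ G), (∃ t : X ⟶ T, t ≫ jj = g) ↔ Contain i₁ i₂ g ∧ Contain i₂ i₁ g⁻¹ := by
    intro X g
    rw [← hT₁, ← hT₂]
    constructor
    · rintro ⟨t, rfl⟩
      let q₁ : T ⟶ T₁ := Over.homMk (pullback.fst j₁.left j₂'.left) (by
        show pullback.fst j₁.left j₂'.left ≫ T₁.hom = j ≫ G.hom
        rw [← Over.w j₁, ← Category.assoc])
      let q₂ : T ⟶ T₂ := Over.homMk (pullback.snd j₁.left j₂'.left) (by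
        show pullback.snd j₁.left j₂'.left ≫ T₂.hom = j ≫ G.hom
        rw [← Over.w j₂', ← Category.assoc, ← pullback.condition])
      have e₁ : q₁ ≫ j₁ = jj := Over.OverMorphism.ext rfl
      have e₂ : q₂ ≫ j₂' = jj := Over.OverMorphism.ext pullback.condition.symm
      refine ⟨⟨t ≫ q₁, by rw [Category.assoc, e₁]⟩, ⟨t ≫ q₂, ?_⟩⟩
      rw [← hgι, ← e₂]
      simp only [j₂', Category.assoc, hι, Category.comp_id]
    · rintro ⟨⟨t₁, e₁⟩, ⟨t₂, e₂⟩⟩
      have e₂' : t₂ ≫ j₂' = g := by rw [← Category.assoc, e₂, hgι, _root_.inv_inv]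
      refine ⟨Over.homMk (pullback.lift t₁.left t₂.left ?_) ?_, ?_⟩
      · exact (congrArg CommaMorphism.left e₁).trans (congrArg CommaMorphism.left e₂').symm
      · show pullback.lift t₁.left t₂.left _ ≫ (pullback.fst _ _ ≫ j₁.left) ≫ G.hom = X.hom
        rw [Category.assoc, pullback.lift_fst_assoc, Over.w j₁, Over.w t₁]
      · refine Over.OverMorphism.ext ?_
        show pullback.lift t₁.left t₂.left _ ≫ pullback.fst _ _ ≫ j₁.left = g.left
        rw [pullback.lift_fst_assoc]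
        exact congrArg CommaMorphism.left e₁
  haveI : IsClosedImmersion jj.left := inferInstanceAs (IsClosedImmersion (pullback.fst _ _ ≫ j₁.left))
  haveI : LocallyOfFinitePresentation jj.left :=
    inferInstanceAs (LocallyOfFinitePresentation (pullback.fst _ _ ≫ j₁.left))
  refine ⟨T, jj, inferInstance, (S1488.result T.hom).2 ⟨by rw [← Over.w jj]; infer_instance, ?_⟩, hT⟩
  refine isFormallySmooth_of_lift jj fun A _ b I hI g₀ ⟨t₀, ht₀⟩ => ?_
  have hc := (hT _ _).1 ⟨t₀, rfl⟩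
  have hc₀ := (contain_pt i₁ i₂ b (t₀ ≫ jj)).1 hc.1
  have hc₀' := (contain_pt i₂ i₁ b (t₀ ≫ jj)⁻¹).1 hc.2
  rw [BCPoints.pt_inv, ht₀] at hc₀'
  rw [ht₀] at hc₀
  haveI : (Over.pullback b).IsRightAdjoint := (Over.mapPullbackAdj b).isRightAdjoint
  haveI : Smooth (Red.bc b G).hom := MorphismProperty.pullback_snd (P := @Smooth) _ _ inferInstance
  obtain ⟨g, hg, hgc, hgc'⟩ := exists_lift_equal ((Over.pullback b).map i₁) ((Over.pullback b).map i₂) I
    ⟨2, by rw [pow_two]; exact hI⟩ (BCPoints.locally_bc b H₁ m₁) (BCPoints.locally_bc b H₂ m₂) g₀ hc₀ hc₀'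
  obtain ⟨g', rfl⟩ := (BCPoints.pt b G _).surjective g
  rw [← BCPoints.pt_inv] at hgc'
  obtain ⟨t, ht⟩ := (hT _ g').2 ⟨(contain_pt i₁ i₂ b g').2 hgc, (contain_pt i₂ i₁ b g'⁻¹).2 hgc'⟩
  exact ⟨_, hg, t, by rw [ht]⟩

end Groth.Agent.SGA3cLib.MTTransporterSub
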