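import Groth.Agent.SGA3cLib.NearGeom
import Mathlib.AlgebraicGeometry.Morphisms.Flat

/-!
# The open set where two subgroups coincide, at a central fibre

Coincidence over the local scheme at a point is an open condition and descends along the splitting covering.
-/

set_option linter.style.haveILetI false
set_option autoImplicit false

universe u

open CategoryTheory CategoryTheory.Limits MonoidalCategory CartesianMonoidalCategory MonObj AlgebraicGeometry

noncomputable section

namespace Groth.Agent.SGA3cLib.Near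

open CentralEq CentralOpen

/-- A flat local scheme over a point covers the local scheme of the point. -/
theorem exists_cov_fromSpecStalk {S : Scheme.{u}} {L : Type u} [CommRing L] [IsLocalRing L]
    (m : Spec (CommRingCat.of L) ⟶ S) [Flat m] (t : S) (ht : m.base (IsLocalRing.closedPoint L) = t) :
    ∃ k : Spec (CommRingCat.of L) ⟶ Spec (S.presheaf.stalk t), IsFpqcCov k ∧ k ≫ S.fromSpecStalk t = m := by
  subst ht
  let k := Spec.map (Scheme.stalkClosedPointTo m)
  let j := S.fromSpecStalk (m.base (IsLocalRing.closedPoint L))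
  have hk : k ≫ j = m := Scheme.Spec_stalkClosedPointTo_fromSpecStalk m
  refine ⟨k, ?_, hk⟩
  haveI : Mono j := inferInstance
  have hpb : IsPullback (𝟙 (Spec (CommRingCat.of L))) k m j := by
    refine ⟨⟨by rw [Category.id_comp, hk]⟩, ⟨PullbackCone.IsLimit.mk (by rw [Category.id_comp, hk]) (fun c => c.fst)
      (fun c => Category.comp_id _) (fun c => ?_) (fun c u' h1 _ => (Category.comp_id u').symm.trans h1)⟩⟩
    rw [← cancel_mono j, Category.assoc, hk]
    exact c.condition
  haveI : Flat k := MorphismProperty.of_isPullback hpb ‹Flat m›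
  have hsurj : Function.Surjective k.base := by
    intro y
    have hc : k.base (IsLocalRing.closedPoint L) = IsLocalRing.closedPoint _ := by
      apply j.isEmbedding.injective
      rw [← Scheme.Hom.comp_apply, hk]
      exact (Scheme.fromSpecStalk_closedPoint).symm
    obtain ⟨z, -, hz⟩ := (Flat.generalizingMap k) (show y ⤳ k.base (IsLocalRing.closedPoint L) by
      rw [hc]; exact IsLocalRing.specializes_closedPoint y)
    exact ⟨z, hz⟩
  refine IsFpqcCov.of_forall k fun V hV => ⟨k ⁻¹ᵁ V, ?_, ?_⟩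
  · exact k.isCompact_preimage hV.isCompact
  · exact Set.image_preimage_eq _ hsurj

variable {S : Scheme.{u}} {G H₁ H₂ : Over S} [GrpObj G] [GrpObj H₁] [GrpObj H₂]
  (i₁ : H₁ ⟶ G) [IsMonHom i₁] [IsImmersion i₁.left] (i₂ : H₂ ⟶ G) [IsMonHom i₂] [IsImmersion i₂.left]

/-- Subgroups of multiplicative type which coincide at a point where the first is central coincide nearby. -/
theorem exists_open_good (hG : IsLocallyNoetherian S ∨ (LocallyOfFiniteType G.hom ∧ QuasiSeparated G.hom))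
    (h₁ : SGA3x.IsMultTypeFT H₁) (h₂ : SGA3x.IsMultTypeFT H₂) (s : S)
    (hc : CentralAt i₁ (S.fromSpecResidueField s)) (hs : Good i₁ i₂ (S.fromSpecResidueField s)) :
    ∃ U : S.Opens, s ∈ U ∧ Good i₁ i₂ U.ι := by
  classical
  haveI := TrivLocus.locallyOfFinitePresentation_of_multTypeFT H₁ h₁
  haveI := TrivLocus.locallyOfFinitePresentation_of_multTypeFT H₂ h₂
  obtain ⟨hqc₁, hqs₁⟩ := qcqs_of_multTypeFT H₁ h₁
  obtain ⟨hqc₂, hqs₂⟩ := qcqs_of_multTypeFT H₂ h₂
  haveI := hqc₁; haveI := hqs₁; haveI := hqc₂; haveI := hqs₂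
  obtain ⟨S₁, f₁, hfl₁, -, hq₁, hU₁⟩ := id h₁
  obtain ⟨S₂, f₂, hfl₂, -, hq₂, hU₂⟩ := id h₂
  let F : pullback f₁ f₂ ⟶ S := pullback.snd f₁ f₂ ≫ f₂
  haveI := hfl₁
  haveI := hfl₂
  have hF : IsFpqcCov F := (IsFpqcCov.of_forall f₂ hq₂).comp ((IsFpqcCov.of_forall f₁ hq₁).pullback_snd f₂)
  haveI := hF.1
  haveI := hF.surjective
  let Z : Set S := {t | Good i₁ i₂ (S.fromSpecStalk t)}
  -- everything about a chart
  have chart : ∀ w : ↥(pullback f₁ f₂),
      (F.base w ∈ Z → ∃ B : (pullback f₁ f₂).Opens, w ∈ B ∧ Good i₁ i₂ (B.ι ≫ F) ∧ ∀ w' ∈ B, F.base w' ∈ Z) ∧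
      (F.base w = s → F.base w ∈ Z) := by
    intro w
    obtain ⟨U₁, ht₁, M, _, hM, ⟨e₁⟩⟩ := hU₁ ((pullback.fst f₁ f₂).base w)
    obtain ⟨U₂, ht₂, N, _, hN, ⟨e₂⟩⟩ := hU₂ ((pullback.snd f₁ f₂).base w)
    haveI := hM
    haveI := hN
    obtain ⟨P, hP, htP, hPle⟩ := exists_isAffineOpen_mem_and_subset
      (U := pullback.fst f₁ f₂ ⁻¹ᵁ U₁ ⊓ pullback.snd f₁ f₂ ⁻¹ᵁ U₂) (x := w) ⟨ht₁, ht₂⟩
    let R := Γ(pullback f₁ f₂, P)
    let g : Spec R ⟶ S := hP.fromSpec ≫ F
    have hlift : ∀ (A : Type u) [CommRing A] [Algebra R A] {W : Scheme.{u}} (h : pullback f₁ f₂ ⟶ W) (V : W.Opens),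
        P ≤ h ⁻¹ᵁ V → ∃ c : Spec (CommRingCat.of A) ⟶ V,
          c ≫ V.ι = Spec.map (CommRingCat.ofHom (algebraMap R A)) ≫ hP.fromSpec ≫ h := by
      intro A _ _ W h V hle
      refine ⟨IsOpenImmersion.lift V.ι (Spec.map (CommRingCat.ofHom (algebraMap R A)) ≫ hP.fromSpec ≫ h) ?_,
        IsOpenImmersion.lift_fac _ _ _⟩
      rw [V.range_ι]
      rintro _ ⟨z, rfl⟩
      refine hle (show hP.fromSpec.base _ ∈ (P : Set ↥(pullback f₁ f₂)) from ?_)
      rw [← hP.range_fromSpec]
      exact ⟨_, rfl⟩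
    have hsplit : ∀ (A : Type u) [CommRing A] [Algebra R A],
        (∃ σ : Red.bc (Spec.map (CommRingCat.ofHom (algebraMap R A)) ≫ g) H₁ ≅ Red.DS (Spec (CommRingCat.of A)) M,
          IsMonHom σ.hom) ∧
        ∃ σ : Red.bc (Spec.map (CommRingCat.ofHom (algebraMap R A)) ≫ g) H₂ ≅ Red.DS (Spec (CommRingCat.of A)) N,
          IsMonHom σ.hom := by
      intro A _ _
      obtain ⟨c₁, hc₁⟩ := hlift A (pullback.fst f₁ f₂) U₁ (fun y hy => (hPle hy).1)
      obtain ⟨c₂, hc₂⟩ := hlift A (pullback.snd f₁ f₂) U₂ (fun y hy => (hPle hy).2)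
      obtain ⟨σ₁, hσ₁, -⟩ := GrpBC.nonempty_iso_restrict (U₁.ι ≫ f₁) c₁ (Spec.map (CommRingCat.ofHom (algebraMap R A)) ≫ g) (by
        rw [reassoc_of% hc₁]; simp only [g, F, pullback.condition]) H₁ e₁
      obtain ⟨σ₂, hσ₂, -⟩ := GrpBC.nonempty_iso_restrict (U₂.ι ≫ f₂) c₂ (Spec.map (CommRingCat.ofHom (algebraMap R A)) ≫ g) (by
        rw [reassoc_of% hc₂]) H₂ e₂
      exact ⟨⟨σ₁, hσ₁⟩, σ₂, hσ₂⟩
    obtain ⟨p, hpw⟩ : w ∈ Set.range hP.fromSpec.base := by rw [hP.range_fromSpec]; exact htP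
    -- the local scheme at a point of the chart against the one of its image
    have hstalk : ∀ q : PrimeSpectrum R,
        ∃ k : Spec (CommRingCat.of (Localization.AtPrime q.asIdeal)) ⟶ Spec (S.presheaf.stalk (F.base (hP.fromSpec.base q))),
          IsFpqcCov k ∧ k ≫ S.fromSpecStalk _ =
            Spec.map (CommRingCat.ofHom (algebraMap R (Localization.AtPrime q.asIdeal))) ≫ g := by
      intro q
      haveI : Flat (Spec.map (CommRingCat.ofHom (algebraMap R (Localization.AtPrime q.asIdeal)))) := by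
        rw [HasRingHomProperty.Spec_iff (P := @Flat)]
        exact RingHom.flat_algebraMap_iff.mpr (IsLocalization.flat _ q.asIdeal.primeCompl)
      haveI : Flat g := inferInstanceAs (Flat (hP.fromSpec ≫ F))
      refine exists_cov_fromSpecStalk _ _ ?_
      show F.base (hP.fromSpec.base _) = _
      congr 2
      exact IsLocalization.AtPrime.comap_maximalIdeal (Localization.AtPrime q.asIdeal) q.asIdeal |> PrimeSpectrum.ext
    have hiff : ∀ q : PrimeSpectrum R, F.base (hP.fromSpec.base q) ∈ Z ↔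
        Good i₁ i₂ (Spec.map (CommRingCat.ofHom (algebraMap R (Localization.AtPrime q.asIdeal))) ≫ g) := by
      intro q
      obtain ⟨k, hk, hkg⟩ := hstalk q
      exact ⟨fun h => h.of_comp i₁ i₂ k hkg, fun h =>
        ⟨MultHomLocus.of_fpqc _ (MorphismProperty.isomorphisms Scheme.{u}) _ k hk _ hkg h.1,
          MultHomLocus.of_fpqc _ (MorphismProperty.isomorphisms Scheme.{u}) _ k hk _ hkg h.2⟩⟩
    subst hpw
    refine ⟨fun hZ => ?_, fun hws => ?_⟩
    · obtain ⟨⟨σ₁, hσ₁⟩, σ₂, hσ₂⟩ := hsplit R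
      have hid : Spec.map (CommRingCat.ofHom (algebraMap R R)) ≫ g = g := by
        rw [Algebra.algebraMap_self, CommRingCat.ofHom_id]
        exact (congrArg (· ≫ g) (Spec.map_id _)).trans (Category.id_comp _)
      obtain ⟨r, hr, hgood⟩ := good_spread i₁ i₂ hG R (Spec.map (CommRingCat.ofHom (algebraMap R R)) ≫ g) σ₁ σ₂
        p.asIdeal (by rw [hid]; exact (hiff p).mp hZ)
      rw [hid] at hgood
      let B : (pullback f₁ f₂).Opens := hP.fromSpec ''ᵁ (PrimeSpectrum.basicOpen r)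
      refine ⟨B, ⟨p, hr, rfl⟩, ?_, ?_⟩
      · let R' := Localization.Away r
        let m : Spec (CommRingCat.of R') ⟶ pullback f₁ f₂ := Spec.map (CommRingCat.ofHom (algebraMap R R')) ≫ hP.fromSpec
        have hm : Good i₁ i₂ (m ≫ F) := by
          have := hgood R' (IsLocalization.Away.algebraMap_isUnit r)
          simpa [m, g] using this
        have hle : Set.range B.ι.base ⊆ Set.range m.base := by
          rw [B.range_ι]
          rintro _ ⟨q, hq, rfl⟩
          obtain ⟨q', hq'⟩ : q ∈ Set.range (PrimeSpectrum.comap (algebraMap R R')) := by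
            rw [PrimeSpectrum.localization_away_comap_range R' r]; exact hq
          exact ⟨q', by rw [← hq']; rfl⟩
        exact hm.of_comp i₁ i₂ (IsOpenImmersion.lift m B.ι hle) (IsOpenImmersion.lift_fac_assoc _ _ _ _)
      · rintro _ ⟨q, hq, rfl⟩
        exact (hiff q).mpr (hgood _ (IsLocalization.map_units (Localization.AtPrime q.asIdeal) (⟨r, hq⟩ : q.asIdeal.primeCompl)))
    · refine (hiff p).mpr ?_
      let L := Localization.AtPrime p.asIdeal
      obtain ⟨⟨σ₁, hσ₁⟩, σ₂, hσ₂⟩ := hsplit L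
      haveI := hσ₁
      haveI := hσ₂
      let ω : Spec (CommRingCat.of (IsLocalRing.maximalIdeal L).ResidueField) ⟶ S :=
        Spec.map (CommRingCat.ofHom (algebraMap L (IsLocalRing.maximalIdeal L).ResidueField)) ≫
          Spec.map (CommRingCat.ofHom (algebraMap R L)) ≫ g
      have hω : ω.base (⊥ : PrimeSpectrum (IsLocalRing.maximalIdeal L).ResidueField) = s := by
        rw [← hws]
        show F.base (hP.fromSpec.base _) = F.base (hP.fromSpec.base p)
        congr 2
        refine PrimeSpectrum.ext ?_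
        show ((⊥ : Ideal _).comap (algebraMap L (IsLocalRing.maximalIdeal L).ResidueField)).comap (algebraMap R L) = _
        rw [← RingHom.ker_eq_comap_bot, Ideal.ker_algebraMap_residueField]
        exact IsLocalization.AtPrime.comap_maximalIdeal L p.asIdeal
      refine good_local i₁ i₂ hG L _ σ₁ σ₂ ((centralAt_image i₁ ω _).mpr (by rw [hω]; exact hc))
        ((good_field i₁ i₂ ω (⊥ : PrimeSpectrum (IsLocalRing.maximalIdeal L).ResidueField)).mpr (by rw [hω]; exact hs))
  have hopen : IsOpen (F.base ⁻¹' Z) := by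
    rw [isOpen_iff_forall_mem_open]
    intro w hw
    obtain ⟨B, hwB, -, hB⟩ := (chart w).1 hw
    exact ⟨B, hB, B.2, hwB⟩
  have hquot : IsOpen Z := by
    rw [isOpen_iff_forall_mem_open]
    intro t ht
    obtain ⟨O, htO, hO, W, e, hW, ⟨⟨hsur, hfl⟩, hqc⟩⟩ := hF.exists_resLE t
    refine ⟨O.ι.base '' (O.ι.base ⁻¹' Z), Set.image_preimage_subset _ _, ?_, ⟨⟨t, htO⟩, ht, rfl⟩⟩
    refine O.ι.isOpenEmbedding.isOpenMap _ ?_
    rw [← (Flat.isQuotientMap_of_surjective (F.resLE O W e)).isOpen_preimage, ← Set.preimage_comp]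
    have : O.ι.base ∘ (F.resLE O W e).base = F.base ∘ W.ι.base := by
      funext y
      exact congr($(Scheme.Hom.resLE_comp_ι F e).base y)
    rw [this, Set.preimage_comp]
    exact hopen.preimage W.ι.continuous
  let U : S.Opens := ⟨Z, hquot⟩
  obtain ⟨w, hw⟩ := F.surjective s
  refine ⟨U, hw ▸ (chart w).2 hw, of_locally _ (MorphismProperty.isomorphisms _) F hF U (fun w hw => ?_),
    of_locally _ (MorphismProperty.isomorphisms _) F hF U (fun w hw => ?_)⟩
  · obtain ⟨B, hwB, hB, -⟩ := (chart w).1 hw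
    exact ⟨B, hwB, hB.1⟩
  · obtain ⟨B, hwB, hB, -⟩ := (chart w).1 hw
    exact ⟨B, hwB, hB.2⟩

end Groth.Agent.SGA3cLib.Near
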