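import Groth.Agent.SGA3cLib.NormalMultCentral
import Groth.Agent.SGA3cLib.Irreducible
import Groth.Agent.SGA3cLib.WeilRes
import Mathlib.AlgebraicGeometry.Morphisms.FlatDescent
import Mathlib.AlgebraicGeometry.Morphisms.Etale

/-!
# A smooth group with connected fibres is generated by any etale neighbourhood meeting all fibres
-/

set_option linter.style.haveILetI false
set_option autoImplicit false
set_option backward.isDefEq.respectTransparency.types false

universe u

open CategoryTheory CategoryTheory.Limits MonoidalCategory CartesianMonoidalCategory MonObj GrpObj AlgebraicGeometry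

noncomputable section

namespace Groth.Agent.SGA3cLib.GenGroup

/-- Factoring through a monomorphism descends along flat surjective morphisms locally of finite presentation. -/
theorem exists_lift_of_fppf {Y Z W W' : Scheme.{u}} (j : Y ⟶ Z) [Mono j] (g : W ⟶ Z) (q : W' ⟶ W)
    [Surjective q] [Flat q] [LocallyOfFinitePresentation q] (h : ∃ l, l ≫ j = q ≫ g) : ∃ l, l ≫ j = g := by
  rw [WeilRes.exists_lift_iff_isIso]
  rw [WeilRes.exists_lift_iff_isIso] at h
  refine MorphismProperty.of_pullback_snd_of_descendsAlong (P := MorphismProperty.isomorphisms Scheme.{u})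
    (Q := @Surjective ⊓ @Flat ⊓ @LocallyOfFinitePresentation) (g := q) ⟨⟨inferInstance, inferInstance⟩, inferInstance⟩ ?_
  have hsq : IsPullback (pullback.fst j g) (pullback.snd j g) j g := IsPullback.of_hasPullback j g
  have h2 := (IsPullback.of_hasPullback (pullback.snd j g) q).paste_horiz hsq
  have e : pullback.snd (pullback.snd j g) q = h2.isoPullback.hom ≫ pullback.snd j (q ≫ g) := (h2.isoPullback_hom_snd).symm
  change IsIso (pullback.snd (pullback.snd j g) q)
  rw [e]; infer_instance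

variable {S : Scheme.{u}} {H : Over S} [GrpObj H] [LocallyOfFiniteType H.hom]

/-- Every point of `H` is the product of two points of an etale neighbourhood meeting all fibres. -/
theorem exists_mul_eq (hconn : ∀ s : S, ConnectedSpace ↥(pullback H.hom (S.fromSpecResidueField s)))
    {Ω : Over S} (k : Ω ⟶ H) [UniversallyOpen k.left] [Surjective Ω.hom] {K : Type u} [Field K]
    (ω : Spec (CommRingCat.of K) ⟶ S) (z : Over.mk ω ⟶ H) :
    ∃ w : ↥(Ω ⊗ Over.mk ω).left,
      ((fst Ω (Over.mk ω) ≫ k)⁻¹ * (snd Ω (Over.mk ω) ≫ z)).left.base w ∈ Set.range k.left.base := by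
  haveI : ConnectedSpace ↥(pullback H.hom ω) := NormalMultCentral.connectedSpace_bc H hconn ω
  haveI : LocallyOfFiniteType (Red.bc ω H).hom := inferInstanceAs (LocallyOfFiniteType (pullback.snd H.hom ω))
  haveI : ConnectedSpace (Red.bc ω H).left := ‹ConnectedSpace ↥(pullback H.hom ω)›
  haveI : IrreducibleSpace (Red.bc ω H).left := irreducibleSpace_of_connected (Red.bc ω H)
  haveI : IrreducibleSpace ↥(H ⊗ (Over.mk ω)).left := ‹IrreducibleSpace (Red.bc ω H).left›
  let φ : H ⊗ (Over.mk ω) ⟶ H ⊗ (Over.mk ω) := lift ((fst H (Over.mk ω))⁻¹ * (snd H (Over.mk ω) ≫ z)) (snd H (Over.mk ω))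
  let ψ : H ⊗ (Over.mk ω) ⟶ H ⊗ (Over.mk ω) := lift ((snd H (Over.mk ω) ≫ z) * (fst H (Over.mk ω))⁻¹) (snd H (Over.mk ω))
  have hψφ : ψ ≫ φ = 𝟙 _ := by
    apply CartesianMonoidalCategory.hom_ext <;> simp [φ, ψ, MonObj.comp_mul, GrpObj.comp_inv]
  let kX : Ω ⊗ (Over.mk ω) ⟶ H ⊗ (Over.mk ω) := k ▷ (Over.mk ω)
  have hsq : IsPullback kX.left (fst Ω (Over.mk ω)).left (fst H (Over.mk ω)).left k.left := by
    have h1 : kX.left ≫ (snd H (Over.mk ω)).left = (snd Ω (Over.mk ω)).left := congrArg CommaMorphism.left (whiskerRight_snd k (Over.mk ω))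
    have h2 : IsPullback (kX.left ≫ (snd H (Over.mk ω)).left) (fst Ω (Over.mk ω)).left ω (k.left ≫ H.hom) := by
      rw [h1, Over.w k]
      exact (IsPullback.of_hasPullback Ω.hom ω).flip
    exact IsPullback.of_right h2 (congrArg CommaMorphism.left (whiskerRight_fst k (Over.mk ω)))
      (IsPullback.of_hasPullback H.hom ω).flip
  have hrange : Set.range kX.left.base = (fst H (Over.mk ω)).left.base ⁻¹' Set.range k.left.base := by
    rw [← IsPullback.isoPullback_hom_fst hsq]
    rw [Scheme.Hom.comp_base, TopCat.coe_comp, Set.range_comp, hsq.isoPullback.hom.surjective.range_eq,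
      Set.image_univ, Scheme.Pullback.range_fst]
  have hOopen : IsOpen (Set.range kX.left.base) := by
    rw [hrange]; exact (k.left.isOpenMap.isOpen_range).preimage (fst H (Over.mk ω)).left.continuous
  have hOne : (Set.range kX.left.base).Nonempty := by
    obtain ⟨p⟩ : Nonempty ↥(Spec (CommRingCat.of K)) := inferInstance
    obtain ⟨o, ho⟩ := Ω.hom.surjective (ω.base p)
    obtain ⟨w, -, -⟩ := Scheme.Pullback.exists_preimage_pullback (f := Ω.hom) (g := ω) o p ho
    exact ⟨_, ⟨w, rfl⟩⟩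
  have hφne : (φ.left.base ⁻¹' Set.range kX.left.base).Nonempty := by
    obtain ⟨p, hp⟩ := hOne
    refine ⟨ψ.left.base p, ?_⟩
    rw [Set.mem_preimage, ← Scheme.Hom.comp_apply, ← Over.comp_left, hψφ]
    exact hp
  obtain ⟨p, ⟨w, hw⟩, hp⟩ := nonempty_preirreducible_inter hOopen (hOopen.preimage φ.left.continuous) hOne hφne
  refine ⟨w, ?_⟩
  have e : (fst Ω (Over.mk ω) ≫ k)⁻¹ * (snd Ω (Over.mk ω) ≫ z) = kX ≫ φ ≫ fst H (Over.mk ω) := by
    simp [φ, kX, MonObj.comp_mul, GrpObj.comp_inv]
  rw [e, Over.comp_left, Over.comp_left, Scheme.Hom.comp_apply, Scheme.Hom.comp_apply, hw]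
  have h2 : φ.left.base p ∈ (fst H (Over.mk ω)).left.base ⁻¹' Set.range k.left.base := hrange ▸ hp
  exact h2

/-- A subgroup through which an etale neighbourhood meeting all fibres factors is everything. -/
theorem exists_lift_id (hconn : ∀ s : S, ConnectedSpace ↥(pullback H.hom (S.fromSpecResidueField s)))
    {E : Over S} [GrpObj E] (j : E ⟶ H) [IsMonHom j] [Mono j] {Ω : Over S} (k : Ω ⟶ H) [Etale k.left]
    [Flat H.hom] [LocallyOfFinitePresentation H.hom] [Surjective Ω.hom] (l : Ω ⟶ E) (hl : l ≫ j = k) :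
    ∃ m : H ⟶ E, m ≫ j = 𝟙 H := by
  let f₀ : Ω ⊗ H ⟶ H := (fst Ω H ≫ k)⁻¹ * snd Ω H
  let T : Over S := Over.mk (pullback.fst f₀.left k.left ≫ (Ω ⊗ H).hom)
  let p₁ : T ⟶ Ω ⊗ H := Over.homMk (pullback.fst f₀.left k.left) rfl
  let p₂ : T ⟶ Ω := Over.homMk (pullback.snd f₀.left k.left) (by
    change pullback.snd f₀.left k.left ≫ Ω.hom = pullback.fst f₀.left k.left ≫ (Ω ⊗ H).hom
    rw [← Over.w k, ← pullback.condition_assoc, Over.w f₀])
  have hp : p₁ ≫ f₀ = p₂ ≫ k := Over.OverMorphism.ext pullback.condition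
  let t : T ⟶ H := p₁ ≫ snd Ω H
  have ht : t = (p₁ ≫ fst Ω H ≫ k) * (p₂ ≫ k) := by
    rw [← hp]; simp [t, f₀, MonObj.comp_mul, GrpObj.comp_inv]
  haveI : Flat Ω.hom := by rw [← Over.w k]; infer_instance
  haveI : LocallyOfFinitePresentation Ω.hom := by rw [← Over.w k]; infer_instance
  haveI : Flat (snd Ω H).left := inferInstanceAs (Flat (pullback.snd Ω.hom H.hom))
  haveI : LocallyOfFinitePresentation (snd Ω H).left :=
    inferInstanceAs (LocallyOfFinitePresentation (pullback.snd Ω.hom H.hom))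
  haveI : Flat t.left := inferInstanceAs (Flat (pullback.fst f₀.left k.left ≫ (snd Ω H).left))
  haveI : LocallyOfFinitePresentation t.left :=
    inferInstanceAs (LocallyOfFinitePresentation (pullback.fst f₀.left k.left ≫ (snd Ω H).left))
  haveI : Surjective t.left := by
    refine ⟨fun z₀ => ?_⟩
    let ω : Spec (CommRingCat.of (H.left.residueField z₀)) ⟶ S := H.left.fromSpecResidueField z₀ ≫ H.hom
    let z : Over.mk ω ⟶ H := Over.homMk (H.left.fromSpecResidueField z₀) rfl
    obtain ⟨w, o, ho⟩ := exists_mul_eq hconn k ω z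
    have e : (fst Ω (Over.mk ω) ≫ k)⁻¹ * (snd Ω (Over.mk ω) ≫ z) = (Ω ◁ z) ≫ f₀ := by
      simp [f₀, MonObj.comp_mul, GrpObj.comp_inv]
    rw [e, Over.comp_left, Scheme.Hom.comp_apply] at ho
    obtain ⟨x, hx, -⟩ := Scheme.Pullback.exists_preimage_pullback (f := f₀.left) (g := k.left) _ o ho.symm
    refine ⟨x, ?_⟩
    show (snd Ω H).left.base ((pullback.fst f₀.left k.left).base x) = z₀
    rw [hx, ← Scheme.Hom.comp_apply, ← Over.comp_left, whiskerLeft_snd, Over.comp_left, Scheme.Hom.comp_apply]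
    exact H.left.fromSpecResidueField_apply _ _
  haveI : Mono j.left := inferInstance
  obtain ⟨m, hm⟩ := exists_lift_of_fppf j.left (𝟙 _) t.left
    ⟨((p₁ ≫ fst Ω H ≫ l) * (p₂ ≫ l)).left, by
      rw [Category.comp_id, ← Over.comp_left, MonObj.mul_comp, ht]
      simp only [Category.assoc, hl]⟩
  exact ⟨Over.homMk m (by rw [← Over.w j, ← Category.assoc, hm, Category.id_comp]), Over.OverMorphism.ext hm⟩

end Groth.Agent.SGA3cLib.GenGroup
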