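import Mathlib.AlgebraicGeometry.Morphisms.Smooth
import Mathlib.AlgebraicGeometry.Morphisms.Etale
import Mathlib.AlgebraicGeometry.Morphisms.FormallyUnramified
import Mathlib.AlgebraicGeometry.Morphisms.ClosedImmersion
import Mathlib.RingTheory.Unramified.LocalStructure
import Mathlib.RingTheory.Smooth.StandardSmoothOfFree

/-!
# Charts: unramified morphisms in etale neighbourhoods, smooth morphisms near a section
-/

set_option linter.style.haveILetI false
set_option autoImplicit false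
set_option backward.isDefEq.respectTransparency.types false

universe u

open CategoryTheory CategoryTheory.Limits AlgebraicGeometry TensorProduct

noncomputable section

namespace Groth.Agent.SGA3cLib.UnramChart

/-- An unramified morphism is, near each point, a closed immersion into an etale neighbourhood. -/
theorem exists_etale_chart {E H : Scheme.{u}} (j : E ⟶ H) [FormallyUnramified j] [LocallyOfFiniteType j] (x : E) :
    ∃ (E₀ W : Scheme.{u}) (o : E₀ ⟶ E) (c : E₀ ⟶ W) (q : W ⟶ H),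
      IsOpenImmersion o ∧ IsClosedImmersion c ∧ Etale q ∧ x ∈ Set.range o.base ∧ c ≫ q = o ≫ j := by
  obtain ⟨V, hV, hxV, -⟩ := exists_isAffineOpen_mem_and_subset (U := (⊤ : H.Opens)) (x := j.base x) trivial
  obtain ⟨E₁, hE₁, hxE₁, hle⟩ := exists_isAffineOpen_mem_and_subset (U := j ⁻¹ᵁ V) (x := x) hxV
  let A : CommRingCat.{u} := Γ(H, V)
  let S₁ : CommRingCat.{u} := Γ(E, E₁)
  let φ₁ : A ⟶ S₁ := j.appLE V E₁ hle
  letI : Algebra A S₁ := φ₁.hom.toAlgebra
  haveI : Algebra.FiniteType A S₁ := HasRingHomProperty.appLE (P := @LocallyOfFiniteType) j ‹_› ⟨V, hV⟩ ⟨E₁, hE₁⟩ hle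
  haveI : Algebra.FormallyUnramified A S₁ :=
    HasRingHomProperty.appLE (P := @FormallyUnramified) j ‹_› ⟨V, hV⟩ ⟨E₁, hE₁⟩ hle
  let Q := (hE₁.primeIdealOf ⟨x, hxE₁⟩).asIdeal
  obtain ⟨f, hf, P, φ, hφ⟩ := Algebra.IsUnramifiedAt.exists_hasStandardEtaleSurjectionOn (R := A) Q
  let ι₀ : Spec (CommRingCat.of (Localization.Away f)) ⟶ Spec S₁ :=
    Spec.map (CommRingCat.ofHom (algebraMap S₁ (Localization.Away f)))
  let q₀ : Spec (CommRingCat.of P.Ring) ⟶ Spec A := Spec.map (CommRingCat.ofHom (algebraMap A P.Ring))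
  haveI : Etale q₀ := by
    rw [HasRingHomProperty.Spec_iff (P := @Etale)]
    exact RingHom.etale_algebraMap.mpr inferInstance
  haveI : IsOpenImmersion ι₀ := IsOpenImmersion.of_isLocalization f
  refine ⟨_, _, ι₀ ≫ hE₁.fromSpec, Spec.map (CommRingCat.ofHom φ.toRingHom), q₀ ≫ hV.fromSpec, inferInstance,
    IsClosedImmersion.spec_of_surjective _ hφ, inferInstance, ?_, ?_⟩
  · obtain ⟨p, hp⟩ : (⟨Q, inferInstance⟩ : PrimeSpectrum S₁) ∈ Set.range (PrimeSpectrum.comap (algebraMap S₁ (Localization.Away f))) := by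
      rw [PrimeSpectrum.localization_away_comap_range _ f]
      exact hf
    refine ⟨p, ?_⟩
    rw [Scheme.Hom.comp_apply, show ι₀.base p = hE₁.primeIdealOf ⟨x, hxE₁⟩ from hp, hE₁.fromSpec_primeIdealOf]
  · rw [Category.assoc, ← IsAffineOpen.SpecMap_appLE_fromSpec j hV hE₁ hle, ← Category.assoc, ← Category.assoc]
    congr 1
    show Spec.map _ ≫ Spec.map _ = Spec.map _ ≫ Spec.map φ₁
    rw [← Spec.map_comp, ← Spec.map_comp]
    congr 1
    ext a
    exact φ.commutes a

/-- A smooth morphism has a standard smooth chart containing a given section. -/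
theorem exists_section_chart {W S : Scheme.{u}} (π : W ⟶ S) [Smooth π] {U₀ : S.Opens} (ε : (U₀ : Scheme.{u}) ⟶ W)
    (hε : ε ≫ π = U₀.ι) (s : U₀) :
    ∃ (R B : Type u) (_ : CommRing R) (_ : CommRing B) (_ : Algebra R B) (_ : Algebra.IsStandardSmooth R B)
      (σ : B →ₐ[R] R) (a : Spec (CommRingCat.of R) ⟶ U₀) (b : Spec (CommRingCat.of B) ⟶ W),
      IsOpenImmersion a ∧ IsOpenImmersion b ∧ s ∈ Set.range a.base ∧
        b ≫ π = Spec.map (CommRingCat.ofHom (algebraMap R B)) ≫ a ≫ U₀.ι ∧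
        Spec.map (CommRingCat.ofHom σ.toRingHom) ≫ b = a ≫ ε := by
  obtain ⟨U, hU, V, hV, hwV, e, hsm⟩ := Smooth.exists_isStandardSmooth π (ε.base s)
  have hsU : (s : S) ∈ U := by
    have h1 : π.base (ε.base s) = (s : S) := by rw [← Scheme.Hom.comp_apply, hε]; rfl
    rw [← h1]; exact e hwV
  let U₁ : S.Opens := U₀.ι ''ᵁ (ε ⁻¹ᵁ V)
  have hsU₁ : (s : S) ∈ U₁ := ⟨s, hwV, rfl⟩
  obtain ⟨r, hr, hsr⟩ := hU.exists_basicOpen_le (⟨s, hsU₁⟩ : U₁) hsU
  let A : CommRingCat.{u} := Γ(S, U)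
  let B₀ : CommRingCat.{u} := Γ(W, V)
  let φ₀ : A ⟶ B₀ := π.appLE U V e
  letI : Algebra A B₀ := φ₀.hom.toAlgebra
  haveI : Algebra.IsStandardSmooth A B₀ := hsm
  let R : Type u := Localization.Away r
  let B : Type u := R ⊗[A] B₀
  let ι : Spec (CommRingCat.of R) ⟶ S := Spec.map (CommRingCat.ofHom (algebraMap A R)) ≫ hU.fromSpec
  haveI : IsOpenImmersion (Spec.map (CommRingCat.ofHom (algebraMap A R))) := IsOpenImmersion.of_isLocalization r
  have hι : Set.range ι.base = (S.basicOpen r : Set S) := by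
    rw [Scheme.Hom.comp_base, TopCat.coe_comp, Set.range_comp]
    rw [show Set.range (Spec.map (CommRingCat.ofHom (algebraMap A R))).base = ((PrimeSpectrum.basicOpen r : TopologicalSpace.Opens (PrimeSpectrum A)) : Set (PrimeSpectrum A)) from
      PrimeSpectrum.localization_away_comap_range R r]
    rw [← hU.fromSpec_image_basicOpen r]
    rfl
  have hιU₁ : Set.range ι.base ⊆ (U₁ : Set S) := by rw [hι]; exact hr
  let a : Spec (CommRingCat.of R) ⟶ U₀ := IsOpenImmersion.lift U₀.ι ι (by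
    rw [Scheme.Opens.range_ι]
    exact hιU₁.trans (by rintro _ ⟨y, -, rfl⟩; exact y.2))
  have ha : a ≫ U₀.ι = ι := IsOpenImmersion.lift_fac _ _ _
  haveI : IsOpenImmersion a := by
    haveI : IsOpenImmersion (a ≫ U₀.ι) := by rw [ha]; infer_instance
    exact IsOpenImmersion.of_comp a U₀.ι
  have haV : Set.range (a ≫ ε).base ⊆ Set.range hV.fromSpec.base := by
    rw [hV.range_fromSpec]
    rintro _ ⟨p, rfl⟩
    obtain ⟨y, hy, hyp⟩ := hιU₁ ⟨p, rfl⟩
    have : a.base p = y := U₀.ι.isOpenEmbedding.injective (by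
      rw [← Scheme.Hom.comp_apply, ha]; exact hyp.symm)
    rw [Scheme.Hom.comp_apply, this]
    exact hy
  obtain ⟨σ₀, hσ₀⟩ := Spec.map_surjective (IsOpenImmersion.lift hV.fromSpec (a ≫ ε) haV)
  have hσ₀' : Spec.map σ₀ ≫ hV.fromSpec = a ≫ ε := by rw [hσ₀]; exact IsOpenImmersion.lift_fac _ _ _
  have hcomm : φ₀ ≫ σ₀ = CommRingCat.ofHom (algebraMap A R) := by
    apply Spec.map_injective
    rw [Spec.map_comp, ← cancel_mono hU.fromSpec, Category.assoc, IsAffineOpen.SpecMap_appLE_fromSpec π hU hV e,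
      ← Category.assoc, hσ₀', Category.assoc, hε, ha]
  let s₀ : B₀ →ₐ[A] R := ⟨σ₀.hom, fun x => congr($hcomm x)⟩
  let σ : B →ₐ[R] R := Algebra.TensorProduct.lift (AlgHom.id R R) s₀ (fun _ _ => Commute.all _ _)
  let incr : CommRingCat.of B₀ ⟶ CommRingCat.of B :=
    CommRingCat.ofHom (Algebra.TensorProduct.includeRight : B₀ →ₐ[A] B).toRingHom
  haveI : IsOpenImmersion (Spec.map incr) := by
    simp only [incr, AlgHom.toRingHom_eq_coe]
    rw [← pullbackSpecIso_inv_snd A R B₀]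
    infer_instance
  refine ⟨R, B, inferInstance, inferInstance, inferInstance, inferInstance, σ, a, Spec.map incr ≫ hV.fromSpec,
    inferInstance, inferInstance, ?_, ?_, ?_⟩
  · obtain ⟨p, hp⟩ := hι.ge hsr
    exact ⟨p, U₀.ι.isOpenEmbedding.injective (by rw [← Scheme.Hom.comp_apply, ha]; exact hp)⟩
  · rw [Category.assoc, ← IsAffineOpen.SpecMap_appLE_fromSpec π hU hV e, ha, ← Category.assoc, ← Category.assoc]
    congr 1
    rw [← Spec.map_comp, ← Spec.map_comp]
    congr 1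
    ext x
    exact ((Algebra.TensorProduct.includeRight : B₀ →ₐ[A] B).commutes x).trans
      (IsScalarTower.algebraMap_apply A R B x)
  · rw [← Category.assoc, ← Spec.map_comp, ← hσ₀']
    congr 2
    ext x
    show σ ((1 : R) ⊗ₜ[A] x) = σ₀.hom x
    exact (Algebra.TensorProduct.lift_tmul (AlgHom.id R R) s₀ (fun _ _ => Commute.all _ _) (1 : R) x).trans (_root_.one_mul _)

end Groth.Agent.SGA3cLib.UnramChart
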