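import Groth.Agent.SGA3cLib.JetContent
import Groth.Agent.SGA3cLib.GenGroup
import Groth.Agent.SGA3cLib.UnramChart
import Groth.Agent.SGA3cLib.WeilRes
import Groth.Agent.EGA43.Limit.Basic

/-!
# The locus of the base where a subgroup contains a smooth group with connected fibres

For a monomorphism locally of finite presentation `E ⟶ H` of groups, `H` smooth with connected fibres, the
locus where it is an isomorphism is a closed subscheme of finite presentation.
-/

set_option linter.style.haveILetI false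
set_option autoImplicit false
set_option backward.isDefEq.respectTransparency.types false

universe u

open CategoryTheory CategoryTheory.Limits MonoidalCategory CartesianMonoidalCategory MonObj GrpObj AlgebraicGeometry
open scoped TensorProduct

noncomputable section

namespace Groth.Agent.SGA3cLib.SubgroupContent

/-- A pullback square stays one after composing with a monomorphism. -/
theorem isPullback_comp_mono {C : Type*} [Category C] {P X Y Z Z' : C} {p : P ⟶ X} {q : P ⟶ Y} {f : X ⟶ Z} {g : Y ⟶ Z}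
    (h : IsPullback p q f g) (a : Z ⟶ Z') [Mono a] : IsPullback p q (f ≫ a) (g ≫ a) :=
  IsPullback.of_isLimit' ⟨by simp [h.w_assoc]⟩
    (PullbackCone.IsLimit.mk _ (fun c => h.lift c.fst c.snd ((cancel_mono a).1 (by simpa using c.condition)))
      (by simp) (by simp) (fun c m h1 h2 => h.hom_ext (by simp [h1]) (by simp [h2])))

open Jet in
/-- An element killed near the section. -/
theorem exists_unit_killing {R B C : Type u} [CommRing R] [CommRing B] [Algebra R B] [CommRing C] [Algebra R C]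
    (σ : B →ₐ[R] R) {I : Ideal B} (hI : I.FG) (U : Set (PrimeSpectrum (C ⊗[R] B))) (hUo : IsOpen U)
    (hsec : Set.range (PrimeSpectrum.comap (augBC σ C).toRingHom) ⊆ U)
    (hU : ∀ v : C ⊗[R] B, (PrimeSpectrum.basicOpen v : Set (PrimeSpectrum (C ⊗[R] B))) ⊆ U →
      ∀ i ∈ I, algebraMap (C ⊗[R] B) (Localization.Away v) ((1 : C) ⊗ₜ[R] i) = 0) :
    ∃ u : C ⊗[R] B, augBC σ C u = 1 ∧ ∀ i ∈ I, u * ((1 : C) ⊗ₜ[R] i) = 0 := by
  classical
  obtain ⟨𝔞, h𝔞⟩ := (PrimeSpectrum.isClosed_iff_zeroLocus_ideal Uᶜ).mp hUo.isClosed_compl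
  obtain ⟨v, hv, hv1⟩ : ∃ v ∈ 𝔞, augBC σ C v = 1 := by
    by_contra hcon
    push Not at hcon
    have hne : 𝔞 ⊔ RingHom.ker (augBC σ C) ≠ ⊤ := by
      intro h
      obtain ⟨y, hy, z, hz, hyz⟩ := Submodule.mem_sup.mp ((Ideal.eq_top_iff_one _).mp h)
      refine hcon y hy ?_
      rw [← map_one (augBC σ C), ← hyz, map_add, show augBC σ C z = 0 from hz, add_zero]
    obtain ⟨Q, hQ, hle⟩ := Ideal.exists_le_maximal _ hne
    have h1 : (⟨Q, hQ.isPrime⟩ : PrimeSpectrum (C ⊗[R] B)) ∈ Set.range (PrimeSpectrum.comap (augBC σ C).toRingHom) := by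
      rw [range_comap_of_surjective _ _ (fun c => ⟨algebraMap C _ c, (augBC σ C).commutes c⟩)]
      exact fun z hz => hle (Ideal.mem_sup_right hz)
    have h2 : (⟨Q, hQ.isPrime⟩ : PrimeSpectrum (C ⊗[R] B)) ∈ Uᶜ := by
      rw [h𝔞]; exact fun z hz => hle (Ideal.mem_sup_left hz)
    exact h2 (hsec h1)
  have hsub : (PrimeSpectrum.basicOpen v : Set (PrimeSpectrum (C ⊗[R] B))) ⊆ U := by
    intro p hp
    by_contra hn
    exact hp ((h𝔞.le hn : p ∈ PrimeSpectrum.zeroLocus (𝔞 : Set (C ⊗[R] B))) hv)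
  obtain ⟨t, rfl⟩ := hI
  have hN : ∀ i : (t : Set B), ∃ m : ℕ, v ^ m * ((1 : C) ⊗ₜ[R] (i : B)) = 0 := fun i => by
    obtain ⟨⟨_, m, rfl⟩, hm⟩ := (IsLocalization.map_eq_zero_iff (Submonoid.powers v) _ _).mp
      (hU v hsub i (Ideal.subset_span i.2))
    exact ⟨m, hm⟩
  choose m hm using hN
  refine ⟨v ^ (∑ i : (t : Set B), m i), by rw [map_pow, hv1, one_pow], fun i hi => ?_⟩
  refine Submodule.span_induction (fun b hb => ?_) (by simp) (fun x y _ _ hx hy => ?_) (fun c x _ hx => ?_) hi
  · rw [← Finset.add_sum_erase Finset.univ m (Finset.mem_univ (⟨b, hb⟩ : (t : Set B))), pow_add, mul_comm (v ^ _),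
      _root_.mul_assoc, hm ⟨b, hb⟩, mul_zero]
  · rw [TensorProduct.tmul_add, mul_add, hx, hy, add_zero]
  · rw [smul_eq_mul, show (1 : C) ⊗ₜ[R] (c * x) = ((1 : C) ⊗ₜ c) * ((1 : C) ⊗ₜ x) by simp, mul_left_comm, hx, mul_zero]

variable {S : Scheme.{u}} {H E : Over S} [GrpObj H] [GrpObj E] [Smooth H.hom] (j : E ⟶ H) [IsMonHom j] [Mono j]
  [LocallyOfFinitePresentation j.left]

set_option backward.isDefEq.respectTransparency false in
/-- Near every point of the base the locus is cut out by a finitely generated ideal. -/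
theorem exists_ideal (hconn : ∀ s : S, ConnectedSpace ↥(pullback H.hom (S.fromSpecResidueField s))) (s : S) :
    ∃ (R : CommRingCat.{u}) (a : Spec R ⟶ S) (J : Ideal R), IsOpenImmersion a ∧ s ∈ Set.range a.base ∧ J.FG ∧
      ∀ (C : CommRingCat.{u}) (χ : R ⟶ C),
        WeilRes.Factors H.hom j.left (Spec C) (Spec.map χ ≫ a) ↔ J ≤ RingHom.ker χ.hom := by
  haveI : Mono j.left := inferInstance
  haveI : FormallyUnramified j.left := inferInstance
  obtain ⟨E₀, W, o, c, q, _, _, _, hxo, hcq⟩ := UnramChart.exists_etale_chart j.left (η[E].left.base s)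
  let U₀ : S.Opens := η[E].left ⁻¹ᵁ o.opensRange
  let eE : (U₀ : Scheme.{u}) ⟶ E₀ := IsOpenImmersion.lift o (U₀.ι ≫ η[E].left) (by
    rintro _ ⟨y, rfl⟩
    exact y.2)
  have heE : eE ≫ o = U₀.ι ≫ η[E].left := IsOpenImmersion.lift_fac _ _ _
  have hε : (eE ≫ c) ≫ q ≫ H.hom = U₀.ι := by
    rw [Category.assoc, reassoc_of% hcq, Over.w j, reassoc_of% heE, show η[E].left ≫ E.hom = 𝟙 S from Over.w η[E]]
    exact Category.comp_id _
  obtain ⟨R, B, _, _, _, _, σ, a₀, b, _, _, hsa, hb, hσb⟩ :=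
    UnramChart.exists_section_chart (q ≫ H.hom) (eE ≫ c) hε (⟨s, hxo⟩ : U₀)
  let a : Spec (CommRingCat.of R) ⟶ S := a₀ ≫ U₀.ι
  haveI : LocallyOfFinitePresentation c := by
    haveI : LocallyOfFinitePresentation (c ≫ q) := by rw [hcq]; infer_instance
    exact EGA43.Limit.locallyOfFinitePresentation_of_comp c q
  obtain ⟨I, e, he⟩ : ∃ (I : Ideal B) (e : pullback c b ≅ Spec (CommRingCat.of (B ⧸ I))),
      pullback.snd c b = e.hom ≫ Spec.map (CommRingCat.ofHom (Ideal.Quotient.mk I)) :=
    (IsClosedImmersion.Spec_iff (R := CommRingCat.of B) (f := pullback.snd c b)).1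
      (MorphismProperty.pullback_snd (P := @IsClosedImmersion) c b inferInstance)
  have hI : I.FG := by
    have h1 : LocallyOfFinitePresentation (Spec.map (CommRingCat.ofHom (Ideal.Quotient.mk I))) := by
      rw [← MorphismProperty.cancel_left_of_respectsIso @LocallyOfFinitePresentation e.hom, ← he]
      exact MorphismProperty.pullback_snd (P := @LocallyOfFinitePresentation) _ _ ‹_›
    rw [HasRingHomProperty.Spec_iff (P := @LocallyOfFinitePresentation)] at h1
    haveI : Algebra.FinitePresentation B (B ⧸ I) := h1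
    have h2 := Algebra.FinitePresentation.ker_fG_of_surjective (Ideal.Quotient.mkₐ B I) Ideal.Quotient.mk_surjective
    rwa [show (Ideal.Quotient.mkₐ B I).toRingHom = Ideal.Quotient.mk I from rfl, Ideal.mk_ker] at h2
  have hpiece : ∀ (D : CommRingCat.{u}) (β : CommRingCat.of B ⟶ D),
      (∃ l, l ≫ c = Spec.map β ≫ b) ↔ I ≤ RingHom.ker β.hom := by
    intro D β
    constructor
    · rintro ⟨l, hl⟩
      let l' := pullback.lift l (Spec.map β) hl ≫ e.hom
      have h1 : l' ≫ Spec.map (CommRingCat.ofHom (Ideal.Quotient.mk I)) = Spec.map β := by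
        simp only [l', Category.assoc, ← he, pullback.lift_snd]
      obtain ⟨gm, hgm⟩ : ∃ gm, Spec.map gm = l' := ⟨_, Spec.map_preimage _⟩
      rw [← hgm, ← Spec.map_comp] at h1
      rw [← Spec.map_injective h1]
      intro x hx
      change gm.hom (Ideal.Quotient.mk I x) = 0
      rw [Ideal.Quotient.eq_zero_iff_mem.2 hx, map_zero]
    · intro h
      refine ⟨Spec.map (CommRingCat.ofHom (Ideal.Quotient.lift I β.hom fun x hx => h hx)) ≫ e.inv ≫ pullback.fst _ _, ?_⟩
      rw [Category.assoc, Category.assoc, pullback.condition, he, Category.assoc, Iso.inv_hom_id_assoc,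
        ← Spec.map_comp_assoc]
      congr 2
  obtain ⟨J, hJfg, hJ⟩ := Jet.exists_content_near_ideal σ hI
  refine ⟨CommRingCat.of R, a, J, inferInstance, ?_, hJfg, fun C χ => ?_⟩
  · obtain ⟨p, hp⟩ := hsa
    exact ⟨p, by rw [Scheme.Hom.comp_apply, hp]; rfl⟩
  letI : Algebra R C := χ.hom.toAlgebra
  rw [show RingHom.ker χ.hom = RingHom.ker (algebraMap R C) from rfl, ← hJ C]
  let P : Type u := C ⊗[R] B
  let iR : B →+* P := (Algebra.TensorProduct.includeRight : B →ₐ[R] P).toRingHom
  let p₁ : Spec (CommRingCat.of P) ⟶ Spec (CommRingCat.of B) := Spec.map (CommRingCat.ofHom iR)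
  let p₂ : Spec (CommRingCat.of P) ⟶ Spec C :=
    Spec.map (CommRingCat.ofHom (Algebra.TensorProduct.includeLeftRingHom : C →+* P))
  let εC : Spec C ⟶ Spec (CommRingCat.of P) := Spec.map (CommRingCat.ofHom (Jet.augBC σ C).toRingHom)
  have hεp₁ : εC ≫ p₁ = Spec.map χ ≫ Spec.map (CommRingCat.ofHom σ.toRingHom) := by
    show Spec.map _ ≫ Spec.map _ = _
    rw [← Spec.map_comp, ← Spec.map_comp]
    congr 1
    ext x
    show Jet.augBC σ C ((1 : C) ⊗ₜ[R] x) = χ.hom (σ x)
    rw [Jet.augBC_tmul, _root_.one_mul]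
    rfl
  have hεp₂ : εC ≫ p₂ = 𝟙 _ := by
    show Spec.map _ ≫ Spec.map _ = _
    rw [← Spec.map_comp, ← Spec.map_id]
    congr 1
    ext x
    show Jet.augBC σ C (x ⊗ₜ[R] (1 : B)) = x
    rw [Jet.augBC_tmul, map_one, map_one, _root_.mul_one]
  have hp : IsPullback p₁ p₂ ((b ≫ q) ≫ H.hom) (Spec.map χ ≫ a) := by
    rw [Category.assoc, hb]
    refine isPullback_comp_mono ?_ a
    exact (isPullback_SpecMap_of_isPushout _ _ _ _ (CommRingCat.isPushout_tensorProduct R C B)).flip
  let k : Spec (CommRingCat.of P) ⟶ pullback H.hom (Spec.map χ ≫ a) :=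
    pullback.lift (p₁ ≫ b ≫ q) p₂ (by rw [← hp.w, Category.assoc])
  have hk₁ : k ≫ pullback.fst _ _ = p₁ ≫ b ≫ q := pullback.lift_fst _ _ _
  have hk₂ : k ≫ pullback.snd _ _ = p₂ := pullback.lift_snd _ _ _
  haveI : Etale k := by
    refine MorphismProperty.of_isPullback (P := @Etale) (f' := p₁) (g := b ≫ q)
      (f := pullback.fst H.hom (Spec.map χ ≫ a)) ?_ inferInstance
    refine IsPullback.of_bot ?_ hk₁.symm (IsPullback.of_hasPullback H.hom (Spec.map χ ≫ a))
    rw [hk₂]
    exact hp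
  have hεk : εC ≫ k ≫ pullback.fst _ _ = (Spec.map χ ≫ a) ≫ η[E].left ≫ j.left := by
    rw [hk₁, reassoc_of% hεp₁, reassoc_of% hσb, hcq, reassoc_of% heE]
    simp only [a, Category.assoc]
  constructor
  · rintro ⟨l, hl⟩
    have hεl : εC ≫ k ≫ l = (Spec.map χ ≫ a) ≫ η[E].left := by
      rw [← cancel_mono j.left, Category.assoc, Category.assoc, hl, hεk]
      simp only [Category.assoc]
    let Ω : (Spec (CommRingCat.of P)).Opens := (k ≫ l) ⁻¹ᵁ o.opensRange
    let m : (Ω : Scheme.{u}) ⟶ E₀ := IsOpenImmersion.lift o (Ω.ι ≫ k ≫ l) (by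
      rintro _ ⟨y, rfl⟩
      exact y.2)
    have hm : m ≫ o = Ω.ι ≫ k ≫ l := IsOpenImmersion.lift_fac _ _ _
    let g : (Ω : Scheme.{u}) ⟶ pullback q q := pullback.lift (Ω.ι ≫ p₁ ≫ b) (m ≫ c) (by
      rw [Category.assoc, Category.assoc, Category.assoc, hcq, reassoc_of% hm, hl, hk₁])
    let Ω' : (Ω : Scheme.{u}).Opens := g ⁻¹ᵁ (pullback.diagonal q).opensRange
    have hΩ' : Ω'.ι ≫ Ω.ι ≫ p₁ ≫ b = Ω'.ι ≫ m ≫ c := by
      let d := IsOpenImmersion.lift (pullback.diagonal q) (Ω'.ι ≫ g) (by rintro _ ⟨y, rfl⟩; exact y.2)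
      have hd : d ≫ pullback.diagonal q = Ω'.ι ≫ g := IsOpenImmersion.lift_fac _ _ _
      have h1 := congrArg (· ≫ pullback.fst q q) hd
      have h2 := congrArg (· ≫ pullback.snd q q) hd
      simp only [Category.assoc, pullback.diagonal_fst, pullback.diagonal_snd, g, pullback.lift_fst, pullback.lift_snd] at h1 h2
      rw [← h1, h2]
    refine exists_unit_killing σ hI (Ω.ι ''ᵁ Ω' : (Spec (CommRingCat.of P)).Opens).1 (Ω.ι ''ᵁ Ω').isOpen ?_ fun v hv i hi => ?_
    · rintro _ ⟨y, rfl⟩
      have hεo : Set.range εC.base ⊆ Set.range Ω.ι.base := by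
        rw [Scheme.Opens.range_ι]
        rintro _ ⟨z, rfl⟩
        show (k ≫ l).base (εC.base z) ∈ Set.range o.base
        rw [← Scheme.Hom.comp_apply, hεl, show (Spec.map χ ≫ a) ≫ η[E].left = Spec.map χ ≫ a₀ ≫ eE ≫ o by simp only [a, Category.assoc, heE], ← Category.assoc, ← Category.assoc]
        exact ⟨_, (Scheme.Hom.comp_apply _ o _).symm⟩
      let t := IsOpenImmersion.lift Ω.ι εC hεo
      have ht : t ≫ Ω.ι = εC := IsOpenImmersion.lift_fac _ _ _
      have htm : t ≫ m = Spec.map χ ≫ a₀ ≫ eE := by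
        rw [← cancel_mono o, Category.assoc, hm, reassoc_of% ht, hεl]
        simp only [a, Category.assoc, heE]
      have htg : t ≫ g = (Spec.map χ ≫ a₀ ≫ eE ≫ c) ≫ pullback.diagonal q := by
        apply pullback.hom_ext
        · simp only [g, Category.assoc, pullback.lift_fst, pullback.diagonal_fst, Category.comp_id, reassoc_of% ht,
            reassoc_of% hεp₁, hσb]
        · simp only [g, Category.assoc, pullback.lift_snd, pullback.diagonal_snd, Category.comp_id, reassoc_of% htm]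
      refine ⟨t.base y, ?_, (Scheme.Hom.comp_apply t Ω.ι y).symm.trans (by rw [ht]; rfl)⟩
      show g.base (t.base y) ∈ Set.range (pullback.diagonal q).base
      rw [← Scheme.Hom.comp_apply, htg]
      exact ⟨_, (Scheme.Hom.comp_apply _ _ _).symm⟩
    · haveI : IsOpenImmersion (Spec.map (CommRingCat.ofHom (algebraMap P (Localization.Away v)))) :=
        IsOpenImmersion.of_isLocalization v
      let w := IsOpenImmersion.lift (Ω'.ι ≫ Ω.ι) (Spec.map (CommRingCat.ofHom (algebraMap P (Localization.Away v)))) (by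
        rw [Scheme.Hom.comp_base, TopCat.coe_comp, Set.range_comp, Scheme.Opens.range_ι]
        refine (Eq.subset ?_).trans hv
        exact PrimeSpectrum.localization_away_comap_range _ v)
      have hw : w ≫ Ω'.ι ≫ Ω.ι = Spec.map (CommRingCat.ofHom (algebraMap P (Localization.Away v))) :=
        IsOpenImmersion.lift_fac _ _ _
      refine (hpiece _ (CommRingCat.ofHom ((algebraMap P (Localization.Away v)).comp iR))).1 ⟨w ≫ Ω'.ι ≫ m, ?_⟩ hi
      rw [Category.assoc, Category.assoc, ← hΩ', reassoc_of% hw, CommRingCat.ofHom_comp, Spec.map_comp, Category.assoc]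
  · rintro ⟨u, hu1, hu0⟩
    let loc := Spec.map (CommRingCat.ofHom (algebraMap P (Localization.Away u)))
    haveI : IsOpenImmersion loc := IsOpenImmersion.of_isLocalization u
    obtain ⟨l₀, hl₀⟩ := (hpiece _ (CommRingCat.ofHom ((algebraMap P (Localization.Away u)).comp iR))).2 fun i hi => by
      show algebraMap P (Localization.Away u) ((1 : C) ⊗ₜ[R] i) = 0
      exact (IsLocalization.map_eq_zero_iff (Submonoid.powers u) _ _).mpr ⟨⟨u, 1, pow_one u⟩, hu0 i hi⟩
    have hl₀j : l₀ ≫ o ≫ j.left = loc ≫ k ≫ pullback.fst _ _ := by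
      rw [← hcq, reassoc_of% hl₀, hk₁, CommRingCat.ofHom_comp, Spec.map_comp, Category.assoc]
    let x : Spec C ⟶ S := Spec.map χ ≫ a
    let H' := Red.bc x H
    let E' := Red.bc x E
    let j' : E' ⟶ H' := (Over.pullback x).map j
    let Ω₀ : Over (Spec C) := Over.mk (loc ≫ k ≫ pullback.snd H.hom x)
    let kk : Ω₀ ⟶ H' := Over.homMk (loc ≫ k) (Category.assoc _ _ _)
    let l₁ : Ω₀ ⟶ E' := Over.homMk (pullback.lift (l₀ ≫ o) (loc ≫ k ≫ pullback.snd H.hom x) (by
      rw [Category.assoc, ← Over.w j, reassoc_of% hl₀j, pullback.condition, Category.assoc, Category.assoc]))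
      (pullback.lift_snd _ _ _)
    have hl₁ : l₁ ≫ j' = kk := by
      apply Over.OverMorphism.ext
      apply pullback.hom_ext
      · show (pullback.lift (l₀ ≫ o) _ _ ≫ pullback.lift (pullback.fst E.hom x ≫ j.left) (pullback.snd E.hom x) _) ≫
          pullback.fst H.hom x = (loc ≫ k) ≫ pullback.fst H.hom x
        simp only [Category.assoc, pullback.lift_fst, pullback.lift_fst_assoc, hl₀j]
        rfl
      · show (pullback.lift (l₀ ≫ o) _ _ ≫ pullback.lift (pullback.fst E.hom x ≫ j.left) (pullback.snd E.hom x) _) ≫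
          pullback.snd H.hom x = (loc ≫ k) ≫ pullback.snd H.hom x
        simp only [Category.assoc, pullback.lift_snd]
    haveI : Etale kk.left := inferInstanceAs (Etale (loc ≫ k))
    haveI : Smooth H'.hom := inferInstanceAs (Smooth (pullback.snd H.hom x))
    haveI : Surjective Ω₀.hom := by
      obtain ⟨gm, hgm⟩ : ∃ gm : Spec C ⟶ Spec (CommRingCat.of (Localization.Away u)), gm ≫ loc = εC := by
        refine ⟨Spec.map (CommRingCat.ofHom (IsLocalization.Away.lift u (g := (Jet.augBC σ C).toRingHom) (by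
          show IsUnit (Jet.augBC σ C u)
          rw [hu1]; exact isUnit_one))), ?_⟩
        show Spec.map _ ≫ Spec.map _ = Spec.map _
        rw [← Spec.map_comp, ← CommRingCat.ofHom_comp, IsLocalization.Away.lift_comp]
      refine ⟨fun y => ⟨gm.base y, ?_⟩⟩
      show (loc ≫ k ≫ pullback.snd H.hom x).base (gm.base y) = y
      rw [hk₂, ← Scheme.Hom.comp_apply, reassoc_of% hgm, hεp₂]
      rfl
    haveI : Mono j' := inferInstance
    obtain ⟨m, hm⟩ := GenGroup.exists_lift_id
      (fun t => NormalMultCentral.connectedSpace_bc H hconn ((Spec C).fromSpecResidueField t ≫ x) |> fun h =>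
        (pullbackLeftPullbackSndIso H.hom x ((Spec C).fromSpecResidueField t)).hom.homeomorph.connectedSpace_iff.mpr h)
      j' kk l₁ hl₁
    refine ⟨m.left ≫ pullback.fst E.hom x, ?_⟩
    have h1 := congrArg (fun t : H' ⟶ H' => t.left ≫ pullback.fst H.hom x) hm
    simp only [Over.id_left, Category.id_comp, Over.comp_left, Category.assoc] at h1
    rw [Category.assoc, ← h1]
    congr 1
    exact (pullback.lift_fst _ _ _).symm

/-- The locus is a closed subscheme of finite presentation. -/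
theorem exists_closedImmersion (hconn : ∀ s : S, ConnectedSpace ↥(pullback H.hom (S.fromSpecResidueField s))) :
    ∃ (T : Scheme.{u}) (t : T ⟶ S), IsClosedImmersion t ∧ LocallyOfFinitePresentation t ∧
      ∀ (S' : Scheme.{u}) (x : S' ⟶ S), (∃ z, z ≫ t = x) ↔ WeilRes.Factors H.hom j.left S' x := by
  classical
  haveI : Mono j.left := inferInstance
  choose R a J ha hsa hJfg hJ using exists_ideal j hconn
  haveI : ∀ s, IsOpenImmersion (a s) := ha
  let U : S → S.Opens := fun s => (a s).opensRange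
  let i : ∀ s, Spec (R s) ≅ (U s : Scheme.{u}) := fun s => (a s).isoOpensRange
  have hi : ∀ s, (i s).hom ≫ (U s).ι = a s := fun s => (a s).isoOpensRange_hom_ι
  let tl : ∀ s, Spec (CommRingCat.of (R s ⧸ J s)) ⟶ U s := fun s =>
    Spec.map (CommRingCat.ofHom (Ideal.Quotient.mk (J s))) ≫ (i s).hom
  haveI htl : ∀ s, IsClosedImmersion (tl s) := fun s => by
    haveI : IsClosedImmersion (Spec.map (CommRingCat.ofHom (Ideal.Quotient.mk (J s)))) :=
      IsClosedImmersion.spec_of_surjective _ Ideal.Quotient.mk_surjective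
    infer_instance
  have hTl : ∀ s (T' : Scheme.{u}) (x : T' ⟶ U s),
      WeilRes.Factors H.hom j.left T' (x ≫ (U s).ι) ↔ ∃ z, z ≫ tl s = x := by
    intro s T' x
    constructor
    · intro h
      refine WeilRes.exists_lift_of_openCover (tl s) x T'.affineCover fun k => ?_
      obtain ⟨χ, hχ⟩ : ∃ χ, Spec.map χ = T'.affineCover.f k ≫ x ≫ (i s).inv := ⟨_, Spec.map_preimage _⟩
      have h' := h.comp H.hom j.left (T'.affineCover.f k)
      have e : T'.affineCover.f k ≫ x ≫ (U s).ι = Spec.map χ ≫ a s := by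
        rw [hχ, ← hi s]
        erw [Category.assoc, Category.assoc, Iso.inv_hom_id_assoc]
        rfl
      rw [e] at h'
      refine ⟨Spec.map (CommRingCat.ofHom (Ideal.Quotient.lift (J s) χ.hom fun b hb => (hJ s _ χ).1 h' hb)), ?_⟩
      show Spec.map _ ≫ Spec.map _ ≫ (i s).hom = _
      rw [← Spec.map_comp_assoc]
      change Spec.map χ ≫ (i s).hom = _
      rw [hχ]
      erw [Category.assoc, Category.assoc, Iso.inv_hom_id, Category.comp_id]
      rfl
    · rintro ⟨z, rfl⟩
      rw [Category.assoc, Category.assoc, hi s]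
      exact ((hJ s (CommRingCat.of (R s ⧸ J s)) (CommRingCat.ofHom (Ideal.Quotient.mk (J s)))).2 fun b hb => Ideal.Quotient.eq_zero_iff_mem.2 hb).comp H.hom j.left z
  have hcover : TopologicalSpace.IsOpenCover U :=
    TopologicalSpace.IsOpenCover.mk (eq_top_iff.2 fun s _ => TopologicalSpace.Opens.mem_iSup.2 ⟨s, hsa s⟩)
  obtain ⟨T, t, ht, hT⟩ := Misc15.ClosedLocal.exists_closedImmersion S (fun T x => WeilRes.Factors H.hom j.left T x)
    (fun _ _ t _ h => h.comp H.hom j.left t) (fun _ x 𝒱 h => WeilRes.Factors.of_openCover H.hom j.left x 𝒱 h) U hcover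
    (fun s => ⟨_, tl s, htl s, hTl s⟩)
  refine ⟨T, t, ht, ?_, fun S' x => (hT S' x).symm⟩
  rw [IsZariskiLocalAtTarget.iff_of_openCover (P := @LocallyOfFinitePresentation) (S.openCoverOfIsOpenCover U hcover)]
  intro s
  change LocallyOfFinitePresentation (pullback.snd t (U s).ι)
  obtain ⟨l, hl⟩ := (hTl s _ (pullback.snd t (U s).ι)).1 (by
    rw [← pullback.condition]; exact (hT _ _).2 ⟨_, rfl⟩)
  obtain ⟨l', hl'⟩ := (hT _ (tl s ≫ (U s).ι)).1 ((hTl s _ (tl s)).2 ⟨𝟙 _, Category.id_comp _⟩)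
  haveI : IsIso l := by
    refine ⟨pullback.lift l' (tl s) hl', ?_, ?_⟩
    · rw [← cancel_mono (pullback.snd t (U s).ι), Category.assoc, pullback.lift_snd, hl, Category.id_comp]
    · rw [← cancel_mono (tl s), Category.assoc, hl, pullback.lift_snd, Category.id_comp]
  rw [← hl]
  haveI : LocallyOfFinitePresentation (Spec.map (CommRingCat.ofHom (Ideal.Quotient.mk (J s)))) := by
    rw [HasRingHomProperty.Spec_iff (P := @LocallyOfFinitePresentation)]
    exact RingHom.FinitePresentation.of_surjective _ Ideal.Quotient.mk_surjective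
      (show (RingHom.ker (Ideal.Quotient.mk (J s))).FG by rw [Ideal.mk_ker]; exact hJfg s)
  infer_instance

end Groth.Agent.SGA3cLib.SubgroupContent
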