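import Groth.Agent.SGA3cLib.SmoothPureAlg
import Groth.Agent.SGA3cLib.SubgroupContent
import Groth.Agent.AbVarLib.GeomIntegralSmooth
import Groth.Prelude.Def_Red

/-!
# Purity of smooth morphisms with geometrically connected fibres
-/

set_option linter.style.haveILetI false
set_option autoImplicit false
set_option backward.isDefEq.respectTransparency.types false

universe u

open CategoryTheory CategoryTheory.Limits AlgebraicGeometry TopologicalSpace
open scoped TensorProduct

noncomputable section

namespace Groth.Agent.SGA3cLib.SmoothPure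

/-- A connected smooth scheme over a field is integral. -/
theorem isIntegral_of_smooth_connected {k : Type u} [Field k] {X : Scheme.{u}} (f : X ⟶ Spec (CommRingCat.of k))
    [Smooth f] [ConnectedSpace X] : IsIntegral X := by
  have := Groth.Agent.WeilLib.isReduced_of_smooth f
  have hd : ∀ x : X, IsDomain (X.presheaf.stalk x) := fun x =>
    have := Groth.Agent.VarietyLib.isRegularLocalRing_stalk_of_smooth k X f x
    CAlgH3.isDomain_of_isRegularLocalRing _
  have : IsLocallyNoetherian X := LocallyOfFiniteType.isLocallyNoetherian f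
  have hfin : ∀ x : X, ∃ W : X.Opens, x ∈ W ∧
      {C ∈ irreducibleComponents X | (C ∩ (W : Set X)).Nonempty}.Finite := by
    intro x
    obtain ⟨W, hW, hxW, -⟩ := exists_isAffineOpen_mem_and_subset (U := (⊤ : X.Opens)) (x := x) trivial
    haveI : IsNoetherianRing Γ(X, W) := IsLocallyNoetherian.component_noetherian ⟨W, hW⟩
    haveI : NoetherianSpace ↥W := AlgebraicGeometry.noetherianSpace_of_isAffineOpen W hW
    refine ⟨W, hxW, Set.Finite.of_finite_image (f := fun C => (Subtype.val ⁻¹' C : Set ↥W)) ?_ ?_⟩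
    · refine (NoetherianSpace.finite_irreducibleComponents (α := ↥W)).subset ?_
      rintro _ ⟨C, ⟨hC, hne⟩, rfl⟩
      refine preimage_mem_irreducibleComponents hC W.isOpen.isOpenEmbedding_subtypeVal ?_
      rw [Subtype.range_coe]
      exact hne
    · intro C hC D hD h
      have hcl : ∀ C ∈ {C ∈ irreducibleComponents X | (C ∩ (W : Set X)).Nonempty}, C = closure (C ∩ (W : Set X)) :=
        fun C hC => le_antisymm (subset_closure_inter_of_isPreirreducible_of_isOpen hC.1.1.2 W.isOpen hC.2)
          ((isClosed_of_mem_irreducibleComponents C hC.1).closure_subset_iff.mpr Set.inter_subset_left)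
      rw [hcl C hC, hcl D hD]
      have h' := congrArg (fun s : Set ↥W => Subtype.val '' s) h
      rw [Set.image_preimage_eq_inter_range, Set.image_preimage_eq_inter_range] at h'
      rw [Subtype.range_coe] at h'
      exact congrArg closure (h'.trans (by rw [Subtype.range_coe]))
  obtain ⟨x⟩ := (inferInstance : Nonempty X)
  have ho : IsOpen (irreducibleComponent x) :=
    Props12.isOpen_component hd hfin (irreducibleComponent_mem_irreducibleComponents x)
  have hc : IsClopen (irreducibleComponent x) := ⟨isClosed_irreducibleComponent, ho⟩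
  rcases isClopen_iff.1 hc with h | h
  · exact absurd (mem_irreducibleComponent (x := x)) (h ▸ Set.notMem_empty x)
  have : IrreducibleSpace X := by
    rw [irreducibleSpace_def, Set.top_eq_univ, ← h]
    exact isIrreducible_irreducibleComponent
  exact isIntegral_of_irreducibleSpace_of_isReduced X

/-- The geometric fibres are integral. -/
def IntFibres {X S : Scheme.{u}} (f : X ⟶ S) : Prop :=
  ∀ (K : Type u) [Field K] [IsAlgClosed K] (x : Spec (CommRingCat.of K) ⟶ S), IsIntegral (pullback f x)

variable {X S Y : Scheme.{u}} {f : X ⟶ S}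

/-- The image of a point with values in a field extension of a residue field. -/
theorem point_apply (s : S) {K : CommRingCat.{u}} (φ : S.residueField s ⟶ K) (q : Spec K) :
    (Spec.map φ ≫ S.fromSpecResidueField s).base q = s := by
  rw [Scheme.Hom.comp_apply]
  exact S.fromSpecResidueField_apply _ _

theorem intFibres_of_connected [Smooth f] (hconn : ∀ s : S, ConnectedSpace ↥(pullback f (Red.geomPt s))) :
    IntFibres f := by
  intro K _ _ x
  obtain ⟨⟨s, φ⟩, rfl⟩ := (Scheme.SpecToEquivOfField K S).symm.surjective x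
  let k := S.residueField s
  letI : Algebra k K := φ.hom.toAlgebra
  let τ : AlgebraicClosure k →ₐ[k] K := IsAlgClosed.lift
  let τ' : CommRingCat.of (AlgebraicClosure k) ⟶ CommRingCat.of K := CommRingCat.ofHom τ.toRingHom
  have hτ : Spec.map τ' ≫ Red.geomPt s = (Scheme.SpecToEquivOfField K S).symm ⟨s, φ⟩ := by
    show Spec.map τ' ≫ Spec.map _ ≫ S.fromSpecResidueField s = Spec.map φ ≫ S.fromSpecResidueField s
    rw [← Spec.map_comp_assoc]
    congr 2
    ext a
    exact τ.commutes a
  let k' := AlgebraicClosure k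
  let g : pullback f (Red.geomPt s) ⟶ Spec (CommRingCat.of k') := pullback.snd f (Red.geomPt s)
  haveI : ConnectedSpace ↥(pullback f (Red.geomPt s)) := hconn s
  haveI : GeometricallyConnected g := by
    obtain ⟨x₀⟩ : Nonempty ↥(pullback f (Red.geomPt s)) := inferInstance
    haveI : IsClosedImmersion (𝟙 (pullback f (Red.geomPt s))) := inferInstance
    haveI : IsIso (VarietyLib.sK k' (SeparableClosure k')) := by
      haveI : IsIso (CommRingCat.ofHom (algebraMap k' (SeparableClosure k'))) :=
        (ConcreteCategory.isIso_iff_bijective _).mpr (IsAlgClosed.algebraMap_bijective_of_isIntegral (k := k'))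
      exact inferInstanceAs (IsIso (Spec.map _))
    haveI : ConnectedSpace ↥(pullback g (VarietyLib.sK k' (SeparableClosure k'))) :=
      (pullback.fst g (VarietyLib.sK k' (SeparableClosure k'))).homeomorph.connectedSpace_iff.mpr (hconn s)
    exact VarietyLib.geometricallyConnected_of_connectedSpace k' g
  haveI : ConnectedSpace ↥(pullback g (Spec.map τ')) := inferInstance
  let e : pullback g (Spec.map τ') ≅ pullback f ((Scheme.SpecToEquivOfField K S).symm ⟨s, φ⟩) :=
    pullbackLeftPullbackSndIso f (Red.geomPt s) (Spec.map τ') ≪≫ pullback.congrHom rfl hτ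
  haveI : ConnectedSpace ↥(pullback f ((Scheme.SpecToEquivOfField K S).symm ⟨s, φ⟩)) :=
    e.hom.homeomorph.connectedSpace_iff.mp ‹ConnectedSpace ↥(pullback g (Spec.map τ'))›
  exact isIntegral_of_smooth_connected (pullback.snd f _)

theorem IntFibres.baseChange (h : IntFibres f) {S' : Scheme.{u}} (x : S' ⟶ S) : IntFibres (pullback.snd f x) := by
  intro K _ _ z
  haveI := h K (z ≫ x)
  let e := pullbackLeftPullbackSndIso f x z
  haveI : Nonempty ↥(pullback (pullback.snd f x) z) := e.hom.homeomorph.symm.toEquiv.nonempty_congr.mp inferInstance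
  exact isIntegral_of_isOpenImmersion e.hom

/-- An affine chart at a point, faithfully flat over an open of the base, with geometrically integral fibres. -/
theorem exists_chart [Smooth f] (h : IntFibres f) (x : X) :
    ∃ (R B : Type u) (_ : CommRing R) (_ : CommRing B) (_ : Algebra R B) (_ : Algebra.IsStandardSmooth R B)
      (_ : Module.FaithfullyFlat R B) (a : Spec (CommRingCat.of R) ⟶ S) (b : Spec (CommRingCat.of B) ⟶ X),
      IsOpenImmersion a ∧ IsOpenImmersion b ∧ x ∈ Set.range b.base ∧
        b ≫ f = Spec.map (CommRingCat.ofHom (algebraMap R B)) ≫ a ∧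
        ∀ (L : Type u) [Field L] [Algebra R L], IsDomain (L ⊗[R] B) := by
  obtain ⟨U, hU, V, hV, hxV, e, hsm⟩ := Smooth.exists_isStandardSmooth f x
  let O : S.Opens := ⟨f.base '' (V : Set X), f.isOpenMap _ V.isOpen⟩
  obtain ⟨r, hr, hxr⟩ := hU.exists_basicOpen_le (⟨f.base x, x, hxV, rfl⟩ : O) (e hxV)
  let A : CommRingCat.{u} := Γ(S, U)
  let B₀ : CommRingCat.{u} := Γ(X, V)
  let φ₀ : A ⟶ B₀ := f.appLE U V e
  letI : Algebra A B₀ := φ₀.hom.toAlgebra
  haveI : Algebra.IsStandardSmooth A B₀ := hsm
  let R : Type u := Localization.Away r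
  let B : Type u := R ⊗[A] B₀
  let a : Spec (CommRingCat.of R) ⟶ S := Spec.map (CommRingCat.ofHom (algebraMap A R)) ≫ hU.fromSpec
  haveI : IsOpenImmersion (Spec.map (CommRingCat.ofHom (algebraMap A R))) := IsOpenImmersion.of_isLocalization r
  have hrange : Set.range a.base = (S.basicOpen r : Set S) := by
    rw [Scheme.Hom.comp_base, TopCat.coe_comp, Set.range_comp]
    rw [show Set.range (Spec.map (CommRingCat.ofHom (algebraMap A R))).base =
        ((PrimeSpectrum.basicOpen r : TopologicalSpace.Opens (PrimeSpectrum A)) : Set (PrimeSpectrum A)) from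
      PrimeSpectrum.localization_away_comap_range R r]
    rw [← hU.fromSpec_image_basicOpen r]
    rfl
  let incr : CommRingCat.of B₀ ⟶ CommRingCat.of B :=
    CommRingCat.ofHom (Algebra.TensorProduct.includeRight : B₀ →ₐ[A] B).toRingHom
  haveI : IsOpenImmersion (Spec.map incr) := by
    simp only [incr, AlgHom.toRingHom_eq_coe]
    rw [← pullbackSpecIso_inv_snd A R B₀]
    infer_instance
  let b : Spec (CommRingCat.of B) ⟶ X := Spec.map incr ≫ hV.fromSpec
  have hb : b ≫ f = Spec.map (CommRingCat.ofHom (algebraMap R B)) ≫ a := by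
    rw [Category.assoc, ← IsAffineOpen.SpecMap_appLE_fromSpec f hU hV e, ← Category.assoc, ← Category.assoc]
    congr 1
    rw [← Spec.map_comp, ← Spec.map_comp]
    congr 1
    ext z
    exact ((Algebra.TensorProduct.includeRight : B₀ →ₐ[A] B).commutes z).trans
      (IsScalarTower.algebraMap_apply A R B z)
  have hlift : ∀ (p : Spec (CommRingCat.of R)) (v : X), v ∈ V → f.base v = a.base p →
      ∃ P : Spec (CommRingCat.of B), b.base P = v ∧ (Spec.map (CommRingCat.ofHom (algebraMap R B))).base P = p := by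
    intro p v hv hp
    obtain ⟨v₀, hv₀⟩ : v ∈ Set.range hV.fromSpec.base := by rw [hV.range_fromSpec]; exact hv
    have h0 : (Spec.map φ₀).base v₀ = (Spec.map (CommRingCat.ofHom (algebraMap A R))).base p := by
      apply hU.fromSpec.isOpenEmbedding.injective
      rw [← Scheme.Hom.comp_apply, IsAffineOpen.SpecMap_appLE_fromSpec f hU hV e, Scheme.Hom.comp_apply, hv₀, hp]
      rfl
    obtain ⟨w, hw1, hw2⟩ := Scheme.Pullback.exists_preimage_pullback
      (f := Spec.map (CommRingCat.ofHom (algebraMap A R))) (g := Spec.map (CommRingCat.ofHom (algebraMap A B₀))) p v₀ h0.symm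
    refine ⟨(pullbackSpecIso A R B₀).hom.base w, ?_, ?_⟩
    · rw [show b = Spec.map incr ≫ hV.fromSpec from rfl, Scheme.Hom.comp_apply, ← Scheme.Hom.comp_apply _ (Spec.map incr)]
      simp only [incr, AlgHom.toRingHom_eq_coe, pullbackSpecIso_hom_snd]
      rw [hw2, hv₀]
    · rw [← Scheme.Hom.comp_apply]
      erw [pullbackSpecIso_hom_fst]
      exact hw1
  have hsurj : Surjective (Spec.map (CommRingCat.ofHom (algebraMap R B))) := by
    refine ⟨fun p => ?_⟩
    obtain ⟨v, hv, hvp⟩ := hr (hrange.le ⟨p, rfl⟩)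
    obtain ⟨P, -, hP⟩ := hlift p v hv hvp
    exact ⟨P, hP⟩
  haveI : Module.Flat R B := Algebra.Smooth.flat R B
  have hff : Module.FaithfullyFlat R B := by
    have h1 : (CommRingCat.ofHom (algebraMap R B)).hom.FaithfullyFlat := by
      refine (flat_and_surjective_SpecMap_iff _).1 ⟨?_, hsurj⟩
      rw [HasRingHomProperty.Spec_iff (P := @Flat)]
      exact RingHom.flat_algebraMap_iff.mpr inferInstance
    exact RingHom.faithfullyFlat_algebraMap_iff.mp h1
  refine ⟨R, B, inferInstance, inferInstance, inferInstance, inferInstance, hff, a, b, inferInstance,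
    inferInstance, ?_, hb, fun L _ _ => ?_⟩
  · obtain ⟨p, hp⟩ := hrange.ge hxr
    obtain ⟨P, hP, -⟩ := hlift p x hxV hp.symm
    exact ⟨P, hP⟩
  · haveI : Nontrivial (L ⊗[R] B) :=
      (inferInstance : Nontrivial (B ⊗[R] L)) |> fun h => (TensorProduct.comm R B L).toEquiv.symm.nontrivial
    let K := AlgebraicClosure L
    haveI : Nontrivial (K ⊗[R] B) :=
      (inferInstance : Nontrivial (B ⊗[R] K)) |> fun h => (TensorProduct.comm R B K).toEquiv.symm.nontrivial
    let xK : Spec (CommRingCat.of K) ⟶ S := Spec.map (CommRingCat.ofHom (algebraMap R K)) ≫ a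
    haveI := h K xK
    let m : pullback (Spec.map (CommRingCat.ofHom (algebraMap R B))) (Spec.map (CommRingCat.ofHom (algebraMap R K))) ⟶
        pullback f xK := pullback.map _ _ _ _ b (𝟙 _) a hb.symm (Category.id_comp _).symm
    let m' : Spec (CommRingCat.of (K ⊗[R] B)) ⟶ pullback f xK :=
      (pullbackSpecIso R K B).inv ≫ (pullbackSymmetry _ _).hom ≫ m
    haveI : IsOpenImmersion m := inferInstance
    haveI : Nonempty ↥(Spec (CommRingCat.of (K ⊗[R] B))) := inferInstanceAs (Nonempty (PrimeSpectrum (K ⊗[R] B)))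
    haveI : IsDomain (K ⊗[R] B) := (affine_isIntegral_iff (CommRingCat.of (K ⊗[R] B))).mp (isIntegral_of_isOpenImmersion m')
    let ν : L ⊗[R] B →ₐ[R] K ⊗[R] B := Algebra.TensorProduct.map (IsScalarTower.toAlgHom R L K) (AlgHom.id R B)
    exact Function.Injective.isDomain ν.toRingHom
      (Module.Flat.rTensor_preserves_injective_linearMap (M := B) (IsScalarTower.toAlgHom R L K).toLinearMap
        (algebraMap L K).injective)

/-- A closed immersion is the quotient by an ideal over an affine chart. -/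
theorem exists_piece {B : Type u} [CommRing B] (b : Spec (CommRingCat.of B) ⟶ X) (y : Y ⟶ X) [IsClosedImmersion y] :
    ∃ I : Ideal B, (LocallyOfFinitePresentation y → I.FG) ∧ ∀ (D : CommRingCat.{u}) (β : CommRingCat.of B ⟶ D),
      (∃ l, l ≫ y = Spec.map β ≫ b) ↔ I ≤ RingHom.ker β.hom := by
  obtain ⟨I, e, he⟩ : ∃ (I : Ideal B) (e : pullback y b ≅ Spec (CommRingCat.of (B ⧸ I))),
      pullback.snd y b = e.hom ≫ Spec.map (CommRingCat.ofHom (Ideal.Quotient.mk I)) :=
    (IsClosedImmersion.Spec_iff (R := CommRingCat.of B) (f := pullback.snd y b)).1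
      (MorphismProperty.pullback_snd (P := @IsClosedImmersion) y b inferInstance)
  refine ⟨I, fun hfp => ?_, fun D β => ⟨?_, fun h => ?_⟩⟩
  · have h1 : LocallyOfFinitePresentation (Spec.map (CommRingCat.ofHom (Ideal.Quotient.mk I))) := by
      rw [← MorphismProperty.cancel_left_of_respectsIso @LocallyOfFinitePresentation e.hom, ← he]
      exact MorphismProperty.pullback_snd (P := @LocallyOfFinitePresentation) _ _ hfp
    rw [HasRingHomProperty.Spec_iff (P := @LocallyOfFinitePresentation)] at h1
    haveI : Algebra.FinitePresentation B (B ⧸ I) := h1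
    have h2 := Algebra.FinitePresentation.ker_fG_of_surjective (Ideal.Quotient.mkₐ B I) Ideal.Quotient.mk_surjective
    rwa [show (Ideal.Quotient.mkₐ B I).toRingHom = Ideal.Quotient.mk I from rfl, Ideal.mk_ker] at h2
  · rintro ⟨l, hl⟩
    let l' := pullback.lift l (Spec.map β) hl ≫ e.hom
    have h1 : l' ≫ Spec.map (CommRingCat.ofHom (Ideal.Quotient.mk I)) = Spec.map β := by
      simp only [l', Category.assoc, ← he, pullback.lift_snd]
    obtain ⟨gm, hgm⟩ : ∃ gm, Spec.map gm = l' := ⟨_, Spec.map_preimage _⟩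
    rw [← hgm, ← Spec.map_comp] at h1
    rw [← Spec.map_injective h1]
    intro z hz
    change gm.hom (Ideal.Quotient.mk I z) = 0
    rw [Ideal.Quotient.eq_zero_iff_mem.2 hz, map_zero]
  · refine ⟨Spec.map (CommRingCat.ofHom (Ideal.Quotient.lift I β.hom fun z hz => h hz)) ≫ e.inv ≫ pullback.fst _ _, ?_⟩
    rw [Category.assoc, Category.assoc, pullback.condition, he, Category.assoc, Iso.inv_hom_id_assoc,
      ← Spec.map_comp_assoc]
    congr 2

/-- An open subscheme meeting all fibres is schematically dense. -/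
theorem exists_lift_id [Smooth f] (h : IntFibres f) (y : Y ⟶ X) [IsClosedImmersion y] (V : X.Opens)
    (hV : ∀ s : S, ∃ v ∈ V, f.base v = s) (hl : ∃ l, l ≫ y = V.ι) : ∃ l, l ≫ y = 𝟙 X := by
  choose R B _ _ _ _ _ a b ha hb hxb hbf hdom using exists_chart (f := f) h
  haveI : ∀ x, IsOpenImmersion (b x) := hb
  refine WeilRes.exists_lift_of_openCover y (𝟙 X) (Scheme.Cover.mkOfCovers X (fun x => Spec (CommRingCat.of (B x)))
    b (fun x => ⟨x, hxb x⟩) (fun x => hb x)) fun (x : X) => ?_
  obtain ⟨I, -, hI⟩ := exists_piece (b x) y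
  haveI := ha x
  have hI0 : ∀ i ∈ I, i = 0 := by
    intro i hi
    refine Jet.eq_zero_of_vanish (hdom x) i fun p => ?_
    obtain ⟨v₀, hv₀, hv₀s⟩ := hV ((a x).base p)
    haveI : Surjective (Spec.map (CommRingCat.ofHom (algebraMap (R x) (B x)))) :=
      ((flat_and_surjective_SpecMap_iff (CommRingCat.ofHom (algebraMap (R x) (B x)))).2
        (RingHom.faithfullyFlat_algebraMap_iff.mpr inferInstance)).2
    obtain ⟨P₀, hP₀⟩ := (Spec.map (CommRingCat.ofHom (algebraMap (R x) (B x)))).surjective p
    let k := S.residueField ((a x).base p)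
    let K := AlgebraicClosure k
    let z : Spec (CommRingCat.of K) ⟶ S :=
      Spec.map (CommRingCat.ofHom (algebraMap k K)) ≫ S.fromSpecResidueField ((a x).base p)
    haveI := h K z
    obtain ⟨q⟩ : Nonempty ↥(Spec (CommRingCat.of K)) := inferInstance
    have hz : z.base q = (a x).base p := point_apply _ _ q
    have hne : ∀ w : X, f.base w = (a x).base p → ∃ t : ↥(pullback f z), (pullback.fst f z).base t = w := fun w hw => by
      obtain ⟨t, ht, -⟩ := Scheme.Pullback.exists_preimage_pullback (f := f) (g := z) w q (hw.trans hz.symm)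
      exact ⟨t, ht⟩
    obtain ⟨t, ⟨P, hP⟩, htV⟩ := nonempty_preirreducible_inter
      ((b x).isOpenEmbedding.isOpen_range.preimage (pullback.fst f z).continuous)
      (V.isOpen.preimage (pullback.fst f z).continuous)
      (by
        obtain ⟨t, ht⟩ := hne ((b x).base P₀) (by rw [← Scheme.Hom.comp_apply, hbf x, Scheme.Hom.comp_apply, hP₀])
        exact ⟨t, P₀, ht.symm⟩)
      (by
        obtain ⟨t, ht⟩ := hne v₀ hv₀s
        exact ⟨t, by show (pullback.fst f z).base t ∈ (V : Set X); rw [ht]; exact hv₀⟩)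
    have hPV : (b x).base P ∈ V := hP ▸ htV
    have hPp : (Spec.map (CommRingCat.ofHom (algebraMap (R x) (B x)))).base P = p := by
      apply (a x).isOpenEmbedding.injective
      rw [← Scheme.Hom.comp_apply, ← hbf x, Scheme.Hom.comp_apply, hP, ← Scheme.Hom.comp_apply, pullback.condition,
        Scheme.Hom.comp_apply]
      exact point_apply _ _ _
    obtain ⟨v, hvP, hvle⟩ : ∃ v : B x, (P : PrimeSpectrum (B x)) ∈ PrimeSpectrum.basicOpen v ∧
        (PrimeSpectrum.basicOpen v : Set (PrimeSpectrum (B x))) ⊆ (b x).base ⁻¹' (V : Set X) := by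
      obtain ⟨_, ⟨v, rfl⟩, h1, h2⟩ := PrimeSpectrum.isTopologicalBasis_basic_opens.exists_subset_of_mem_open
        (show (P : PrimeSpectrum (B x)) ∈ (b x).base ⁻¹' (V : Set X) from hPV)
        ((V.isOpen.preimage (b x).continuous))
      exact ⟨v, h1, h2⟩
    refine ⟨P, v, hPp, hvP, ?_⟩
    let loc := Spec.map (CommRingCat.ofHom (algebraMap (B x) (Localization.Away v)))
    obtain ⟨l, hlV⟩ := hl
    let w := IsOpenImmersion.lift V.ι (loc ≫ b x) (by
      rw [Scheme.Opens.range_ι]
      rintro _ ⟨t', rfl⟩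
      exact hvle ((PrimeSpectrum.localization_away_comap_range (Localization.Away v) v).le ⟨t', rfl⟩))
    have h0 := (hI _ (CommRingCat.ofHom (algebraMap (B x) (Localization.Away v)))).1
      ⟨w ≫ l, by rw [Category.assoc, hlV]; exact IsOpenImmersion.lift_fac _ _ _⟩ hi
    obtain ⟨⟨_, N, rfl⟩, hN⟩ := (IsLocalization.map_eq_zero_iff (Submonoid.powers v) _ _).mp h0
    exact ⟨N, hN⟩
  obtain ⟨l, hl⟩ := (hI _ (𝟙 _)).2 fun i hi => hI0 i hi
  exact ⟨l, hl.trans (by simp)⟩

/-- Near every point the locus where a closed subscheme contains a fibre is cut out by an ideal. -/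
theorem exists_ideal [Smooth f] (h : IntFibres f) (y : Y ⟶ X) [IsClosedImmersion y] (s : S) :
    ∃ (R : CommRingCat.{u}) (a : Spec R ⟶ S) (J : Ideal R), IsOpenImmersion a ∧ s ∈ Set.range a.base ∧
      (LocallyOfFinitePresentation y → J.FG) ∧
      ∀ (C : CommRingCat.{u}) (χ : R ⟶ C), WeilRes.Factors f y (Spec C) (Spec.map χ ≫ a) ↔ J ≤ RingHom.ker χ.hom := by
  let k₀ := S.residueField s
  let z₀ : Spec (CommRingCat.of (AlgebraicClosure k₀)) ⟶ S :=
    Spec.map (CommRingCat.ofHom (algebraMap k₀ (AlgebraicClosure k₀))) ≫ S.fromSpecResidueField s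
  haveI := h _ z₀
  obtain ⟨t⟩ : Nonempty ↥(pullback f z₀) := inferInstance
  have ht : f.base ((pullback.fst f z₀).base t) = s := by
    rw [← Scheme.Hom.comp_apply, pullback.condition, Scheme.Hom.comp_apply]
    exact point_apply _ _ _
  obtain ⟨R, B, _, _, _, _, _, a, b, _, _, ⟨P, hP⟩, hbf, hdom⟩ := exists_chart (f := f) h ((pullback.fst f z₀).base t)
  obtain ⟨I, hIfg, hI⟩ := exists_piece b y
  obtain ⟨J, hJfg, hJ⟩ := Jet.exists_content_ff hdom I
  refine ⟨CommRingCat.of R, a, J, inferInstance, ⟨(Spec.map (CommRingCat.ofHom (algebraMap R B))).base P, ?_⟩,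
    fun hy => hJfg (hIfg hy), fun C χ => ?_⟩
  · rw [← Scheme.Hom.comp_apply, ← hbf, Scheme.Hom.comp_apply, hP, ht]
  letI : Algebra R C := χ.hom.toAlgebra
  rw [show RingHom.ker χ.hom = RingHom.ker (algebraMap R C) from rfl, ← hJ C]
  let Q : Type u := C ⊗[R] B
  let iR : B →+* Q := (Algebra.TensorProduct.includeRight : B →ₐ[R] Q).toRingHom
  let p₁ : Spec (CommRingCat.of Q) ⟶ Spec (CommRingCat.of B) := Spec.map (CommRingCat.ofHom iR)
  let p₂ : Spec (CommRingCat.of Q) ⟶ Spec C :=
    Spec.map (CommRingCat.ofHom (Algebra.TensorProduct.includeLeftRingHom : C →+* Q))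
  have hp : IsPullback p₁ p₂ (b ≫ f) (Spec.map χ ≫ a) := by
    rw [hbf]
    refine SubgroupContent.isPullback_comp_mono ?_ a
    exact (isPullback_SpecMap_of_isPushout _ _ _ _ (CommRingCat.isPushout_tensorProduct R C B)).flip
  let k : Spec (CommRingCat.of Q) ⟶ pullback f (Spec.map χ ≫ a) :=
    pullback.lift (p₁ ≫ b) p₂ (by rw [Category.assoc]; exact hp.w)
  have hk₁ : k ≫ pullback.fst _ _ = p₁ ≫ b := pullback.lift_fst _ _ _
  have hk₂ : k ≫ pullback.snd _ _ = p₂ := pullback.lift_snd _ _ _
  haveI : IsOpenImmersion k := by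
    refine MorphismProperty.of_isPullback (P := @IsOpenImmersion) (f' := p₁) (g := b)
      (f := pullback.fst f (Spec.map χ ≫ a)) ?_ inferInstance
    refine IsPullback.of_bot ?_ hk₁.symm (IsPullback.of_hasPullback f (Spec.map χ ≫ a))
    rw [hk₂]
    exact hp
  constructor
  · rintro ⟨l, hl⟩ i hi
    exact (hI (CommRingCat.of Q) (CommRingCat.ofHom iR)).1 ⟨k ≫ l, by rw [Category.assoc, hl, hk₁]⟩ hi
  · intro h0
    obtain ⟨l₀, hl₀⟩ := (hI (CommRingCat.of Q) (CommRingCat.ofHom iR)).2 fun i hi => h0 i hi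
    haveI : IsClosedImmersion (pullback.fst (pullback.fst f (Spec.map χ ≫ a)) y) :=
      MorphismProperty.pullback_fst (P := @IsClosedImmersion) _ _ inferInstance
    haveI : Surjective p₂ := by
      refine MorphismProperty.of_isPullback (P := @Surjective) (f' := p₁) (g := Spec.map (CommRingCat.ofHom (algebraMap R B)))
        (f := Spec.map χ) ?_ ?_
      · exact (isPullback_SpecMap_of_isPushout _ _ _ _ (CommRingCat.isPushout_tensorProduct R C B)).flip
      · exact ((flat_and_surjective_SpecMap_iff (CommRingCat.ofHom (algebraMap R B))).2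
          (RingHom.faithfullyFlat_algebraMap_iff.mpr inferInstance)).2
    obtain ⟨l, hl⟩ := exists_lift_id (h.baseChange (Spec.map χ ≫ a))
      (pullback.fst (pullback.fst f (Spec.map χ ≫ a)) y) k.opensRange
      (fun c => by
        obtain ⟨q, rfl⟩ := p₂.surjective c
        exact ⟨k.base q, ⟨q, rfl⟩, by rw [← Scheme.Hom.comp_apply, hk₂]⟩)
      ⟨k.isoOpensRange.inv ≫ pullback.lift k l₀ (by rw [hk₁]; exact hl₀.symm), by
        rw [Category.assoc, pullback.lift_fst, Scheme.Hom.isoOpensRange_inv_comp]⟩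
    exact ⟨l ≫ pullback.snd _ _, by rw [Category.assoc, ← pullback.condition, reassoc_of% hl]⟩

/-- The locus where a closed subscheme contains the fibres is a closed subscheme. -/
theorem exists_closedImmersion [Smooth f] (h : IntFibres f) (y : Y ⟶ X) [IsClosedImmersion y] :
    ∃ (T : Scheme.{u}) (t : T ⟶ S), IsClosedImmersion t ∧
      (∀ (S' : Scheme.{u}) (x : S' ⟶ S), (∃ z, z ≫ t = x) ↔ WeilRes.Factors f y S' x) ∧
      (LocallyOfFinitePresentation y → LocallyOfFinitePresentation t) := by
  classical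
  choose R a J ha hsa hJfg hJ using exists_ideal (f := f) h y
  haveI : ∀ s, IsOpenImmersion (a s) := ha
  let U : S → S.Opens := fun s => (a s).opensRange
  let i : ∀ s, Spec (R s) ≅ (U s : Scheme.{u}) := fun s => (a s).isoOpensRange
  have hi : ∀ s, (i s).hom ≫ (U s).ι = a s := fun s => (a s).isoOpensRange_hom_ι
  let tl : ∀ s, Spec (CommRingCat.of (R s ⧸ J s)) ⟶ U s := fun s =>
    Spec.map (CommRingCat.ofHom (Ideal.Quotient.mk (J s))) ≫ (i s).hom
  haveI htl : ∀ s, IsClosedImmersion (tl s) := fun s => by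
    haveI : IsClosedImmersion (Spec.map (CommRingCat.ofHom (Ideal.Quotient.mk (J s)))) :=
      IsClosedImmersion.spec_of_surjective _ Ideal.Quotient.mk_surjective
    infer_instance
  have hTl : ∀ s (T' : Scheme.{u}) (x : T' ⟶ U s),
      WeilRes.Factors f y T' (x ≫ (U s).ι) ↔ ∃ z, z ≫ tl s = x := by
    intro s T' x
    constructor
    · intro h
      refine WeilRes.exists_lift_of_openCover (tl s) x T'.affineCover fun k => ?_
      obtain ⟨χ, hχ⟩ : ∃ χ, Spec.map χ = T'.affineCover.f k ≫ x ≫ (i s).inv := ⟨_, Spec.map_preimage _⟩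
      have h' := h.comp f y (T'.affineCover.f k)
      have e : T'.affineCover.f k ≫ x ≫ (U s).ι = Spec.map χ ≫ a s := by
        rw [hχ, ← hi s]
        erw [Category.assoc, Category.assoc, Iso.inv_hom_id_assoc]
        rfl
      rw [e] at h'
      refine ⟨Spec.map (CommRingCat.ofHom (Ideal.Quotient.lift (J s) χ.hom fun b hb => (hJ s _ χ).1 h' hb)), ?_⟩
      show Spec.map _ ≫ Spec.map _ ≫ (i s).hom = _
      rw [← Spec.map_comp_assoc]
      change Spec.map χ ≫ (i s).hom = _
      rw [hχ]
      erw [Category.assoc, Category.assoc, Iso.inv_hom_id, Category.comp_id]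
      rfl
    · rintro ⟨z, rfl⟩
      rw [Category.assoc, Category.assoc, hi s]
      exact ((hJ s (CommRingCat.of (R s ⧸ J s)) (CommRingCat.ofHom (Ideal.Quotient.mk (J s)))).2 fun b hb =>
        Ideal.Quotient.eq_zero_iff_mem.2 hb).comp f y z
  have hcover : TopologicalSpace.IsOpenCover U :=
    TopologicalSpace.IsOpenCover.mk (eq_top_iff.2 fun s _ => TopologicalSpace.Opens.mem_iSup.2 ⟨s, hsa s⟩)
  obtain ⟨T, t, ht, hT⟩ := Misc15.ClosedLocal.exists_closedImmersion S (fun T x => WeilRes.Factors f y T x)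
    (fun _ _ t _ h => h.comp f y t) (fun _ x 𝒱 h => WeilRes.Factors.of_openCover f y x 𝒱 h) U hcover
    (fun s => ⟨_, tl s, htl s, hTl s⟩)
  refine ⟨T, t, ht, fun S' x => (hT S' x).symm, fun hy => ?_⟩
  rw [IsZariskiLocalAtTarget.iff_of_openCover (P := @LocallyOfFinitePresentation) (S.openCoverOfIsOpenCover U hcover)]
  intro s
  change LocallyOfFinitePresentation (pullback.snd t (U s).ι)
  obtain ⟨l, hl⟩ := (hTl s _ (pullback.snd t (U s).ι)).1 (by
    rw [← pullback.condition]; exact (hT _ _).2 ⟨_, rfl⟩)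
  obtain ⟨l', hl'⟩ := (hT _ (tl s ≫ (U s).ι)).1 ((hTl s _ (tl s)).2 ⟨𝟙 _, Category.id_comp _⟩)
  haveI : IsIso l := by
    refine ⟨pullback.lift l' (tl s) hl', ?_, ?_⟩
    · rw [← cancel_mono (pullback.snd t (U s).ι), Category.assoc, pullback.lift_snd, hl, Category.id_comp]
    · rw [← cancel_mono (tl s), Category.assoc, hl, pullback.lift_snd, Category.id_comp]
  rw [← hl]
  haveI : LocallyOfFinitePresentation (Spec.map (CommRingCat.ofHom (Ideal.Quotient.mk (J s)))) := by
    rw [HasRingHomProperty.Spec_iff (P := @LocallyOfFinitePresentation)]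
    exact RingHom.FinitePresentation.of_surjective _ Ideal.Quotient.mk_surjective
      (show (RingHom.ker (Ideal.Quotient.mk (J s))).FG by rw [Ideal.mk_ker]; exact hJfg s hy)
  infer_instance

end Groth.Agent.SGA3cLib.SmoothPure
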