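import Groth.Agent.SGA3cLib.Transporter
import Groth.Agent.SGA3cLib.SmoothPure
import Mathlib.RingTheory.Flat.EquationalCriterion

/-!
# Transporters into closed subschemes, with finite presentation
-/

set_option linter.style.haveILetI false
set_option autoImplicit false
set_option backward.isDefEq.respectTransparency.types false

universe u

open CategoryTheory CategoryTheory.Limits MonoidalCategory CartesianMonoidalCategory MonObj GrpObj AlgebraicGeometry

noncomputable section

namespace Groth.Agent.SGA3cLib.TransporterFP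

variable {S : Scheme.{u}}

/-- The closed subschemes of `Z` have a largest subscheme of the base over which they are everything. -/
def Pure {Z B : Scheme.{u}} (f : Z ⟶ B) : Prop :=
  ∀ (W : Scheme.{u}) (j : W ⟶ Z), IsClosedImmersion j → ∃ (T : Scheme.{u}) (t : T ⟶ B), IsClosedImmersion t ∧
    (∀ (S' : Scheme.{u}) (x : S' ⟶ B), (∃ z, z ≫ t = x) ↔ WeilRes.Factors f j S' x) ∧
    (LocallyOfFinitePresentation j → LocallyOfFinitePresentation t)

theorem pure_of_smooth {Z B : Scheme.{u}} {f : Z ⟶ B} [Smooth f] (h : SmoothPure.IntFibres f) : Pure f :=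
  fun _ j hj => SmoothPure.exists_closedImmersion h j

theorem pure_of_essentiallyFree {Z B : Scheme.{u}} {f : Z ⟶ B} [QuasiCompact f] (h : SGA3x.IsEssentiallyFree f) :
    Pure f := fun _ j hj => by
  obtain ⟨T, t, ht, hT, hfp⟩ := WeilRes.exists_closedImmersion f j h
  exact ⟨T, t, ht, fun S' x => (hT S' x).symm, fun hj' => hfp inferInstance hj'⟩

/-- A finite flat morphism of finite presentation is essentially free. -/
theorem essentiallyFree_of_finite {Z B : Scheme.{u}} (f : Z ⟶ B) [IsFinite f] [Flat f] [LocallyOfFinitePresentation f] :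
    SGA3x.IsEssentiallyFree f := by
  intro s
  obtain ⟨U, hU, hsU, -⟩ := exists_isAffineOpen_mem_and_subset (U := (⊤ : B.Opens)) (x := s) trivial
  haveI : IsAffine (U : Scheme.{u}) := hU
  refine ⟨U, hsU, hU, (U : Scheme.{u}), hU, 𝟙 _, inferInstance, inferInstance, fun z => ⟨⊤, trivial, ?_, ?_⟩⟩
  · haveI : IsAffine (pullback f (𝟙 (U : Scheme.{u}) ≫ U.ι)) := isAffine_of_isAffineHom (pullback.snd f (𝟙 (U : Scheme.{u}) ≫ U.ι))
    exact isAffineOpen_top _
  · let g := (⊤ : (pullback f (𝟙 (U : Scheme.{u}) ≫ U.ι)).Opens).ι ≫ pullback.snd f (𝟙 (U : Scheme.{u}) ≫ U.ι)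
    haveI : IsAffine (pullback f (𝟙 (U : Scheme.{u}) ≫ U.ι)) := isAffine_of_isAffineHom (pullback.snd f (𝟙 (U : Scheme.{u}) ≫ U.ι))
    haveI : IsAffine ((⊤ : (pullback f (𝟙 (U : Scheme.{u}) ≫ U.ι)).Opens) : Scheme.{u}) :=
      IsAffine.of_isIso (Scheme.topIso _).hom
    haveI : IsIso (⊤ : (pullback f (𝟙 (U : Scheme.{u}) ≫ U.ι)).Opens).ι := by
      rw [← Scheme.topIso_hom]; infer_instance
    haveI : IsFinite g := inferInstanceAs (IsFinite (_ ≫ _))
    haveI : Flat g := inferInstanceAs (Flat (_ ≫ _))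
    haveI : LocallyOfFinitePresentation g := inferInstanceAs (LocallyOfFinitePresentation (_ ≫ _))
    letI := g.appTop.hom.toAlgebra
    have h1 : g.appTop.hom.Finite := g.finite_appTop
    have h2 : g.appTop.hom.Flat := (HasRingHomProperty.iff_of_isAffine (P := @Flat)).mp inferInstance
    have h3 : g.appTop.hom.FinitePresentation :=
      (HasRingHomProperty.iff_of_isAffine (P := @LocallyOfFinitePresentation)).mp inferInstance
    haveI : Module.Finite Γ((U : Scheme.{u}), ⊤) _ := h1
    haveI : Module.Flat Γ((U : Scheme.{u}), ⊤) _ := h2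
    haveI : Algebra.FinitePresentation Γ((U : Scheme.{u}), ⊤) _ := h3
    haveI : Module.FinitePresentation Γ((U : Scheme.{u}), ⊤)
        Γ(((⊤ : (pullback f (𝟙 (U : Scheme.{u}) ≫ U.ι)).Opens) : Scheme.{u}), ⊤) :=
      Module.FinitePresentation.of_finite_of_finitePresentation _ _
    exact Module.Flat.projective_of_finitePresentation

/-- The points of `P` at which a family of maps `X ⟶ A` lands in a closed subscheme. -/
theorem exists_transporter {X P A Y : Over S} (hX : Pure (snd X P).left) (φ : X ⊗ P ⟶ A) (y : Y ⟶ A)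
    [IsClosedImmersion y.left] :
    ∃ (T : Over S) (t : T ⟶ P), IsClosedImmersion t.left ∧
      (LocallyOfFinitePresentation y.left → LocallyOfFinitePresentation t.left) ∧
      ∀ (S' : Over S) (g : S' ⟶ P), (∃ z : S' ⟶ T, z ≫ t = g) ↔
        ∀ (S'' : Over S) (s : S'' ⟶ S') (x : S'' ⟶ X), ∃ x' : S'' ⟶ Y, lift x (s ≫ g) ≫ φ = x' ≫ y := by
  haveI : Mono y := (Over.forget S).mono_of_mono_map (inferInstanceAs (Mono y.left))
  let j : pullback φ.left y.left ⟶ (X ⊗ P).left := pullback.fst _ _
  haveI : IsClosedImmersion j := MorphismProperty.pullback_fst (P := @IsClosedImmersion) _ _ inferInstance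
  obtain ⟨T, t, ht, hT, hfp⟩ := hX _ j inferInstance
  let T' : Over S := Over.mk (t ≫ P.hom)
  let t' : T' ⟶ P := Over.homMk t rfl
  refine ⟨T', t', ht, fun hy => hfp (MorphismProperty.pullback_fst (P := @LocallyOfFinitePresentation) _ _ hy),
    fun S' g => ?_⟩
  have hsq : IsPullback (X ◁ g).left (snd X S').left (snd X P).left g.left := by
    refine IsPullback.of_right (h₁₂ := (fst X P).left) (v₁₃ := X.hom) (h₂₂ := P.hom) ?_
      (congrArg CommaMorphism.left (whiskerLeft_snd X g)) (IsPullback.of_hasPullback X.hom P.hom)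
    rw [show (X ◁ g).left ≫ (fst X P).left = (fst X S').left from congrArg CommaMorphism.left (whiskerLeft_fst X g), Over.w g]
    exact IsPullback.of_hasPullback X.hom S'.hom
  have h1 : WeilRes.Factors (snd X P).left j S'.left g.left ↔ ∃ x' : X ⊗ S' ⟶ Y, (X ◁ g) ≫ φ = x' ≫ y := by
    constructor
    · rintro ⟨l, hl⟩
      let l' := hsq.isoPullback.hom ≫ l ≫ pullback.snd φ.left y.left
      have hl' : l' ≫ y.left = ((X ◁ g) ≫ φ).left := by
        change l' ≫ y.left = (X ◁ g).left ≫ φ.left
        simp only [l', Category.assoc, ← pullback.condition]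
        change hsq.isoPullback.hom ≫ l ≫ j ≫ φ.left = _
        rw [reassoc_of% hl, IsPullback.isoPullback_hom_fst_assoc]
      exact ⟨Over.homMk l' (by rw [← Over.w y, ← Category.assoc, hl']; exact Over.w ((X ◁ g) ≫ φ)),
        Over.OverMorphism.ext hl'.symm⟩
    · rintro ⟨x', hx'⟩
      refine ⟨hsq.isoPullback.inv ≫ pullback.lift (X ◁ g).left x'.left (congrArg CommaMorphism.left hx'), ?_⟩
      rw [Category.assoc, pullback.lift_fst, IsPullback.isoPullback_inv_fst]
  constructor
  · rintro ⟨z, hz⟩ S'' s x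
    obtain ⟨x', hx'⟩ := h1.1 ((hT _ _).1 ⟨z.left, congrArg CommaMorphism.left hz⟩)
    refine ⟨lift x s ≫ x', ?_⟩
    rw [Category.assoc, ← hx', ← Category.assoc, lift_whiskerLeft]
  · intro h
    obtain ⟨x', hx'⟩ := h (X ⊗ S') (snd X S') (fst X S')
    have e : lift (fst X S') (snd X S' ≫ g) = X ◁ g := by
      apply CartesianMonoidalCategory.hom_ext <;> simp
    rw [e] at hx'
    obtain ⟨z, hz⟩ := (hT _ _).2 (h1.2 ⟨x', hx'⟩)
    exact ⟨Over.homMk z (by change z ≫ t ≫ P.hom = _; rw [← Category.assoc, hz]; exact Over.w g),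
      Over.OverMorphism.ext hz⟩

theorem pure_snd_of_smooth {X P : Over S} [Smooth X.hom] (hconn : ∀ s : S, ConnectedSpace ↥(Red.geomFibre s X).left) :
    Pure (snd X P).left := by
  haveI : Smooth (snd X P).left := inferInstanceAs (Smooth (pullback.snd X.hom P.hom))
  exact pure_of_smooth ((SmoothPure.intFibres_of_connected (f := X.hom) hconn).baseChange P.hom)

theorem pure_snd_of_finite {X P : Over S} [IsFinite X.hom] [Flat X.hom] [LocallyOfFinitePresentation X.hom] :
    Pure (snd X P).left := by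
  haveI : IsFinite (pullback.snd X.hom P.hom) := MorphismProperty.pullback_snd (P := @IsFinite) _ _ inferInstance
  exact pure_of_essentiallyFree (Z := (X ⊗ P).left) (f := pullback.snd X.hom P.hom) (essentiallyFree_of_finite _)

end Groth.Agent.SGA3cLib.TransporterFP
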