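import Groth.Agent.SGA3cLib.HomScheme
import Groth.Agent.SGA3cLib.TransporterFP
import Groth.Agent.SGA3cLib.TrivLocus
import Groth.Agent.H8Lim.Unramified
import Groth.Prelude.Def_AutFam

/-! # Schemes of homomorphisms of groups out of finite locally free groups -/

set_option linter.style.haveILetI false
set_option autoImplicit false
set_option backward.isDefEq.respectTransparency.types false
universe u

open CategoryTheory CategoryTheory.Limits MonoidalCategory CartesianMonoidalCategory MonObj AlgebraicGeometry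

noncomputable section

namespace Groth.Agent.SGA3cLib.HomGroup

theorem flat_DS (U : Scheme.{u}) (M : Type) [AddCommGroup M] : Flat (Red.DS U M).hom := by
  haveI : Flat (Red.diag (ULift.{u} ℤ) M).hom := by
    show Flat (Spec.map _)
    refine HasRingHomProperty.Spec_iff.2 ?_
    rw [CommRingCat.hom_ofHom, RingHom.flat_algebraMap_iff]
    exact (inferInstance : Module.Flat (ULift.{u} ℤ) (MonoidAlgebra (ULift.{u} ℤ) (Multiplicative M)))
  show Flat (pullback.snd _ _)
  infer_instance

theorem flat_of_multTypeFT {S : Scheme.{u}} (H : Over S) [GrpObj H]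
    (hH : SGA3x.IsMultTypeFT H) : Flat H.hom := by
  obtain ⟨S', f, hfl, -, hq, hU⟩ := hH
  haveI := hfl
  refine (IsFpqcCov.of_forall f hq).descend @Flat H.hom ?_
  choose U hmem M _ hM e using hU
  have hUc : TopologicalSpace.IsOpenCover U :=
    TopologicalSpace.IsOpenCover.mk (eq_top_iff.2 fun y _ => TopologicalSpace.Opens.mem_iSup.2 ⟨y, hmem y⟩)
  rw [IsZariskiLocalAtTarget.iff_of_openCover (P := @Flat) (S'.openCoverOfIsOpenCover U hUc)]
  intro (s : S')
  change Flat (pullback.snd (pullback.snd H.hom f) (U s).ι)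
  rw [show pullback.snd (pullback.snd H.hom f) (U s).ι =
      (pullbackLeftPullbackSndIso H.hom f (U s).ι).hom ≫ pullback.snd H.hom ((U s).ι ≫ f) from
    (pullbackLeftPullbackSndIso_hom_snd _ _ _).symm,
    MorphismProperty.cancel_left_of_respectsIso @Flat]
  haveI := flat_DS.{u} (U s) (M s)
  let i : Red.bc ((U s).ι ≫ f) H ≅ Red.DS (U s : Scheme.{u}) (M s) := (Grp.forget _).mapIso (e s).some
  show Flat (Red.bc ((U s).ι ≫ f) H).hom
  rw [← Over.w i.hom]
  infer_instance

variable {S : Scheme.{u}}

/-- The scheme of homomorphisms out of a finite locally free group into an affine group. -/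
theorem exists_homGroup (G G' : Over S) [GrpObj G] [GrpObj G'] [IsFinite G.hom] [Flat G.hom]
    [LocallyOfFinitePresentation G.hom] [IsAffineHom G'.hom] :
    ∃ (A : Over S) (υ : G ⊗ A ⟶ G'), AutFam.RepresentsHom G G' A υ ∧ IsAffineHom A.hom ∧
      (LocallyOfFiniteType G'.hom → LocallyOfFiniteType A.hom) ∧
      (LocallyOfFinitePresentation G'.hom → LocallyOfFinitePresentation A.hom) := by
  obtain ⟨M, ev, hMa, hMft, hMfp, hM⟩ := HomScheme.exists_homScheme G G'
  let P := G ⊗ G
  haveI : IsFinite P.hom := MorphismProperty.comp_mem @IsFinite _ _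
    (MorphismProperty.pullback_fst (P := @IsFinite) G.hom G.hom inferInstance) inferInstance
  haveI : Flat P.hom := MorphismProperty.comp_mem @Flat _ _
    (MorphismProperty.pullback_fst (P := @Flat) G.hom G.hom inferInstance) inferInstance
  haveI : LocallyOfFinitePresentation P.hom := MorphismProperty.comp_mem @LocallyOfFinitePresentation _ _
    (MorphismProperty.pullback_fst (P := @LocallyOfFinitePresentation) G.hom G.hom inferInstance) inferInstance
  let y : G' ⟶ G' ⊗ G' := lift (𝟙 G') (𝟙 G')
  have hy : y.left = pullback.diagonal G'.hom := by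
    apply pullback.hom_ext <;> simp [y]
    · exact pullback.lift_fst _ _ _
    · exact pullback.lift_snd _ _ _
  haveI : IsClosedImmersion y.left := by
    rw [hy]; infer_instance
  let φ : P ⊗ M ⟶ G' ⊗ G' :=
    lift (lift (fst P M ≫ μ[G]) (snd P M) ≫ ev)
      ((lift (fst P M ≫ fst G G) (snd P M) ≫ ev) * (lift (fst P M ≫ snd G G) (snd P M) ≫ ev))
  obtain ⟨A, t, ht, htfp, hA⟩ := TransporterFP.exists_transporter
    (TransporterFP.pure_snd_of_finite (X := P) (P := M)) φ y
  have lm : ∀ {T X : Over S} (a : X ⟶ G) (s : X ⟶ T) (v : T ⟶ M),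
      lift a s ≫ (G ◁ v) ≫ ev = lift a (s ≫ v) ≫ ev := fun a s v => lift_whiskerLeft_assoc _ _ _ _
  have crit : ∀ {T : Over S} (v : T ⟶ M),
      AutFam.IsHomFamily G G' ((G ◁ v) ≫ ev) ↔ ∃ z : T ⟶ A, z ≫ t = v := by
    intro T v
    have comp : ∀ (X : Over S) (a b : X ⟶ G) (m : X ⟶ M),
        (lift (lift a b) m ≫ φ) = lift (lift (a * b) m ≫ ev) ((lift a m ≫ ev) * (lift b m ≫ ev)) := by
      intro X a b m
      simp only [φ, P, comp_lift, MonObj.comp_mul, ← Category.assoc, lift_fst, lift_snd]
      simp only [Category.assoc, Hom.mul_def]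
    rw [hA]
    constructor
    · intro h X s x
      refine ⟨lift (x ≫ μ[G]) (s ≫ v) ≫ ev, ?_⟩
      have hh := h X (x ≫ fst G G) (x ≫ snd G G) s
      simp only [lm] at hh
      have hx : lift (x ≫ fst G G) (x ≫ snd G G) = x := by simp
      conv_lhs => rw [← hx, comp, hh]
      rw [Category.assoc]
      conv_rhs => rw [← Category.assoc]
      rw [comp_lift, Category.comp_id, ← hh]
      simp [Hom.mul_def]
    · intro h X a b s
      obtain ⟨x', hx'⟩ := h X s (lift a b)
      rw [comp] at hx'
      simp only [lm]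
      have h1 := congrArg (· ≫ fst G' G') hx'
      have h2 := congrArg (· ≫ snd G' G') hx'
      simp only [Category.assoc, lift_fst, lift_snd, y, Category.comp_id] at h1 h2
      rw [h1, h2]
  haveI : Mono t := (Over.forget S).mono_of_mono_map (inferInstanceAs (Mono t.left))
  refine ⟨A, (G ◁ t) ≫ ev, ⟨(crit t).2 ⟨𝟙 _, Category.id_comp t⟩, fun T ψ hψ => ?_⟩, ?_, fun h => ?_, fun h => ?_⟩
  · obtain ⟨v, hv, hu⟩ := hM T ψ
    obtain ⟨a, ha⟩ := (crit v).1 (hv.symm ▸ hψ)
    refine ⟨a, by show (G ◁ a) ≫ (G ◁ t) ≫ ev = ψ; rw [← MonoidalCategory.whiskerLeft_comp_assoc, ha, hv], fun a' ha' => ?_⟩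
    rw [← cancel_mono t, ha]
    exact hu _ (by simpa [MonoidalCategory.whiskerLeft_comp] using ha')
  · rw [← Over.w t]; infer_instance
  · haveI := hMft h
    rw [← Over.w t]; infer_instance
  · haveI := hMfp h
    haveI : LocallyOfFinitePresentation t.left := htfp (by
      rw [hy]; exact H8Lim.locallyOfFinitePresentation_diagonal G'.hom)
    rw [← Over.w t]; infer_instance

end Groth.Agent.SGA3cLib.HomGroup
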