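import Groth.Agent.SGA3cLib.Transporter
import Groth.Agent.SGA3cLib.SubgroupClosed
import Groth.Prelude.Def_Red2

/-!
# Transporters and normalizers for conjugation over a field
-/

set_option autoImplicit false
set_option linter.style.haveILetI false
set_option backward.isDefEq.respectTransparency.types false

universe u

open CategoryTheory CategoryTheory.Limits MonoidalCategory CartesianMonoidalCategory MonObj GrpObj AlgebraicGeometry

namespace Groth.Agent.SGA3cLib.ConjTransporter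

variable {k : Type u} [Field k] {G : Over (Spec (CommRingCat.of k))} [GrpObj G]

theorem ess (X : Over (Spec (CommRingCat.of k))) : SGA3x.IsEssentiallyFree X.hom := S5356.result.2.2.1 k X.left X.hom

theorem exists_eq {X : Over (Spec (CommRingCat.of k))} (u v : X ⟶ G) :
    ∃ (T : Over (Spec (CommRingCat.of k))) (t : T ⟶ G), IsClosedImmersion t.left ∧
      ∀ (S' : Over (Spec (CommRingCat.of k))) (g : S' ⟶ G), (∃ z : S' ⟶ T, z ≫ t = g) ↔
        ∀ (S'' : Over (Spec (CommRingCat.of k))) (s : S'' ⟶ S') (x : S'' ⟶ X), (s ≫ g) * (x ≫ u) * (s ≫ g)⁻¹ = x ≫ v := by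
  haveI : IsSeparated G.hom := SGA3xLib.isSeparated_of_grpObj G
  obtain ⟨T, t, ht, hT⟩ := exists_transporter_eq (ess X) (snd X G * (fst X G ≫ u) * (snd X G)⁻¹) (fst X G ≫ v)
  refine ⟨T, t, ht, fun S' g => (hT S' g).trans (forall₃_congr fun S'' s x => ?_)⟩
  simp only [MonObj.comp_mul, GrpObj.comp_inv, lift_snd, lift_fst_assoc]

theorem exists_into {Y Y' : Over (Spec (CommRingCat.of k))} (y : Y ⟶ G) [IsClosedImmersion y.left] (y' : Y' ⟶ G) :
    ∃ (T : Over (Spec (CommRingCat.of k))) (t : T ⟶ G), IsClosedImmersion t.left ∧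
      ∀ (S' : Over (Spec (CommRingCat.of k))) (g : S' ⟶ G), (∃ z : S' ⟶ T, z ≫ t = g) ↔
        ∀ (S'' : Over (Spec (CommRingCat.of k))) (s : S'' ⟶ S') (x : S'' ⟶ Y'),
          ∃ x' : S'' ⟶ Y, (s ≫ g) * (x ≫ y') * (s ≫ g)⁻¹ = x' ≫ y := by
  obtain ⟨T, t, ht, hT⟩ := exists_transporter (ess Y') (snd Y' G * (fst Y' G ≫ y') * (snd Y' G)⁻¹) y
  refine ⟨T, t, ht, fun S' g => (hT S' g).trans (forall₃_congr fun S'' s x => exists_congr fun x' => ?_)⟩
  simp only [MonObj.comp_mul, GrpObj.comp_inv, lift_snd, lift_fst_assoc]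

theorem exists_strict {Y Y' : Over (Spec (CommRingCat.of k))} (y : Y ⟶ G) [IsClosedImmersion y.left] (y' : Y' ⟶ G)
    [IsClosedImmersion y'.left] :
    ∃ (T : Over (Spec (CommRingCat.of k))) (t : T ⟶ G), IsClosedImmersion t.left ∧
      ∀ (S' : Over (Spec (CommRingCat.of k))) (g : S' ⟶ G), (∃ z : S' ⟶ T, z ≫ t = g) ↔
        ((∀ (S'' : Over (Spec (CommRingCat.of k))) (s : S'' ⟶ S') (x : S'' ⟶ Y'),
          ∃ x' : S'' ⟶ Y, (s ≫ g) * (x ≫ y') * (s ≫ g)⁻¹ = x' ≫ y) ∧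
        (∀ (S'' : Over (Spec (CommRingCat.of k))) (s : S'' ⟶ S') (x' : S'' ⟶ Y),
          ∃ x : S'' ⟶ Y', (s ≫ g)⁻¹ * (x' ≫ y) * (s ≫ g) = x ≫ y')) := by
  obtain ⟨T₁, t₁, ht₁, hT₁⟩ := exists_into y y'
  obtain ⟨T₂, t₂, ht₂, hT₂⟩ := exists_transporter (ess Y) ((snd Y G)⁻¹ * (fst Y G ≫ y) * snd Y G) y'
  obtain ⟨T, t, ht, hT⟩ := exists_inter t₁ t₂
  refine ⟨T, t, ht, fun S' g => (hT S' g).trans (and_congr (hT₁ S' g) ((hT₂ S' g).trans
    (forall₃_congr fun S'' s x => exists_congr fun x' => ?_)))⟩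
  simp only [MonObj.comp_mul, GrpObj.comp_inv, lift_snd, lift_fst_assoc]

theorem exists_normalizer {H : Over (Spec (CommRingCat.of k))} [GrpObj H] (h : H ⟶ G) [IsMonHom h]
    [IsImmersion h.left] :
    ∃ (N : Over (Spec (CommRingCat.of k))) (_ : GrpObj N) (n : N ⟶ G), IsClosedImmersion n.left ∧
      Red.IsNormalizerOf h n := by
  haveI : IsClosedImmersion h.left :=
    IsClosedImmersion.of_isPreimmersion _ (isClosed_range_of_isImmersion h)
  obtain ⟨T, j, hj, hT⟩ := exists_strict h h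
  haveI : Mono j := (Over.forget _).mono_of_mono_map (inferInstanceAs (Mono j.left))
  have key : ∀ (X : Over (Spec (CommRingCat.of k))) (g : X ⟶ G), (∃ t : X ⟶ T, t ≫ j = g) ↔
      ∀ (X' : Over (Spec (CommRingCat.of k))) (x : X' ⟶ X) (a : X' ⟶ H),
        (∃ a' : X' ⟶ H, (x ≫ g) * (a ≫ h) * (x ≫ g)⁻¹ = a' ≫ h) ∧
        (∃ a' : X' ⟶ H, (x ≫ g)⁻¹ * (a ≫ h) * (x ≫ g) = a' ≫ h) :=
    fun X g => (hT X g).trans ⟨fun hh X' x a => ⟨hh.1 X' x a, hh.2 X' x a⟩,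
      fun hh => ⟨fun X' x a => (hh X' x a).1, fun X' x a => (hh X' x a).2⟩⟩
  obtain ⟨gr, hmon⟩ := exists_grpObj_of_subgroup j
    (fun X => (key X 1).2 fun X' x a => ⟨⟨a, by simp⟩, ⟨a, by simp⟩⟩)
    (fun X a b => (key X _).2 fun X' x c => by
      have ha := fun c => (key X _).1 ⟨a, rfl⟩ X' x c
      have hb := fun c => (key X _).1 ⟨b, rfl⟩ X' x c
      constructor
      · obtain ⟨c₁, e₁⟩ := (hb c).1
        obtain ⟨c₂, e₂⟩ := (ha c₁).1
        exact ⟨c₂, by rw [← e₂, ← e₁, MonObj.comp_mul]; group⟩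
      · obtain ⟨c₁, e₁⟩ := (ha c).2
        obtain ⟨c₂, e₂⟩ := (hb c₁).2
        exact ⟨c₂, by rw [← e₂, ← e₁, MonObj.comp_mul]; group⟩)
    (fun X a => (key X _).2 fun X' x c => by
      have ha := (key X _).1 ⟨a, rfl⟩ X' x c
      rw [GrpObj.comp_inv, _root_.inv_inv]
      exact ⟨ha.2, ha.1⟩)
  exact ⟨T, gr, j, hj, ⟨hmon, inferInstance, key⟩⟩

/-- A minimal closed subgroup through a family stable under conjugation is normal. -/
theorem isNormalHom_of_minimal {X Γ : Over (Spec (CommRingCat.of k))} [GrpObj Γ] (i : Γ ⟶ G) [IsMonHom i]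
    [IsClosedImmersion i.left] (f : X ⟶ G)
    (hconj : ∀ (T : Over (Spec (CommRingCat.of k))) (g : T ⟶ G) (x : T ⟶ X),
      ∃ x' : T ⟶ X, g * (x ≫ f) * g⁻¹ = x' ≫ f)
    (hf : ∃ f' : X ⟶ Γ, f' ≫ i = f)
    (hmin : ∀ (Γ' : Over (Spec (CommRingCat.of k))) (_ : GrpObj Γ') (i' : Γ' ⟶ G), IsMonHom i' → IsClosedImmersion i'.left →
        (∃ f'' : X ⟶ Γ', f'' ≫ i' = f) → ∃ j : Γ ⟶ Γ', j ≫ i' = i) :
    AlgGrp.IsNormalHom i := by
  obtain ⟨f', hf'⟩ := hf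
  obtain ⟨N, n, hn, hN⟩ := exists_transporter (ess G) (fst G G * snd G G * (fst G G)⁻¹) i
  haveI : Mono n := (Over.forget _).mono_of_mono_map (inferInstanceAs (Mono n.left))
  have key : ∀ (S' : Over (Spec (CommRingCat.of k))) (h : S' ⟶ G), (∃ z : S' ⟶ N, z ≫ n = h) ↔
      ∀ (S'' : Over (Spec (CommRingCat.of k))) (s : S'' ⟶ S') (g : S'' ⟶ G),
        ∃ x' : S'' ⟶ Γ, g * (s ≫ h) * g⁻¹ = x' ≫ i := fun S' h =>
    (hN S' h).trans (forall₃_congr fun S'' s g => exists_congr fun x' => by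
      simp only [MonObj.comp_mul, GrpObj.comp_inv, lift_snd, lift_fst])
  obtain ⟨gr, hmon⟩ := exists_grpObj_of_subgroup n
    (fun T => (key T 1).2 fun S'' s g => ⟨1, by simp [MonObj.one_comp]⟩)
    (fun T a b => (key T _).2 fun S'' s g => by
      obtain ⟨x₁, e₁⟩ := (key T _).1 ⟨a, rfl⟩ S'' s g
      obtain ⟨x₂, e₂⟩ := (key T _).1 ⟨b, rfl⟩ S'' s g
      exact ⟨x₁ * x₂, by rw [MonObj.mul_comp, ← e₁, ← e₂, MonObj.comp_mul]; group⟩)
    (fun T a => (key T _).2 fun S'' s g => by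
      obtain ⟨x₁, e₁⟩ := (key T _).1 ⟨a, rfl⟩ S'' s g
      exact ⟨x₁⁻¹, by rw [GrpObj.inv_comp, ← e₁, GrpObj.comp_inv]; group⟩)
  obtain ⟨z, hz⟩ := (key X f).2 fun S'' s g => by
    obtain ⟨x', hx'⟩ := hconj S'' g s
    exact ⟨x' ≫ f', by rw [Category.assoc, hf', ← hx']⟩
  obtain ⟨j, hj⟩ := hmin N gr n hmon hn ⟨z, hz⟩
  intro T g w
  obtain ⟨x', hx'⟩ := (key T (w ≫ i)).1 ⟨w ≫ j, by rw [Category.assoc, hj]⟩ T (𝟙 T) g
  exact ⟨x', by simpa using hx'⟩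

end Groth.Agent.SGA3cLib.ConjTransporter
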