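import Groth.Agent.SGA3cLib.MTNormalizer
import Groth.Agent.FlatMorSmoothSect.Scheme

/-!
# Etale-local conjugacy of homomorphisms and subgroups of multiplicative type

A transporter is smooth, so it has sections etale locally near the points over which it has a point.
-/

set_option linter.style.haveILetI false
set_option autoImplicit false

universe u

open CategoryTheory CategoryTheory.Limits MonoidalCategory CartesianMonoidalCategory MonObj GrpObj AlgebraicGeometry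

noncomputable section

namespace Groth.Agent.SGA3cLib.MTConjEtale

open MTTransporterSub (Contain)

variable {S : Scheme.{u}}

/-- An etale neighbourhood over which a smooth scheme with a point over `s` has a section. -/
theorem exists_etale_section {G T : Over S} (j : T ⟶ G) [Smooth T.hom] {K : Type u} [Field K] (s : S)
    (ω : Spec (CommRingCat.of K) ⟶ S) (hω : ∀ x, ω.base x = s) (t : Over.mk ω ⟶ T) :
    ∃ (S' : Scheme.{u}) (f : S' ⟶ S), Etale f ∧ s ∈ Set.range f.base ∧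
      ∃ u : (Over.map f).obj (𝟙_ _) ⟶ T, True := by
  obtain ⟨S', f, s', hf, hs', h, hh⟩ :=
    FlatMorSmoothSect.exists_section_etale_locally T.hom (t.left.base (default : PrimeSpectrum K))
  refine ⟨S', f, hf, ⟨s', ?_⟩, Over.homMk h (hh.trans (Category.id_comp f).symm), trivial⟩
  rw [hs', ← Scheme.Hom.comp_apply, Over.w t]
  exact hω _

theorem geomPt_apply (s : S) (x : ↥(Spec (CommRingCat.of (AlgebraicClosure (S.residueField s))))) :
    (Red.geomPt s).base x = s :=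
  Scheme.fromSpecResidueField_apply s
    ((Spec.map (CommRingCat.ofHom (algebraMap (S.residueField s) (AlgebraicClosure (S.residueField s))))).base x)

variable {H₁ H₂ G : Over S} [GrpObj H₁] [GrpObj H₂] [GrpObj G]

theorem conj_hom (hH : SGA3x.IsMultTypeFT H₁) [IsAffineHom G.hom] [Smooth G.hom] (u₁ u₂ : H₁ ⟶ G) [IsMonHom u₁]
    [IsMonHom u₂] (s : S)
    (hs : ∃ g : Over.mk (Red.geomPt s) ⟶ G, ∀ (X : Over S) (p : X ⟶ Over.mk (Red.geomPt s)) (h : X ⟶ H₁),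
      h ≫ u₂ = (p ≫ g) * (h ≫ u₁) * (p ≫ g)⁻¹) :
    ∃ (S' : Scheme.{u}) (f : S' ⟶ S), Etale f ∧ s ∈ Set.range f.base ∧ ∃ g : 𝟙_ (Over S') ⟶ Red.bc f G,
      ∀ (X : Over S') (h : X ⟶ Red.bc f H₁),
        h ≫ (Over.pullback f).map u₂ = (toUnit X ≫ g) * (h ≫ (Over.pullback f).map u₁) * (toUnit X ≫ g)⁻¹ := by
  obtain ⟨g, hg⟩ := hs
  haveI : IsSeparated G.hom := inferInstance
  obtain ⟨T, j, hj, hsm, hT⟩ := MTTransporter.exists_smooth u₁ u₂ (CentralFib.locally_of_multTypeFT hH)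
  haveI := hsm
  obtain ⟨t, ht⟩ := (hT _ g).2 fun X' x h => (hg X' x h).symm
  obtain ⟨S', f, hf, hsf, v, -⟩ := exists_etale_section j s (Red.geomPt s) (geomPt_apply s) t
  refine ⟨S', f, hf, hsf, BCPoints.pt f G _ (v ≫ j), fun X h => ?_⟩
  obtain ⟨h₁, rfl⟩ := (BCPoints.pt f H₁ X).surjective h
  have hc := (hT _ (v ≫ j)).1 ⟨v, rfl⟩ _ ((Over.map f).map (toUnit X)) h₁
  rw [← BCPoints.pt_map_comp, ← BCPoints.pt_comp, ← BCPoints.pt_comp, ← BCPoints.pt_inv, ← BCPoints.pt_mul,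
    ← BCPoints.pt_mul, hc]

theorem conj_sub (h₁ : SGA3x.IsMultTypeFT H₁) (h₂ : SGA3x.IsMultTypeFT H₂) [IsAffineHom G.hom] [Smooth G.hom]
    (i₁ : H₁ ⟶ G) [IsMonHom i₁] [Mono i₁] (i₂ : H₂ ⟶ G) [IsMonHom i₂] [Mono i₂] (s : S)
    (hs : ∃ g : Over.mk (Red.geomPt s) ⟶ G, ∀ (X : Over S) (p : X ⟶ Over.mk (Red.geomPt s)),
      (∀ a : X ⟶ H₁, ∃ b : X ⟶ H₂, (p ≫ g) * (a ≫ i₁) * (p ≫ g)⁻¹ = b ≫ i₂) ∧
      (∀ b : X ⟶ H₂, ∃ a : X ⟶ H₁, (p ≫ g)⁻¹ * (b ≫ i₂) * (p ≫ g) = a ≫ i₁)) :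
    ∃ (S' : Scheme.{u}) (f : S' ⟶ S), Etale f ∧ s ∈ Set.range f.base ∧
      ∃ g : 𝟙_ (Over S') ⟶ Red.bc f G, SGA3x.ConjBy ((Over.pullback f).map i₁) ((Over.pullback f).map i₂) g := by
  obtain ⟨g, hg⟩ := hs
  obtain ⟨T, j, hj, hsm, hT⟩ := MTTransporterSub.exists_equal i₁ i₂ h₁ h₂
  haveI := hsm
  obtain ⟨t, ht⟩ := (hT _ g).2 ((MTNormalizer.both_iff i₁ i₂ g).1 hg)
  obtain ⟨S', f, hf, hsf, v, -⟩ := exists_etale_section j s (Red.geomPt s) (geomPt_apply s) t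
  obtain ⟨hc, hc'⟩ := (hT _ (v ≫ j)).1 ⟨v, rfl⟩
  let v₁ := (Over.pullback f).map i₁
  let v₂ := (Over.pullback f).map i₂
  haveI : (Over.pullback f).IsRightAdjoint := (Over.mapPullbackAdj f).isRightAdjoint
  have k₁ := (MTTransporterSub.contain_pt i₁ i₂ f (v ≫ j)).1 hc
  have k₂ := (MTTransporterSub.contain_pt i₂ i₁ f (v ≫ j)⁻¹).1 hc'
  rw [BCPoints.pt_inv] at k₂
  let gg := BCPoints.pt f G _ (v ≫ j)
  obtain ⟨φ, hφ⟩ := k₁ (Red.bc f H₁) (toUnit _) (𝟙 _)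
  obtain ⟨ψ, hψ⟩ := k₂ (Red.bc f H₂) (toUnit _) (𝟙 _)
  rw [Category.id_comp] at hφ hψ
  rw [GrpObj.comp_inv, _root_.inv_inv] at hψ
  refine ⟨S', f, hf, hsf, gg, ⟨φ, ψ, ?_, ?_⟩, hφ⟩
  · rw [← cancel_mono v₁, Category.id_comp, Category.assoc, ← hψ, MonObj.comp_mul, MonObj.comp_mul, ← hφ,
      GrpObj.comp_inv, ← Category.assoc, comp_toUnit]
    simp only [v₁, v₂]
    group
  · rw [← cancel_mono v₂, Category.id_comp, Category.assoc, ← hφ, MonObj.comp_mul, MonObj.comp_mul, ← hψ,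
      GrpObj.comp_inv, ← Category.assoc, comp_toUnit]
    simp only [v₁, v₂]
    group

end Groth.Agent.SGA3cLib.MTConjEtale
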