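import Groth.Agent.FlatMorWeight.Piece
import Groth.Agent.FlatMorSlice.Cover
import Groth.Prelude.Def_TwC
import Mathlib.AlgebraicGeometry.Morphisms.FlatDescent
import Mathlib.AlgebraicGeometry.Sites.Fpqc

/-! # Twisted constant schemes trivial for fppf are trivial for etale -/

set_option linter.style.haveILetI false
set_option autoImplicit false
set_option backward.isDefEq.respectTransparency.types false
universe u

open CategoryTheory CategoryTheory.Limits AlgebraicGeometry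
open Groth.Agent.FlatMorWeight

noncomputable section

namespace Groth.Agent.SGA3cLib.EtaleTriv

theorem isPullback_const {P B : Scheme.{u}} (h : P ⟶ B) (I : Type u) :
    IsPullback (Sigma.desc fun i : I => h ≫ Sigma.ι (fun _ : I => B) i) (TwC.const P I).hom
      (TwC.const B I).hom h := by
  let d : (∐ fun _ : I => B) ⟶ B := Sigma.desc fun _ : I => 𝟙 B
  let φi : I → (P ⟶ pullback d h) := fun i =>
    pullback.lift (h ≫ Sigma.ι (fun _ : I => B) i) (𝟙 P) (by simp [d])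
  have hd : ∀ i, Sigma.ι (fun _ : I => B) i ≫ d = 𝟙 B := fun i => Sigma.ι_desc _ _
  have piece : ∀ i, IsOpenImmersion (φi i) ∧
      Set.range (φi i) = pullback.fst d h ⁻¹' Set.range (Sigma.ι (fun _ : I => B) i) := by
    intro i
    haveI : IsIso (Sigma.ι (fun _ : I => B) i ≫ d) := by rw [hd]; infer_instance
    let m := pullback.map (Sigma.ι (fun _ : I => B) i ≫ d) h d h (Sigma.ι (fun _ : I => B) i) (𝟙 P) (𝟙 B)
      (by simp) (by simp)
    have e : φi i = inv (pullback.snd (Sigma.ι (fun _ : I => B) i ≫ d) h) ≫ m := by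
      rw [IsIso.eq_inv_comp]
      have h0 := pullback.condition (f := Sigma.ι (fun _ : I => B) i ≫ d) (g := h)
      simp only [hd, Category.comp_id] at h0
      apply pullback.hom_ext
      · simp only [φi, m, Category.assoc, pullback.lift_fst, pullback.map]
        rw [← Category.assoc, ← h0]
      · simp only [φi, m, pullback.map, Category.assoc]
        erw [pullback.lift_snd, pullback.lift_snd, Category.comp_id]
    rw [e]
    refine ⟨inferInstance, ?_⟩
    rw [Scheme.Hom.comp_base, TopCat.coe_comp, Set.range_comp,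
      (inv (pullback.snd (Sigma.ι (fun _ : I => B) i ≫ d) h)).surjective.range_eq, Set.image_univ,
      Scheme.Pullback.range_map]
    simp
  let φ : (∐ fun _ : I => P) ⟶ pullback d h := Sigma.desc φi
  haveI : ∀ i, IsOpenImmersion (φi i) := fun i => (piece i).1
  haveI : IsOpenImmersion φ := isOpenImmersion_sigmaDesc _ _ fun i j hij => by
    have h0 := disjoint_opensRange_sigmaι (fun _ : I => B) i j hij
    rw [← TopologicalSpace.Opens.coe_disjoint] at h0
    show Disjoint (Set.range (φi i)) (Set.range (φi j))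
    rw [(piece i).2, (piece j).2]
    exact h0.preimage _
  haveI : Surjective φ := ⟨fun q => by
    obtain ⟨i, w, hw⟩ := (sigmaOpenCover (fun _ : I => B)).exists_eq (pullback.fst d h q)
    obtain ⟨y, hy⟩ : q ∈ Set.range (φi i) := by rw [(piece i).2]; exact ⟨w, hw⟩
    exact ⟨Sigma.ι (fun _ : I => P) i y, by rw [← Scheme.Hom.comp_apply, Sigma.ι_desc]; exact hy⟩⟩
  haveI : Epi φ.base := (TopCat.epi_iff_surjective _).mpr φ.surjective
  haveI : IsIso φ := IsOpenImmersion.isIso φ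
  refine IsPullback.of_iso_pullback ⟨?_⟩ (asIso φ) ?_ ?_
  · apply Sigma.hom_ext
    intro i
    simp
  · apply Sigma.hom_ext
    intro i
    simp only [asIso_hom, φ, φi, Sigma.ι_desc_assoc, Sigma.ι_desc]
    exact pullback.lift_fst _ _ _
  · apply Sigma.hom_ext
    intro i
    simp only [asIso_hom, φ, φi, Sigma.ι_desc_assoc]
    exact (pullback.lift_snd _ _ _).trans (Sigma.ι_desc (fun _ : I => 𝟙 P) i).symm

/-- trivialisations pull back -/
theorem exists_iso_bc {S B P : Scheme.{u}} (X : Over S) (f : B ⟶ S) {I : Type u}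
    (e : Red.bc f X ≅ TwC.const B I) (h : P ⟶ B) (q : P ⟶ S) (hq : h ≫ f = q) :
    Nonempty (Red.bc q X ≅ TwC.const P I) := by
  let eL : pullback X.hom f ≅ (∐ fun _ : I => B) := (Over.forget B).mapIso e
  have he : eL.hom ≫ (TwC.const B I).hom = pullback.snd X.hom f := Over.w e.hom
  let k : pullback X.hom q ⟶ pullback X.hom f :=
    pullback.lift (pullback.fst X.hom q) (pullback.snd X.hom q ≫ h) (by
      rw [Category.assoc, hq, pullback.condition])
  have sq1 : IsPullback k (pullback.snd X.hom q) (pullback.snd X.hom f) h := by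
    refine IsPullback.of_right (?_ : IsPullback (k ≫ pullback.fst X.hom f) (pullback.snd X.hom q) X.hom (h ≫ f))
      (pullback.lift_snd _ _ _) (IsPullback.of_hasPullback X.hom f)
    rw [pullback.lift_fst, hq]
    exact IsPullback.of_hasPullback X.hom q
  have sq2 : IsPullback (k ≫ eL.hom) (pullback.snd X.hom q) (TwC.const B I).hom h :=
    sq1.of_iso (Iso.refl _) eL (Iso.refl _) (Iso.refl _) (by simp) (by simp)
      (by simp only [Iso.refl_hom, Category.comp_id]; exact he.symm) (by simp)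
  let i := sq2.isoIsPullback _ _ (isPullback_const h I)
  exact ⟨Over.isoMk i (IsPullback.isoIsPullback_hom_snd _ _ sq2 (isPullback_const h I))⟩

/-- A trivialisation whose sections agree on the double covering descends. -/
theorem exists_iso_of_equalized {S U P : Scheme.{u}} (X : Over S) (g : U ⟶ S) (ρ : P ⟶ U) [Flat ρ]
    [LocallyOfFinitePresentation ρ] [Surjective ρ] {I : Type u} (e : Red.bc (ρ ≫ g) X ≅ TwC.const P I)
    (heq : ∀ i : I, pullback.fst ρ ρ ≫ Sigma.ι (fun _ : I => P) i ≫ e.inv.left ≫ pullback.fst X.hom (ρ ≫ g) =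
      pullback.snd ρ ρ ≫ Sigma.ι (fun _ : I => P) i ≫ e.inv.left ≫ pullback.fst X.hom (ρ ≫ g)) :
    Nonempty (Red.bc g X ≅ TwC.const U I) := by
  let eL : pullback X.hom (ρ ≫ g) ≅ (∐ fun _ : I => P) := (Over.forget P).mapIso e
  have he : eL.inv ≫ pullback.snd X.hom (ρ ≫ g) = (TwC.const P I).hom := Over.w e.inv
  let m : I → (P ⟶ X.left) := fun i => Sigma.ι (fun _ : I => P) i ≫ eL.inv ≫ pullback.fst X.hom (ρ ≫ g)
  have hm : ∀ i, m i ≫ X.hom = ρ ≫ g := fun i => by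
    simp only [m, Category.assoc, pullback.condition]
    rw [reassoc_of% he]
    simp
  have hσ : ∀ i, ∃ σ : U ⟶ X.left, ρ ≫ σ = m i := fun i =>
    ⟨EffectiveEpi.desc ρ (m i) fun {Z} a b hab => by
      rw [← pullback.lift_fst_assoc a b hab (m i), ← pullback.lift_snd_assoc a b hab (m i)]
      exact congrArg _ (heq i), EffectiveEpi.fac _ _ _⟩
  choose σ hσ using hσ
  haveI : Epi ρ := inferInstance
  have hσX : ∀ i, σ i ≫ X.hom = g := fun i => by rw [← cancel_epi ρ, reassoc_of% hσ i, hm]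
  let ψ : (∐ fun _ : I => U) ⟶ pullback X.hom g :=
    Sigma.desc fun i => pullback.lift (σ i) (𝟙 U) (by rw [hσX, Category.id_comp])
  let q : pullback X.hom (ρ ≫ g) ⟶ pullback X.hom g :=
    pullback.lift (pullback.fst X.hom (ρ ≫ g)) (pullback.snd X.hom (ρ ≫ g) ≫ ρ) (by
      rw [Category.assoc, pullback.condition])
  have sqq : IsPullback q (pullback.snd X.hom (ρ ≫ g)) (pullback.snd X.hom g) ρ := by
    refine IsPullback.of_right (?_ : IsPullback (q ≫ pullback.fst X.hom g) _ X.hom (ρ ≫ g))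
      (pullback.lift_snd _ _ _) (IsPullback.of_hasPullback X.hom g)
    rw [pullback.lift_fst]
    exact IsPullback.of_hasPullback X.hom (ρ ≫ g)
  have hψ : ψ ≫ pullback.snd X.hom g = (TwC.const U I).hom := by
    apply Sigma.hom_ext
    intro i
    simp only [ψ, Sigma.ι_desc_assoc]
    exact (pullback.lift_snd _ _ _).trans (Sigma.ι_desc (fun _ : I => 𝟙 U) i).symm
  have hcomm : (Sigma.desc fun i : I => ρ ≫ Sigma.ι (fun _ : I => U) i) ≫ ψ = eL.inv ≫ q := by
    apply Sigma.hom_ext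
    intro i
    apply pullback.hom_ext
    · simp only [ψ, q, Sigma.ι_desc_assoc, Category.assoc]
      erw [pullback.lift_fst, pullback.lift_fst]
      exact hσ i
    · simp only [ψ, q, Sigma.ι_desc_assoc, Category.assoc, pullback.lift_snd, Category.comp_id]
      rw [reassoc_of% he]
      simp
  have sqψ : IsPullback (Sigma.desc fun i : I => ρ ≫ Sigma.ι (fun _ : I => U) i) eL.inv ψ q := by
    refine IsPullback.of_bot ?_ hcomm sqq
    rw [he, hψ]
    exact isPullback_const ρ I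
  haveI hψi : IsIso ψ := by
    have hq : (@Surjective ⊓ @Flat ⊓ @LocallyOfFinitePresentation : MorphismProperty Scheme.{u}) q :=
      ⟨⟨MorphismProperty.of_isPullback (P := @Surjective) sqq.flip ‹_›,
        MorphismProperty.of_isPullback (P := @Flat) sqq.flip ‹_›⟩,
        MorphismProperty.of_isPullback (P := @LocallyOfFinitePresentation) sqq.flip ‹_›⟩
    exact MorphismProperty.of_isPullback_of_descendsAlong (P := MorphismProperty.isomorphisms Scheme.{u})
      (Q := @Surjective ⊓ @Flat ⊓ @LocallyOfFinitePresentation) sqψ.flip hq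
      (inferInstanceAs (IsIso eL.inv))
  exact ⟨(Over.isoMk (asIso ψ) hψ).symm⟩

/-- The locus where two pulled back sections agree. -/
theorem exists_clopen {S P Q : Scheme.{u}} (X : Over S) (p : P ⟶ S) {I : Type u}
    (e : Red.bc p X ≅ TwC.const P I) (a b : Q ⟶ P) (hab : a ≫ p = b ≫ p) (i : I) :
    ∃ E : Set Q, IsClopen E ∧
      (∀ {R : Scheme.{u}} (k : R ⟶ Q), k ≫ a = k ≫ b → Set.range k ⊆ E) ∧
      ∀ {R : Scheme.{u}} (k : R ⟶ Q), Set.range k ⊆ E →
        k ≫ a ≫ Sigma.ι (fun _ : I => P) i ≫ e.inv.left ≫ pullback.fst X.hom p =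
          k ≫ b ≫ Sigma.ι (fun _ : I => P) i ≫ e.inv.left ≫ pullback.fst X.hom p := by
  let eL : pullback X.hom p ≅ (∐ fun _ : I => P) := (Over.forget P).mapIso e
  have he : eL.inv ≫ pullback.snd X.hom p = (TwC.const P I).hom := Over.w e.inv
  let m : P ⟶ X.left := Sigma.ι (fun _ : I => P) i ≫ eL.inv ≫ pullback.fst X.hom p
  have hm : m ≫ X.hom = p := by
    simp only [m, Category.assoc, pullback.condition]
    rw [reassoc_of% he]
    simp
  let x : Q ⟶ ∐ fun _ : I => P :=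
    pullback.lift (b ≫ m) a (by rw [Category.assoc, hm, hab]) ≫ eL.hom
  have hx : x ≫ (TwC.const P I).hom = a := by
    have : eL.hom ≫ (TwC.const P I).hom = pullback.snd X.hom p := Over.w e.hom
    rw [Category.assoc, this]
    exact pullback.lift_snd _ _ _
  refine ⟨x ⁻¹' Set.range (Sigma.ι (fun _ : I => P) i), ⟨?_, ?_⟩, ?_, ?_⟩
  · have : (Set.range (Sigma.ι (fun _ : I => P) i))ᶜ =
        ⋃ (j : I) (_ : j ≠ i), Set.range (Sigma.ι (fun _ : I => P) j) := by
      ext z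
      simp only [Set.mem_compl_iff, Set.mem_iUnion]
      constructor
      · intro hz
        obtain ⟨j, w, hw⟩ := (sigmaOpenCover (fun _ : I => P)).exists_eq z
        exact ⟨j, fun h => hz ⟨w, by subst h; exact hw⟩, w, hw⟩
      · rintro ⟨j, hj, w, rfl⟩ ⟨w', hw'⟩
        exact hj (congrArg Sigma.fst ((sigmaι_eq_iff (fun _ : I => P) i j w' w).1 hw')).symm
    refine IsClosed.preimage x.continuous ?_
    rw [← isOpen_compl_iff, this]
    exact isOpen_iUnion fun j => isOpen_iUnion fun _ => (Sigma.ι (fun _ : I => P) j).isOpenEmbedding.isOpen_range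
  · exact ((Sigma.ι (fun _ : I => P) i).isOpenEmbedding.isOpen_range).preimage x.continuous
  · intro R k hk
    rintro _ ⟨r, rfl⟩
    refine ⟨(k ≫ a) r, ?_⟩
    have e1 : k ≫ x = (k ≫ a) ≫ Sigma.ι (fun _ : I => P) i := by
      rw [← cancel_mono eL.inv]
      simp only [x, Category.assoc, eL.hom_inv_id, Category.comp_id]
      apply pullback.hom_ext
      · simp only [Category.assoc, pullback.lift_fst]
        rw [← reassoc_of% hk]
      · simp only [Category.assoc, pullback.lift_snd, he]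
        simp
    rw [← Scheme.Hom.comp_apply k x, e1]
    rfl
  · intro R k hk
    let y : R ⟶ P := IsOpenImmersion.lift (Sigma.ι (fun _ : I => P) i) (k ≫ x) (by
      rintro _ ⟨r, rfl⟩; exact hk ⟨r, rfl⟩)
    have hy : y ≫ Sigma.ι (fun _ : I => P) i = k ≫ x := IsOpenImmersion.lift_fac _ _ _
    have hya : y = k ≫ a := by
      have := congrArg (· ≫ (TwC.const P I).hom) hy
      simp only [Category.assoc, hx] at this
      rwa [show Sigma.ι (fun _ : I => P) i ≫ (TwC.const P I).hom = 𝟙 P from Sigma.ι_desc _ _, Category.comp_id] at this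
    have h2 : x ≫ eL.inv ≫ pullback.fst X.hom p = b ≫ m := by
      rw [Category.assoc, eL.hom_inv_id_assoc]
      exact pullback.lift_fst _ _ _
    show k ≫ a ≫ m = k ≫ b ≫ m
    rw [← h2, ← Category.assoc k a, ← hya]
    exact (reassoc_of% hy) _

/-- a union of clopen sets in a Noetherian space is closed -/
theorem isClosed_iUnion_clopen {W : Type u} [TopologicalSpace W] [TopologicalSpace.NoetherianSpace W]
    {I : Type u} (D : I → Set W) (hD : ∀ i, IsClopen (D i)) : IsClosed (⋃ i, D i) := by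
  have hfin : {C | C ∈ irreducibleComponents W ∧ C ⊆ ⋃ i, D i}.Finite :=
    (TopologicalSpace.NoetherianSpace.finite_irreducibleComponents (α := W)).subset fun C hC => hC.1
  have : (⋃ i, D i) = ⋃ C ∈ {C | C ∈ irreducibleComponents W ∧ C ⊆ ⋃ i, D i}, C := by
    refine Set.Subset.antisymm (fun w hw => ?_) (Set.iUnion₂_subset fun C hC => hC.2)
    obtain ⟨i, hi⟩ := Set.mem_iUnion.1 hw
    exact Set.mem_iUnion₂.2 ⟨irreducibleComponent w, ⟨irreducibleComponent_mem_irreducibleComponents w,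
      ((isIrreducible_irreducibleComponent (x := w)).isConnected.isPreconnected.subset_isClopen (hD i)
        ⟨w, mem_irreducibleComponent, hi⟩).trans (Set.subset_iUnion D i)⟩, mem_irreducibleComponent⟩
  rw [this]
  exact hfin.isClosed_biUnion fun C hC => isClosed_of_mem_irreducibleComponents C hC.1

theorem exists_etale_triv {S : Scheme.{u}} [IsLocallyNoetherian S] (X : Over S) {B : Scheme.{u}} (f : B ⟶ S)
    [Flat f] [LocallyOfFinitePresentation f] {I : Type u} (e : Red.bc f X ≅ TwC.const B I) (x : B) :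
    ∃ (U : Scheme.{u}) (g : U ⟶ S), Etale g ∧ f x ∈ Set.range g ∧ Nonempty (Red.bc g X ≅ TwC.const U I) := by
  obtain ⟨T, r, -, hTfl, hTfp, hTqf, t, ht⟩ := FlatMorSlice.exists_slice_scheme f x
  set p := r ≫ f
  obtain ⟨xb, hxb⟩ := exists_geomPt (X := T) t
  obtain ⟨V, g, vb, O, hg, hvb, hfin, z₀, hz₀, hz₀O, hz₀x, huniq⟩ := exists_piece p xb
  have hgu : g (pt vb) = f x := by rw [← pt_comp, hvb, pt_comp, hxb]; exact ht
  obtain ⟨V₁, hV₁, huV₁, -⟩ := exists_isAffineOpen_mem_and_subset (U := (⊤ : V.Opens)) (x := pt vb) trivial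
  let π₀ := O.ι ≫ pullback.snd p g
  haveI : Flat (pullback.snd p g) := MorphismProperty.pullback_snd (P := @Flat) _ _ hTfl
  haveI : LocallyOfFinitePresentation (pullback.snd p g) :=
    MorphismProperty.pullback_snd (P := @LocallyOfFinitePresentation) _ _ hTfp
  haveI hfin₁ : IsFinite (π₀ ∣_ V₁) := IsZariskiLocalAtTarget.restrict hfin V₁
  haveI : Flat (π₀ ∣_ V₁) := IsZariskiLocalAtTarget.restrict (P := @Flat) (inferInstanceAs (Flat π₀)) V₁
  haveI : LocallyOfFinitePresentation (π₀ ∣_ V₁) :=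
    IsZariskiLocalAtTarget.restrict (P := @LocallyOfFinitePresentation)
      (inferInstanceAs (LocallyOfFinitePresentation π₀)) V₁
  let P₁ : Scheme.{u} := π₀ ⁻¹ᵁ V₁
  let π₁ : P₁ ⟶ V₁ := π₀ ∣_ V₁
  let j₁ : P₁ ⟶ pullback p g := (π₀ ⁻¹ᵁ V₁).ι ≫ O.ι
  have hj₁ : j₁ ≫ pullback.snd p g = π₁ ≫ V₁.ι := by
    simp only [j₁, π₁, Category.assoc, morphismRestrict_ι]
    rfl
  haveI : IsAffine (V₁ : Scheme.{u}) := hV₁
  haveI : IsLocallyNoetherian V := LocallyOfFiniteType.isLocallyNoetherian g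
  haveI : IsLocallyNoetherian (V₁ : Scheme.{u}) := LocallyOfFiniteType.isLocallyNoetherian V₁.ι
  let Q := pullback π₁ π₁
  let a : Q ⟶ P₁ := pullback.fst π₁ π₁
  let b : Q ⟶ P₁ := pullback.snd π₁ π₁
  haveI hQfin : IsFinite (a ≫ π₁) :=
    MorphismProperty.comp_mem @IsFinite _ _ (MorphismProperty.pullback_fst (P := @IsFinite) _ _ hfin₁) hfin₁
  haveI : IsLocallyNoetherian Q := LocallyOfFiniteType.isLocallyNoetherian (a ≫ π₁)
  haveI : CompactSpace Q := (quasiCompact_iff_compactSpace (a ≫ π₁)).1 inferInstance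
  haveI : IsNoetherian Q := ⟨⟩
  let h : P₁ ⟶ B := j₁ ≫ pullback.fst p g ≫ r
  have hh : h ≫ f = π₁ ≫ V₁.ι ≫ g := by
    rw [← reassoc_of% hj₁, ← pullback.condition]
    simp [h, p]
  obtain ⟨e₁⟩ := exists_iso_bc X f e h (π₁ ≫ V₁.ι ≫ g) hh
  choose E hE hEdiag hEeq using fun i : I => exists_clopen X _ e₁ a b
    (by rw [← Category.assoc, pullback.condition, Category.assoc]) i
  have hDc : IsClosed (⋃ i, (E i)ᶜ) := isClosed_iUnion_clopen _ fun i => (hE i).compl
  -- the lifts of the geometric point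
  let u : (V₁ : Scheme.{u}) := ⟨pt vb, huV₁⟩
  have hvr : Set.range vb ⊆ Set.range V₁.ι := by
    rintro _ ⟨s, rfl⟩
    rw [eq_pt, Scheme.Opens.range_ι]; exact huV₁
  let vb₁ := IsOpenImmersion.lift V₁.ι vb hvr
  have hvb₁ : vb₁ ≫ V₁.ι = vb := IsOpenImmersion.lift_fac _ _ _
  have hvb₁u : pt vb₁ = u := V₁.ι.isOpenEmbedding.injective (by rw [← pt_comp, hvb₁]; rfl)
  have hP : ∀ z : Spec (CommRingCat.of (AlgebraicClosure (T.residueField t))) ⟶ P₁, z ≫ π₁ = vb₁ → z ≫ j₁ = z₀ := by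
    intro z hz
    refine huniq _ ?_ ?_
    · show (z ≫ j₁) ≫ pullback.snd p g = vb
      rw [Category.assoc, hj₁, reassoc_of% hz, hvb₁]
    · rw [pt_comp]
      exact ((π₀ ⁻¹ᵁ V₁).ι (pt z)).2
  obtain ⟨w, hw⟩ : ∃ w : Spec (CommRingCat.of (AlgebraicClosure (T.residueField t))) ⟶ P₁, w ≫ π₁ = vb₁ := by
    have hr : Set.range z₀ ⊆ Set.range j₁ := by
      rintro _ ⟨s, rfl⟩
      rw [eq_pt]
      have h1 : pullback.snd p g (pt z₀) ∈ V₁ := by rw [← pt_comp, hz₀]; exact huV₁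
      exact ⟨⟨⟨pt z₀, hz₀O⟩, h1⟩, rfl⟩
    refine ⟨IsOpenImmersion.lift j₁ z₀ hr, ?_⟩
    rw [← cancel_mono V₁.ι, Category.assoc, ← hj₁, ← Category.assoc, IsOpenImmersion.lift_fac, hvb₁]
    exact hz₀
  haveI : LocallyQuasiFinite (a ≫ π₁) := inferInstance
  haveI : Mono j₁ := inferInstance
  have honly : ∀ q : Q, (a ≫ π₁) q = u → q ∈ (⋃ i, (E i)ᶜ)ᶜ := by
    intro q hq
    obtain ⟨-, -, hpos⟩ := card_GP_at (a ≫ π₁) vb₁ q (hq.trans hvb₁u.symm)
    obtain ⟨⟨z, hz, hzq⟩⟩ := (Nat.card_pos_iff.1 hpos).1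
    have e1 : z ≫ a = z ≫ b := by
      rw [← cancel_mono j₁, hP _ (by rw [Category.assoc]; exact hz), hP _ (by
        rw [Category.assoc, ← pullback.condition]; exact hz)]
    simp only [Set.compl_iUnion, compl_compl, Set.mem_iInter]
    intro i
    rw [← hzq]
    exact hEdiag i z e1 ⟨_, rfl⟩
  have hZ : IsClosed ((a ≫ π₁) '' (⋃ i, (E i)ᶜ)) := (a ≫ π₁).isClosedMap _ hDc
  let O₂ : (V₁ : Scheme.{u}).Opens :=
    ⟨((a ≫ π₁) '' (⋃ i, (E i)ᶜ))ᶜ ∩ Set.range π₁, hZ.isOpen_compl.inter π₁.isOpenMap.isOpen_range⟩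
  have huO : u ∈ O₂ := ⟨fun ⟨q, hq, hqu⟩ => honly q hqu hq, pt w, by rw [← pt_comp, hw, hvb₁u]⟩
  haveI : Flat (π₁ ∣_ O₂) := IsZariskiLocalAtTarget.restrict (P := @Flat) ‹_› O₂
  haveI : LocallyOfFinitePresentation (π₁ ∣_ O₂) :=
    IsZariskiLocalAtTarget.restrict (P := @LocallyOfFinitePresentation) ‹_› O₂
  haveI : Surjective (π₁ ∣_ O₂) := ⟨fun y => by
    obtain ⟨z, hz⟩ := y.2.2
    refine ⟨⟨z, show π₁ z ∈ O₂ by rw [hz]; exact y.2⟩, O₂.ι.isOpenEmbedding.injective ?_⟩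
    rw [← Scheme.Hom.comp_apply, morphismRestrict_ι]
    exact hz⟩
  let ρ := π₁ ∣_ O₂
  let j₂ := (π₁ ⁻¹ᵁ O₂).ι
  let g₂ : (O₂ : Scheme.{u}) ⟶ S := O₂.ι ≫ V₁.ι ≫ g
  have hρ : ρ ≫ g₂ = j₂ ≫ π₁ ≫ V₁.ι ≫ g := by simp only [ρ, g₂, j₂, morphismRestrict_ι_assoc]
  let c : pullback ρ ρ ⟶ Q := pullback.map ρ ρ π₁ π₁ j₂ j₂ O₂.ι (morphismRestrict_ι _ _) (morphismRestrict_ι _ _)
  obtain ⟨e₂⟩ := exists_iso_bc X _ e₁ j₂ (ρ ≫ g₂) hρ.symm
  refine ⟨_, g₂, inferInstanceAs (Etale (O₂.ι ≫ V₁.ι ≫ g)), ⟨⟨u, huO⟩, hgu⟩, ?_⟩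
  -- the sections of `e₂` are those of `e₁`
  let e₂' : Red.bc (ρ ≫ g₂) X ≅ TwC.const (π₁ ⁻¹ᵁ O₂ : Scheme.{u}) I := by
    let k : pullback X.hom (ρ ≫ g₂) ⟶ pullback X.hom (π₁ ≫ V₁.ι ≫ g) :=
      pullback.lift (pullback.fst X.hom (ρ ≫ g₂)) (pullback.snd X.hom (ρ ≫ g₂) ≫ j₂) (by
        rw [Category.assoc, ← hρ, pullback.condition])
    let eL : pullback X.hom (π₁ ≫ V₁.ι ≫ g) ≅ (∐ fun _ : I => P₁) := (Over.forget P₁).mapIso e₁
    have he : eL.hom ≫ (TwC.const P₁ I).hom = pullback.snd X.hom (π₁ ≫ V₁.ι ≫ g) := Over.w e₁.hom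
    have sq1 : IsPullback k (pullback.snd X.hom (ρ ≫ g₂)) (pullback.snd X.hom (π₁ ≫ V₁.ι ≫ g)) j₂ := by
      refine IsPullback.of_right (?_ : IsPullback (k ≫ pullback.fst X.hom (π₁ ≫ V₁.ι ≫ g)) _ X.hom
          (j₂ ≫ π₁ ≫ V₁.ι ≫ g)) (pullback.lift_snd _ _ _) (IsPullback.of_hasPullback X.hom _)
      rw [pullback.lift_fst, ← hρ]
      exact IsPullback.of_hasPullback X.hom _
    have sq2 : IsPullback (k ≫ eL.hom) (pullback.snd X.hom (ρ ≫ g₂)) (TwC.const P₁ I).hom j₂ :=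
      sq1.of_iso (Iso.refl _) eL (Iso.refl _) (Iso.refl _) (by simp) (by simp)
      (by simp only [Iso.refl_hom, Category.comp_id]; exact he.symm) (by simp)
    exact Over.isoMk (sq2.isoIsPullback _ _ (isPullback_const j₂ I))
      (IsPullback.isoIsPullback_hom_snd _ _ sq2 (isPullback_const j₂ I))
  have hsec : ∀ i, Sigma.ι (fun _ : I => (π₁ ⁻¹ᵁ O₂ : Scheme.{u})) i ≫ e₂'.inv.left ≫ pullback.fst X.hom (ρ ≫ g₂) =
      j₂ ≫ Sigma.ι (fun _ : I => P₁) i ≫ e₁.inv.left ≫ pullback.fst X.hom (π₁ ≫ V₁.ι ≫ g) := by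
    intro i
    let eL : pullback X.hom (π₁ ≫ V₁.ι ≫ g) ≅ (∐ fun _ : I => P₁) := (Over.forget P₁).mapIso e₁
    let k : pullback X.hom (ρ ≫ g₂) ⟶ pullback X.hom (π₁ ≫ V₁.ι ≫ g) :=
      pullback.lift (pullback.fst X.hom (ρ ≫ g₂)) (pullback.snd X.hom (ρ ≫ g₂) ≫ j₂) (by
        rw [Category.assoc, ← hρ, pullback.condition])
    have h1 : e₂'.inv.left ≫ k ≫ eL.hom = Sigma.desc fun i : I => j₂ ≫ Sigma.ι (fun _ : I => P₁) i :=
      IsPullback.isoIsPullback_inv_fst _ _ _ _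
    have h2 : k ≫ pullback.fst X.hom (π₁ ≫ V₁.ι ≫ g) = pullback.fst X.hom (ρ ≫ g₂) := pullback.lift_fst _ _ _
    calc Sigma.ι (fun _ : I => (π₁ ⁻¹ᵁ O₂ : Scheme.{u})) i ≫ e₂'.inv.left ≫ pullback.fst X.hom (ρ ≫ g₂)
        = Sigma.ι (fun _ : I => (π₁ ⁻¹ᵁ O₂ : Scheme.{u})) i ≫ (e₂'.inv.left ≫ k ≫ eL.hom) ≫ eL.inv ≫
            pullback.fst X.hom (π₁ ≫ V₁.ι ≫ g) := by
          rw [← h2]; simp
      _ = _ := by rw [h1, Sigma.ι_desc_assoc, Category.assoc]; rfl
  refine exists_iso_of_equalized X g₂ ρ e₂' fun i => ?_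
  rw [hsec]
  have hc1 : c ≫ a = pullback.fst ρ ρ ≫ j₂ := pullback.lift_fst _ _ _
  have hc2 : c ≫ b = pullback.snd ρ ρ ≫ j₂ := pullback.lift_snd _ _ _
  rw [← reassoc_of% hc1, ← reassoc_of% hc2]
  refine hEeq i c ?_
  rintro _ ⟨q, rfl⟩
  by_contra hq
  have h3 : (a ≫ π₁) (c q) = O₂.ι ((pullback.fst ρ ρ ≫ ρ) q) := by
    rw [← Scheme.Hom.comp_apply, ← Scheme.Hom.comp_apply, reassoc_of% hc1]
    simp [ρ, j₂, morphismRestrict_ι]
  exact ((pullback.fst ρ ρ ≫ ρ) q).2.1 ⟨c q, Set.mem_iUnion.2 ⟨i, hq⟩, h3⟩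

end Groth.Agent.SGA3cLib.EtaleTriv
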