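import Groth.Agent.SGA3cLib.FpqcCov
import Groth.Prelude.Def_TwC

/-! # Open flat surjective morphisms are fpqc coverings; etale-local implies fpqc-local -/

set_option linter.style.haveILetI false
set_option autoImplicit false
universe u

open CategoryTheory CategoryTheory.Limits AlgebraicGeometry

namespace Groth.Agent.SGA3cLib.EtaleCover

theorem exists_compact {Z Y : Scheme.{u}} (q : Z ⟶ Y) [Surjective q] (hq : IsOpenMap q.base) (V : Y.Opens)
    (hV : IsAffineOpen V) : ∃ W : Z.Opens, IsCompact (W : Set Z) ∧ q.base '' (W : Set Z) = (V : Set Y) := by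
  have hA : ∀ z : {z : Z // q z ∈ V}, ∃ A : Z.Opens, IsAffineOpen A ∧ z.1 ∈ A ∧ A ≤ q ⁻¹ᵁ V :=
    fun z => exists_isAffineOpen_mem_and_subset (U := q ⁻¹ᵁ V) z.2
  choose A hA hmem hle using hA
  obtain ⟨t, ht⟩ := hV.isCompact.elim_finite_subcover (fun z => q.base '' (A z : Set Z))
    (fun z => hq _ (A z).isOpen) (fun y hy => by
      obtain ⟨z, rfl⟩ := q.surjective y
      exact Set.mem_iUnion.2 ⟨⟨z, hy⟩, z, hmem _, rfl⟩)
  refine ⟨⨆ z ∈ t, A z, ?_, Set.Subset.antisymm ?_ fun y hy => ?_⟩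
  · simp only [TopologicalSpace.Opens.coe_iSup]
    exact t.finite_toSet.isCompact_biUnion fun a _ => (hA a).isCompact
  · rintro _ ⟨w, hw, rfl⟩
    exact (iSup₂_le fun a _ => hle a : (⨆ z ∈ t, A z) ≤ q ⁻¹ᵁ V) hw
  · obtain ⟨z, hz, w, hw, hwy⟩ := Set.mem_iUnion₂.1 (ht hy)
    exact ⟨w, TopologicalSpace.Opens.mem_iSup.2 ⟨z, TopologicalSpace.Opens.mem_iSup.2 ⟨hz, hw⟩⟩, hwy⟩

theorem isFpqcCov {Z Y : Scheme.{u}} (q : Z ⟶ Y) [Flat q] [LocallyOfFinitePresentation q] [Surjective q] :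
    IsFpqcCov q :=
  IsFpqcCov.of_forall q fun V hV => exists_compact q q.isOpenMap V hV

/-- a covering family gives a covering morphism -/
theorem exists_sigma {S : Scheme.{u}} {J : Type u} (W : J → Scheme.{u}) (q : ∀ j, W j ⟶ S) [∀ j, Etale (q j)]
    (hcov : ∀ s : S, ∃ j w, q j w = s) :
    Etale (Sigma.desc q) ∧ Surjective (Sigma.desc q) ∧ IsFpqcCov (Sigma.desc q) := by
  haveI : Etale (Sigma.desc q) := IsZariskiLocalAtSource.sigmaDesc fun j => inferInstance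
  haveI : Surjective (Sigma.desc q) := ⟨fun s => by
    obtain ⟨j, w, hw⟩ := hcov s
    exact ⟨Sigma.ι W j w, by rw [← Scheme.Hom.comp_apply, Sigma.ι_desc]; exact hw⟩⟩
  exact ⟨inferInstance, inferInstance, isFpqcCov _⟩

/-- etale-local implies fpqc-local for a property stable under isomorphism over `S` -/
theorem fpqc_of_etale {S : Scheme.{u}} (P : ∀ (S' : Scheme.{u}), (S' ⟶ S) → Prop)
    (hP : ∀ {A B : Scheme.{u}} (e : A ⟶ B) [IsIso e] (f : A ⟶ S) (g : B ⟶ S), e ≫ g = f → P A f → P B g)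
    (h : TwC.Locally S TwC.Topology.etale P) : TwC.Locally S TwC.Topology.fpqc P := by
  choose W q hq hs hPq using h
  haveI : ∀ s, Etale (q s) := hq
  obtain ⟨he, hsur, -⟩ := exists_sigma W q fun s => by obtain ⟨w, hw⟩ := hs s; exact ⟨s, w, hw⟩
  refine ⟨∐ W, Sigma.desc q, inferInstance, hsur, fun V hV => exists_compact _ (Sigma.desc q).isOpenMap V hV,
    fun z => ?_⟩
  obtain ⟨j, w, hw⟩ := (sigmaOpenCover W).exists_eq z
  refine ⟨(Sigma.ι W j).opensRange, ⟨w, hw⟩, hP (Sigma.ι W j).isoOpensRange.hom (q j) _ ?_ (hPq j)⟩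
  rw [Scheme.Hom.isoOpensRange_hom_ι_assoc, Sigma.ι_desc]

end Groth.Agent.SGA3cLib.EtaleCover
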