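import Groth.Agent.SGA3cLib.FpqcCov
import Groth.Agent.Et18.Descent
import Groth.Agent.SGA1Quot.GeomTransitive
import Groth.Prelude.Def_TwC

/-! # Quasi-compact closed parts of twisted constant schemes are finite -/

set_option linter.style.haveILetI false
set_option autoImplicit false
set_option backward.isDefEq.respectTransparency.types false
universe u

open CategoryTheory CategoryTheory.Limits AlgebraicGeometry

namespace Groth.Agent.SGA3cLib.TwConstFinite

theorem isFinite_closed_const {U Z : Scheme.{u}} (I : Type u) (z : Z ⟶ (TwC.const U I).left) [IsClosedImmersion z]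
    [QuasiCompact (z ≫ (TwC.const U I).hom)] : IsFinite (z ≫ (TwC.const U I).hom) := by
  refine IsZariskiLocalAtTarget.of_forall_exists_morphismRestrict fun y => ?_
  obtain ⟨V, hV, hyV, -⟩ := exists_isAffineOpen_mem_and_subset (U := (⊤ : U.Opens)) (x := y) trivial
  refine ⟨V, hyV, ?_⟩
  set g := z ≫ (TwC.const U I).hom
  let W := g ⁻¹ᵁ V
  have hW : IsCompact (W : Set Z) := g.isCompact_preimage hV.isCompact
  obtain ⟨t, ht⟩ := (hW.image z.continuous).elim_finite_subcover
    (fun i : I => Set.range (Sigma.ι (fun _ : I => U) i))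
    (fun i => (Sigma.ι (fun _ : I => U) i).isOpenEmbedding.isOpen_range)
    (fun c _ => by
      obtain ⟨i, w, hw⟩ := (sigmaOpenCover (fun _ : I => U)).exists_eq c
      exact Set.mem_iUnion.2 ⟨i, w, hw⟩)
  let h : (∐ fun _ : (t : Finset I) => U) ⟶ (TwC.const U I).left :=
    Sigma.desc fun i => Sigma.ι (fun _ : I => U) i.1
  haveI : IsOpenImmersion h := isOpenImmersion_sigmaDesc _ _ fun (i j : (t : Finset I)) hij => by
    have := disjoint_opensRange_sigmaι (fun _ : I => U) i.1 j.1 fun e => hij (Subtype.ext e)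
    rw [← TopologicalSpace.Opens.coe_disjoint] at this
    exact this
  have hr : Set.range (W.ι ≫ z) ⊆ Set.range h := by
    rintro _ ⟨x, rfl⟩
    obtain ⟨i, hi, w, hw⟩ : ∃ i ∈ t, ∃ w, Sigma.ι (fun _ : I => U) i w = z (W.ι x) := by
      simpa using ht ⟨W.ι x, x.2, rfl⟩
    refine ⟨Sigma.ι (fun _ : (t : Finset I) => U) ⟨i, hi⟩ w, ?_⟩
    rw [← Scheme.Hom.comp_apply, Sigma.ι_desc]
    exact hw
  let l := IsOpenImmersion.lift h (W.ι ≫ z) hr
  have hl : l ≫ h = W.ι ≫ z := IsOpenImmersion.lift_fac _ _ _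
  haveI : IsFinite (h ≫ (TwC.const U I).hom) := by
    have : h ≫ (TwC.const U I).hom = Sigma.desc fun _ : (t : Finset I) => 𝟙 U := by
      apply Sigma.hom_ext
      intro i
      simp [h]
    rw [this]
    exact SGA1Quot.GeomTrans.isFinite_sigmaDesc _ fun _ => inferInstance
  -- over `V`
  let O := (TwC.const U I).hom ⁻¹ᵁ V
  haveI : IsClosedImmersion (z ∣_ O) := IsZariskiLocalAtTarget.restrict ‹_› O
  let hO := h ∣_ O
  have e₁ : ((g ∣_ V) : (W : Scheme.{u}) ⟶ V) = (z ∣_ O) ≫ ((TwC.const U I).hom ∣_ V) :=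
    morphismRestrict_comp _ _ _
  have hr' : Set.range (z ∣_ O) ⊆ Set.range hO := by
    rintro _ ⟨x, rfl⟩
    obtain ⟨a, ha⟩ := hr ⟨x, rfl⟩
    have hz : z (W.ι x) = O.ι ((z ∣_ O) x) := by
      rw [← Scheme.Hom.comp_apply (z ∣_ O) O.ι, morphismRestrict_ι]
      rfl
    rw [Scheme.Hom.comp_apply, hz] at ha
    have haO : a ∈ h ⁻¹ᵁ O := by
      show h a ∈ O
      rw [ha]
      exact ((z ∣_ O) x).2
    refine ⟨⟨a, haO⟩, O.ι.isOpenEmbedding.injective ?_⟩
    rw [← Scheme.Hom.comp_apply hO O.ι, morphismRestrict_ι]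
    exact ha
  haveI : IsOpenImmersion hO := IsZariskiLocalAtTarget.restrict ‹_› O
  let m := IsOpenImmersion.lift hO (z ∣_ O) hr'
  have hm : m ≫ hO = z ∣_ O := IsOpenImmersion.lift_fac _ _ _
  haveI : IsClosedImmersion m := by
    haveI : IsClosedImmersion (m ≫ hO) := hm ▸ ‹IsClosedImmersion (z ∣_ O)›
    exact IsClosedImmersion.of_comp m hO
  have hfin : IsFinite (hO ≫ ((TwC.const U I).hom ∣_ V)) := by
    rw [← morphismRestrict_comp]
    exact IsZariskiLocalAtTarget.restrict ‹_› V
  rw [e₁, ← hm, Category.assoc]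
  haveI hm2 : IsFinite m := IsFinite.iff_isProper_and_isAffineHom.2 ⟨inferInstance, inferInstance⟩
  exact MorphismProperty.comp_mem @IsFinite _ _ hm2 hfin

theorem isFinite_closed {S : Scheme.{u}} (R : Over S) (hR : TwC.IsTwConst TwC.Topology.fpqc R)
    {Z : Scheme.{u}} (z : Z ⟶ R.left) [IsClosedImmersion z] [QuasiCompact (z ≫ R.hom)] :
    IsFinite (z ≫ R.hom) := by
  obtain ⟨S', f, hf, -, hq, hloc⟩ := hR
  haveI := Et18.descends_isFinite.{u}
  refine (IsFpqcCov.of_forall f hq).descend @IsFinite (z ≫ R.hom) ?_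
  choose U hm I e using hloc
  rw [IsZariskiLocalAtTarget.iff_of_openCover (P := @IsFinite) (S'.openCoverOfIsOpenCover U
    (TopologicalSpace.IsOpenCover.mk (top_le_iff.1 fun y _ => TopologicalSpace.Opens.mem_iSup.2 ⟨y, hm y⟩)))]
  intro (x : S')
  change IsFinite (pullback.snd (pullback.snd (z ≫ R.hom) f) (U x).ι)
  rw [← pullbackLeftPullbackSndIso_hom_snd, MorphismProperty.cancel_left_of_respectsIso @IsFinite]
  let g := (U x).ι ≫ f
  have hpb : IsPullback (pullback.fst z (pullback.fst R.hom g))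
      (pullback.snd z (pullback.fst R.hom g) ≫ pullback.snd R.hom g) (z ≫ R.hom) g :=
    ((IsPullback.of_hasPullback z (pullback.fst R.hom g)).flip.paste_horiz
      (IsPullback.of_hasPullback R.hom g).flip).flip
  rw [← hpb.isoPullback_inv_snd, MorphismProperty.cancel_left_of_respectsIso @IsFinite]
  let i : Red.bc g R ≅ TwC.const (U x : Scheme.{u}) (I x) := (e x).some
  haveI : IsIso i.hom.left := inferInstanceAs (IsIso ((Over.forget _).map i.hom))
  let z' := pullback.snd z (pullback.fst R.hom g) ≫ i.hom.left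
  haveI : IsClosedImmersion z' := MorphismProperty.comp_mem @IsClosedImmersion _ _
    (MorphismProperty.pullback_snd _ _ ‹_›) inferInstance
  have e1 : pullback.snd z (pullback.fst R.hom g) ≫ pullback.snd R.hom g = z' ≫ (TwC.const (U x : Scheme.{u}) (I x)).hom := by
    simp only [z', Category.assoc, Over.w i.hom]
    rfl
  haveI : QuasiCompact (z' ≫ (TwC.const (U x : Scheme.{u}) (I x)).hom) := by
    rw [← e1]
    exact MorphismProperty.of_isPullback (P := @QuasiCompact) hpb ‹_›
  rw [e1]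
  exact isFinite_closed_const (I x) z'

end Groth.Agent.SGA3cLib.TwConstFinite
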