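import Groth.Agent.SGA3cLib.EtaleTriv
import Groth.Agent.SGA3cLib.EtaleCover
import Groth.Agent.FlatMorWeight.UnibranchOpen
import Groth.Agent.AlgSpLib.Diag
import Groth.Agent.S5267
import Mathlib.AlgebraicGeometry.Morphisms.LocalFlatDescent

/-! # Twisted constant schemes over geometrically unibranch bases -/

set_option linter.style.haveILetI false
set_option autoImplicit false
set_option backward.isDefEq.respectTransparency.types false
universe u

open CategoryTheory CategoryTheory.Limits AlgebraicGeometry TopologicalSpace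
open Groth.Agent.FlatMorWeight

noncomputable section

namespace Groth.Agent.SGA3cLib.UnibranchTwConst

theorem etale_of_twConst {S : Scheme.{u}} (P : Over S) (hP : TwC.IsTwConst TwC.Topology.etale P) :
    Etale P.hom := by
  choose W q hq hs I e using hP
  haveI : ∀ s, Etale (q s) := hq
  obtain ⟨he, hsur, -⟩ := EtaleCover.exists_sigma W q fun s => by obtain ⟨w, hw⟩ := hs s; exact ⟨s, w, hw⟩
  have h : Etale (pullback.fst (Sigma.desc q) P.hom) := by
    rw [← pullbackSymmetry_hom_comp_snd, MorphismProperty.cancel_left_of_respectsIso @Etale]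
    refine (IsZariskiLocalAtTarget.iff_of_openCover (P := @Etale) (sigmaOpenCover W)).2 fun (s : S) => ?_
    show Etale (pullback.snd (pullback.snd P.hom (Sigma.desc q)) (Sigma.ι W s))
    rw [← pullbackLeftPullbackSndIso_hom_snd, MorphismProperty.cancel_left_of_respectsIso @Etale]
    suffices ∀ g : W s ⟶ S, g = q s → Etale (pullback.snd P.hom g) from this _ (Sigma.ι_desc q s)
    rintro _ rfl
    obtain ⟨i⟩ := e s
    have hi : i.hom.left ≫ (TwC.const (W s) (I s)).hom = pullback.snd P.hom (q s) := Over.w i.hom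
    rw [← hi]
    haveI : IsIso i.hom.left := inferInstanceAs (IsIso ((Over.forget _).map i.hom))
    haveI : Etale (TwC.const (W s) (I s)).hom := IsZariskiLocalAtSource.sigmaDesc fun _ => inferInstance
    exact MorphismProperty.comp_mem @Etale _ _ inferInstance ‹_›
  exact MorphismProperty.of_pullback_fst_of_descendsAlong (P := @Etale)
    (Q := @Surjective ⊓ @Flat ⊓ @LocallyOfFinitePresentation) ⟨⟨hsur, inferInstance⟩, inferInstance⟩ h

/-- Over a geometrically unibranch locally Noetherian base, a connected component of an etale scheme is the closure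
of a maximal point. -/
theorem exists_component {S X : Scheme.{u}} [IsLocallyNoetherian S] (f : X ⟶ S) [Etale f]
    (hS : ∀ s : S, CAlg2.IsGeomUnibranch (S.presheaf.stalk s)) (x : X) :
    IsOpen (connectedComponent x) ∧ ∃ ζ : X, IsMaximalPt ζ ∧ ∀ w, w ∈ connectedComponent x → ζ ⤳ w := by
  haveI : IsLocallyNoetherian X := LocallyOfFiniteType.isLocallyNoetherian f
  have uniq : ∀ {v a b : X}, a ⤳ v → b ⤳ v → IsMaximalPt a → IsMaximalPt b → a = b := fun h₁ h₂ m₁ m₂ =>
    eq_of_specializes_of_etale f (hS _) h₁ h₂ (m₁.map_flat f) (m₂.map_flat f)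
  have hmax : ∀ v : X, ∃ η, η ⤳ v ∧ IsMaximalPt η := fun v => by
    obtain ⟨η, hη, C, hC, hg⟩ := exists_isMaximalPt_specializes v
    exact ⟨η, hη, isMaximalPt_of_isGenericPoint hC hg⟩
  obtain ⟨ζ, hζx, hζ⟩ := hmax x
  have hopen : IsOpen (closure ({ζ} : Set X)) := by
    rw [isOpen_iff_forall_mem_open]
    intro y hy
    obtain ⟨V, hV, hyV, -⟩ := exists_isAffineOpen_mem_and_subset (x := y) (U := (⊤ : X.Opens)) trivial
    haveI : IsAffine V.toScheme := hV
    haveI : IsNoetherian V.toScheme := ⟨⟩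
    let bad : Set (Set V.toScheme) := {C ∈ irreducibleComponents V.toScheme | (⟨y, hyV⟩ : V.toScheme) ∉ C}
    have hfin : bad.Finite := NoetherianSpace.finite_irreducibleComponents.subset fun C hC => hC.1
    refine ⟨V.ι '' (⋃ C ∈ bad, C)ᶜ, ?_, V.ι.isOpenMap _ (hfin.isClosed_biUnion fun C hC =>
      isClosed_of_mem_irreducibleComponents C hC.1).isOpen_compl, ⟨⟨y, hyV⟩, ?_, rfl⟩⟩
    · rintro _ ⟨w, hw, rfl⟩
      obtain ⟨η, hη, C, hC, hgen⟩ := exists_isMaximalPt_specializes w
      have hyC : (⟨y, hyV⟩ : V.toScheme) ∈ C := by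
        by_contra h
        exact hw (Set.mem_biUnion (x := C) ⟨hC, h⟩ (hgen.specializes_iff_mem.1 hη))
      have hm : IsMaximalPt (V.ι η) := (isMaximalPt_of_isGenericPoint hC hgen).map_flat V.ι
      have e : V.ι η = ζ := uniq ((hgen.specializes hyC).map V.ι.continuous)
        (specializes_iff_mem_closure.2 hy) hm hζ
      exact specializes_iff_mem_closure.1 (e ▸ hη.map V.ι.continuous)
    · simp only [Set.mem_compl_iff, Set.mem_iUnion, not_exists]
      exact fun C hC hz => hC.2 hz
  have hcc : connectedComponent x = closure ({ζ} : Set X) :=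
    (IsClopen.connectedComponent_subset ⟨isClosed_closure, hopen⟩ (specializes_iff_mem_closure.1 hζx)).antisymm
      ((isIrreducible_singleton.closure).isConnected.isPreconnected.subset_connectedComponent
        (specializes_iff_mem_closure.1 hζx))
  exact ⟨hcc ▸ hopen, ζ, hζ, fun w hw => specializes_iff_mem_closure.2 (hcc ▸ hw)⟩

theorem exists_finite_component {S : Scheme.{u}} [IsLocallyNoetherian S]
    (hS : ∀ s : S, CAlg2.IsGeomUnibranch (S.presheaf.stalk s))
    (P : Over S) (hP : TwC.IsTwConst TwC.Topology.etale P) (x : P.left) :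
    ∃ U : P.left.Opens, (U : Set P.left) = connectedComponent x ∧ IsFinite (U.ι ≫ P.hom) := by
  haveI := etale_of_twConst P hP
  haveI := AlgSpLib.locallyQuasiFinite_of_etale P.hom
  obtain ⟨hopen, ζ, -, hζ⟩ := exists_component P.hom hS x
  let U : P.left.Opens := ⟨connectedComponent x, hopen⟩
  refine ⟨U, rfl, ?_⟩
  obtain ⟨hopen₀, -⟩ := exists_component (𝟙 S) hS (P.hom x)
  let S₀ : S.Opens := ⟨connectedComponent (P.hom x), hopen₀⟩
  haveI : ConnectedSpace (S₀ : Scheme.{u}) := isConnected_iff_connectedSpace.1 isConnected_connectedComponent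
  haveI : IsClosedImmersion S₀.ι :=
    .of_isPreimmersion _ (by rw [Scheme.Opens.range_ι]; exact isClosed_connectedComponent)
  haveI : IsLocallyNoetherian (S₀ : Scheme.{u}) := LocallyOfFiniteType.isLocallyNoetherian S₀.ι
  let P₀ := Red.bc S₀.ι P
  have hP₀ : TwC.IsTwConst TwC.Topology.etale P₀ := by
    intro s
    obtain ⟨W, q, hq, ⟨w, hw⟩, I, ⟨e⟩⟩ := hP s.1
    obtain ⟨t, -, ht⟩ := Scheme.Pullback.exists_preimage_pullback (f := q) (g := S₀.ι) w s hw
    obtain ⟨e'⟩ := EtaleTriv.exists_iso_bc P q e (pullback.fst q S₀.ι) (pullback.snd q S₀.ι ≫ S₀.ι)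
      pullback.condition
    exact ⟨_, pullback.snd q S₀.ι, MorphismProperty.pullback_snd (P := @Etale) _ _ hq, ⟨t, ht⟩, I,
      ⟨((Over.pullbackComp (pullback.snd q S₀.ι) S₀.ι).app P).symm ≪≫ e'⟩⟩
  have hU₀ : ∀ a : U, P.hom (U.ι a) ∈ S₀ := fun a =>
    (isPreconnected_connectedComponent.image P.hom P.hom.continuous.continuousOn).subset_connectedComponent
      ⟨x, mem_connectedComponent, rfl⟩ ⟨a.1, a.2, rfl⟩
  let l : (U : Scheme.{u}) ⟶ S₀ := IsOpenImmersion.lift S₀.ι (U.ι ≫ P.hom) (by
    rw [Scheme.Opens.range_ι]; rintro _ ⟨a, rfl⟩; exact hU₀ a)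
  have hl : l ≫ S₀.ι = U.ι ≫ P.hom := IsOpenImmersion.lift_fac _ _ _
  let z : (U : Scheme.{u}) ⟶ P₀.left := pullback.lift U.ι l hl.symm
  have hz : z ≫ pullback.fst P.hom S₀.ι = U.ι := pullback.lift_fst _ _ _
  haveI : IsClosedImmersion U.ι :=
    .of_isPreimmersion _ (by rw [Scheme.Opens.range_ι]; exact isClosed_connectedComponent)
  haveI : IsClosedImmersion z := by
    haveI : IsClosedImmersion (z ≫ pullback.fst P.hom S₀.ι) := hz ▸ ‹IsClosedImmersion U.ι›
    exact IsClosedImmersion.of_comp z (pullback.fst P.hom S₀.ι)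
  haveI : IsOpenImmersion z := by
    haveI : IsOpenImmersion (z ≫ pullback.fst P.hom S₀.ι) := hz ▸ (inferInstance : IsOpenImmersion U.ι)
    exact IsOpenImmersion.of_comp z (pullback.fst P.hom S₀.ι)
  have hzl : z ≫ P₀.hom = l := pullback.lift_snd _ _ _
  have hfib : ∃ s : (S₀ : Scheme.{u}), Set.Finite ((z ≫ P₀.hom).base ⁻¹' {s}) := by
    rw [hzl]
    let a₀ : (U : Scheme.{u}) := ⟨ζ, (hζ x mem_connectedComponent).mem_open U.2 mem_connectedComponent⟩
    refine ⟨l a₀, (Set.finite_singleton a₀).subset fun a ha => ?_⟩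
    have h1 : P.hom (U.ι a) = P.hom ζ := by
      have := congrArg S₀.ι (show l a = l a₀ from ha)
      rwa [← Scheme.Hom.comp_apply, ← Scheme.Hom.comp_apply, hl] at this
    have hsp : ζ ⤳ U.ι a := hζ _ a.2
    have hd := P.hom.isDiscrete_preimage_singleton (P.hom ζ)
    haveI := hd.to_subtype
    have : (⟨ζ, rfl⟩ : P.hom ⁻¹' {P.hom ζ}) = ⟨U.ι a, h1⟩ :=
      Specializes.eq (Topology.IsInducing.subtypeVal.specializes_iff.1 hsp)
    exact Subtype.ext (congrArg Subtype.val this).symm
  have hfin := S5267.result P₀ hP₀ z hfib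
  rw [hzl] at hfin
  rw [← hl]
  exact MorphismProperty.comp_mem @IsFinite _ _ hfin
    (IsFinite.iff_isProper_and_isAffineHom.2 ⟨inferInstance, inferInstance⟩)

end Groth.Agent.SGA3cLib.UnibranchTwConst
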