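import Groth.Agent.SGA3cLib.Components
import Mathlib.AlgebraicGeometry.Noetherian
import Mathlib.AlgebraicGeometry.Morphisms.FiniteType

/-!
# Maximal points of locally noetherian schemes; connected homogeneous spaces are irreducible
-/

set_option autoImplicit false
set_option backward.isDefEq.respectTransparency.types false

universe u

open CategoryTheory Limits AlgebraicGeometry MonoidalCategory CartesianMonoidalCategory MonObj GrpObj

namespace Groth.Agent.SGA3cLib

open Groth.Agent.VarietyLib (mem_genericPoints_iff exists_genericPoints_specializes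
  eq_of_specializes_genericPoints generalizing_genericPoints)

/-- Every point has an open neighbourhood containing only finitely many maximal points. -/
theorem exists_nhd_finite_genericPoints (F : Scheme.{u}) [IsLocallyNoetherian F] (v : F) :
    ∃ V : F.Opens, v ∈ V ∧ {w : F | w ∈ genericPoints F ∧ w ∈ V}.Finite := by
  obtain ⟨V, hV, hvV, -⟩ := exists_isAffineOpen_mem_and_subset (U := (⊤ : F.Opens)) (x := v) trivial
  refine ⟨V, hvV, ?_⟩
  haveI : IsNoetherianRing Γ(F, V) := IsLocallyNoetherian.component_noetherian ⟨V, hV⟩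
  haveI : TopologicalSpace.NoetherianSpace ↥V := noetherianSpace_of_isAffineOpen V hV
  haveI : QuasiSober ↥V := V.isOpenEmbedding'.quasiSober
  haveI : Finite ↥(irreducibleComponents ↥V) :=
    TopologicalSpace.NoetherianSpace.finite_irreducibleComponents.to_subtype
  haveI : Finite ↥(genericPoints ↥V) := Finite.of_equiv _ genericPoints.equiv.symm
  refine ((Set.toFinite (genericPoints ↥V)).image Subtype.val).subset ?_
  rintro w ⟨hw, hwV⟩
  exact ⟨⟨w, hwV⟩, mem_genericPoints_iff.mpr fun y hy =>
    Subtype.ext (eq_of_specializes_genericPoints hw (hy.map continuous_subtype_val)), rfl⟩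

/-- A dense open of a locally noetherian scheme contains every maximal point. -/
theorem mem_of_mem_closure_of_isOpen (F : Scheme.{u}) [IsLocallyNoetherian F] {U : Set F} (hU : IsOpen U)
    {y : F} (hy : y ∈ genericPoints F) (hy' : y ∈ closure U) : y ∈ U := by
  obtain ⟨V, hyV, hfin⟩ := exists_nhd_finite_genericPoints F y
  let Z : Set F := ⋃ w ∈ {w : F | w ∈ genericPoints F ∧ w ∈ V} \ {y}, closure {w}
  have hZ : IsClosed Z := Set.Finite.isClosed_biUnion (hfin.subset Set.sdiff_subset) fun _ _ => isClosed_closure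
  have hyZ : y ∉ Z := by
    simp only [Z, Set.mem_iUnion, not_exists]
    rintro w ⟨-, hwy⟩ hw
    exact hwy (eq_of_specializes_genericPoints hy (specializes_iff_mem_closure.2 hw))
  obtain ⟨v, ⟨hvV, hvZ⟩, hvU⟩ := mem_closure_iff.mp hy' (V ∩ Zᶜ) (V.isOpen.inter hZ.isOpen_compl) ⟨hyV, hyZ⟩
  obtain ⟨w, hw, hwv⟩ := exists_genericPoints_specializes v
  have hwy : w = y := by
    by_contra hne
    exact hvZ (Set.mem_biUnion ⟨⟨hw, hwv.mem_open V.isOpen hvV⟩, hne⟩ (specializes_iff_mem_closure.1 hwv))
  exact hwy ▸ hwv.mem_open hU hvU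

/-- A connected locally noetherian space with a single component through each point has a single
maximal point. -/
theorem eq_of_genericPoints_of_connected (F : Scheme.{u}) [IsLocallyNoetherian F] [PreconnectedSpace F]
    (huniq : ∀ {z η₁ η₂ : F}, η₁ ∈ genericPoints F → η₂ ∈ genericPoints F → η₁ ⤳ z → η₂ ⤳ z → η₁ = η₂)
    {η₁ η₂ : F} (h₁ : η₁ ∈ genericPoints F) (h₂ : η₂ ∈ genericPoints F) : η₁ = η₂ := by
  let C : Set F := closure {η₁}
  have hC : IsOpen C := by
    rw [isOpen_iff_forall_mem_open]
    intro v hv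
    obtain ⟨V, hvV, hfin⟩ := exists_nhd_finite_genericPoints F v
    let Z : Set F := ⋃ w ∈ {w : F | w ∈ genericPoints F ∧ w ∈ V} \ {η₁}, closure {w}
    have hZ : IsClosed Z := Set.Finite.isClosed_biUnion (hfin.subset Set.sdiff_subset) fun _ _ => isClosed_closure
    refine ⟨V ∩ Zᶜ, ?_, V.isOpen.inter hZ.isOpen_compl, hvV, ?_⟩
    · rintro x ⟨hxV, hxZ⟩
      obtain ⟨w, hw, hwx⟩ := exists_genericPoints_specializes x
      have : w = η₁ := by
        by_contra hne
        exact hxZ (Set.mem_biUnion ⟨⟨hw, hwx.mem_open V.isOpen hxV⟩, hne⟩ (specializes_iff_mem_closure.1 hwx))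
      exact specializes_iff_mem_closure.1 (this ▸ hwx)
    · simp only [Z, Set.mem_compl_iff, Set.mem_iUnion, not_exists]
      rintro w ⟨hw, hne⟩ hwv
      exact hne (huniq hw.1 h₁ (specializes_iff_mem_closure.2 hwv) (specializes_iff_mem_closure.2 hv))
  have huniv : C = Set.univ := IsClopen.eq_univ ⟨isClosed_closure, hC⟩ ⟨η₁, subset_closure rfl⟩
  have h3 : η₂ ∈ C := by rw [huniv]; trivial
  exact (eq_of_specializes_genericPoints h₂ (specializes_iff_mem_closure.2 h3))

end Groth.Agent.SGA3cLib
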