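import Groth.Agent.SGA3cLib.DiagPoints
import Groth.Agent.SGA3cLib.FpqcEpi
import Mathlib.AlgebraicGeometry.AffineScheme
import Mathlib.RingTheory.Nilpotent.Basic

/-!
# Rigidity of actions of diagonalisable groups under nilpotent thickenings

An action of a diagonalisable group which is trivial modulo a nilpotent ideal is trivial:
for a graded algebra, the pieces of nonzero degree vanish as soon as they vanish modulo a nilpotent
ideal of the base.
-/

set_option linter.style.haveILetI false
set_option autoImplicit false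

universe u

open CategoryTheory CategoryTheory.Limits MonoidalCategory CartesianMonoidalCategory MonObj AlgebraicGeometry

noncomputable section

namespace Groth.Agent.SGA3cLib.MultTriv

/-! ### Algebra -/

section Algebra

variable {R B : Type u} [CommRing R] [CommRing B] [Algebra R B] {M : Type} [CommGroup M]

/-- One step: the deviation of a coaction from the trivial one improves from `J` to `J * J`. -/
theorem coeff_step [DecidableEq M] (φ : B →ₐ[R] MonoidAlgebra B M)
    (hφ : ∀ m n b, (φ ((φ b).coeff n)).coeff m = if m = n then (φ b).coeff n else 0)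
    (J : Ideal R) (hJ : ∀ b m, (φ b).coeff m - (if m = 1 then b else 0) ∈ J.map (algebraMap R B)) :
    ∀ b m, (φ b).coeff m - (if m = 1 then b else 0) ∈ (J * J).map (algebraMap R B) := by
  let d : M → B → B := fun m b => (φ b).coeff m - (if m = 1 then b else 0)
  have hd0 : ∀ m, d m 0 = 0 := fun m => by simp [d]
  have hdadd : ∀ m x y, d m (x + y) = d m x + d m y := fun m x y => by
    simp only [d, map_add, MonoidAlgebra.coeff_add, Finsupp.add_apply]
    split_ifs <;> ring
  have hdsub : ∀ m x y, d m (x - y) = d m x - d m y := fun m x y =>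
    eq_sub_of_add_eq (by rw [← hdadd, sub_add_cancel])
  have hdsmul : ∀ m (r : R) y, d m (r • y) = r • d m y := fun m r y => by
    simp only [d, map_smul, MonoidAlgebra.coeff_smul, Finsupp.smul_apply, smul_sub]
    split_ifs <;> simp
  -- values of `d` at elements of `J B` lie in `J² B`
  have hmem : ∀ x ∈ J.map (algebraMap R B), ∀ m, d m x ∈ (J * J).map (algebraMap R B) := by
    intro x hx m
    have hx' : x ∈ J • (⊤ : Submodule R B) := by
      rw [Ideal.smul_top_eq_map]; exact hx
    refine Submodule.smul_induction_on hx' (fun r hr y _ => ?_) (fun x y hx hy => ?_)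
    · rw [hdsmul, Algebra.smul_def, Ideal.map_mul]
      exact Ideal.mul_mem_mul (Ideal.mem_map_of_mem _ hr) (hJ y m)
    · rw [hdadd]; exact Ideal.add_mem _ hx hy
  intro b n
  have key : ∀ m, d m ((φ b).coeff n) =
      d m (d n b) + (if n = 1 then d m b else 0) := fun m => by
    rw [show d m (d n b) = d m ((φ b).coeff n) - d m (if n = 1 then b else 0) from hdsub m _ _]
    split_ifs with h
    · ring
    · rw [hd0]; ring
  have hn := key n
  simp only [d] at hn ⊢
  rw [hφ, if_pos rfl] at hn
  have h2 := hmem _ (hJ b n) n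
  simp only [d] at h2
  by_cases h : n = 1
  · subst h
    simp only [if_true] at hn ⊢
    simp only [if_true] at h2
    have : (φ b).coeff 1 - b = -((φ ((φ b).coeff 1 - b)).coeff 1 - ((φ b).coeff 1 - b)) := by
      linear_combination hn.symm
    rw [this]
    exact neg_mem h2
  · simp only [if_neg h, sub_zero, add_zero] at hn ⊢
    simp only [if_neg h, sub_zero] at h2
    rw [hn]
    exact h2

/-- A coaction trivial modulo a nilpotent ideal of the base is trivial. -/
theorem coeff_eq [DecidableEq M] (φ : B →ₐ[R] MonoidAlgebra B M)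
    (hφ : ∀ m n b, (φ ((φ b).coeff n)).coeff m = if m = n then (φ b).coeff n else 0)
    (J : Ideal R) (hnil : IsNilpotent J)
    (hJ : ∀ b m, (φ b).coeff m - (if m = 1 then b else 0) ∈ J.map (algebraMap R B)) (b : B) :
    φ b = MonoidAlgebra.single 1 b := by
  obtain ⟨k, hk⟩ := hnil
  have hall : ∀ i, ∀ b m, (φ b).coeff m - (if m = 1 then b else 0) ∈ (J ^ (2 ^ i)).map (algebraMap R B) := by
    intro i
    induction i with
    | zero => simpa using hJ
    | succ i ih =>
      intro b m
      rw [pow_succ 2, mul_two, pow_add]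
      exact coeff_step φ hφ (J ^ 2 ^ i) ih b m
  refine MonoidAlgebra.ext (Finsupp.ext fun m => sub_eq_zero.mp ?_)
  have hz : J ^ (2 ^ k) = ⊥ := by
    rw [eq_bot_iff]
    exact (Ideal.pow_le_pow_right Nat.lt_two_pow_self.le).trans (le_of_eq (by rw [hk]; rfl))
  have h := hall k b m
  rw [hz, Ideal.map_bot, Ideal.mem_bot] at h
  rw [MonoidAlgebra.coeff_single, Finsupp.single_apply]
  simpa [eq_comm] using h

end Algebra

/-! ### Geometry -/

variable {S : Scheme.{u}} {R : Type u} [CommRing R] (s : Spec (CommRingCat.of R) ⟶ S)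

/-- An affine scheme over `R`, over `S`. -/
abbrev Q (A : Type u) [CommRing A] [Algebra R A] : Over S :=
  Over.mk (Spec.map (CommRingCat.ofHom (algebraMap R A)) ≫ s)

variable {A A' A'' : Type u} [CommRing A] [Algebra R A] [CommRing A'] [Algebra R A'] [CommRing A''] [Algebra R A'']

/-- The map over `S` of an algebra map. -/
def q (v : A →ₐ[R] A') : Q s A' ⟶ Q s A :=
  Over.homMk (Spec.map (CommRingCat.ofHom v.toRingHom)) (by
    show Spec.map _ ≫ Spec.map _ ≫ s = Spec.map _ ≫ s
    rw [← Category.assoc, ← Spec.map_comp, ← CommRingCat.ofHom_comp, AlgHom.toRingHom_eq_coe, v.comp_algebraMap])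

@[simp] theorem q_left (v : A →ₐ[R] A') : (q s v).left = Spec.map (CommRingCat.ofHom v.toRingHom) := rfl

theorem q_comp (v : A →ₐ[R] A') (w : A' →ₐ[R] A'') : q s w ≫ q s v = q s (w.comp v) := by
  ext1
  exact (Spec.map_comp _ _).symm

variable {s}

theorem exists_affine_coaction {G X : Over S} [GrpObj G] (a : AlgGrp.Action G X) {T : Over S}
    (g h : T ⟶ G) (x : T ⟶ X) : lift (g * h) x ≫ a.act = lift g (lift h x ≫ a.act) ≫ a.act := by
  have h' := congrArg (lift (lift g h) x ≫ ·) a.mul_act
  simp only [← Category.assoc] at h'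
  rw [Hom.mul_def]
  simpa using h'

/-- The key local statement. -/
theorem lift_act_eq {G X : Over S} [GrpObj G] (a : AlgGrp.Action G X) (J : Ideal R) (hnil : IsNilpotent J)
    (htriv : ∀ (A : Type u) [CommRing A] [Algebra R A], J ≤ RingHom.ker (algebraMap R A) →
      ∀ (g : Q s A ⟶ G) (x : Q s A ⟶ X), lift g x ≫ a.act = x)
    {M : Type} [CommGroup M]
    (pt : ∀ (A : Type u) [CommRing A] [Algebra R A], (M →* A) → (Q s A ⟶ G))
    (pt_mul : ∀ (A : Type u) [CommRing A] [Algebra R A] (χ ψ : M →* A), pt A (χ * ψ) = pt A χ * pt A ψ)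
    (pt_nat : ∀ (A A' : Type u) [CommRing A] [Algebra R A] [CommRing A'] [Algebra R A'] (v : A →ₐ[R] A') (χ : M →* A),
      q s v ≫ pt A χ = pt A' ((v : A →* A').comp χ))
    {A : Type u} [CommRing A] [Algebra R A] (χ : M →* A) (x : Q s A ⟶ X)
    {W : (pullback X.hom s).Opens} (hW : IsAffineOpen W) (l : Spec (CommRingCat.of A) ⟶ pullback X.hom s)
    (hl₁ : l ≫ pullback.fst X.hom s = x.left) (hl₂ : l ≫ pullback.snd X.hom s = Spec.map (CommRingCat.ofHom (algebraMap R A)))
    (hlW : Set.range l.base ⊆ (W : Set ↥(pullback X.hom s))) :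
    lift (pt A χ) x ≫ a.act = x := by
  classical
  let B : CommRingCat.{u} := Γ(pullback X.hom s, W)
  letI : Algebra R B := (Spec.preimage (hW.fromSpec ≫ pullback.snd X.hom s)).hom.toAlgebra
  have hB : Spec.map (CommRingCat.ofHom (algebraMap R B)) = hW.fromSpec ≫ pullback.snd X.hom s :=
    Spec.map_preimage _
  let j : Q s B ⟶ X := Over.homMk (hW.fromSpec ≫ pullback.fst X.hom s) (by
    show (hW.fromSpec ≫ pullback.fst X.hom s) ≫ X.hom = Spec.map _ ≫ s
    rw [hB, Category.assoc, Category.assoc, pullback.condition])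
  -- lifts to the base change and comparison in the chart
  have hlift : ∀ (A : Type u) [CommRing A] [Algebra R A] (v : B →ₐ[R] A),
      Spec.map (CommRingCat.ofHom v.toRingHom) ≫ hW.fromSpec ≫ pullback.snd X.hom s =
        Spec.map (CommRingCat.ofHom (algebraMap R A)) := fun A _ _ v => by
    rw [← hB, ← Spec.map_comp, ← CommRingCat.ofHom_comp, AlgHom.toRingHom_eq_coe, v.comp_algebraMap]
  have inj : ∀ (A : Type u) [CommRing A] [Algebra R A] (v w : B →ₐ[R] A), q s v ≫ j = q s w ≫ j → v = w := by
    intro A _ _ v w h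
    have h' : Spec.map (CommRingCat.ofHom v.toRingHom) ≫ hW.fromSpec = Spec.map (CommRingCat.ofHom w.toRingHom) ≫ hW.fromSpec := by
      refine pullback.hom_ext ?_ ?_
      · simp only [Category.assoc]
        exact congrArg CommaMorphism.left h
      · simp only [Category.assoc, hlift]
    rw [cancel_mono] at h'
    exact AlgHom.coe_ringHom_injective (congrArg CommRingCat.Hom.hom (Spec.map_injective h'))
  have exists_chart : ∀ (A : Type u) [CommRing A] [Algebra R A] (y : Q s A ⟶ X)
      (l : Spec (CommRingCat.of A) ⟶ pullback X.hom s), l ≫ pullback.fst X.hom s = y.left →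
      l ≫ pullback.snd X.hom s = Spec.map (CommRingCat.ofHom (algebraMap R A)) →
      Set.range l.base ⊆ (W : Set ↥(pullback X.hom s)) → ∃ v : B →ₐ[R] A, q s v ≫ j = y := by
    intro A _ _ y l h₁ h₂ h₃
    obtain ⟨v, hv⟩ := Spec.map_surjective (IsOpenImmersion.lift hW.fromSpec l (by rw [hW.range_fromSpec]; exact h₃))
    have hv' : Spec.map v ≫ hW.fromSpec = l := by rw [hv]; exact IsOpenImmersion.lift_fac _ _ _
    have hcomm : CommRingCat.ofHom (algebraMap R B) ≫ v = CommRingCat.ofHom (algebraMap R A) := by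
      apply Spec.map_injective
      rw [Spec.map_comp, hB, ← Category.assoc, hv', h₂]
    refine ⟨⟨v.hom, fun r => congr($hcomm r)⟩, ?_⟩
    ext1
    show Spec.map v ≫ hW.fromSpec ≫ pullback.fst X.hom s = y.left
    rw [← Category.assoc, hv', h₁]
  let incl : B →ₐ[R] (MonoidAlgebra B M) := IsScalarTower.toAlgHom R B (MonoidAlgebra B M)
  let γ : Q s (MonoidAlgebra B M) ⟶ X := lift (pt (MonoidAlgebra B M) (MonoidAlgebra.of B M)) (q s incl ≫ j) ≫ a.act
  -- modulo `J`
  let K : Ideal B := J.map (algebraMap R B)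
  let π : (MonoidAlgebra B M) →ₐ[R] MonoidAlgebra (B ⧸ K) M := MonoidAlgebra.mapAlgHom M (IsScalarTower.toAlgHom R B (B ⧸ K))
  have hπker : J ≤ RingHom.ker (algebraMap R (MonoidAlgebra (B ⧸ K) M)) := fun r hr => by
    rw [RingHom.mem_ker, IsScalarTower.algebraMap_apply R (B ⧸ K) (MonoidAlgebra (B ⧸ K) M),
      IsScalarTower.algebraMap_apply R B (B ⧸ K),
      show algebraMap B (B ⧸ K) (algebraMap R B r) = 0 from Ideal.Quotient.eq_zero_iff_mem.mpr (Ideal.mem_map_of_mem _ hr),
      map_zero]
  have hγπ : q s π ≫ γ = q s π ≫ q s incl ≫ j := by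
    show q s π ≫ lift _ _ ≫ a.act = _
    rw [← Category.assoc, comp_lift]
    exact htriv _ hπker _ _
  let lγ : Spec (CommRingCat.of (MonoidAlgebra B M)) ⟶ pullback X.hom s :=
    pullback.lift γ.left (Spec.map (CommRingCat.ofHom (algebraMap R (MonoidAlgebra B M)))) (Over.w γ)
  have hlγ : Spec.map (CommRingCat.ofHom π.toRingHom) ≫ lγ =
      Spec.map (CommRingCat.ofHom π.toRingHom) ≫ Spec.map (CommRingCat.ofHom incl.toRingHom) ≫ hW.fromSpec := by
    refine pullback.hom_ext ?_ ?_
    · simp only [lγ, Category.assoc, pullback.lift_fst]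
      exact congrArg CommaMorphism.left hγπ
    · simp only [lγ, Category.assoc, pullback.lift_snd, hlift]
  have hrange : Set.range lγ.base ⊆ (W : Set ↥(pullback X.hom s)) := by
    rintro _ ⟨(p : PrimeSpectrum (MonoidAlgebra B M)), rfl⟩
    have hp : p ∈ Set.range (PrimeSpectrum.comap π.toRingHom) := by
      have hsurj : Function.Surjective π.toRingHom := fun y => by
        induction y using MonoidAlgebra.induction_linear with
        | zero => exact ⟨0, map_zero _⟩
        | add x y hx hy =>
          obtain ⟨a, ha⟩ := hx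
          obtain ⟨b, hb⟩ := hy
          exact ⟨a + b, by rw [map_add, ha, hb]⟩
        | single m r =>
          obtain ⟨r, rfl⟩ := Ideal.Quotient.mk_surjective r
          exact ⟨MonoidAlgebra.single m r, by simp [π]⟩
      rw [range_comap_of_surjective _ _ hsurj]
      intro z (hz : π z = 0)
      refine nilpotent_iff_mem_prime.mp ?_ _ p.2
      rw [← MonoidAlgebra.sum_coeff_single z]
      refine isNilpotent_sum fun m _ => ?_
      have hm : z.coeff m ∈ K := by
        have := congrArg (fun y => y.coeff m) hz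
        simpa [π, Ideal.Quotient.eq_zero_iff_mem] using this
      obtain ⟨k, hk⟩ := hnil
      refine ⟨k + 1, ?_⟩
      have : z.coeff m ^ k ∈ K ^ k := Ideal.pow_mem_pow hm k
      rw [← Ideal.map_pow, hk, Ideal.zero_eq_bot, Ideal.map_bot, Ideal.mem_bot] at this
      rw [MonoidAlgebra.single_pow, pow_succ (z.coeff m), this, zero_mul, MonoidAlgebra.single_zero]
    obtain ⟨p', rfl⟩ := hp
    change (Spec.map (CommRingCat.ofHom π.toRingHom) ≫ lγ).base p' ∈ _
    rw [hlγ, ← Category.assoc, Scheme.Hom.comp_apply, ← hW.range_fromSpec]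
    exact ⟨_, rfl⟩
  obtain ⟨φ, hφ⟩ := exists_chart (MonoidAlgebra B M) γ lγ (pullback.lift_fst _ _ _) (pullback.lift_snd _ _ _) hrange
  have hφπ : π.comp φ = π.comp incl := inj _ _ _ (by
    rw [← q_comp, ← q_comp, Category.assoc, Category.assoc, hφ, hγπ])
  -- associativity
  let c : (MonoidAlgebra B M) →ₐ[R] (MonoidAlgebra (MonoidAlgebra B M) M) := IsScalarTower.toAlgHom R (MonoidAlgebra B M) (MonoidAlgebra (MonoidAlgebra B M) M)
  let u₁ : (MonoidAlgebra B M) →ₐ[R] (MonoidAlgebra (MonoidAlgebra B M) M) := MonoidAlgebra.mapAlgHom M φ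
  let u₂ : (MonoidAlgebra B M) →ₐ[R] (MonoidAlgebra (MonoidAlgebra B M) M) := MonoidAlgebra.liftNCAlgHom (c.comp incl)
    ((MonoidAlgebra.of (MonoidAlgebra B M) M) * ((c : (MonoidAlgebra B M) →* (MonoidAlgebra (MonoidAlgebra B M) M)).comp (MonoidAlgebra.of B M))) (fun _ _ => Commute.all _ _)
  have hu₁i : u₁.comp incl = c.comp φ := AlgHom.ext fun b => by simp [u₁, c, incl, MonoidAlgebra.coe_algebraMap]
  have hu₂i : u₂.comp incl = c.comp incl := AlgHom.ext fun b => by
    simp [u₂, c, incl, MonoidAlgebra.coe_algebraMap, MonoidAlgebra.liftNCAlgHom, MonoidAlgebra.liftNCRingHom,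
      ← MonoidAlgebra.one_def]
  have hu₁o : (u₁ : (MonoidAlgebra B M) →* (MonoidAlgebra (MonoidAlgebra B M) M)).comp (MonoidAlgebra.of B M) = MonoidAlgebra.of (MonoidAlgebra B M) M := MonoidHom.ext fun m => by
    simp [u₁]
  have hu₂o : (u₂ : (MonoidAlgebra B M) →* (MonoidAlgebra (MonoidAlgebra B M) M)).comp (MonoidAlgebra.of B M) =
      MonoidAlgebra.of (MonoidAlgebra B M) M * (c : (MonoidAlgebra B M) →* (MonoidAlgebra (MonoidAlgebra B M) M)).comp (MonoidAlgebra.of B M) := MonoidHom.ext fun m => by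
    simp [u₂, MonoidAlgebra.liftNCAlgHom, MonoidAlgebra.liftNCRingHom]
  have hassoc : u₁.comp φ = u₂.comp φ := by
    refine inj _ _ _ ?_
    rw [← q_comp, ← q_comp, Category.assoc, Category.assoc, hφ]
    show q s u₁ ≫ lift _ _ ≫ a.act = q s u₂ ≫ lift _ _ ≫ a.act
    rw [← Category.assoc, ← Category.assoc, comp_lift, comp_lift, ← Category.assoc, ← Category.assoc, q_comp,
      q_comp, hu₁i, hu₂i, pt_nat, pt_nat, hu₁o, hu₂o, pt_mul, exists_affine_coaction, ← pt_nat (MonoidAlgebra B M) (MonoidAlgebra (MonoidAlgebra B M) M) c,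
      ← q_comp, Category.assoc, hφ, ← q_comp, Category.assoc]
    show lift _ (q s c ≫ lift _ _ ≫ a.act) ≫ a.act = _
    rw [← Category.assoc (q s c), comp_lift]
  have hcoact : ∀ m n b, (φ ((φ b).coeff n)).coeff m = if m = n then (φ b).coeff n else 0 := by
    intro m n b
    have h := congrArg (fun y => (y.coeff n).coeff m) (AlgHom.congr_fun hassoc b)
    simp only [AlgHom.comp_apply] at h
    have h1 : ((u₁ (φ b)).coeff n).coeff m = (φ ((φ b).coeff n)).coeff m := by simp [u₁]
    rw [← h1, h]
    generalize φ b = z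
    induction z using MonoidAlgebra.induction_linear with
    | zero => simp
    | add x y hx hy =>
      simp only [map_add, MonoidAlgebra.coeff_add, Finsupp.add_apply, hx, hy]
      split_ifs <;> simp
    | single p r =>
      simp only [u₂, c, incl, MonoidAlgebra.liftNCAlgHom, MonoidAlgebra.liftNCRingHom]
      simp [MonoidAlgebra.coe_algebraMap, MonoidAlgebra.single_mul_single, MonoidAlgebra.coeff_single,
        Finsupp.single_apply]
      split_ifs <;> simp_all
  have hmod : ∀ b m, (φ b).coeff m - (if m = 1 then b else 0) ∈ K := by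
    intro b m
    have h := congrArg (fun y => y.coeff m) (AlgHom.congr_fun hφπ b)
    simp only [AlgHom.comp_apply, π, incl, IsScalarTower.coe_toAlgHom', MonoidAlgebra.coe_algebraMap] at h
    rw [← Ideal.Quotient.eq_zero_iff_mem, map_sub, sub_eq_zero]
    simpa [Finsupp.single_apply, eq_comm, apply_ite] using h
  have hmain : φ = incl := AlgHom.ext fun b => by
    rw [coeff_eq φ hcoact J hnil hmod b]
    simp [incl, MonoidAlgebra.coe_algebraMap]
  -- specialise
  obtain ⟨ψ, hψ⟩ := exists_chart A x l hl₁ hl₂ hlW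
  let v : (MonoidAlgebra B M) →ₐ[R] A := MonoidAlgebra.liftNCAlgHom ψ χ (fun _ _ => Commute.all _ _)
  have hvi : v.comp incl = ψ := AlgHom.ext fun b => by
    simp [v, incl, MonoidAlgebra.coe_algebraMap, MonoidAlgebra.liftNCAlgHom, MonoidAlgebra.liftNCRingHom]
  have hvo : (v : (MonoidAlgebra B M) →* A).comp (MonoidAlgebra.of B M) = χ := MonoidHom.ext fun m => by
    simp [v, MonoidAlgebra.liftNCAlgHom, MonoidAlgebra.liftNCRingHom]
  have h := congrArg (q s v ≫ ·) hφ
  simp only [γ] at h
  rw [hmain, ← Category.assoc, q_comp, hvi, hψ, ← Category.assoc, comp_lift, ← Category.assoc, q_comp, hvi, hψ,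
    pt_nat, hvo] at h
  exact h.symm

end Groth.Agent.SGA3cLib.MultTriv
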