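import Groth.Agent.SGA3cLib.MultFibTriv
import Groth.Agent.S5279

/-! An action of a group of multiplicative type which is trivial on all fibres is trivial. -/

set_option linter.style.haveILetI false
set_option autoImplicit false

universe u

open CategoryTheory MonoidalCategory CartesianMonoidalCategory MonObj AlgebraicGeometry

noncomputable section

namespace Groth.Agent.SGA3cLib.MultFibTriv

open MultTriv

theorem action_trivial {S : Scheme.{u}} (G X : Over S) [GrpObj G]
    (hG : TwC.Locally S TwC.Topology.fpqc (fun S' f => ∃ (M : Type) (_ : AddCommGroup M), Nonempty (Grp.mk (Red.bc f G) ≅ Grp.mk (Red.DS S' M))))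
    [LocallyOfFiniteType X.hom] (a : AlgGrp.Action G X)
    (h0 : ∀ (K : Type u) [Field K] (ω : Spec (CommRingCat.of K) ⟶ S) (Y : Over S) (_ : Y ⟶ Over.mk ω)
      (g : Y ⟶ G) (x : Y ⟶ X), lift g x ≫ a.act = x) :
    ∀ (Y : Over S) (g : Y ⟶ G) (x : Y ⟶ X), lift g x ≫ a.act = x := by
  intro Y g x
  obtain ⟨S', f, hfl, hsu, hq, hU⟩ := hG
  haveI := (IsFpqcCov.of_forall f hq).pullback_snd Y.hom
  haveI hepi : Epi (Limits.pullback.fst Y.hom f) := by
    rw [← Limits.pullbackSymmetry_hom_comp_snd]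
    haveI := IsFpqcCov.epi this
    infer_instance
  apply Over.OverMorphism.ext
  rw [← cancel_epi (Limits.pullback.fst Y.hom f)]
  let Y' := Limits.pullback Y.hom f
  have hloc : ∀ y : Y', ∃ O : Y'.Opens, y ∈ O ∧
      O.ι ≫ Limits.pullback.fst Y.hom f ≫ (lift g x ≫ a.act).left = O.ι ≫ Limits.pullback.fst Y.hom f ≫ x.left := by
    intro y
    obtain ⟨U, hyU, M, _, ⟨e⟩⟩ := hU ((Limits.pullback.snd Y.hom f).base y)
    obtain ⟨P, hP, hyP, hPle⟩ := TopologicalSpace.Opens.isBasis_iff_nbhd.mp S'.isBasis_affineOpens hyU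
    let R : CommRingCat.{u} := Γ(S', P)
    let t : Spec R ⟶ U := IsOpenImmersion.lift U.ι hP.fromSpec (by
      rw [hP.range_fromSpec, Scheme.Opens.range_ι]
      exact fun _ h => hPle h)
    have ht : t ≫ U.ι = hP.fromSpec := IsOpenImmersion.lift_fac _ _ _
    let s : Spec R ⟶ S := t ≫ U.ι ≫ f
    have hs : s = hP.fromSpec ≫ f := by simp only [s, ← Category.assoc, ht]
    have htriv : ∀ (A : Type u) [CommRing A] [Algebra R A] (K : Type u) [Field K] (κ : R →+* K) (ρ : K →+* A),
        ρ.comp κ = algebraMap R A → ∀ (g : Q s A ⟶ G) (x : Q s A ⟶ X), lift g x ≫ a.act = x := by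
      intro A _ _ K _ κ ρ hρ g x
      refine h0 K (Spec.map (CommRingCat.ofHom κ) ≫ s) _ (Over.homMk (Spec.map (CommRingCat.ofHom ρ)) ?_) g x
      show Spec.map _ ≫ Spec.map _ ≫ s = Spec.map _ ≫ s
      rw [← Spec.map_comp_assoc, ← CommRingCat.ofHom_comp, hρ]
    obtain ⟨pt, pmul, pnat, psurj⟩ := S5279.exists_points (U.ι ≫ f) G M e t
    -- an affine chart of the source
    let O : Y'.Opens := Limits.pullback.snd Y.hom f ⁻¹ᵁ P
    let k₀ : (O : Scheme.{u}) ⟶ Spec R := IsOpenImmersion.lift hP.fromSpec (O.ι ≫ Limits.pullback.snd Y.hom f) (by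
      rw [hP.range_fromSpec]
      rintro _ ⟨w, rfl⟩
      exact w.2)
    have hk₀ : k₀ ≫ hP.fromSpec = O.ι ≫ Limits.pullback.snd Y.hom f := IsOpenImmersion.lift_fac _ _ _
    let lO : (O : Scheme.{u}) ⟶ Limits.pullback X.hom s :=
      Limits.pullback.lift (O.ι ≫ Limits.pullback.fst Y.hom f ≫ x.left) k₀ (by
        rw [hs, ← Category.assoc k₀, hk₀, Category.assoc, Category.assoc, Category.assoc, Over.w,
          Limits.pullback.condition])
    obtain ⟨W, hW, hyW, -⟩ := TopologicalSpace.Opens.isBasis_iff_nbhd.mp (Limits.pullback X.hom s).isBasis_affineOpens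
      (TopologicalSpace.Opens.mem_top (lO.base ⟨y, hyP⟩))
    obtain ⟨Z, hZ, hyZ, hZle⟩ := TopologicalSpace.Opens.isBasis_iff_nbhd.mp Y'.isBasis_affineOpens
      (show y ∈ O.ι ''ᵁ (lO ⁻¹ᵁ W) from ⟨⟨y, hyP⟩, hyW, rfl⟩)
    have hZO : Z ≤ Limits.pullback.snd Y.hom f ⁻¹ᵁ P := fun z hz => by
      obtain ⟨w, -, rfl⟩ := hZle hz
      exact w.2
    let A : CommRingCat.{u} := Γ(Y', Z)
    letI : Algebra R A := ((Limits.pullback.snd Y.hom f).appLE P Z hZO).hom.toAlgebra
    have hA : Spec.map (CommRingCat.ofHom (algebraMap R A)) ≫ hP.fromSpec =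
        hZ.fromSpec ≫ Limits.pullback.snd Y.hom f := hP.SpecMap_appLE_fromSpec _ hZ hZO
    let k : Spec A ⟶ O := IsOpenImmersion.lift O.ι hZ.fromSpec (by
      rw [hZ.range_fromSpec, Scheme.Opens.range_ι]
      exact hZO)
    have hk : k ≫ O.ι = hZ.fromSpec := IsOpenImmersion.lift_fac _ _ _
    let p : Q s A ⟶ Y := Over.homMk (hZ.fromSpec ≫ Limits.pullback.fst Y.hom f) (by
      show (_ ≫ _) ≫ Y.hom = Spec.map _ ≫ s
      rw [hs, ← Category.assoc (Spec.map _), hA, Category.assoc, Category.assoc, Limits.pullback.condition])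
    obtain ⟨χ, hχ⟩ := psurj A (p ≫ g)
    have main := lift_act_eq a htriv pt pmul pnat χ (p ≫ x) hW (k ≫ lO) (by
        simp only [lO, Category.assoc, Limits.pullback.lift_fst]
        rw [reassoc_of% hk]
        rfl) (by
        simp only [lO, Category.assoc, Limits.pullback.lift_snd]
        rw [← cancel_mono hP.fromSpec, hA, Category.assoc, hk₀, reassoc_of% hk]) (by
        rintro _ ⟨w, rfl⟩
        have hw : hZ.fromSpec.base w ∈ (Z : Set Y') := by rw [← hZ.range_fromSpec]; exact ⟨w, rfl⟩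
        obtain ⟨v, hv, hv'⟩ := hZle hw
        have : v = k.base w := O.ι.isOpenEmbedding.injective (hv'.trans congr($(hk).base w).symm)
        subst this
        exact hv)
    rw [hχ] at main
    rw [← comp_lift, Category.assoc] at main
    refine ⟨Z, hyZ, ?_⟩
    have := congrArg CommaMorphism.left main
    simp only [Over.comp_left, p, Over.homMk_left, Category.assoc] at this
    rw [← cancel_epi hZ.isoSpec.inv, ← Category.assoc, ← Category.assoc, hZ.isoSpec_inv_ι]
    simpa [Over.comp_left] using this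
  choose O hyO hO using hloc
  have hc : TopologicalSpace.IsOpenCover O :=
    TopologicalSpace.IsOpenCover.mk (eq_top_iff.2 fun y _ => TopologicalSpace.Opens.mem_iSup.2 ⟨y, hyO y⟩)
  exact Scheme.Cover.hom_ext (Y'.openCoverOfIsOpenCover O hc) _ _ hO


end Groth.Agent.SGA3cLib.MultFibTriv
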