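import Groth.Agent.SGA3xLib.SepFibre

/-!
# A group scheme whose unit section is a closed immersion is separated
-/

universe u

open CategoryTheory Limits AlgebraicGeometry MonoidalCategory CartesianMonoidalCategory MonObj GrpObj

namespace Groth.Agent.SGA3cLib

theorem isSeparated_of_isClosedImmersion_unit {S : Scheme.{u}} (G : Over S) [GrpObj G]
    (hη : IsClosedImmersion η[G].left) : IsSeparated G.hom := by
  let δ : G ⊗ G ⟶ G := fst G G * (snd G G)⁻¹
  let Δ : G ⟶ G ⊗ G := lift (𝟙 G) (𝟙 G)
  have hw : Δ ≫ δ = toUnit G ≫ η[G] := by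
    simp only [δ, Δ, MonObj.comp_mul, GrpObj.comp_inv, lift_fst, lift_snd, mul_inv_cancel]
    exact Hom.one_def
  have hp : IsPullback Δ (toUnit G) δ η[G] := by
    refine ⟨⟨hw⟩, ⟨PullbackCone.IsLimit.mk hw (fun c => c.fst ≫ fst G G) (fun c => ?_) (fun c => toUnit_unique _ _)
      (fun c m h1 _ => ?_)⟩⟩
    · have h : c.fst ≫ δ = 1 := by
        exact c.condition.trans ((congrArg (· ≫ η[G]) (toUnit_unique c.snd (toUnit c.pt))).trans Hom.one_def.symm)
      simp only [δ, MonObj.comp_mul, GrpObj.comp_inv, mul_inv_eq_one] at h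
      apply CartesianMonoidalCategory.hom_ext
      · simp [Δ]
      · simp [Δ, h]
    · rw [← h1]; simp [Δ]
  have hp' : IsPullback Δ.left (toUnit G).left δ.left η[G].left := hp.map (Over.forget _)
  have hΔ : IsClosedImmersion Δ.left := MorphismProperty.of_isPullback hp'.flip hη
  refine ⟨?_⟩
  have hd : Δ.left = pullback.diagonal G.hom := by
    apply pullback.hom_ext
    · rw [pullback.diagonal_fst]; exact congrArg (fun t : G ⟶ G => t.left) (lift_fst (𝟙 G) (𝟙 G))
    · rw [pullback.diagonal_snd]; exact congrArg (fun t : G ⟶ G => t.left) (lift_snd (𝟙 G) (𝟙 G))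
  exact hd ▸ hΔ

/-- A section is closed in the fibre over each point. -/
theorem isClosed_singleton_of_section_fibre {S X : Scheme.{u}} (q : X ⟶ S) (e : S ⟶ X) (he : e ≫ q = 𝟙 S)
    (s : S) (hs : IsClosed ({s} : Set S)) : IsClosed ({e.base s} : Set X) := by
  let x₀ : Spec (CommRingCat.of (S.residueField s)) ⟶ q.fiber s :=
    pullback.lift (S.fromSpecResidueField s ≫ e) (𝟙 _)
      (by rw [Category.assoc, he, Category.comp_id, Category.id_comp])
  have h1 := SGA3xLib.range_isClosed_of_section (q.fiberToSpecResidueField s) x₀ (pullback.lift_snd _ _ _)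
  have h2 : IsClosed (Set.range (q.fiberι s).base) := by
    rw [Scheme.Hom.range_fiberι]; exact hs.preimage q.continuous
  have h3 := (Topology.IsClosedEmbedding.mk (q.fiberι s).isEmbedding h2).isClosedMap _ h1
  convert h3
  rw [← Set.range_comp]
  have hpts : ∀ a, (q.fiberι s).base (x₀.base a) = e.base s := by
    intro a
    change (x₀ ≫ pullback.fst q (S.fromSpecResidueField s)).base a = _
    erw [pullback.lift_fst]
    change e.base ((S.fromSpecResidueField s).base a) = _
    rw [show (S.fromSpecResidueField s).base a = s from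
      (S.range_fromSpecResidueField s).le ⟨a, rfl⟩]
  ext y
  simp only [Set.mem_singleton_iff, Set.mem_range, Function.comp_apply]
  exact ⟨fun h => ⟨Classical.arbitrary _, (hpts _).trans h.symm⟩, fun ⟨a, h⟩ => h.symm.trans (hpts a)⟩

/-- A group scheme over a discrete base is separated. -/
theorem isSeparated_of_discrete {S : Scheme.{u}} [DiscreteTopology S] (G : Over S) [GrpObj G] :
    IsSeparated G.hom := by
  refine isSeparated_of_isClosedImmersion_unit G ?_
  let e : S ⟶ G.left := η[G].left
  have he : e ≫ G.hom = 𝟙 S := Over.w η[G]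
  change IsClosedImmersion e
  have : IsImmersion (e ≫ G.hom) := by rw [he]; infer_instance
  have : IsImmersion e := IsImmersion.of_comp e G.hom
  refine IsClosedImmersion.of_isPreimmersion e ?_
  rw [← isOpen_compl_iff, isOpen_iff_forall_mem_open]
  intro y hy
  refine ⟨G.hom.base ⁻¹' {G.hom.base y} ∩ ({e.base (G.hom.base y)} : Set G.left)ᶜ, ?_,
    ((isOpen_discrete _).preimage G.hom.continuous).inter
      (isClosed_singleton_of_section_fibre G.hom e he _ (isClosed_discrete _)).isOpen_compl, rfl, ?_⟩
  · rintro z ⟨hz1, hz2⟩ ⟨t, rfl⟩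
    apply hz2
    change e.base t = e.base (G.hom.base y)
    rw [← (hz1 : G.hom.base (e.base t) = G.hom.base y)]
    congr 1
    change t = (e ≫ G.hom).base t
    rw [he]; rfl
  · exact fun h => hy ⟨_, (h : y = _).symm⟩

end Groth.Agent.SGA3cLib
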