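import Mathlib.AlgebraicGeometry.Morphisms.Immersion
import Mathlib.AlgebraicGeometry.Morphisms.FiniteType
import Mathlib.AlgebraicGeometry.Morphisms.ClosedImmersion
import Mathlib.RingTheory.Artinian.Module

/-!
# Lifting properties of morphisms along a nilpotent thickening of the base
-/

set_option autoImplicit false
set_option backward.isDefEq.respectTransparency.types false

universe u

open CategoryTheory Limits AlgebraicGeometry

namespace Groth.Agent.SGA3cLib

/-- Nilpotent Nakayama for ring homomorphisms: surjectivity modulo a nilpotent ideal of the base suffices. -/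
theorem surjective_of_nilpotent {A R L : Type*} [CommRing A] [CommRing R] [CommRing L] (g : R →+* L) (α : A →+* R)
    {m : Ideal A} (hm : IsNilpotent m) (h : ∀ z : L, ∃ r, z - g r ∈ m.map (g.comp α)) : Function.Surjective g := by
  set I := m.map (g.comp α) with hI
  have step : ∀ n : ℕ, ∀ z ∈ I ^ n, ∃ r, z - g r ∈ I ^ (n + 1) := by
    intro n z hz
    rw [hI, ← Ideal.map_pow] at hz
    induction hz using Submodule.span_induction with
    | mem x hx =>
      obtain ⟨a, ha, rfl⟩ := hx
      exact ⟨α a, by simp⟩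
    | zero => exact ⟨0, by simp⟩
    | add x y _ _ hx hy =>
      obtain ⟨r, hr⟩ := hx; obtain ⟨s, hs⟩ := hy
      exact ⟨r + s, by convert (I ^ (n + 1)).add_mem hr hs using 1; rw [map_add]; ring⟩
    | smul c x hx' hx =>
      obtain ⟨r, hr⟩ := hx
      obtain ⟨s, hs⟩ := h c
      refine ⟨s * r, ?_⟩
      have hxn : x ∈ I ^ n := by rw [hI, ← Ideal.map_pow]; exact hx'
      have : c • x - g (s * r) = g s * (x - g r) + (c - g s) * x := by
        rw [smul_eq_mul, map_mul]; ring
      rw [this]
      exact (I ^ (n + 1)).add_mem (Ideal.mul_mem_left _ _ hr) (by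
        rw [pow_succ']; exact Ideal.mul_mem_mul hs hxn)
  have all : ∀ n : ℕ, ∀ z, ∃ r, z - g r ∈ I ^ n := by
    intro n
    induction n with
    | zero => exact fun z => ⟨0, by simp⟩
    | succ n ih =>
      intro z
      obtain ⟨r, hr⟩ := ih z
      obtain ⟨s, hs⟩ := step n _ hr
      exact ⟨r + s, by rw [map_add, ← sub_sub]; exact hs⟩
  obtain ⟨N, hN⟩ := hm
  intro z
  obtain ⟨r, hr⟩ := all N z
  refine ⟨r, ?_⟩
  have hbot : I ^ N = ⊥ := by rw [hI, ← Ideal.map_pow, hN, Ideal.zero_eq_bot, Ideal.map_bot]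
  rw [hbot, Ideal.mem_bot, sub_eq_zero] at hr
  exact hr.symm

/-- Surjectivity on stalks can be checked modulo a nilpotent ideal of the base. -/
theorem surjectiveOnStalks_of_nilpotent {A C B : Type*} [CommRing A] [CommRing C] [CommRing B] (φ : C →+* B)
    (ψ : A →+* C) {m : Ideal A} (hm : IsNilpotent m)
    (h : ((Ideal.Quotient.mk (m.map (φ.comp ψ))).comp φ).SurjectiveOnStalks) : φ.SurjectiveOnStalks := by
  intro P hP
  set L := Localization.AtPrime P
  set g := Localization.localRingHom (P.comap φ) P φ rfl with hg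
  refine surjective_of_nilpotent g ((algebraMap C (Localization.AtPrime (P.comap φ))).comp ψ) hm ?_
  set I := m.map (g.comp ((algebraMap C (Localization.AtPrime (P.comap φ))).comp ψ)) with hI
  set J := m.map (φ.comp ψ) with hJ
  have hIJ : I = J.map (algebraMap B L) := by
    rw [hI, hJ, Ideal.map_map]
    congr 1
    ext a
    simp [g, L, Localization.localRingHom_to_map]
  obtain ⟨N, hN⟩ := hm
  have hJP : J ≤ P := by
    rw [hJ, Ideal.map_le_iff_le_comap]
    intro a ha
    refine hP.mem_of_pow_mem N ?_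
    rw [← map_pow]
    have : a ^ N = 0 := by
      have := Ideal.pow_mem_pow ha N
      rw [hN] at this
      exact this
    rw [this, map_zero]; exact P.zero_mem
  let mk := Ideal.Quotient.mk J
  haveI : (P.map mk).IsPrime := Ideal.map_isPrime_of_surjective Ideal.Quotient.mk_surjective (by rw [Ideal.mk_ker]; exact hJP)
  have hmem : ∀ b, mk b ∈ P.map mk → b ∈ P := fun b hb => by
    have : b ∈ (P.map mk).comap mk := hb
    rwa [Ideal.comap_map_of_surjective mk Ideal.Quotient.mk_surjective, ← RingHom.ker_eq_comap_bot, Ideal.mk_ker,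
      sup_of_le_left hJP] at this
  have hB : ∀ b : B, ∃ r, algebraMap B L b - g r ∈ I := by
    intro b
    obtain ⟨x, s, c, hc, hs, e⟩ := (RingHom.surjectiveOnStalks_iff_forall_ideal.1 h) (P.map mk)
      (Ideal.IsPrime.ne_top inferInstance) (mk b)
    obtain ⟨c, rfl⟩ := Ideal.Quotient.mk_surjective c
    simp only [RingHom.comp_apply] at hs e
    change mk c * mk (φ s) * mk b = mk c * mk (φ x) at e
    rw [← map_mul, ← map_mul, ← map_mul, Ideal.Quotient.eq] at e
    have hs' : s ∈ (P.comap φ).primeCompl := fun hh => hs (Ideal.mem_map_of_mem mk hh)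
    have hc' : c ∈ P.primeCompl := fun hh => hc (Ideal.mem_map_of_mem mk hh)
    refine ⟨IsLocalization.mk' _ x ⟨s, hs'⟩, ?_⟩
    have hu : IsUnit (algebraMap B L (c * φ s)) :=
      IsLocalization.map_units (M := P.primeCompl) L ⟨_, P.primeCompl.mul_mem hc' hs'⟩
    rw [← Ideal.unit_mul_mem_iff_mem I hu, hIJ]
    have : algebraMap B L (c * φ s) * (algebraMap B L b - g (IsLocalization.mk' _ x ⟨s, hs'⟩)) =
        algebraMap B L (c * φ s * b - c * φ x) := by
      rw [hg, Localization.localRingHom_mk', mul_sub, map_sub, map_mul (algebraMap B L) (c * φ s) b,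
        map_mul (algebraMap B L) c (φ s), map_mul (algebraMap B L) c (φ x), mul_assoc (algebraMap B L c),
        mul_assoc (algebraMap B L c)]
      congr 2
      exact IsLocalization.mk'_spec' L (φ x) ⟨φ s, hs'⟩
    rw [this]
    exact Ideal.mem_map_of_mem _ e
  intro z
  obtain ⟨b, t, rfl⟩ := IsLocalization.exists_mk'_eq P.primeCompl z
  obtain ⟨r₁, h₁⟩ := hB b
  obtain ⟨r₂, h₂⟩ := hB t.1
  have hIm : I ≤ IsLocalRing.maximalIdeal L := by
    rw [hIJ]
    exact (Ideal.map_mono hJP).trans (le_of_eq (Localization.AtPrime.map_eq_maximalIdeal))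
  have hg₂ : IsUnit (g r₂) := by
    by_contra hn
    have h3 : algebraMap B L t.1 ∈ IsLocalRing.maximalIdeal L := by
      have := (IsLocalRing.maximalIdeal L).add_mem (hIm h₂) ((IsLocalRing.mem_maximalIdeal _).2 hn)
      rwa [sub_add_cancel] at this
    exact (IsLocalRing.mem_maximalIdeal _).1 h3 (IsLocalization.map_units L t)
  haveI : IsLocalHom g := Localization.isLocalHom_localRingHom _ _ _ _
  obtain ⟨w, hw⟩ := isUnit_of_map_unit g r₂ hg₂
  refine ⟨r₁ * ↑w⁻¹, ?_⟩
  rw [← Ideal.unit_mul_mem_iff_mem I hg₂]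
  have hw' : g r₂ * g ↑w⁻¹ = 1 := by rw [← map_mul, ← hw, Units.mul_inv, map_one]
  have : g r₂ * (IsLocalization.mk' L b t - g (r₁ * ↑w⁻¹)) =
      (algebraMap B L b - g r₁) - IsLocalization.mk' L b t * (algebraMap B L t.1 - g r₂) := by
    rw [mul_sub (IsLocalization.mk' L b t), IsLocalization.mk'_spec, map_mul, mul_sub]
    linear_combination (-g r₁) * hw'
  rw [this]
  exact I.sub_mem h₁ (I.mul_mem_left _ h₂)

variable (A : Type u) [CommRing A] {m : Ideal A} (hm : IsNilpotent m)

/-- The reduction modulo `m` of an affine open of an `A`-scheme lifts to the closed fibre. -/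
theorem exists_lift_reduction {X : Scheme.{u}} (f : X ⟶ Spec (CommRingCat.of A)) {V : X.Opens} (hV : IsAffineOpen V) :
    ∃ (ψ : A →+* Γ(X, V)) (l : Spec (CommRingCat.of (Γ(X, V) ⧸ m.map ψ)) ⟶
        pullback f (Spec.map (CommRingCat.ofHom (Ideal.Quotient.mk m)))),
      Spec.map (CommRingCat.ofHom ψ) = hV.fromSpec ≫ f ∧
      l ≫ pullback.fst _ _ = Spec.map (CommRingCat.ofHom (Ideal.Quotient.mk (m.map ψ))) ≫ hV.fromSpec ∧
      l ≫ pullback.snd _ _ = Spec.map (CommRingCat.ofHom (Ideal.quotientMap (m.map ψ) ψ Ideal.le_comap_map)) := by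
  obtain ⟨φ, hφ⟩ : ∃ φ, Spec.map φ = hV.fromSpec ≫ f := ⟨_, Spec.map_preimage _⟩
  refine ⟨φ.hom, pullback.lift (Spec.map (CommRingCat.ofHom (Ideal.Quotient.mk (m.map φ.hom))) ≫ hV.fromSpec)
    (Spec.map (CommRingCat.ofHom (Ideal.quotientMap (m.map φ.hom) φ.hom Ideal.le_comap_map))) ?_,
    hφ, pullback.lift_fst _ _ _, pullback.lift_snd _ _ _⟩
  rw [Category.assoc, ← hφ, ← Spec.map_comp, ← Spec.map_comp]
  congr 1

/-- Surjectivity on stalks can be checked on the reduction modulo a nilpotent ideal of the base. -/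
theorem surjectiveOnStalks_of_reduction {X Y : Scheme.{u}} (f : X ⟶ Y) (g : Y ⟶ Spec (CommRingCat.of A))
    (hm : IsNilpotent m)
    (h : SurjectiveOnStalks (pullback.fst (f ≫ g) (Spec.map (CommRingCat.ofHom (Ideal.Quotient.mk m))) ≫ f)) :
    SurjectiveOnStalks f := by
  rw [HasRingHomProperty.iff_appLE (P := @SurjectiveOnStalks)]
  rintro ⟨U, hU⟩ ⟨V, hV⟩ e
  obtain ⟨ψ', hψ'⟩ : ∃ φ, Spec.map φ = hU.fromSpec ≫ g := ⟨_, Spec.map_preimage _⟩
  obtain ⟨ψ, l, hψ, hl, hl'⟩ := exists_lift_reduction A (m := m) (f ≫ g) hV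
  have hcomp : ψ = (f.appLE U V e).hom.comp ψ'.hom := by
    have : CommRingCat.ofHom ψ = ψ' ≫ f.appLE U V e := by
      apply Spec.map_injective
      rw [Spec.map_comp, hψ', hψ, IsAffineOpen.SpecMap_appLE_fromSpec_assoc]
    exact congrArg CommRingCat.Hom.hom this
  subst hcomp
  refine surjectiveOnStalks_of_nilpotent _ ψ'.hom hm ?_
  let J := m.map ((f.appLE U V e).hom.comp ψ'.hom)
  haveI : IsClosedImmersion (Spec.map (CommRingCat.ofHom (Ideal.Quotient.mk J))) :=
    IsClosedImmersion.spec_of_surjective _ Ideal.Quotient.mk_surjective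
  haveI : SurjectiveOnStalks (l ≫ pullback.fst _ _) := by rw [hl]; infer_instance
  haveI : SurjectiveOnStalks l := SurjectiveOnStalks.of_comp l (pullback.fst _ _)
  haveI : SurjectiveOnStalks (Spec.map (f.appLE U V e ≫ CommRingCat.ofHom (Ideal.Quotient.mk J)) ≫ hU.fromSpec) := by
    rw [Spec.map_comp, Category.assoc, IsAffineOpen.SpecMap_appLE_fromSpec f hU hV e, ← Category.assoc, ← hl, Category.assoc]
    haveI := h
    infer_instance
  haveI : SurjectiveOnStalks (Spec.map (f.appLE U V e ≫ CommRingCat.ofHom (Ideal.Quotient.mk J))) :=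
    SurjectiveOnStalks.of_comp _ hU.fromSpec
  exact SurjectiveOnStalks.Spec_iff.1 this

/-- Being locally of finite type can be checked on the reduction modulo a nilpotent ideal of the base. -/
theorem locallyOfFiniteType_of_reduction {X : Scheme.{u}} (f : X ⟶ Spec (CommRingCat.of A)) (hm : IsNilpotent m)
    (h : LocallyOfFiniteType (pullback.snd f (Spec.map (CommRingCat.ofHom (Ideal.Quotient.mk m))))) :
    LocallyOfFiniteType f := by
  let i := Spec.map (CommRingCat.ofHom (Ideal.Quotient.mk m))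
  haveI : IsClosedImmersion i := IsClosedImmersion.spec_of_surjective _ Ideal.Quotient.mk_surjective
  refine (IsZariskiLocalAtSource.iff_of_openCover (P := @LocallyOfFiniteType)
    (X.openCoverOfIsOpenCover (fun V : X.affineOpens => V.1) (iSup_affineOpens_eq_top X))).2 ?_
  rintro ⟨V, hV⟩
  change LocallyOfFiniteType (V.ι ≫ f)
  obtain ⟨ψ, l, hψ, hl, hl'⟩ := exists_lift_reduction A (m := m) f hV
  let J := m.map ψ
  haveI : IsClosedImmersion (Spec.map (CommRingCat.ofHom (Ideal.Quotient.mk J))) :=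
    IsClosedImmersion.spec_of_surjective _ Ideal.Quotient.mk_surjective
  haveI : IsImmersion (l ≫ pullback.fst _ _) := by rw [hl]; infer_instance
  haveI : IsImmersion l := IsImmersion.of_comp l (pullback.fst _ _)
  haveI hq : LocallyOfFiniteType (Spec.map (CommRingCat.ofHom (Ideal.quotientMap J ψ Ideal.le_comap_map)) ≫ i) := by
    rw [← hl']
    haveI := h
    infer_instance
  rw [← Spec.map_comp, HasRingHomProperty.Spec_iff (P := @LocallyOfFiniteType)] at hq
  have hft : ((Ideal.Quotient.mk J).comp ψ).FiniteType := hq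
  have hfin : ψ.FiniteType := by
    algebraize [ψ, (Ideal.Quotient.mk J).comp ψ]
    obtain ⟨s, hs⟩ := hft.out
    classical
    let t := s.image (Function.surjInv (Ideal.Quotient.mk_surjective (I := J)))
    refine ⟨⟨t, ?_⟩⟩
    let S := Algebra.adjoin A (t : Set Γ(X, V))
    have hsur : Function.Surjective S.toSubring.subtype := by
      refine surjective_of_nilpotent S.toSubring.subtype ((algebraMap A Γ(X, V)).codRestrict S.toSubring
        fun a => S.algebraMap_mem a) hm fun z => ?_
      let q : Γ(X, V) →ₐ[A] Γ(X, V) ⧸ J := AlgHom.mk (Ideal.Quotient.mk J) fun _ => rfl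
      have hz : q z ∈ S.map q := by
        rw [show S.map q = ⊤ from ?_]
        · trivial
        rw [AlgHom.map_adjoin]
        refine Eq.trans ?_ hs
        congr 1
        ext y
        have hsec : ∀ w, q (Function.surjInv (Ideal.Quotient.mk_surjective (I := J)) w) = w :=
          Function.surjInv_eq _
        simp only [t, Finset.coe_image, Set.image_image, Set.mem_image, hsec, exists_eq_right]
      obtain ⟨r, hr, hrz⟩ := hz
      exact ⟨⟨r, hr⟩, (Ideal.Quotient.eq.1 hrz.symm : z - r ∈ J)⟩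
    rw [eq_top_iff]
    intro z _
    obtain ⟨r, rfl⟩ := hsur z
    exact r.2
  haveI hS : LocallyOfFiniteType (hV.fromSpec ≫ f) := by
    rw [← hψ, HasRingHomProperty.Spec_iff (P := @LocallyOfFiniteType)]; exact hfin
  haveI : LocallyOfFiniteType (hV.isoSpec.hom ≫ hV.fromSpec ≫ f) := inferInstance
  rwa [IsAffineOpen.isoSpec_hom, IsAffineOpen.toSpecΓ_fromSpec_assoc] at this

end Groth.Agent.SGA3cLib
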