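import Groth.Agent.SGA3cLib.Truncated
import Mathlib.RingTheory.HopfAlgebra.TensorProduct
import Mathlib.RingTheory.Bialgebra.Convolution
import Mathlib.RingTheory.Artinian.Ring
import Mathlib.RingTheory.Artinian.Module
import Mathlib.RingTheory.FinitePresentation
import Mathlib.RingTheory.Finiteness.ModuleFinitePresentation
import Mathlib.RingTheory.LocalRing.Module
import Mathlib.RingTheory.LocalRing.ResidueField.Basic
import Mathlib.RingTheory.Ideal.Cotangent
import Mathlib.RingTheory.Noetherian.Nilpotent
import Mathlib.RingTheory.IntegralClosure.IsIntegralClosure.Basic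

/-!
# Frobenius kernels and height one group schemes
-/

set_option autoImplicit false

universe u

open TensorProduct MvPolynomial

namespace Groth.Agent.SGA3cLib

/-- A finite bialgebra over a field with nilpotent augmentation ideal is a connected coaugmented algebra. -/
noncomputable def CounitalMul.ofBialgebra (k A : Type u) [Field k] [CommRing A] [Bialgebra k A]
    (h : IsNilpotent (RingHom.ker (Bialgebra.counitAlgHom k A))) : CounitalMul k A where
  ε := Bialgebra.counitAlgHom k A
  Δ := Bialgebra.comulAlgHom k A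
  counit_left x := by
    have := congrArg (TensorProduct.lid k A) (Coalgebra.rTensor_counit_comul (R := k) x)
    rw [TensorProduct.lid_tmul, one_smul] at this
    exact this
  counit_right x := by
    have := congrArg (TensorProduct.rid k A) (Coalgebra.lTensor_counit_comul (R := k) x)
    rw [TensorProduct.rid_tmul, one_smul] at this
    exact this
  nilpotent := h

/-- The coordinate ring of the kernel of Frobenius is a truncated polynomial algebra, and its
number of variables is the dimension of the cotangent space at the origin. -/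
theorem exists_algEquiv_frobeniusKernel (k : Type u) [Field k] (p : ℕ) [Fact p.Prime] [CharP k p]
    (A : Type u) [CommRing A] [HopfAlgebra k A] [Module.Finite k A]
    (hnil : IsNilpotent (RingHom.ker (Bialgebra.counitAlgHom k A).toRingHom))
    (d : ℕ) (hd : Module.finrank k (RingHom.ker (Bialgebra.counitAlgHom k A).toRingHom).Cotangent = d) :
    Nonempty ((A ⧸ Ideal.span ((fun a : A => a ^ p) '' (RingHom.ker (Bialgebra.counitAlgHom k A).toRingHom : Set A))) ≃ₐ[k]
      (MvPolynomial (Fin d) k ⧸ Ideal.span (Set.range fun i : Fin d => (MvPolynomial.X i : MvPolynomial (Fin d) k) ^ p))) := by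
  classical
  set ε := Bialgebra.counitAlgHom k A
  set I := RingHom.ker ε.toRingHom with hI
  set J := Ideal.span ((fun a : A => a ^ p) '' (I : Set A))
  have hp2 : 2 ≤ p := (Fact.out : p.Prime).two_le
  have hp0 : p ≠ 0 := by omega
  have hJI2 : J ≤ I ^ 2 := Ideal.span_le.mpr (by
    rintro _ ⟨a, ha, rfl⟩; exact Ideal.pow_le_pow_right hp2 (Ideal.pow_mem_pow ha p))
  have hJI : J ≤ I := hJI2.trans (Ideal.pow_le_self two_ne_zero)
  let q : A →ₐ[k] A ⧸ J := Ideal.Quotient.mkₐ k J
  have hq0 : ∀ a, q a = 0 ↔ a ∈ J := fun a => Ideal.Quotient.eq_zero_iff_mem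
  let ε0 : A ⧸ J →ₐ[k] k := Ideal.Quotient.liftₐ J ε fun a ha => hJI ha
  have hε0 : ∀ a, ε0 (q a) = ε a := fun a => rfl
  haveI : Nontrivial (A ⧸ J) := RingHom.domain_nontrivial ε0.toRingHom
  haveI : CharP (A ⧸ J) p := charP_of_injective_algebraMap (algebraMap k (A ⧸ J)).injective p
  let ee : (A ⧸ J) ⊗[k] (A ⧸ J) →ₐ[k] k := Algebra.TensorProduct.lift ε0 ε0 fun _ _ => .all _ _
  haveI : Nontrivial ((A ⧸ J) ⊗[k] (A ⧸ J)) := RingHom.domain_nontrivial ee.toRingHom
  haveI : CharP ((A ⧸ J) ⊗[k] (A ⧸ J)) p :=
    charP_of_injective_algebraMap (algebraMap k ((A ⧸ J) ⊗[k] (A ⧸ J))).injective p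
  have hh1 : ∀ z ∈ RingHom.ker ε0, z ^ p = 0 := by
    intro z hz
    obtain ⟨a, rfl⟩ := Ideal.Quotient.mk_surjective z
    change q a ^ p = 0
    rw [← map_pow, hq0]
    exact Ideal.subset_span ⟨a, hz, rfl⟩
  have hee : ∀ a, ee (Algebra.TensorProduct.map q q (Coalgebra.comul a)) = ε a := by
    intro a
    have h := congrArg (fun t => ε (TensorProduct.lid k A t)) (Coalgebra.rTensor_counit_comul (R := k) a)
    simp only [TensorProduct.lid_tmul, one_smul] at h
    refine Eq.trans ?_ h
    induction Coalgebra.comul (R := k) a using TensorProduct.induction_on with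
    | zero => simp
    | tmul x y => simp [ee, hε0, ε]
    | add x y hx hy => simp only [map_add, hx, hy]
  have hpow : ∀ t, t ^ p = algebraMap k ((A ⧸ J) ⊗[k] (A ⧸ J)) (ee t ^ p) := by
    intro t
    induction t using TensorProduct.induction_on with
    | zero => rw [map_zero, zero_pow hp0, zero_pow hp0, map_zero]
    | tmul a b =>
      have e : ∀ a : A ⧸ J, a ^ p = algebraMap k (A ⧸ J) (ε0 a ^ p) := fun a => by
        have h := hh1 (a - algebraMap k _ (ε0 a)) (by simp)
        rwa [sub_pow_char, sub_eq_zero, ← map_pow] at h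
      simp only [ee, Algebra.TensorProduct.lift_tmul, Algebra.TensorProduct.tmul_pow, mul_pow]
      rw [e a, e b]
      simp only [Algebra.algebraMap_eq_smul_one, Algebra.TensorProduct.one_def,
        TensorProduct.tmul_smul, ← TensorProduct.smul_tmul', smul_smul]
      rw [mul_comm]
    | add x y hx hy => rw [add_pow_char, hx, hy, map_add ee, add_pow_char, map_add]
  let qq := (Algebra.TensorProduct.map q q).comp (Bialgebra.comulAlgHom k A)
  have hΔ0 : ∀ a ∈ J, qq a = 0 := by
    have : J ≤ RingHom.ker qq := Ideal.span_le.mpr (by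
      rintro _ ⟨a, ha, rfl⟩
      rw [SetLike.mem_coe, RingHom.mem_ker, map_pow, hpow,
        show ee (qq a) = ε a from hee a, show ε a = 0 from ha, zero_pow hp0, map_zero])
    exact fun a ha => this ha
  let Δ0 : A ⧸ J →ₐ[k] (A ⧸ J) ⊗[k] (A ⧸ J) := Ideal.Quotient.liftₐ J qq hΔ0
  let c : CounitalMul k (A ⧸ J) :=
    { ε := ε0
      Δ := Δ0
      counit_left := fun z => by
        obtain ⟨a, rfl⟩ := Ideal.Quotient.mk_surjective z
        have h := congrArg q (congrArg (TensorProduct.lid k A) (Coalgebra.rTensor_counit_comul (R := k) a))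
        simp only [TensorProduct.lid_tmul, one_smul] at h
        refine Eq.trans ?_ h
        change TensorProduct.lid k _ (ε0.toLinearMap.rTensor _ (Algebra.TensorProduct.map q q (Coalgebra.comul a))) = _
        induction Coalgebra.comul (R := k) a using TensorProduct.induction_on with
        | zero => simp
        | tmul x y => simp [hε0, ε]
        | add x y hx hy => simp only [map_add, hx, hy]
      counit_right := fun z => by
        obtain ⟨a, rfl⟩ := Ideal.Quotient.mk_surjective z
        have h := congrArg q (congrArg (TensorProduct.rid k A) (Coalgebra.lTensor_counit_comul (R := k) a))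
        simp only [TensorProduct.rid_tmul, one_smul] at h
        refine Eq.trans ?_ h
        change TensorProduct.rid k _ (ε0.toLinearMap.lTensor _ (Algebra.TensorProduct.map q q (Coalgebra.comul a))) = _
        induction Coalgebra.comul (R := k) a using TensorProduct.induction_on with
        | zero => simp
        | tmul x y => simp [hε0, ε]
        | add x y hx hy => simp only [map_add, hx, hy]
      nilpotent := by
        obtain ⟨N, hN⟩ := hnil
        refine ⟨N, ?_⟩
        have hle : RingHom.ker ε0 ≤ I.map q := fun z hz => by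
          obtain ⟨a, rfl⟩ := Ideal.Quotient.mk_surjective z
          exact Ideal.mem_map_of_mem q (show a ∈ I from hz)
        refine le_bot_iff.mp ((Ideal.pow_right_mono hle N).trans ?_)
        rw [← Ideal.map_pow, hN, Ideal.zero_eq_bot, Ideal.map_bot] }
  obtain ⟨r, x, D, hx, hD, hDx, hspan, hb⟩ := c.exists_truncated_coords p hh1
  obtain rfl : r = d := by
    rw [← hd]
    choose xl hxl using fun i => Ideal.Quotient.mk_surjective (x i)
    have hxI : ∀ i, xl i ∈ I := fun i => by
      change ε (xl i) = 0
      rw [← hε0]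
      have := hx i
      rwa [← hxl i] at this
    let L : (Fin r → k) →ₗ[k] I.Cotangent :=
      Fintype.linearCombination k fun i => I.toCotangent ⟨xl i, hxI i⟩
    have hI2 : ∀ i, ∀ y ∈ I ^ 2, D i (q y) = 0 := by
      intro i y hy
      rw [pow_two] at hy
      refine Submodule.mul_induction_on hy (fun a ha b hb => ?_) (fun a b ha hb => by rw [map_add, map_add, ha, hb, add_zero])
      rw [map_mul, hD, show c.ε (q a) = 0 from ha, show c.ε (q b) = 0 from hb, zero_mul, zero_mul, add_zero]
    have hmem : ∀ v : Fin r → k, ∑ i, v i • xl i ∈ I := fun v =>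
      Submodule.sum_mem _ fun i _ => Submodule.smul_of_tower_mem _ _ (hxI i)
    have hLv : ∀ v : Fin r → k, L v = I.toCotangent ⟨∑ i, v i • xl i, hmem v⟩ := fun v => by
      rw [Fintype.linearCombination_apply]
      have : (⟨∑ i, v i • xl i, hmem v⟩ : I) = ∑ i, v i • (⟨xl i, hxI i⟩ : I) :=
        Subtype.ext (by simp)
      rw [this, map_sum]
      exact Finset.sum_congr rfl fun i _ => (LinearMap.map_smul_of_tower _ _ _).symm
    have hL : Function.Bijective L := by
      refine ⟨?_, ?_⟩
      · rw [← LinearMap.ker_eq_bot, LinearMap.ker_eq_bot']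
        intro v hv
        rw [hLv, Ideal.toCotangent_eq_zero] at hv
        funext j
        have h := hI2 j _ hv
        simp only [map_sum, map_smul] at h
        simp only [show ∀ i, q (xl i) = x i from hxl, hDx, smul_eq_mul, mul_ite, mul_one, mul_zero,
          Finset.sum_ite_eq, Finset.mem_univ, if_true] at h
        exact h
      · intro z
        obtain ⟨⟨y, hy⟩, rfl⟩ := Ideal.toCotangent_surjective I z
        refine ⟨fun i => D i (q y), ?_⟩
        rw [hLv, eq_comm, Ideal.toCotangent_eq]
        have hm : (RingHom.ker c.ε) ^ 2 ≤ (I ^ 2).map q := by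
          rw [Ideal.map_pow]
          refine Ideal.pow_right_mono (fun z hz => ?_) 2
          obtain ⟨a, rfl⟩ := Ideal.Quotient.mk_surjective z
          exact Ideal.mem_map_of_mem q (show a ∈ I from hz)
        have h2 := hm (hspan (q y) (show c.ε (q y) = 0 from hy))
        obtain ⟨w, hw, hwq⟩ := (Ideal.mem_map_iff_of_surjective q Ideal.Quotient.mk_surjective).mp h2
        have hJ : (y - ∑ i, D i (q y) • xl i) - w ∈ J := by
          rw [← hq0, map_sub, map_sub, map_sum, hwq]
          simp [show ∀ i, q (xl i) = x i from hxl]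
        have := add_mem (hJI2 hJ) hw
        rwa [sub_add_cancel] at this
    rw [← (LinearEquiv.ofBijective L hL).finrank_eq, Module.finrank_pi]
    simp
  exact nonempty_algEquiv_truncated x (fun i => hh1 _ (hx i)) hb

/-- A flat finitely presented Hopf algebra of height one over a local ring is a truncated polynomial
algebra. -/
theorem exists_algEquiv_truncated_of_height_one (p : ℕ) [Fact p.Prime] (R : Type u) [CommRing R]
    [IsLocalRing R] [CharP R p] (A : Type u) [CommRing A] [HopfAlgebra R A]
    [Algebra.FinitePresentation R A] [Module.Flat R A]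
    (h1 : ∀ a : A, Bialgebra.counitAlgHom R A a = 0 → a ^ p = 0) :
    ∃ n : ℕ, Nonempty (A ≃ₐ[R] (MvPolynomial (Fin n) R ⧸
      Ideal.span (Set.range fun i : Fin n => (MvPolynomial.X i : MvPolynomial (Fin n) R) ^ p))) := by
  classical
  set ε := Bialgebra.counitAlgHom R A
  haveI : Algebra.IsIntegral R A := ⟨fun a => by
    refine ⟨(Polynomial.X - Polynomial.C (ε a)) ^ p, (Polynomial.monic_X_sub_C _).pow p, ?_⟩
    rw [Polynomial.eval₂_pow, Polynomial.eval₂_sub, Polynomial.eval₂_X, Polynomial.eval₂_C]
    exact h1 _ (by simp [ε])⟩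
  haveI : Module.Finite R A := Algebra.IsIntegral.finite
  haveI : Module.FinitePresentation R A := Module.FinitePresentation.of_finite_of_finitePresentation R A
  let κ := IsLocalRing.ResidueField R
  let F := κ ⊗[R] A
  haveI : CharP κ p := (CharP.charP_iff_prime_eq_zero Fact.out).mpr (by
    rw [← map_natCast (algebraMap R κ), CharP.cast_eq_zero, map_zero])
  have hF : ∀ z : F, ∃ a : A, (1 : κ) ⊗ₜ[R] a = z :=
    TensorProduct.mk_surjective R A κ IsLocalRing.residue_surjective
  have hker : ∀ z ∈ RingHom.ker (Bialgebra.counitAlgHom κ F), ∃ a, ε a = 0 ∧ (1 : κ) ⊗ₜ[R] a = z := by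
    intro z hz
    obtain ⟨a, rfl⟩ := hF z
    refine ⟨a - algebraMap R A (ε a), by simp [ε], ?_⟩
    have h0 : algebraMap R κ (ε a) = 0 := by
      simpa [F, ε, Algebra.smul_def] using hz
    rw [TensorProduct.tmul_sub, Algebra.algebraMap_eq_smul_one, TensorProduct.tmul_smul,
      TensorProduct.smul_tmul', Algebra.smul_def, h0, zero_mul, TensorProduct.zero_tmul, sub_zero]
  have hh1 : ∀ z ∈ RingHom.ker (Bialgebra.counitAlgHom κ F), z ^ p = 0 := by
    intro z hz
    obtain ⟨a, ha, rfl⟩ := hker z hz
    rw [Algebra.TensorProduct.tmul_pow, h1 a ha, TensorProduct.tmul_zero]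
  have hnil : IsNilpotent (RingHom.ker (Bialgebra.counitAlgHom κ F)) := by
    haveI : IsNoetherianRing F := IsNoetherianRing.of_finite κ F
    exact (Ideal.FG.isNilpotent_iff_le_nilradical (IsNoetherian.noetherian _)).mpr
      fun z hz => ⟨p, hh1 z hz⟩
  let c := CounitalMul.ofBialgebra κ F hnil
  obtain ⟨r, x, D, hx, -, -, -, hb⟩ := c.exists_truncated_coords p hh1
  choose xl hxl hxe using fun i => hker (x i) (hx i)
  let v : (Fin r → Fin p) → A := fun a => ∏ i, xl i ^ (a i : ℕ)
  have hv : (fun a => (1 : κ) ⊗ₜ[R] v a) = fun a => ∏ i, x i ^ (a i : ℕ) := funext fun a => by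
    simp only [v, ← hxe]
    rw [← Algebra.TensorProduct.includeRight_apply, map_prod]
    refine Finset.prod_congr rfl fun i _ => ?_
    rw [map_pow]
    rfl
  have hli : LinearIndependent κ (fun a => (1 : κ) ⊗ₜ[R] v a) := by
    rw [hv, linearIndependent_iff_injective_fintypeLinearCombination]
    exact hb.1
  have hsp : ⊤ ≤ Submodule.span κ (Set.range fun a => (1 : κ) ⊗ₜ[R] v a) := by
    rw [hv, ← Fintype.range_linearCombination]
    exact le_of_eq (LinearMap.range_eq_top.mpr hb.2).symm
  obtain ⟨b, hbv⟩ := Module.exists_basis_of_basis_baseChange v hli (le_antisymm le_top hsp)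
    (Module.Flat.rTensor_preserves_injective_linearMap _ Subtype.val_injective)
  refine ⟨r, nonempty_algEquiv_truncated xl (fun i => h1 _ (hxl i)) ?_⟩
  have : monoMap R p xl = b.equivFun.symm.toLinearMap := by
    apply LinearMap.ext
    intro g
    rw [monoMap_apply, LinearEquiv.coe_coe, Module.Basis.equivFun_symm_apply]
    simp [hbv, v]
  rw [this]
  exact b.equivFun.symm.bijective

end Groth.Agent.SGA3cLib
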