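import Groth.Agent.SGA3Word26.WordsBC
import Groth.Agent.S5365
import Groth.Agent.GrpLim26.Descent
import Groth.Agent.GrpLim26.Quotient
import Groth.Agent.H8Lim.StalkLimit
import Groth.Agent.H8Lim.Descent
import Groth.Agent.H8Lim.Constructible
import Groth.Agent.H8Lim.FinitePresentation
import Groth.Agent.LimSmooth.Scheme
import Groth.Agent.SGA3cLib.MonoClosed
import Groth.Agent.SGA3cLib.ConjTransporter
import Groth.Agent.AbVarLib.MulIsogeny
import Groth.Agent.AbSchLib.SmoothReduced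
import Groth.Agent.FlatMorGeomIrr.Scheme

/-! Commutator subgroups spread out over an open of an integral base. -/

set_option autoImplicit false
set_option linter.style.haveILetI false
set_option backward.isDefEq.respectTransparency.types false

universe u

open CategoryTheory CategoryTheory.Limits MonoidalCategory CartesianMonoidalCategory MonObj GrpObj AlgebraicGeometry
open Groth.Agent.SGA3Word26 Groth.Agent.SGA3Word26.Comm

noncomputable section

namespace Groth.Agent.SGA3cLib.CommSpread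

/-- A connected group scheme locally of finite type over a field is geometrically irreducible. -/
theorem geometricallyIrreducible_of_connected {K : Type u} [Field K] (Γ : Over (Spec (CommRingCat.of K))) [GrpObj Γ]
    [LocallyOfFiniteType Γ.hom] [ConnectedSpace Γ.left] : GeometricallyIrreducible Γ.hom := by
  haveI : GeometricallyConnected Γ.hom := by
    have := SGA3cLib.geometricallyConnected_of_rational_point K Γ.hom (𝟙 Γ.left) η[Γ].left (Over.w η[Γ]) (by simp)
    simpa using this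
  refine ⟨fun Ω _ y P fst snd h => ?_⟩
  let G' : Over (Spec (CommRingCat.of Ω)) := Red.bc y Γ
  haveI : LocallyOfFiniteType G'.hom := inferInstanceAs (LocallyOfFiniteType (pullback.snd Γ.hom y))
  haveI : ConnectedSpace G'.left := inferInstanceAs (ConnectedSpace ↥(pullback Γ.hom y))
  have h1 : irreducibleComponent (AlgGrpLib.ConnComp.e₀ G') = Set.univ := by
    rw [← AlgGrpLib.ConnComp.connectedComponent_eq, PreconnectedSpace.connectedComponent_eq_univ]
  haveI : IrreducibleSpace G'.left :=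
    irreducibleSpace_def _ |>.2 (by rw [Set.top_eq_univ, ← h1]; exact isIrreducible_irreducibleComponent)
  haveI : IrreducibleSpace ↥(pullback Γ.hom y) := ‹IrreducibleSpace G'.left›
  show IrreducibleSpace P
  exact h.isoPullback.inv.homeomorph.surjective.irreducibleSpace h.isoPullback.inv.homeomorph.continuous

/-- Conjugation preserves the commutators of two normal subgroups. -/
theorem conj_cMap {S : Scheme.{u}} {G A B : Over S} [GrpObj G] [GrpObj A] [GrpObj B] (a : A ⟶ G) (b : B ⟶ G)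
    (ha : AlgGrp.IsNormalHom a) (hb : AlgGrp.IsNormalHom b) (T : Over S) (g : T ⟶ G) (x : T ⟶ A ⊗ B) :
    ∃ x' : T ⟶ A ⊗ B, g * (x ≫ cMap a b) * g⁻¹ = x' ≫ cMap a b := by
  obtain ⟨a', ha'⟩ := ha T g (x ≫ fst A B)
  obtain ⟨b', hb'⟩ := hb T g (x ≫ snd A B)
  refine ⟨lift a' b', ?_⟩
  simp only [cMap, MonObj.comp_mul, GrpObj.comp_inv, lift_fst_assoc, lift_snd_assoc, ← ha', ← hb', Category.assoc]
  group

theorem qc_wObj {S : Scheme.{u}} (X : Over S) [QuasiCompact X.hom] : ∀ l, QuasiCompact (wObj X l).hom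
  | [] => by show QuasiCompact (𝟙 S); infer_instance
  | b :: l => by
    haveI := qc_wObj X l
    show QuasiCompact (X ⊗ wObj X l).hom
    rw [Over.tensorObj_hom]
    infer_instance

theorem isConstructible_wordsUpTo {S : Scheme.{u}} [CompactSpace S] [QuasiSeparatedSpace S] {G X : Over S} [GrpObj G]
    [LocallyOfFinitePresentation G.hom] [QuasiCompact G.hom] [QuasiSeparated G.hom]
    [LocallyOfFinitePresentation X.hom] [QuasiCompact X.hom] (f : X ⟶ G) (N : ℕ) :
    Topology.IsConstructible (wordsUpTo f N) := by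
  refine Topology.IsConstructible.biUnion (List.finite_length_le Bool N) fun l _ => ?_
  haveI := SGA3Word26.lfp_wObj X l
  haveI := qc_wObj X l
  let w := (wMap f l).left
  haveI : LocallyOfFinitePresentation w := by
    haveI : LocallyOfFinitePresentation (w ≫ G.hom) := by rw [Over.w (wMap f l)]; infer_instance
    exact H8Lim.lfp_cancel_right w G.hom
  haveI : QuasiCompact w := by
    haveI : QuasiCompact (w ≫ G.hom) := by rw [Over.w (wMap f l)]; infer_instance
    exact QuasiCompact.of_comp w G.hom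
  haveI : CompactSpace G.left := QuasiCompact.compactSpace_of_compactSpace G.hom
  haveI : QuasiSeparatedSpace G.left := quasiSeparatedSpace_of_quasiSeparated G.hom
  rw [← Set.image_univ]
  exact w.isConstructible_image Topology.IsConstructible.univ

/-- The commutator morphism after iterated base change. -/
theorem map_cMap_cmp {S S' S'' : Scheme.{u}} {g : S'' ⟶ S'} {f : S' ⟶ S} {p : S'' ⟶ S} (h : g ≫ f = p)
    {G A B : Over S} [GrpObj G] (a : A ⟶ G) (b : B ⟶ G) :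
    Functor.LaxMonoidal.μ (Over.pullback g) (Red.bc f A) (Red.bc f B) ≫
      (Over.pullback g).map (cMap (G := Red.bc f G) (A := Red.bc f A) (B := Red.bc f B)
        ((Over.pullback f).map a) ((Over.pullback f).map b)) ≫ (GrpLim26.cmp h G).hom =
    ((GrpLim26.cmp h A).hom ⊗ₘ (GrpLim26.cmp h B).hom) ≫
      cMap (G := Red.bc p G) (A := Red.bc p A) (B := Red.bc p B) ((Over.pullback p).map a) ((Over.pullback p).map b) := by
  rw [← Category.assoc, WordsBC.μ_map_cMap]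
  simp only [cMap, MonObj.mul_comp, GrpObj.inv_comp, MonObj.comp_mul, GrpObj.comp_inv, Category.assoc,
    tensorHom_fst_assoc, tensorHom_snd_assoc]
  erw [GrpLim26.cmp_natural h a, GrpLim26.cmp_natural h b]

theorem connectedSpace_bc_of_iso {S T T' : Scheme.{u}} {p : T ⟶ S} (e : T' ⟶ T) [IsIso e] {q : T' ⟶ S}
    (h : e ≫ p = q) (X : Over S) (hX : ConnectedSpace (Red.bc p X).left) : ConnectedSpace (Red.bc q X).left := by
  haveI := hX
  let m : (Red.bc q X).left ⟶ (Red.bc p X).left :=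
    pullback.map X.hom q X.hom p (𝟙 _) e (𝟙 _) (by simp) (by simp [h])
  haveI : IsIso m := inferInstanceAs (IsIso (pullback.map X.hom q X.hom p (𝟙 _) e (𝟙 _) (by simp) (by simp [h])))
  exact (inv m).surjective.connectedSpace (inv m).continuous

/-- A point of a field over the generic point factors through the generic stalk. -/
theorem exists_factor_genericPoint (S : Scheme.{u}) [IsIntegral S] (L : Type u) [Field L]
    (m : Spec (CommRingCat.of L) ⟶ S) (hm : ∀ z, m z = genericPoint S) :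
    ∃ t : Spec (CommRingCat.of L) ⟶ Spec (S.presheaf.stalk (genericPoint S)), t ≫ S.fromSpecStalk (genericPoint S) = m := by
  obtain ⟨⟨y, φ⟩, rfl⟩ := (Scheme.SpecToEquivOfField L S).symm.surjective m
  have hy : y = genericPoint S := by
    have := hm (IsLocalRing.closedPoint L)
    simpa [Scheme.SpecToEquivOfField] using this
  subst hy
  refine ⟨Spec.map φ ≫ Spec.map (S.residue (genericPoint S)), ?_⟩
  rw [Category.assoc]
  rfl

/-- A factorisation persists after base change. -/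
theorem fac_of_comp {S S' S'' : Scheme.{u}} {g : S'' ⟶ S'} {f : S' ⟶ S} {p : S'' ⟶ S} (h : g ≫ f = p)
    {W X Y : Over S} {v : X ⟶ Y} {m : W ⟶ Y}
    (hz : ∃ z : Red.bc f W ⟶ Red.bc f X, z ≫ (Over.pullback f).map v = (Over.pullback f).map m) :
    ∃ z : Red.bc p W ⟶ Red.bc p X, z ≫ (Over.pullback p).map v = (Over.pullback p).map m := by
  obtain ⟨z, hz⟩ := hz
  let e := GrpLim26.cmpNat h
  refine ⟨e.inv.app W ≫ (Over.pullback g).map z ≫ e.hom.app X, ?_⟩
  exact GrpLim26.transfer e ((Functor.map_comp _ _ _).symm.trans (congrArg _ hz))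

theorem prop_map_of_comp {P : MorphismProperty Scheme.{u}} [P.IsStableUnderBaseChange] [P.RespectsIso]
    {S T T' : Scheme.{u}} {p : T ⟶ S} (e : T' ⟶ T) {q : T' ⟶ S} (h : e ≫ p = q) {X Y : Over S} (m : X ⟶ Y)
    (hm : P ((Over.pullback p).map m).left) : P ((Over.pullback q).map m).left :=
  GrpLim26.prop_natIso (F := Over.pullback p ⋙ Over.pullback e) (GrpLim26.cmpNat h) (f := m)
    (MorphismProperty.of_isPullback (P := P) (SGA3UnitSec.isPullback_map_left e ((Over.pullback p).map m)) hm)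

theorem prop_bc_of_comp {P : MorphismProperty Scheme.{u}} [P.IsStableUnderBaseChange]
    {S T T' : Scheme.{u}} {p : T ⟶ S} (e : T' ⟶ T) {q : T' ⟶ S} (h : e ≫ p = q) (X : Over S)
    (hX : P (Red.bc p X).hom) : P (Red.bc q X).hom := by
  have h1 : P (Red.bc e (Red.bc p X)).hom := MorphismProperty.pullback_snd (P := P) _ _ hX
  rw [← Over.w (GrpLim26.cmp h X).inv] 
  exact (P.cancel_left_of_respectsIso _ _).2 h1

section Stages

variable {S : Scheme.{u}} {I : Type u} [SmallCategory I] [IsCofiltered I] {Dg : I ⥤ Scheme.{u}} {cc : Cone Dg}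
  [∀ (V V' : I) (f : V ⟶ V'), IsAffineHom (Dg.map f)] [∀ V, CompactSpace (Dg.obj V)]
  [∀ V, QuasiSeparatedSpace (Dg.obj V)] (hc : IsLimit cc)

include hc in
/-- A closed subgroup of the limit fibre comes from a stage. -/
theorem exists_model {inc : ∀ V, Dg.obj V ⟶ S} (hinc : ∀ {V W : I} (f : V ⟶ W), Dg.map f ≫ inc W = inc V)
    {s : cc.pt ⟶ S} (hs : ∀ V, cc.π.app V ≫ inc V = s) (G : Over S) [GrpObj G] [LocallyOfFinitePresentation G.hom]
    (Γ : Over cc.pt) [GrpObj Γ] [LocallyOfFinitePresentation Γ.hom] [QuasiCompact Γ.hom] [QuasiSeparated Γ.hom]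
    (i : Γ ⟶ Red.bc s G) [IsMonHom i] :
    ∃ (V : I) (Γ₀ : Over (Dg.obj V)) (_ : GrpObj Γ₀) (d₀ : Γ₀ ⟶ Red.bc (inc V) G) (ψ : Red.bc (cc.π.app V) Γ₀ ≅ Γ),
      IsMonHom d₀ ∧ LocallyOfFinitePresentation Γ₀.hom ∧ QuasiCompact Γ₀.hom ∧ QuasiSeparated Γ₀.hom ∧
      (Over.pullback (cc.π.app V)).map d₀ ≫ (GrpLim26.cmp (hs V) G).hom = ψ.hom ≫ i := by
  obtain ⟨j, Γj, gj, ej, hej, _, _, _⟩ := GrpLim26.exists_grpObj hc Γ
  haveI := hej
  haveI : IsMonHom ej.inv := inferInstance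
  haveI : LocallyOfFinitePresentation (Red.bc (inc j) G).hom :=
    inferInstanceAs (LocallyOfFinitePresentation (pullback.snd G.hom _))
  haveI : IsMonHom (ej.inv ≫ i) := inferInstance
  obtain ⟨V, f, a', ha', hmap⟩ := GrpLim26.exists_grpHom hc (G := Γj) (H := Red.bc (inc j) G)
    ((ej.inv ≫ i) ≫ (GrpLim26.cmp (hs j) G).inv)
  haveI := ha'
  refine ⟨V, Red.bc (Dg.map f) Γj, inferInstance, a' ≫ (GrpLim26.cmp (hinc f) G).hom,
    GrpLim26.cmp (cc.w f) Γj ≪≫ ej.symm, inferInstance,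
    inferInstanceAs (LocallyOfFinitePresentation (pullback.snd Γj.hom _)),
    inferInstanceAs (QuasiCompact (pullback.snd Γj.hom _)), inferInstanceAs (QuasiSeparated (pullback.snd Γj.hom _)), ?_⟩
  have hco : (GrpLim26.cmp (cc.w f) (Red.bc (inc j) G)).inv ≫
      (Over.pullback (cc.π.app V)).map (GrpLim26.cmp (hinc f) G).hom ≫ (GrpLim26.cmp (hs V) G).hom =
      (GrpLim26.cmp (hs j) G).hom := by
    rw [Iso.inv_comp_eq]
    refine GrpLim26.bc_hom_ext ?_
    simp only [Over.comp_left, Category.assoc, GrpLim26.cmp_hom_fst]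
    rw [GrpLim26.map_left_fst_assoc, GrpLim26.cmp_hom_fst, GrpLim26.cmp_hom_fst_assoc]
  rw [Functor.map_comp, Category.assoc, hmap]
  simp only [Category.assoc, hco, Iso.trans_hom, Iso.symm_hom, Iso.inv_hom_id, Category.comp_id]

variable {V : I} {G₀ Γ₀ : Over (Dg.obj V)}

include hc in
theorem exists_closed [LocallyOfFinitePresentation G₀.hom] [QuasiCompact G₀.hom] [QuasiSeparated G₀.hom]
    [LocallyOfFinitePresentation Γ₀.hom] [QuasiCompact Γ₀.hom] [QuasiSeparated Γ₀.hom] (d₀ : Γ₀ ⟶ G₀)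
    (hcl : IsClosedImmersion ((Over.pullback (cc.π.app V)).map d₀).left) :
    ∃ (W : I) (φ : W ⟶ V), IsClosedImmersion ((Over.pullback (Dg.map φ)).map d₀).left := by
  haveI : ∀ {V V' : I} (f : V ⟶ V'), IsAffineHom (Dg.map f) := fun {V V'} f => inferInstance
  haveI : LocallyOfFiniteType d₀.left := by
    haveI : LocallyOfFiniteType (d₀.left ≫ G₀.hom) := by rw [Over.w d₀]; infer_instance
    exact locallyOfFiniteType_of_comp d₀.left G₀.hom
  haveI : CompactSpace G₀.left := QuasiCompact.compactSpace_of_compactSpace G₀.hom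
  haveI : QuasiCompact d₀.left := by
    haveI : QuasiCompact (d₀.left ≫ G₀.hom) := by rw [Over.w d₀]; infer_instance
    exact QuasiCompact.of_comp _ G₀.hom
  haveI : QuasiSeparated d₀.left := by
    haveI : QuasiSeparated (d₀.left ≫ G₀.hom) := by rw [Over.w d₀]; infer_instance
    exact QuasiSeparated.of_comp d₀.left G₀.hom
  obtain ⟨W, φ, _, _, _, _, _, _, a1, b1, c1⟩ := H8Lim.Descends.exists_stage H8Lim.descends_isClosedImmersion hc
    (IsPullback.of_hasPullback G₀.hom (cc.π.app V)) (SGA3UnitSec.isPullback_map_left (cc.π.app V) d₀)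
    (inferInstance : LocallyOfFiniteType d₀.left) hcl
  exact ⟨W, φ, GrpLim26.prop_map_left φ d₀ a1 b1 c1⟩

omit [∀ V, QuasiSeparatedSpace (Dg.obj V)] in
include hc in
theorem exists_smooth [LocallyOfFinitePresentation Γ₀.hom] [QuasiCompact Γ₀.hom] [QuasiSeparated Γ₀.hom]
    (h : Smooth (Red.bc (cc.π.app V) Γ₀).hom) :
    ∃ (W : I) (φ : W ⟶ V), Smooth (Red.bc (Dg.map φ) Γ₀).hom := by
  haveI : CompactSpace Γ₀.left := QuasiCompact.compactSpace_of_compactSpace Γ₀.hom
  obtain ⟨W, φ, Xj, Yj, fj, g, pY, pX, y2, x2, c2⟩ := LimSmooth.exists_stage hc (g₀ := 𝟙 (Dg.obj V))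
    (g := 𝟙 cc.pt) (qY := cc.π.app V) (f₀ := Γ₀.hom) (IsPullback.of_vert_isIso ⟨by simp⟩)
    (IsPullback.of_hasPullback Γ₀.hom (cc.π.app V))
    LimSmooth.affineSpreads_smooth (fun o _ => inferInstance) (show Smooth (pullback.snd Γ₀.hom _) from h)
  haveI : IsIso g := MorphismProperty.of_isPullback (P := MorphismProperty.isomorphisms Scheme) y2
    (inferInstanceAs (IsIso (𝟙 (Dg.obj V))))
  haveI := c2
  have hp : IsPullback pX (fj ≫ g) Γ₀.hom (Dg.map φ) := by simpa using x2.paste_vert y2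
  refine ⟨W, φ, ?_⟩
  show Smooth (pullback.snd Γ₀.hom (Dg.map φ))
  rw [← hp.isoPullback_inv_snd]
  infer_instance

include hc in
theorem exists_covered [LocallyOfFinitePresentation Γ₀.hom] [QuasiCompact Γ₀.hom] (d : Γ₀.left ⟶ G₀.left)
    {Wd : Set G₀.left} (hW : Topology.IsConstructible Wd)
    (h : ∀ z : ↥(pullback Γ₀.hom (cc.π.app V)), d (pullback.fst Γ₀.hom (cc.π.app V) z) ∈ Wd) :
    ∃ (W : I) (φ : W ⟶ V), ∀ x : Γ₀.left, Γ₀.hom x ∈ Set.range (Dg.map φ) → d x ∈ Wd := by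
  haveI : ∀ {V V' : I} (f : V ⟶ V'), IsAffineHom (Dg.map f) := fun {V V'} f => inferInstance
  have hZ : Topology.IsConstructible (Γ₀.hom.base '' (d.base ⁻¹' Wdᶜ)) :=
    Γ₀.hom.isConstructible_image (d.isConstructible_preimage hW.compl)
  have hZπ : (cc.π.app V).base ⁻¹' (Γ₀.hom.base '' (d.base ⁻¹' Wdᶜ)) = ∅ := by
    refine Set.eq_empty_of_forall_notMem fun p hp => ?_
    obtain ⟨x, hx, hxp⟩ := hp
    obtain ⟨z, hz, -⟩ := Scheme.Pullback.exists_preimage_pullback (f := Γ₀.hom) (g := cc.π.app V) x p hxp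
    exact hx (hz ▸ h z)
  obtain ⟨W, φ, hW'⟩ := H8Lim.exists_preimage_eq_empty hc hZ.isLocallyConstructible hZπ
  refine ⟨W, φ, fun x ⟨p, hp⟩ => ?_⟩
  by_contra hx
  exact (Set.eq_empty_iff_forall_notMem.1 hW') p ⟨x, hx, hp.symm⟩

variable {G A B : Over S} [GrpObj G] [GrpObj A] [GrpObj B]

include hc in
/-- All the properties needed come from stages. -/
theorem exists_stages {inc : ∀ V, Dg.obj V ⟶ S} (hinc : ∀ {V W : I} (f : V ⟶ W), Dg.map f ≫ inc W = inc V)
    {s : cc.pt ⟶ S} (hs : ∀ V, cc.π.app V ≫ inc V = s)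
    [LocallyOfFinitePresentation G.hom] [QuasiCompact G.hom] [QuasiSeparated G.hom]
    [LocallyOfFinitePresentation A.hom] [QuasiCompact A.hom] [QuasiSeparated A.hom]
    [LocallyOfFinitePresentation B.hom] [QuasiCompact B.hom] [QuasiSeparated B.hom]
    (a : A ⟶ G) (b : B ⟶ G)
    (Γ : Over cc.pt) [GrpObj Γ] [LocallyOfFinitePresentation Γ.hom] [QuasiCompact Γ.hom] [QuasiSeparated Γ.hom]
    [Smooth Γ.hom] (i : Γ ⟶ Red.bc s G) [IsMonHom i] [IsClosedImmersion i.left] (P : Prop) (N : ℕ)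
    (hnΓ : P → AlgGrp.IsNormalHom i)
    (hf : ∃ f' : Red.bc s A ⊗ Red.bc s B ⟶ Γ, f' ≫ i =
      cMap (G := Red.bc s G) (A := Red.bc s A) (B := Red.bc s B) ((Over.pullback s).map a) ((Over.pullback s).map b))
    (hiN : Set.range i.left.base ⊆ wordsUpTo
      (cMap (G := Red.bc s G) (A := Red.bc s A) (B := Red.bc s B) ((Over.pullback s).map a) ((Over.pullback s).map b)) N) :
    ∃ (V : I) (Γ₀ : Over (Dg.obj V)) (_ : GrpObj Γ₀) (d₀ : Γ₀ ⟶ Red.bc (inc V) G),
      IsMonHom d₀ ∧ LocallyOfFinitePresentation Γ₀.hom ∧ QuasiCompact Γ₀.hom ∧ QuasiSeparated Γ₀.hom ∧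
      (GeometricallyIrreducible Γ.hom → GeometricallyIrreducible (Red.bc (cc.π.app V) Γ₀).hom) ∧
      (∃ (W : I) (φ : W ⟶ V), IsClosedImmersion ((Over.pullback (Dg.map φ)).map d₀).left) ∧
      (∃ (W : I) (φ : W ⟶ V), Smooth (Red.bc (Dg.map φ) Γ₀).hom) ∧
      (∃ (W : I) (φ : W ⟶ V), P → ∃ z : Red.bc (Dg.map φ) (Red.bc (inc V) G ⊗ Γ₀) ⟶ Red.bc (Dg.map φ) Γ₀,
        z ≫ (Over.pullback (Dg.map φ)).map d₀ = (Over.pullback (Dg.map φ)).map (GrpLim26.conjMor d₀)) ∧
      (∃ (W : I) (φ : W ⟶ V) (z : Red.bc (Dg.map φ) (Red.bc (inc V) A ⊗ Red.bc (inc V) B) ⟶ Red.bc (Dg.map φ) Γ₀),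
        z ≫ (Over.pullback (Dg.map φ)).map d₀ = (Over.pullback (Dg.map φ)).map
          (cMap (G := Red.bc (inc V) G) (A := Red.bc (inc V) A) (B := Red.bc (inc V) B)
            ((Over.pullback (inc V)).map a) ((Over.pullback (inc V)).map b))) ∧
      (∃ (W : I) (φ : W ⟶ V), ∀ x : Γ₀.left, Γ₀.hom x ∈ Set.range (Dg.map φ) →
        d₀.left x ∈ wordsUpTo (cMap (G := Red.bc (inc V) G) (A := Red.bc (inc V) A) (B := Red.bc (inc V) B)
            ((Over.pullback (inc V)).map a) ((Over.pullback (inc V)).map b)) N) := by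
  classical
  obtain ⟨f', hf'⟩ := hf
  obtain ⟨V, Γ₀, g₀', d₀, ψ, hd₀m, _, _, _, hd₀⟩ := exists_model hc hinc hs G Γ i
  let G₀ := Red.bc (inc V) G
  let A₀ := Red.bc (inc V) A
  let B₀ := Red.bc (inc V) B
  let c₀ : A₀ ⊗ B₀ ⟶ G₀ := cMap ((Over.pullback (inc V)).map a) ((Over.pullback (inc V)).map b)
  let π := cc.π.app V
  let κ := GrpLim26.cmp (hs V) G
  have hd₀' : (Over.pullback π).map d₀ = ψ.hom ≫ i ≫ κ.inv :=
    ((Iso.eq_comp_inv κ).2 hd₀).trans (Category.assoc _ _ _)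
  haveI : LocallyOfFinitePresentation G₀.hom := inferInstanceAs (LocallyOfFinitePresentation (pullback.snd G.hom _))
  haveI : QuasiCompact G₀.hom := inferInstanceAs (QuasiCompact (pullback.snd G.hom _))
  haveI : QuasiSeparated G₀.hom := inferInstanceAs (QuasiSeparated (pullback.snd G.hom _))
  haveI : LocallyOfFinitePresentation A₀.hom := inferInstanceAs (LocallyOfFinitePresentation (pullback.snd A.hom _))
  haveI : QuasiCompact A₀.hom := inferInstanceAs (QuasiCompact (pullback.snd A.hom _))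
  haveI : QuasiSeparated A₀.hom := inferInstanceAs (QuasiSeparated (pullback.snd A.hom _))
  haveI : LocallyOfFinitePresentation B₀.hom := inferInstanceAs (LocallyOfFinitePresentation (pullback.snd B.hom _))
  haveI : QuasiCompact B₀.hom := inferInstanceAs (QuasiCompact (pullback.snd B.hom _))
  haveI : QuasiSeparated B₀.hom := inferInstanceAs (QuasiSeparated (pullback.snd B.hom _))
  haveI := hd₀m
  haveI : IsIso ψ.hom.left := inferInstanceAs (IsIso ((Over.forget _).map ψ.hom))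
  obtain ⟨V₁, φ₁, hV₁⟩ := exists_closed hc d₀ (by
    rw [hd₀']
    haveI : IsIso κ.inv.left := inferInstanceAs (IsIso ((Over.forget _).map κ.inv))
    exact inferInstanceAs (IsClosedImmersion (ψ.hom.left ≫ i.left ≫ κ.inv.left)))
  obtain ⟨V₂, φ₂, hV₂⟩ := exists_smooth hc (Γ₀ := Γ₀) (by
    rw [← Over.w ψ.hom]
    exact inferInstanceAs (Smooth (ψ.hom.left ≫ Γ.hom)))
  -- normal
  obtain ⟨V₃, φ₃, hV₃⟩ : ∃ (V₃ : I) (φ₃ : V₃ ⟶ V), P →
      ∃ z : Red.bc (Dg.map φ₃) (G₀ ⊗ Γ₀) ⟶ Red.bc (Dg.map φ₃) Γ₀,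
        z ≫ (Over.pullback (Dg.map φ₃)).map d₀ = (Over.pullback (Dg.map φ₃)).map (GrpLim26.conjMor d₀) := by
    by_cases hn : P
    · have hnΓ := hnΓ hn
      have hnd : AlgGrp.IsNormalHom ((Over.pullback π).map d₀ : Red.bc π Γ₀ ⟶ Red.bc π G₀) := by
        intro T g n
        obtain ⟨n', hn'⟩ := hnΓ T (g ≫ κ.hom) (n ≫ ψ.hom)
        refine ⟨n' ≫ ψ.inv, ?_⟩
        rw [← cancel_mono κ.hom]
        simp only [MonObj.mul_comp, GrpObj.inv_comp, Category.assoc]
        erw [hd₀, Iso.inv_hom_id_assoc]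
        simpa only [Category.assoc] using hn'
      obtain ⟨_, _, _⟩ := GrpLim26.fp_tensor (G := G₀) (H := Γ₀)
      obtain ⟨V₃, φ₃, hz⟩ := GrpLim26.exists_lift hc d₀ (GrpLim26.conjMor d₀) ((GrpLim26.normal_bc_iff π d₀).1 hnd)
      exact ⟨V₃, φ₃, fun _ => hz⟩
    · exact ⟨V, 𝟙 V, fun h => absurd h hn⟩
  -- commutators
  obtain ⟨_, _, _⟩ := GrpLim26.fp_tensor (G := A₀) (H := B₀)
  have hfac : ∃ z : Red.bc π (A₀ ⊗ B₀) ⟶ Red.bc π Γ₀, z ≫ (Over.pullback π).map d₀ = (Over.pullback π).map c₀ := by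
    have h : Functor.LaxMonoidal.μ (Over.pullback π) A₀ B₀ ≫ (Over.pullback π).map c₀ ≫ κ.hom =
        ((GrpLim26.cmp (hs V) A).hom ⊗ₘ (GrpLim26.cmp (hs V) B).hom) ≫ cMap (G := Red.bc s G) (A := Red.bc s A) (B := Red.bc s B) ((Over.pullback s).map a) ((Over.pullback s).map b) := map_cMap_cmp (hs V) a b
    refine ⟨inv (Functor.LaxMonoidal.μ (Over.pullback π) A₀ B₀) ≫
      ((GrpLim26.cmp (hs V) A).hom ⊗ₘ (GrpLim26.cmp (hs V) B).hom) ≫ f' ≫ ψ.inv, ?_⟩
    rw [← cancel_mono κ.hom, Category.assoc, Category.assoc, Category.assoc, Category.assoc, hd₀,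
      Iso.inv_hom_id_assoc, IsIso.inv_comp_eq, hf']
    exact h.symm
  obtain ⟨V₄, φ₄, hV₄⟩ := GrpLim26.exists_lift hc d₀ c₀ hfac
  obtain ⟨_, _, _⟩ := GrpLim26.fp_tensor (G := A₀) (H := B₀)
  obtain ⟨V₅, φ₅, hV₅⟩ := exists_covered hc d₀.left (isConstructible_wordsUpTo c₀ N) fun z => by
    show d₀.left.base _ ∈ wordsUpTo (cMap ((Over.pullback (inc V)).map a) ((Over.pullback (inc V)).map b)) N
    rw [WordsBC.wordsUpTo_cMap_bc]
    have h1 : (ψ.hom ≫ i).left.base z ∈ wordsUpTo (cMap (G := Red.bc s G) (A := Red.bc s A) (B := Red.bc s B) ((Over.pullback s).map a) ((Over.pullback s).map b)) N := hiN ⟨ψ.hom.left.base z, rfl⟩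
    rw [← hd₀, WordsBC.wordsUpTo_cMap_bc] at h1
    have e : ((Over.pullback π).map d₀ ≫ κ.hom).left ≫ pullback.fst G.hom s =
        pullback.fst Γ₀.hom π ≫ d₀.left ≫ pullback.fst G.hom (inc V) := by
      rw [Over.comp_left, Category.assoc, GrpLim26.cmp_hom_fst, GrpLim26.map_left_fst_assoc]
    have e' := congrArg (fun q => q.base z) e
    simp only [Scheme.Hom.comp_apply] at e'
    show pullback.fst G.hom (inc V) (d₀.left.base _) ∈ wordsUpTo (cMap a b) N
    rw [← e']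
    exact h1
  refine ⟨V, Γ₀, g₀', d₀, hd₀m, inferInstance, inferInstance, inferInstance, fun hGI => ?_,
    ⟨V₁, φ₁, hV₁⟩, ⟨V₂, φ₂, hV₂⟩, ⟨V₃, φ₃, hV₃⟩, ⟨V₄, φ₄, hV₄⟩, ⟨V₅, φ₅, hV₅⟩⟩
  rw [← Over.w ψ.hom]
  exact (MorphismProperty.cancel_left_of_respectsIso @GeometricallyIrreducible _ _).2 hGI

end Stages

/-- The generic fibre data. -/
theorem exists_generic {K : Type u} [Field K] (G A B : Over (Spec (CommRingCat.of K))) [GrpObj G] [GrpObj A] [GrpObj B]
    [LocallyOfFiniteType G.hom] [QuasiSeparated G.hom] (a : A ⟶ G) [IsMonHom a] [IsClosedImmersion a.left]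
    (b : B ⟶ G) [IsMonHom b] [IsClosedImmersion b.left]
    [Smooth A.hom] [Smooth B.hom] [QuasiCompact A.hom] [QuasiCompact B.hom]
    (hcase : ConnectedSpace A.left ∨ (AlgGrp.IsNormalHom a ∧ AlgGrp.IsNormalHom b)) :
    ∃ (Γ : Over (Spec (CommRingCat.of K))) (_ : GrpObj Γ) (i : Γ ⟶ G) (N : ℕ), IsMonHom i ∧ IsClosedImmersion i.left ∧
      LocallyOfFinitePresentation Γ.hom ∧ QuasiCompact Γ.hom ∧ QuasiSeparated Γ.hom ∧ Smooth Γ.hom ∧
      (ConnectedSpace A.left → GeometricallyIrreducible Γ.hom) ∧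
      (AlgGrp.IsNormalHom a ∧ AlgGrp.IsNormalHom b → AlgGrp.IsNormalHom i) ∧
      (∃ f' : A ⊗ B ⟶ Γ, f' ≫ i = cMap a b) ∧ Set.range i.left.base ⊆ wordsUpTo (cMap a b) N := by
  haveI : GeometricallyReduced A.hom := AbSchLib.geometricallyReduced_of_smooth _
  haveI : GeometricallyReduced B.hom := AbSchLib.geometricallyReduced_of_smooth _
  let X := A ⊗ B
  haveI : GeometricallyReduced X.hom := FBaseLib.geometricallyReduced_pullback A.hom B.hom
  obtain ⟨Γ, gΓ, i, hi, hci, hgr, -, hrange, ⟨f', hf'⟩, hmin⟩ := Gen.exists_smallest (cMap a b)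
  haveI := hi; haveI := hci; haveI := hgr
  haveI : Mono i := Over.mono_of_mono_left i
  haveI : LocallyOfFiniteType Γ.hom := by rw [← Over.w i]; infer_instance
  haveI : LocallyOfFinitePresentation Γ.hom := inferInstance
  haveI : Smooth Γ.hom := AbVarLib.smooth_of_geometricallyReduced Γ
  haveI : QuasiSeparated Γ.hom := by rw [← Over.w i]; infer_instance
  have hcase' : (AlgGrp.IsNormalHom a ∧ AlgGrp.IsNormalHom b ∧ QuasiCompact A.hom) ∨ ConnectedSpace A.left :=
    hcase.symm.imp (fun h => ⟨h.1, h.2, inferInstance⟩) id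
  obtain ⟨hΓq, hΓc⟩ := Groth.Agent.S5365.result K G A B a b hcase' Γ i ⟨f', hf'⟩ hmin
  obtain ⟨N, hN⟩ := WordsBC.exists_bound G A B a b (hcase'.imp id fun h => by
    haveI := h
    refine ⟨h, ?_⟩
    have := SGA3cLib.geometricallyConnected_of_rational_point K A.hom (𝟙 A.left) η[A].left (Over.w η[A]) (by simp)
    simpa using this)
  refine ⟨Γ, gΓ, i, N, hi, hci, inferInstance, hΓq, inferInstance, inferInstance, fun h => ?_, fun hn => ?_, ⟨f', hf'⟩, ?_⟩
  · haveI := hΓc h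
    exact geometricallyIrreducible_of_connected Γ
  · exact ConjTransporter.isNormalHom_of_minimal i (cMap a b) (conj_cMap a b hn.1 hn.2) ⟨f', hf'⟩ hmin
  · rw [hrange]
    refine (closure_mono ?_).trans hN
    rw [AlgGrpLib.Generated.productPoints_eq]
    refine Set.iUnion_subset fun n => ?_
    rintro _ ⟨t, rfl⟩
    let T := AlgGrpLib.Generated.Pow (Gen.dbl X) n
    obtain ⟨L, hL⟩ := AlgGrpLib.Generated.exists_list (Gen.sym (cMap a b)) n
    let T' : Over (Spec (CommRingCat.of K)) := Over.mk (T.left.fromSpecResidueField t ≫ T.hom)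
    let q : T' ⟶ T := Over.homMk (T.left.fromSpecResidueField t) rfl
    haveI : IsReduced T'.left := inferInstanceAs (IsReduced (Spec (T.left.residueField t)))
    haveI : Subsingleton ↥T'.left := inferInstanceAs (Subsingleton (PrimeSpectrum (T.left.residueField t)))
    let p₀ : T'.left := IsLocalRing.closedPoint (T.left.residueField t)
    have hd : ∀ y : T' ⟶ Gen.dbl X, ∃ p : Bool × (T' ⟶ X),
        y ≫ Gen.sym (cMap a b) = if p.1 then p.2 ≫ cMap a b else (p.2 ≫ cMap a b)⁻¹ := by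
      intro y
      have hlift : ∀ (d : X ⟶ Gen.dbl X), IsImmersion d.left → y.left.base p₀ ∈ Set.range d.left.base →
          ∃ y', y' ≫ d = y := by
        intro d hd hy
        obtain ⟨y', hy'⟩ := RedSepLib.exists_lift_of_range_subset y.left d.left (by
          rintro _ ⟨t', rfl⟩
          rwa [Subsingleton.elim t' p₀])
        exact ⟨Over.homMk y' (by rw [← Over.w d, ← Category.assoc, hy', Over.w]), Over.OverMorphism.ext hy'⟩
      haveI : IsImmersion (Gen.dblL X).left := inferInstanceAs (IsImmersion (coprod.inl : X.left ⟶ X.left ⨿ X.left))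
      haveI : IsImmersion (Gen.dblR X).left := inferInstanceAs (IsImmersion (coprod.inr : X.left ⟶ X.left ⨿ X.left))
      rcases Gen.mem_range_dbl (y.left.base p₀) with hy | hy
      · obtain ⟨y', rfl⟩ := hlift _ inferInstance hy
        exact ⟨(true, y'), by simp [Gen.dblL_sym]⟩
      · obtain ⟨y', rfl⟩ := hlift _ inferInstance hy
        exact ⟨(false, y'), by simp [Gen.dblR_sym, GrpObj.comp_inv]⟩
    choose pd hpd using hd
    have h1 : Bounded.wprod (cMap a b) ((L.map fun y => q ≫ y).map pd) =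
        q ≫ AlgGrpLib.Generated.powProd (Gen.sym (cMap a b)) n := by
      rw [← hL, ← AlgGrpLib.Generated.comp_prod (Gen.sym (cMap a b)), Bounded.wprod, List.map_map]
      congr 1
      exact List.map_congr_left fun y _ => (hpd y).symm
    have h2 : (q ≫ AlgGrpLib.Generated.powProd (Gen.sym (cMap a b)) n).left.base p₀ ∈
        ⋃ l : List Bool, Set.range (wMap (cMap a b) l).left.base := by
      rw [← h1]
      obtain ⟨x, ε, hx⟩ := Bounded.exists_fin (cMap a b) ((L.map fun y => q ≫ y).map pd)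
      obtain ⟨l, -, hl⟩ := (mem_words_iff (cMap a b) _ _).1 ⟨T', p₀, x, ε, by rw [hx]⟩
      exact Set.mem_iUnion.2 ⟨l, hl⟩
    have h3 : T.left.fromSpecResidueField t p₀ = t := T.left.fromSpecResidueField_apply t _
    rw [← h3]
    exact h2

/-- Geometric irreducibility at the generic point spreads. -/
theorem exists_irr {S W₀ : Scheme.{u}} [IsIntegral S] [IrreducibleSpace W₀] (inc : W₀ ⟶ S) [IsOpenImmersion inc]
    {π : Spec (S.presheaf.stalk (genericPoint S)) ⟶ W₀} (hπ : π ≫ inc = S.fromSpecStalk (genericPoint S))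
    (Γ₀ : Over W₀) [LocallyOfFinitePresentation Γ₀.hom] [QuasiCompact Γ₀.hom] (C : Prop)
    (hGI : C → GeometricallyIrreducible (Red.bc π Γ₀).hom) :
    ∃ O : W₀.Opens, genericPoint W₀ ∈ O ∧ (C → ∀ y ∈ O, GeometricallyIrreducible (Γ₀.hom.fiberToSpecResidueField y)) := by
  classical
  by_cases hC : C
  · let y₀ := genericPoint W₀
    have hy₀ : inc y₀ = genericPoint S := genericPoint_eq_of_isOpenImmersion inc
    let t := W₀.fromSpecResidueField y₀
    obtain ⟨t', ht'⟩ := exists_factor_genericPoint S (W₀.residueField y₀) (t ≫ inc)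
      (fun z => (Scheme.Hom.comp_apply t inc z).trans
        ((congrArg inc (W₀.fromSpecResidueField_apply y₀ z)).trans hy₀))
    have ht : t' ≫ π = t := by
      rw [← cancel_mono inc, Category.assoc, hπ]
      exact ht'
    have := prop_bc_of_comp (P := @GeometricallyIrreducible) t' ht Γ₀ (hGI hC)
    obtain ⟨O, hO, hOirr⟩ := FlatMorGeomIrr.exists_opens_forall_geometricallyIrreducible Γ₀.hom this
    obtain ⟨o, ho⟩ := hO
    exact ⟨O, (genericPoint_specializes o).mem_open O.isOpen ho, fun _ => hOirr⟩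
  · exact ⟨⊤, trivial, fun h => absurd h hC⟩

/-- Gluing the properties found at stages over a smaller base. -/
theorem assemble {S W₀ T W₁ W₂ W₃ W₄ W₅ : Scheme.{u}} {G A B : Over S} [GrpObj G] [GrpObj A] [GrpObj B]
    (a : A ⟶ G) (b : B ⟶ G) {inc : W₀ ⟶ S} {p : T ⟶ S} {q : T ⟶ W₀} (hq : q ≫ inc = p)
    (Γ₀ : Over W₀) [GrpObj Γ₀] [LocallyOfFinitePresentation Γ₀.hom] [QuasiCompact Γ₀.hom] [QuasiSeparated Γ₀.hom]
    (d₀ : Γ₀ ⟶ Red.bc inc G) [IsMonHom d₀] (P C : Prop) (N : ℕ)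
    {e₁ : W₁ ⟶ W₀} (hV₁ : IsClosedImmersion ((Over.pullback e₁).map d₀).left) {w₁ : T ⟶ W₁} (hw₁ : w₁ ≫ e₁ = q)
    {e₂ : W₂ ⟶ W₀} (hV₂ : Smooth (Red.bc e₂ Γ₀).hom) {w₂ : T ⟶ W₂} (hw₂ : w₂ ≫ e₂ = q)
    {e₃ : W₃ ⟶ W₀} (hV₃ : P → ∃ z : Red.bc e₃ (Red.bc inc G ⊗ Γ₀) ⟶ Red.bc e₃ Γ₀,
      z ≫ (Over.pullback e₃).map d₀ = (Over.pullback e₃).map (GrpLim26.conjMor d₀))
    {w₃ : T ⟶ W₃} (hw₃ : w₃ ≫ e₃ = q)
    {e₄ : W₄ ⟶ W₀} (hV₄ : ∃ z : Red.bc e₄ (Red.bc inc A ⊗ Red.bc inc B) ⟶ Red.bc e₄ Γ₀,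
      z ≫ (Over.pullback e₄).map d₀ = (Over.pullback e₄).map (cMap (G := Red.bc inc G) (A := Red.bc inc A)
        (B := Red.bc inc B) ((Over.pullback inc).map a) ((Over.pullback inc).map b)))
    {w₄ : T ⟶ W₄} (hw₄ : w₄ ≫ e₄ = q)
    {e₅ : W₅ ⟶ W₀} (hV₅ : ∀ x : Γ₀.left, Γ₀.hom x ∈ Set.range e₅ →
      d₀.left x ∈ wordsUpTo (cMap (G := Red.bc inc G) (A := Red.bc inc A) (B := Red.bc inc B)
        ((Over.pullback inc).map a) ((Over.pullback inc).map b)) N)
    {w₅ : T ⟶ W₅} (hw₅ : w₅ ≫ e₅ = q)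
    (hirr : C → ∀ x : T, GeometricallyIrreducible (Γ₀.hom.fiberToSpecResidueField (q x))) :
    ∃ (D : Over T) (_ : GrpObj D) (d : D ⟶ Red.bc p G) (N : ℕ),
        IsMonHom d ∧ IsClosedImmersion d.left ∧
        LocallyOfFinitePresentation D.hom ∧ QuasiCompact D.hom ∧ QuasiSeparated D.hom ∧ Smooth D.hom ∧
        (C → ∀ s : T, ConnectedSpace (D.hom.fiber s)) ∧
        (P → AlgGrp.IsNormalHom d) ∧
        (∃ z : Red.bc p A ⊗ Red.bc p B ⟶ D, z ≫ d =
          cMap (G := Red.bc p G) (A := Red.bc p A) (B := Red.bc p B) ((Over.pullback p).map a) ((Over.pullback p).map b)) ∧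
        Set.range d.left.base ⊆ wordsUpTo
          (cMap (G := Red.bc p G) (A := Red.bc p A) (B := Red.bc p B) ((Over.pullback p).map a) ((Over.pullback p).map b)) N := by
  let A₀ := Red.bc inc A
  let B₀ := Red.bc inc B
  let G₀ := Red.bc inc G
  let c₀ : A₀ ⊗ B₀ ⟶ G₀ := cMap ((Over.pullback inc).map a) ((Over.pullback inc).map b)
  let κU := GrpLim26.cmp hq G
  let D := Red.bc q Γ₀
  let dq : D ⟶ Red.bc q G₀ := (Over.pullback q).map d₀
  let d : D ⟶ Red.bc p G := dq ≫ κU.hom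
  haveI : IsClosedImmersion dq.left := prop_map_of_comp (P := @IsClosedImmersion) w₁ hw₁ d₀ hV₁
  haveI : IsClosedImmersion d.left := by
    haveI : IsIso κU.hom.left := inferInstanceAs (IsIso ((Over.forget _).map κU.hom))
    exact inferInstanceAs (IsClosedImmersion (dq.left ≫ κU.hom.left))
  haveI : IsMonHom dq := inferInstanceAs (IsMonHom ((Over.pullback q).map d₀))
  refine ⟨D, inferInstance, d, N, inferInstanceAs (IsMonHom (dq ≫ κU.hom)), inferInstance,
    inferInstanceAs (LocallyOfFinitePresentation (pullback.snd Γ₀.hom q)),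
    inferInstanceAs (QuasiCompact (pullback.snd Γ₀.hom q)), inferInstanceAs (QuasiSeparated (pullback.snd Γ₀.hom q)),
    prop_bc_of_comp (P := @Smooth) w₂ hw₂ Γ₀ hV₂, fun hA x => ?_, fun hn => ?_, ?_, ?_⟩
  · let t := T.fromSpecResidueField x
    have ht : Spec.map (q.residueFieldMap x) ≫ W₀.fromSpecResidueField (q x) = t ≫ q :=
      (Scheme.Hom.SpecMap_residueFieldMap_fromSpecResidueField q x)
    have h1 := prop_bc_of_comp (P := @GeometricallyIrreducible) (Spec.map (q.residueFieldMap x)) ht Γ₀ (hirr hA x)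
    haveI : GeometricallyIrreducible (Red.bc t D).hom := by
      rw [← Over.w (GrpLim26.cmp (rfl : t ≫ q = t ≫ q) Γ₀).hom]
      haveI : IsIso (GrpLim26.cmp (rfl : t ≫ q = t ≫ q) Γ₀).hom.left := inferInstanceAs (IsIso ((Over.forget _).map (GrpLim26.cmp (rfl : t ≫ q = t ≫ q) Γ₀).hom))
      exact (MorphismProperty.cancel_left_of_respectsIso @GeometricallyIrreducible _ _).2 h1
    haveI : IrreducibleSpace (Red.bc t D).left :=
      GeometricallyIrreducible.irreducibleSpace_of_subsingleton (Red.bc t D).hom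
    exact inferInstanceAs (ConnectedSpace (Red.bc t D).left)
  · obtain ⟨z, hz⟩ := fac_of_comp hw₃ (hV₃ hn)
    have hnq : AlgGrp.IsNormalHom dq := (GrpLim26.normal_bc_iff q d₀).2 ⟨z, hz⟩
    intro T g n
    obtain ⟨n', hn'⟩ := hnq T (g ≫ κU.inv) n
    refine ⟨n', ?_⟩
    rw [← cancel_mono κU.inv]
    simp only [MonObj.mul_comp, GrpObj.inv_comp, Category.assoc, d, Iso.hom_inv_id, Category.comp_id]
    exact hn'
  · obtain ⟨z, hz⟩ := fac_of_comp hw₄ hV₄
    refine ⟨inv ((GrpLim26.cmp hq A).hom ⊗ₘ (GrpLim26.cmp hq B).hom) ≫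
      Functor.LaxMonoidal.μ (Over.pullback q) A₀ B₀ ≫ z, ?_⟩
    rw [Category.assoc, Category.assoc, IsIso.inv_comp_eq]
    show _ ≫ z ≫ dq ≫ κU.hom = _
    rw [← Category.assoc z, show z ≫ dq = (Over.pullback q).map c₀ from hz]
    exact map_cMap_cmp hq a b
  · rintro _ ⟨x, rfl⟩
    rw [WordsBC.wordsUpTo_cMap_bc]
    let x₀ : Γ₀.left := pullback.fst Γ₀.hom q x
    have h1 : d₀.left.base x₀ ∈ wordsUpTo c₀ N := hV₅ x₀ ⟨w₅ (D.hom x), by
      rw [← Scheme.Hom.comp_apply, hw₅, ← Scheme.Hom.comp_apply, ← Scheme.Hom.comp_apply, pullback.condition]; rfl⟩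
    rw [WordsBC.wordsUpTo_cMap_bc] at h1
    have e : d.left ≫ pullback.fst G.hom p = pullback.fst Γ₀.hom q ≫ d₀.left ≫ pullback.fst G.hom inc := by
      rw [Over.comp_left, Category.assoc, GrpLim26.cmp_hom_fst, GrpLim26.map_left_fst_assoc]
    have e' := congrArg (fun m => m.base x) e
    simp only [Scheme.Hom.comp_apply] at e'
    show pullback.fst G.hom p (d.left.base x) ∈ wordsUpTo (cMap a b) N
    rw [e']
    exact h1


set_option maxHeartbeats 2000000 in
theorem main (S : Scheme.{u}) [IsIntegral S] (G A B : Over S) [GrpObj G] [GrpObj A] [GrpObj B]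
    [LocallyOfFinitePresentation G.hom] [QuasiCompact G.hom] [QuasiSeparated G.hom]
    [LocallyOfFinitePresentation A.hom] [QuasiCompact A.hom] [QuasiSeparated A.hom]
    [LocallyOfFinitePresentation B.hom] [QuasiCompact B.hom] [QuasiSeparated B.hom]
    (a : A ⟶ G) [IsMonHom a] [IsImmersion a.left] (b : B ⟶ G) [IsMonHom b] [IsImmersion b.left]
    (hsmA : Smooth (Red.bc (S.fromSpecResidueField (genericPoint S)) A).hom)
    (hsmB : Smooth (Red.bc (S.fromSpecResidueField (genericPoint S)) B).hom)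
    (hcase : ConnectedSpace (Red.bc (S.fromSpecResidueField (genericPoint S)) A).left ∨
      (AlgGrp.IsNormalHom a ∧ AlgGrp.IsNormalHom b)) :
    ∃ U : S.Opens, (U : Set S).Nonempty ∧
      ∃ (D : Over (U : Scheme.{u})) (_ : GrpObj D) (d : D ⟶ Red.bc U.ι G) (N : ℕ),
        IsMonHom d ∧ IsClosedImmersion d.left ∧
        LocallyOfFinitePresentation D.hom ∧ QuasiCompact D.hom ∧ QuasiSeparated D.hom ∧ Smooth D.hom ∧
        (ConnectedSpace (Red.bc (S.fromSpecResidueField (genericPoint S)) A).left →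
          ∀ s : (U : Scheme.{u}), ConnectedSpace (D.hom.fiber s)) ∧
        (AlgGrp.IsNormalHom a ∧ AlgGrp.IsNormalHom b → AlgGrp.IsNormalHom d) ∧
        (∃ z : Red.bc U.ι A ⊗ Red.bc U.ι B ⟶ D, z ≫ d =
          cMap (G := Red.bc U.ι G) (A := Red.bc U.ι A) (B := Red.bc U.ι B) ((Over.pullback U.ι).map a) ((Over.pullback U.ι).map b)) ∧
        Set.range d.left.base ⊆ wordsUpTo
          (cMap (G := Red.bc U.ι G) (A := Red.bc U.ι A) (B := Red.bc U.ι B) ((Over.pullback U.ι).map a) ((Over.pullback U.ι).map b)) N := by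
  classical
  let η₀ := genericPoint S
  let K : Type u := S.functionField
  let s : Spec (CommRingCat.of K) ⟶ S := S.fromSpecStalk η₀
  let r : Spec (S.residueField η₀) ⟶ Spec (CommRingCat.of K) := Spec.map (S.residue η₀)
  have hr : r ≫ s = S.fromSpecResidueField η₀ := rfl
  haveI : IsIso (S.residue η₀) := by
    refine (ConcreteCategory.isIso_iff_bijective _).2 ⟨?_, Ideal.Quotient.mk_surjective⟩
    exact (S.residue η₀).hom.injective
  haveI : IsIso r := inferInstanceAs (IsIso (Spec.map (S.residue η₀)))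
  have hr' : inv r ≫ S.fromSpecResidueField η₀ = s := by rw [← hr, IsIso.inv_hom_id_assoc]
  -- the generic fibre
  let GK := Red.bc s G
  let AK := Red.bc s A
  let BK := Red.bc s B
  let aK : AK ⟶ GK := (Over.pullback s).map a
  let bK : BK ⟶ GK := (Over.pullback s).map b
  haveI : Smooth AK.hom := prop_bc_of_comp (P := @Smooth) (inv r) hr' A hsmA
  haveI : Smooth BK.hom := prop_bc_of_comp (P := @Smooth) (inv r) hr' B hsmB
  haveI : LocallyOfFiniteType GK.hom := inferInstanceAs (LocallyOfFiniteType (pullback.snd G.hom s))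
  haveI : QuasiCompact GK.hom := inferInstanceAs (QuasiCompact (pullback.snd G.hom s))
  haveI : QuasiSeparated GK.hom := inferInstanceAs (QuasiSeparated (pullback.snd G.hom s))
  haveI : LocallyOfFiniteType AK.hom := inferInstance
  haveI : LocallyOfFiniteType BK.hom := inferInstance
  haveI : QuasiCompact AK.hom := inferInstanceAs (QuasiCompact (pullback.snd A.hom s))
  haveI : QuasiCompact BK.hom := inferInstanceAs (QuasiCompact (pullback.snd B.hom s))
  haveI : IsMonHom aK := inferInstanceAs (IsMonHom ((Over.pullback s).map a))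
  haveI : IsMonHom bK := inferInstanceAs (IsMonHom ((Over.pullback s).map b))
  have hclK : ∀ {C : Over S} [GrpObj C] [LocallyOfFiniteType C.hom] [QuasiCompact C.hom] (v : C ⟶ G) [IsMonHom v]
      [IsImmersion v.left], IsClosedImmersion ((Over.pullback s).map v).left := by
    intro C _ _ _ v _ _
    haveI : IsImmersion ((Over.pullback s).map v).left :=
      MorphismProperty.of_isPullback (P := @IsImmersion) (SGA3UnitSec.isPullback_map_left s v) ‹_›
    haveI : Mono ((Over.pullback s).map v : Red.bc s C ⟶ Red.bc s G) := Over.mono_of_mono_left _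
    haveI : LocallyOfFiniteType (Red.bc s C).hom := inferInstanceAs (LocallyOfFiniteType (pullback.snd C.hom s))
    haveI : QuasiCompact ((Over.pullback s).map v).left := by
      haveI : QuasiCompact (((Over.pullback s).map v).left ≫ GK.hom) := by
        rw [Over.w ((Over.pullback s).map v)]; exact inferInstanceAs (QuasiCompact (pullback.snd C.hom s))
      exact QuasiCompact.of_comp _ GK.hom
    exact SGA3cLib.isClosedImmersion_of_mono (k := K) (G := Red.bc s C) (H := Red.bc s G) ((Over.pullback s).map v)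
  haveI : IsClosedImmersion aK.left := hclK a
  haveI : IsClosedImmersion bK.left := hclK b
  have hnK : AlgGrp.IsNormalHom a ∧ AlgGrp.IsNormalHom b → AlgGrp.IsNormalHom aK ∧ AlgGrp.IsNormalHom bK := by
    rintro ⟨ha, hb⟩
    refine ⟨(GrpLim26.normal_bc_iff s a).2 ?_, (GrpLim26.normal_bc_iff s b).2 ?_⟩
    · obtain ⟨z, hz⟩ := (GrpLim26.normal_iff a).1 ha
      exact ⟨(Over.pullback s).map z, by rw [← hz]; exact ((Over.pullback s).map_comp z a).symm⟩
    · obtain ⟨z, hz⟩ := (GrpLim26.normal_iff b).1 hb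
      exact ⟨(Over.pullback s).map z, by rw [← hz]; exact ((Over.pullback s).map_comp z b).symm⟩
  have hcK : ConnectedSpace (Red.bc (S.fromSpecResidueField η₀) A).left → ConnectedSpace AK.left :=
    fun h => connectedSpace_bc_of_iso (inv r) hr' A h
  obtain ⟨Γ, gΓ, i, N, hi, hci, hΓfp, hΓq, hΓs, hΓsm, hΓirr, hnΓ, ⟨f', hf'⟩, hiN⟩ :=
    exists_generic GK AK BK aK bK (hcase.imp hcK hnK)
  haveI := hi; haveI := hci
  let Dg := H8Lim.StalkLimit.diagram η₀
  let cc := H8Lim.StalkLimit.cone η₀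
  have hc : IsLimit cc := H8Lim.StalkLimit.isLimitCone η₀
  haveI : ∀ (V V' : H8Lim.StalkLimit.AffNhd η₀) (f : V ⟶ V'), IsAffineHom (Dg.map f) := fun V V' f => inferInstance
  haveI : ∀ V, CompactSpace (Dg.obj V) := fun V => inferInstance
  haveI : ∀ V, QuasiSeparatedSpace (Dg.obj V) := fun V => inferInstance
  let inc := fun V => H8Lim.StalkLimit.incMap η₀ V
  have hci' : ∀ V, cc.π.app V ≫ inc V = s := H8Lim.StalkLimit.cone_incMap η₀
  obtain ⟨V, Γ₀, g₀', d₀, hd₀m, _, _, _, hGI₀, ⟨V₁, φ₁, hV₁⟩, ⟨V₂, φ₂, hV₂⟩, ⟨V₃, φ₃, hV₃⟩, ⟨V₄, φ₄, hV₄⟩,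
      ⟨V₅, φ₅, hV₅⟩⟩ :=
    @exists_stages S _ _ _ Dg cc _ _ _ hc G A B _ _ _ inc (fun f => H8Lim.StalkLimit.map_incMap η₀ f) s hci'
      _ _ _ _ _ _ _ _ _ a b Γ gΓ hΓfp hΓq hΓs hΓsm i hi hci (AlgGrp.IsNormalHom a ∧ AlgGrp.IsNormalHom b) N
      (fun h => hnΓ (hnK h)) ⟨f', hf'⟩ hiN
  haveI := hd₀m
  -- the open
  haveI : IsOpenImmersion (inc V) := inferInstanceAs (IsOpenImmersion V.2.1.fromSpec)
  haveI : Nonempty (Dg.obj V) := ⟨cc.π.app V (IsLocalRing.closedPoint K)⟩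
  haveI : IrreducibleSpace (Dg.obj V) := by
    haveI : Nonempty (V.1 : Scheme.{u}) := ⟨⟨η₀, V.2.2⟩⟩
    exact V.2.1.isoSpec.hom.homeomorph.surjective.irreducibleSpace V.2.1.isoSpec.hom.homeomorph.continuous
  obtain ⟨O, hO, hOconn⟩ := exists_irr (inc V) (π := cc.π.app V) (hci' V) Γ₀
    (ConnectedSpace (Red.bc (S.fromSpecResidueField η₀) A).left) (fun hA => hGI₀ (hΓirr (hcK hA)))
  let U : S.Opens := V.1 ⊓ (inc V ''ᵁ O) ⊓ V₁.1 ⊓ V₂.1 ⊓ V₃.1 ⊓ V₄.1 ⊓ V₅.1
  have hηU : η₀ ∈ U := ⟨⟨⟨⟨⟨⟨V.2.2, ⟨_, hO, genericPoint_eq_of_isOpenImmersion (inc V)⟩⟩, V₁.2.2⟩, V₂.2.2⟩, V₃.2.2⟩, V₄.2.2⟩, V₅.2.2⟩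
  have hto : ∀ W : H8Lim.StalkLimit.AffNhd η₀, U ≤ W.1 →
      ∃ w : (U : Scheme.{u}) ⟶ Dg.obj W, w ≫ inc W = U.ι := fun W hW =>
    ⟨S.homOfLE hW ≫ W.2.1.isoSpec.hom, by
      show (_ ≫ _) ≫ W.2.1.fromSpec = _
      rw [Category.assoc, W.2.1.isoSpec_hom_fromSpec, Scheme.homOfLE_ι]⟩
  obtain ⟨q, hq⟩ := hto V (fun z hz => hz.1.1.1.1.1.1)
  have hstage : ∀ (W : H8Lim.StalkLimit.AffNhd η₀) (φ : W ⟶ V), U ≤ W.1 →
      ∃ w : (U : Scheme.{u}) ⟶ Dg.obj W, w ≫ Dg.map φ = q := fun W φ hW => by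
    obtain ⟨w, hw⟩ := hto W hW
    refine ⟨w, ?_⟩
    rw [← cancel_mono (inc V), Category.assoc, H8Lim.StalkLimit.map_incMap η₀ φ, hq]
    exact hw
  obtain ⟨w₁, hw₁⟩ := hstage V₁ φ₁ (fun z hz => hz.1.1.1.1.2)
  obtain ⟨w₂, hw₂⟩ := hstage V₂ φ₂ (fun z hz => hz.1.1.1.2)
  obtain ⟨w₃, hw₃⟩ := hstage V₃ φ₃ (fun z hz => hz.1.1.2)
  obtain ⟨w₄, hw₄⟩ := hstage V₄ φ₄ (fun z hz => hz.1.2)
  obtain ⟨w₅, hw₅⟩ := hstage V₅ φ₅ (fun z hz => hz.2)
  refine ⟨U, ⟨η₀, hηU⟩, assemble a b hq Γ₀ d₀ _ _ N hV₁ hw₁ hV₂ hw₂ hV₃ hw₃ hV₄ hw₄ hV₅ hw₅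
    (fun hA x => hOconn hA _ ?_)⟩
  obtain ⟨o, ho, hox⟩ := (x.2.1.1.1.1.1.2 : x.1 ∈ inc V ''ᵁ O)
  have : inc V (q x) = x.1 := by rw [← Scheme.Hom.comp_apply, hq]; rfl
  rwa [← (inc V).isOpenEmbedding.injective (hox.trans this.symm)]

end Groth.Agent.SGA3cLib.CommSpread
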