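import Groth.Agent.SGA3cLib.SmoothPure
import Mathlib.RingTheory.Smooth.StandardSmoothOfFree
import Mathlib.RingTheory.Localization.BaseChange

/-!
# A single infinitesimal neighbourhood of a section detects closed subschemes
-/

set_option linter.style.haveILetI false
set_option autoImplicit false

universe u

open CategoryTheory CategoryTheory.Limits AlgebraicGeometry
open scoped TensorProduct

noncomputable section

namespace Groth.Agent.SGA3cLib.Jet

/-- Over a fixed element one level of the filtration suffices. -/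
theorem exists_level {R B : Type u} [CommRing R] [CommRing B] [Algebra R B] [Algebra.IsStandardSmooth R B]
    (σ : B →ₐ[R] R) (hdom : ∀ (L : Type u) [Field L] [Algebra R L], IsDomain (L ⊗[R] B)) (b : B) :
    ∃ n : ℕ, ∀ (C : Type u) [CommRing C] [Algebra R C],
      (1 : C) ⊗ₜ[R] b ∈ RingHom.ker (augBC σ C) ^ (n + 1) → (1 : C) ⊗ₜ[R] b = 0 := by
  classical
  obtain ⟨R₁, B₁, _, _, _, _, _, _, σ₁, e, b₁, hinj, hb₁, hσ₁⟩ := exists_model σ b
  obtain ⟨d, g, hg, h0⟩ := exists_adapted σ₁
  choose φ hφ using mem_pow_iff_coeff σ₁ g hg h0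
  let s : Set R₁ := Set.range fun i : ℕ × (Fin d →₀ ℕ) => φ i.1 i.2 b₁
  obtain ⟨t, hts, htspan⟩ := (Submodule.fg_span_iff_fg_span_finset_subset s).mp (IsNoetherian.noetherian (Ideal.span s))
  choose ix hix using fun y : t => hts y.2
  refine ⟨Finset.univ.sup fun y : t => (ix y).1, fun C _ _ hmem => ?_⟩
  letI : Algebra R₁ C := ((algebraMap R C).comp (algebraMap R₁ R)).toAlgebra
  haveI : IsScalarTower R₁ R C := IsScalarTower.of_algebraMap_eq fun _ => rfl
  let E : C ⊗[R] B ≃ₐ[C] C ⊗[R₁] B₁ :=
    (Algebra.TensorProduct.congr (AlgEquiv.refl (R := C) (A₁ := C)) e.symm).trans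
      (Algebra.TensorProduct.cancelBaseChange R₁ R C C B₁)
  have hE : E ((1 : C) ⊗ₜ b) = (1 : C) ⊗ₜ b₁ := by simp [E, ← hb₁]
  have haug : ∀ z, augBC σ C z = augBC σ₁ C (E z) := fun z => by
    obtain ⟨w, rfl⟩ := E.symm.surjective z
    rw [E.apply_symm_apply]
    induction w using TensorProduct.induction_on with
    | zero => simp
    | add z w hz hw => simp only [map_add, hz, hw]
    | tmul c y =>
      have h1 : E (c ⊗ₜ e ((1 : R) ⊗ₜ y)) = c ⊗ₜ y := by simp [E]
      rw [← h1, E.symm_apply_apply, h1, augBC_tmul, augBC_tmul, hσ₁, ← IsScalarTower.algebraMap_apply]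
  have hker : (RingHom.ker (augBC σ C)).map E.toAlgHom ≤ RingHom.ker (augBC σ₁ C) := by
    rw [Ideal.map_le_iff_le_comap]
    intro z hz
    show augBC σ₁ C (E z) = 0
    rw [← haug]; exact hz
  have hmem' : (1 : C) ⊗ₜ[R₁] b₁ ∈ RingHom.ker (augBC σ₁ C) ^ ((Finset.univ.sup fun y : t => (ix y).1) + 1) := by
    have h1 := Ideal.mem_map_of_mem E.toAlgHom hmem
    rw [Ideal.map_pow] at h1
    have h2 := Ideal.pow_right_mono hker _ h1
    rwa [show E.toAlgHom ((1 : C) ⊗ₜ b) = (1 : C) ⊗ₜ b₁ from hE] at h2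
  have hall : ∀ k a, algebraMap R₁ C (φ k a b₁) = 0 := by
    intro k a
    have hle : Ideal.span s ≤ RingHom.ker (algebraMap R₁ C) := by
      refine htspan.le.trans (Ideal.span_le.mpr fun y hy => ?_)
      show algebraMap R₁ C y = 0
      rw [show y = φ (ix ⟨y, hy⟩).1 (ix ⟨y, hy⟩).2 b₁ from (hix ⟨y, hy⟩).symm]
      refine (hφ (ix ⟨y, hy⟩).1 C b₁).mp ?_ _
      exact Ideal.pow_le_pow_right (Nat.succ_le_succ (Finset.le_sup (f := fun y : t => (ix y).1) (Finset.mem_univ _))) hmem'
    exact hle (Ideal.subset_span ⟨(k, a), rfl⟩)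
  apply E.injective
  rw [hE, map_zero]
  refine eq_zero_of_forall_mem_pow (augBC σ₁ C) (fun L _ _ => ?_) _ fun k => (hφ k C b₁).mpr (hall k)
  letI : Algebra R L := ((algebraMap C L).comp (algebraMap R C)).toAlgebra
  letI : Algebra R₁ L := ((algebraMap R L).comp (algebraMap R₁ R)).toAlgebra
  haveI : IsScalarTower R₁ R L := IsScalarTower.of_algebraMap_eq fun _ => rfl
  haveI : IsScalarTower R₁ C L := IsScalarTower.of_algebraMap_eq fun _ => rfl
  haveI := hdom L
  exact MulEquiv.isDomain (L ⊗[R] B) (((Algebra.TensorProduct.cancelBaseChange R₁ C L L B₁).trans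
    (Algebra.TensorProduct.cancelBaseChange R₁ R L L B₁).symm).trans
    (Algebra.TensorProduct.congr (AlgEquiv.refl (R := L) (A₁ := L)) e)).toMulEquiv

set_option backward.isDefEq.respectTransparency.types false in
/-- The geometric fibres of a smooth algebra with connected geometric fibres are integral. -/
theorem isDomain_of_connected {R B : Type u} [CommRing R] [CommRing B] [Algebra R B] [Algebra.Smooth R B]
    (hconn : ∀ (K : Type u) [Field K] [IsAlgClosed K] [Algebra R K], ConnectedSpace (PrimeSpectrum (K ⊗[R] B)))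
    (K : Type u) [Field K] [IsAlgClosed K] [Algebra R K] : IsDomain (K ⊗[R] B) := by
  let f : Spec (CommRingCat.of (K ⊗[R] B)) ⟶ Spec (CommRingCat.of K) :=
    Spec.map (CommRingCat.ofHom (algebraMap K (K ⊗[R] B)))
  haveI : AlgebraicGeometry.Smooth f := by
    rw [HasRingHomProperty.Spec_iff (P := @AlgebraicGeometry.Smooth)]
    exact RingHom.smooth_algebraMap.mpr inferInstance
  haveI : ConnectedSpace ↥(Spec (CommRingCat.of (K ⊗[R] B))) := hconn K
  exact (affine_isIntegral_iff (CommRingCat.of (K ⊗[R] B))).mp (SmoothPure.isIntegral_of_smooth_connected f)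

set_option backward.isDefEq.respectTransparency.types false in
/-- An element vanishing where a function invertible on a section is invertible is zero. -/
theorem eq_zero_of_away {C B : Type u} [CommRing C] [CommRing B] [Algebra C B] [Algebra.Smooth C B]
    (hconn : ∀ (K : Type u) [Field K] [IsAlgClosed K] [Algebra C K], ConnectedSpace (PrimeSpectrum (K ⊗[C] B)))
    (σ : B →ₐ[C] C) (g : B) (hg : IsUnit (σ g)) (z : B) (hz : algebraMap B (Localization.Away g) z = 0) : z = 0 := by
  let f : Spec (CommRingCat.of B) ⟶ Spec (CommRingCat.of C) := Spec.map (CommRingCat.ofHom (algebraMap C B))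
  haveI : AlgebraicGeometry.Smooth f := by
    rw [HasRingHomProperty.Spec_iff (P := @AlgebraicGeometry.Smooth)]
    exact RingHom.smooth_algebraMap.mpr inferInstance
  have hint : SmoothPure.IntFibres f := by
    intro K _ _ x
    obtain ⟨φ, rfl⟩ := Spec.map_surjective x
    letI : Algebra C K := φ.hom.toAlgebra
    haveI := isDomain_of_connected hconn K
    let e : Spec (CommRingCat.of (K ⊗[C] B)) ≅ pullback f (Spec.map φ) :=
      (pullbackSpecIso C K B).symm ≪≫ pullbackSymmetry _ _
    haveI : Nonempty ↥(pullback f (Spec.map φ)) := e.hom.homeomorph.toEquiv.nonempty_congr.mp inferInstance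
    haveI : IsIntegral (Spec (CommRingCat.of (K ⊗[C] B))) :=
      (affine_isIntegral_iff (CommRingCat.of (K ⊗[C] B))).mpr ‹_›
    exact isIntegral_of_isOpenImmersion e.inv
  let y : Spec (CommRingCat.of (B ⧸ Ideal.span {z})) ⟶ Spec (CommRingCat.of B) :=
    Spec.map (CommRingCat.ofHom (Ideal.Quotient.mk (Ideal.span {z})))
  haveI : IsClosedImmersion y := IsClosedImmersion.spec_of_surjective _ Ideal.Quotient.mk_surjective
  let loc := Spec.map (CommRingCat.ofHom (algebraMap B (Localization.Away g)))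
  haveI : IsOpenImmersion loc := IsOpenImmersion.of_isLocalization g
  let lam : B ⧸ Ideal.span {z} →+* Localization.Away g :=
    Ideal.Quotient.lift _ (algebraMap B (Localization.Away g)) fun a ha => by
      obtain ⟨c, rfl⟩ := Ideal.mem_span_singleton'.mp ha
      rw [map_mul, hz, mul_zero]
  obtain ⟨l, hl⟩ := SmoothPure.exists_lift_id hint y loc.opensRange
    (fun p => by
      obtain ⟨gm, hgm⟩ : ∃ gm : Spec (CommRingCat.of C) ⟶ Spec (CommRingCat.of (Localization.Away g)),
          gm ≫ loc ≫ f = 𝟙 _ := by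
        refine ⟨Spec.map (CommRingCat.ofHom (IsLocalization.Away.lift g (g := σ.toRingHom) hg)), ?_⟩
        show Spec.map _ ≫ Spec.map _ ≫ Spec.map _ = _
        rw [← Spec.map_comp, ← Spec.map_comp, ← Spec.map_id]
        congr 1
        ext c
        show IsLocalization.Away.lift g hg (algebraMap B (Localization.Away g) (algebraMap C B c)) = c
        rw [IsLocalization.Away.lift_eq]
        exact σ.commutes c
      refine ⟨loc.base (gm.base p), ⟨_, rfl⟩, ?_⟩
      rw [← Scheme.Hom.comp_apply, ← Scheme.Hom.comp_apply, hgm]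
      rfl)
    ⟨loc.isoOpensRange.inv ≫ Spec.map (CommRingCat.ofHom lam), by
      rw [Category.assoc, ← Spec.map_comp]
      exact Scheme.Hom.isoOpensRange_inv_comp loc⟩
  obtain ⟨ψ, rfl⟩ := Spec.map_surjective l
  rw [← Spec.map_comp, ← Spec.map_id] at hl
  have h1 := congr($(Spec.map_injective hl) z)
  have h2 : ψ.hom (Ideal.Quotient.mk (Ideal.span {z}) z) = z := h1
  rw [Ideal.Quotient.eq_zero_iff_mem.mpr (Ideal.mem_span_singleton_self z), map_zero] at h2
  exact h2.symm

theorem isDomain_away {R B : Type u} [CommRing R] [CommRing B] [Algebra R B] [Algebra.Smooth R B]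
    (hconn : ∀ (K : Type u) [Field K] [IsAlgClosed K] [Algebra R K], ConnectedSpace (PrimeSpectrum (K ⊗[R] B)))
    (e : B →ₐ[R] R) (f : B) (L : Type u) [Field L] [Algebra R L] (hf : algebraMap R L (e f) ≠ 0) :
    IsDomain (L ⊗[R] Localization.Away f) := by
  let K := AlgebraicClosure L
  haveI := isDomain_of_connected hconn K
  let ν : L ⊗[R] B →ₐ[R] K ⊗[R] B := Algebra.TensorProduct.map (IsScalarTower.toAlgHom R L K) (AlgHom.id R B)
  haveI : IsDomain (L ⊗[R] B) :=
    Function.Injective.isDomain ν.toRingHom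
      (Module.Flat.rTensor_preserves_injective_linearMap (M := B) (IsScalarTower.toAlgHom R L K).toLinearMap
        (algebraMap L K).injective)
  have hne : (1 : L) ⊗ₜ[R] f ≠ 0 := fun h => hf (by
    have := congrArg (augBC e L) h
    simpa [augBC_tmul] using this)
  haveI : IsDomain (Localization.Away ((1 : L) ⊗ₜ[R] f)) :=
    IsLocalization.isDomain_localization (powers_le_nonZeroDivisors_of_noZeroDivisors hne)
  exact MulEquiv.isDomain _ (IsLocalization.Away.tensorProductEquivTMulRight R L f (Localization.Away f)).toMulEquiv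

/-- A compatible map respects the filtrations by the powers of the augmentation ideals. -/
theorem map_mem_pow {R₀ R₁ R₂ A A' : Type u} [CommRing R₀] [CommRing R₁] [CommRing R₂] [CommRing A] [CommRing A']
    [Algebra R₀ A] [Algebra R₀ A'] [Algebra R₁ A] [Algebra R₂ A'] (a : A →ₐ[R₁] R₁) (a' : A' →ₐ[R₂] R₂)
    (T : A →ₐ[R₀] A') (h : ∀ z, a z = 0 → a' (T z) = 0) {z : A} {m : ℕ} (hz : z ∈ RingHom.ker a ^ m) :
    T z ∈ RingHom.ker a' ^ m :=
  Ideal.le_comap_pow T m (Ideal.pow_right_mono (fun w hw => h w hw : RingHom.ker a ≤ (RingHom.ker a').comap T) m hz)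

end Groth.Agent.SGA3cLib.Jet
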