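import Mathlib.RingTheory.HopfAlgebra.TensorProduct
import Mathlib.RingTheory.Bialgebra.Equiv
import Mathlib.RingTheory.Jacobson.Ring
import Mathlib.FieldTheory.IsAlgClosed.Basic
import Mathlib.RingTheory.Flat.Basic
import Mathlib.RingTheory.Adjoin.FG

/-! Isomorphisms of finitely generated bialgebras over an algebraically closed field descend along field
extensions. -/

set_option autoImplicit false
set_option linter.style.haveILetI false

universe u

open scoped TensorProduct
open Coalgebra

noncomputable section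

namespace Groth.Agent.SGA3cLib.AlgClosedDescent26

variable {k : Type u} [Field k] {A B : Type u} [CommRing A] [HopfAlgebra k A] [CommRing B] [HopfAlgebra k B]
  {R S : Type u} [CommRing R] [Algebra k R] [CommRing S] [Algebra k S]

/-- Change of coefficients. -/
abbrev push (χ : R →ₐ[k] S) (M : Type u) [CommRing M] [Algebra k M] : R ⊗[k] M →ₐ[k] S ⊗[k] M :=
  Algebra.TensorProduct.map χ (AlgHom.id k M)

theorem push_injective (χ : R →ₐ[k] S) (hχ : Function.Injective χ) (M : Type u) [CommRing M] [Algebra k M] :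
    Function.Injective (push χ M) :=
  Module.Flat.rTensor_preserves_injective_linearMap (M := M) χ.toLinearMap hχ

/-- Left and right copy of a family of maps. -/
def pair (f : A →ₐ[k] R ⊗[k] B) : A ⊗[k] A →ₐ[k] R ⊗[k] (B ⊗[k] B) :=
  Algebra.TensorProduct.lift ((Algebra.TensorProduct.map (AlgHom.id k R) Algebra.TensorProduct.includeLeft).comp f)
    ((Algebra.TensorProduct.map (AlgHom.id k R) Algebra.TensorProduct.includeRight).comp f) fun _ _ => Commute.all _ _

theorem pair_push (χ : R →ₐ[k] S) (f : A →ₐ[k] R ⊗[k] B) :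
    pair ((push χ B).comp f) = (push χ (B ⊗[k] B)).comp (pair f) := by
  have h1 : ∀ y : R ⊗[k] B, Algebra.TensorProduct.map (AlgHom.id k S) Algebra.TensorProduct.includeLeft (push χ B y) =
      push χ (B ⊗[k] B) (Algebra.TensorProduct.map (AlgHom.id k R) Algebra.TensorProduct.includeLeft y) := fun y => by
    induction y using TensorProduct.induction_on with
    | zero => simp
    | tmul r b => simp
    | add p q hp hq => simp only [map_add, hp, hq]
  have h2 : ∀ y : R ⊗[k] B, Algebra.TensorProduct.map (AlgHom.id k S) Algebra.TensorProduct.includeRight (push χ B y) =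
      push χ (B ⊗[k] B) (Algebra.TensorProduct.map (AlgHom.id k R) Algebra.TensorProduct.includeRight y) := fun y => by
    induction y using TensorProduct.induction_on with
    | zero => simp
    | tmul r b => simp
    | add p q hp hq => simp only [map_add, hp, hq]
  ext a <;> simp [pair, h1, h2]

/-- Extension of a family of maps to the coefficient ring. -/
def ext' (g : B →ₐ[k] R ⊗[k] A) : R ⊗[k] B →ₐ[k] R ⊗[k] A :=
  Algebra.TensorProduct.lift Algebra.TensorProduct.includeLeft g fun _ _ => Commute.all _ _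

theorem ext'_push (χ : R →ₐ[k] S) (g : B →ₐ[k] R ⊗[k] A) (y : R ⊗[k] B) :
    ext' ((push χ A).comp g) (push χ B y) = push χ A (ext' g y) := by
  induction y using TensorProduct.induction_on with
  | zero => simp
  | tmul r b => simp [ext']
  | add p q hp hq => simp only [map_add, hp, hq]

/-- A family of bialgebra maps with an inverse family. -/
structure Fam (f : A →ₐ[k] R ⊗[k] B) (g : B →ₐ[k] R ⊗[k] A) : Prop where
  counit : (Algebra.TensorProduct.map (AlgHom.id k R) (Bialgebra.counitAlgHom k B)).comp f =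
    Algebra.TensorProduct.includeRight.comp (Bialgebra.counitAlgHom k A)
  comul : (Algebra.TensorProduct.map (AlgHom.id k R) (Bialgebra.comulAlgHom k B)).comp f =
    (pair f).comp (Bialgebra.comulAlgHom k A)
  left : (ext' g).comp f = Algebra.TensorProduct.includeRight
  right : (ext' f).comp g = Algebra.TensorProduct.includeRight

theorem push_map {M N : Type u} [CommRing M] [Algebra k M] [CommRing N] [Algebra k N] (χ : R →ₐ[k] S) (h : M →ₐ[k] N)
    (y : R ⊗[k] M) : Algebra.TensorProduct.map (AlgHom.id k S) h (push χ M y) =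
      push χ N (Algebra.TensorProduct.map (AlgHom.id k R) h y) := by
  induction y using TensorProduct.induction_on with
  | zero => simp
  | tmul r b => simp
  | add p q hp hq => simp only [map_add, hp, hq]

theorem push_includeRight {M : Type u} [CommRing M] [Algebra k M] (χ : R →ₐ[k] S) (m : M) :
    push χ M (Algebra.TensorProduct.includeRight m) = Algebra.TensorProduct.includeRight m := by
  simp

theorem Fam.map {f : A →ₐ[k] R ⊗[k] B} {g : B →ₐ[k] R ⊗[k] A} (h : Fam f g) (χ : R →ₐ[k] S) :
    Fam ((push χ B).comp f) ((push χ A).comp g) where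
  counit := AlgHom.ext fun a => by
    have := congrArg (push χ k) (AlgHom.congr_fun h.counit a)
    simpa [push_map] using this
  comul := AlgHom.ext fun a => by
    have := congrArg (push χ (B ⊗[k] B)) (AlgHom.congr_fun h.comul a)
    simp only [AlgHom.comp_apply, pair_push, push_map]
    simpa using this
  left := AlgHom.ext fun a => by
    simp only [AlgHom.comp_apply, ext'_push, show ext' g (f a) = _ from AlgHom.congr_fun h.left a, push_includeRight]
  right := AlgHom.ext fun a => by
    simp only [AlgHom.comp_apply, ext'_push, show ext' f (g a) = _ from AlgHom.congr_fun h.right a, push_includeRight]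

theorem Fam.of_map {f : A →ₐ[k] R ⊗[k] B} {g : B →ₐ[k] R ⊗[k] A} (χ : R →ₐ[k] S) (hχ : Function.Injective χ)
    (h : Fam ((push χ B).comp f) ((push χ A).comp g)) : Fam f g where
  counit := AlgHom.ext fun a => push_injective χ hχ k (by
    have := AlgHom.congr_fun h.counit a
    simpa [push_map] using this)
  comul := AlgHom.ext fun a => push_injective χ hχ (B ⊗[k] B) (by
    have := AlgHom.congr_fun h.comul a
    simp only [AlgHom.comp_apply, pair_push, push_map] at this
    simpa using this)
  left := AlgHom.ext fun a => push_injective χ hχ A (by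
    rw [AlgHom.comp_apply, ← ext'_push, push_includeRight]
    exact AlgHom.congr_fun h.left a)
  right := AlgHom.ext fun a => push_injective χ hχ B (by
    rw [AlgHom.comp_apply, ← ext'_push, push_includeRight]
    exact AlgHom.congr_fun h.right a)

theorem Fam.nonempty_bialgEquiv {f : A →ₐ[k] k ⊗[k] B} {g : B →ₐ[k] k ⊗[k] A} (h : Fam f g) :
    Nonempty (A ≃ₐc[k] B) := by
  let f₀ : A →ₐ[k] B := (Algebra.TensorProduct.lid k B).toAlgHom.comp f
  let g₀ : B →ₐ[k] A := (Algebra.TensorProduct.lid k A).toAlgHom.comp g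
  have hf : ∀ a, f a = 1 ⊗ₜ[k] f₀ a := fun a => (Algebra.TensorProduct.lid k B).injective (by simp [f₀])
  have hg : ∀ a, g a = 1 ⊗ₜ[k] g₀ a := fun a => (Algebra.TensorProduct.lid k A).injective (by simp [g₀])
  have hε : (Bialgebra.counitAlgHom k B).comp f₀ = Bialgebra.counitAlgHom k A := AlgHom.ext fun a => by
    have := congrArg (Algebra.TensorProduct.lid k k) (AlgHom.congr_fun h.counit a)
    simpa [hf] using this
  have hp : pair f = Algebra.TensorProduct.includeRight.comp (Algebra.TensorProduct.map f₀ f₀) := by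
    ext a <;> simp [pair, hf]
  have hΔ : (Algebra.TensorProduct.map f₀ f₀).comp (Bialgebra.comulAlgHom k A) =
      (Bialgebra.comulAlgHom k B).comp f₀ := AlgHom.ext fun a => by
    have := congrArg (Algebra.TensorProduct.lid k (B ⊗[k] B)) (AlgHom.congr_fun h.comul a)
    simpa [hf, hp] using this.symm
  let F : A →ₐc[k] B := BialgHom.ofAlgHom f₀ hε hΔ
  refine ⟨BialgEquiv.ofBijective F (Function.bijective_iff_has_inverse.mpr ⟨g₀, fun a => ?_, fun b => ?_⟩)⟩
  · have := congrArg (Algebra.TensorProduct.lid k A) (AlgHom.congr_fun h.left a)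
    show g₀ (f₀ a) = a
    simpa [hf, hg, ext'] using this
  · have := congrArg (Algebra.TensorProduct.lid k B) (AlgHom.congr_fun h.right b)
    show f₀ (g₀ b) = b
    simpa [hf, hg, ext'] using this

theorem exists_scalars {K : Type u} [Field K] [Algebra k K] {M N : Type u} [CommRing M] [Algebra k M] [CommRing N]
    [Algebra k N] [Algebra.FiniteType k N] (f : N →ₐ[k] K ⊗[k] M) :
    ∃ F : Finset K, ∀ P : Subalgebra k K, (F : Set K) ⊆ P → f.range ≤ (push P.val M).range := by
  classical
  obtain ⟨s, hs⟩ := (inferInstance : Algebra.FiniteType k N).out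
  choose T hT using fun n : N => TensorProduct.exists_finset (f n)
  refine ⟨s.biUnion fun n => (T n).image Prod.fst, fun P hP => ?_⟩
  rw [← Algebra.map_top, ← hs, AlgHom.map_adjoin, Algebra.adjoin_le_iff]
  rintro _ ⟨n, hn, rfl⟩
  show f n ∈ (push P.val M).range
  rw [hT n]
  refine Subalgebra.sum_mem _ fun p hp => ⟨(⟨p.1, hP ?_⟩ : P) ⊗ₜ[k] p.2, by simp⟩
  exact Finset.mem_biUnion.mpr ⟨n, hn, Finset.mem_image_of_mem _ hp⟩

variable {K : Type u} [Field K] [Algebra k K]

theorem fam_of_bialgEquiv (Φ : K ⊗[k] A ≃ₐc[K] K ⊗[k] B) :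
    Fam ((((Φ : K ⊗[k] A →ₐc[K] K ⊗[k] B) : K ⊗[k] A →ₐ[K] K ⊗[k] B).restrictScalars k).comp
        Algebra.TensorProduct.includeRight)
      ((((Φ.symm : K ⊗[k] B →ₐc[K] K ⊗[k] A) : K ⊗[k] B →ₐ[K] K ⊗[k] A).restrictScalars k).comp
        Algebra.TensorProduct.includeRight) := by
  let θ : (K ⊗[k] B) ⊗[K] (K ⊗[k] B) →ₐ[K] K ⊗[k] (B ⊗[k] B) :=
    Algebra.TensorProduct.lift (Algebra.TensorProduct.map (AlgHom.id K K) Algebra.TensorProduct.includeLeft)
      (Algebra.TensorProduct.map (AlgHom.id K K) Algebra.TensorProduct.includeRight) fun _ _ => Commute.all _ _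
  have hθ : ∀ y : K ⊗[k] B, θ (comul (R := K) y) =
      Algebra.TensorProduct.map (AlgHom.id k K) (Bialgebra.comulAlgHom k B) y := fun y => by
    induction y using TensorProduct.induction_on with
    | zero => simp
    | add p q hp hq => simp only [map_add, hp, hq]
    | tmul p b =>
      rw [TensorProduct.comul_tmul, CommSemiring.comul_apply, Algebra.TensorProduct.map_tmul,
        Bialgebra.comulAlgHom_apply]
      generalize comul (R := k) b = z
      induction z using TensorProduct.induction_on with
      | zero => simp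
      | tmul x y => simp [θ]
      | add x y hx hy => simp only [TensorProduct.tmul_add, map_add, hx, hy]
  refine ⟨AlgHom.ext fun a => ?_, AlgHom.ext fun a => ?_, ?_, ?_⟩
  · apply (Algebra.TensorProduct.rid k k K).injective
    have h1 : ∀ y : K ⊗[k] B, Algebra.TensorProduct.rid k k K
        (Algebra.TensorProduct.map (AlgHom.id k K) (Bialgebra.counitAlgHom k B) y) = counit (R := K) y := fun y => by
      induction y using TensorProduct.induction_on with
      | zero => simp
      | add p q hp hq => simp only [map_add, hp, hq]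
      | tmul p b => simp [Algebra.smul_def, mul_comm]
    rw [AlgHom.comp_apply, h1]
    have := CoalgHomClass.counit_comp_apply (Φ : K ⊗[k] A →ₐc[K] K ⊗[k] B) ((1 : K) ⊗ₜ[k] a)
    simpa using this
  · show Algebra.TensorProduct.map (AlgHom.id k K) (Bialgebra.comulAlgHom k B) (Φ (1 ⊗ₜ[k] a)) = _
    rw [← hθ, ← CoalgHomClass.map_comp_comul_apply Φ, TensorProduct.comul_tmul, CommSemiring.comul_apply,
      AlgHom.comp_apply, Bialgebra.comulAlgHom_apply]
    generalize comul (R := k) a = z
    induction z using TensorProduct.induction_on with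
    | zero => simp
    | tmul x y => simp [θ, pair]; rfl
    | add x y hx hy => simp only [TensorProduct.tmul_add, map_add, hx, hy]
  · refine AlgHom.ext fun a => ?_
    have h1 : ext' ((((Φ.symm : K ⊗[k] B →ₐc[K] K ⊗[k] A) : K ⊗[k] B →ₐ[K] K ⊗[k] A).restrictScalars k).comp
        Algebra.TensorProduct.includeRight) =
        ((Φ.symm : K ⊗[k] B →ₐc[K] K ⊗[k] A) : K ⊗[k] B →ₐ[K] K ⊗[k] A).restrictScalars k := by
      ext x
      · simpa [ext'] using (((Φ.symm : K ⊗[k] B →ₐc[K] K ⊗[k] A) : K ⊗[k] B →ₐ[K] K ⊗[k] A).commutes x).symm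
      · simp [ext']
    rw [AlgHom.comp_apply, h1]
    exact Φ.symm_apply_apply _
  · refine AlgHom.ext fun a => ?_
    have h1 : ext' ((((Φ : K ⊗[k] A →ₐc[K] K ⊗[k] B) : K ⊗[k] A →ₐ[K] K ⊗[k] B).restrictScalars k).comp
        Algebra.TensorProduct.includeRight) =
        ((Φ : K ⊗[k] A →ₐc[K] K ⊗[k] B) : K ⊗[k] A →ₐ[K] K ⊗[k] B).restrictScalars k := by
      ext x
      · simpa [ext'] using (((Φ : K ⊗[k] A →ₐc[K] K ⊗[k] B) : K ⊗[k] A →ₐ[K] K ⊗[k] B).commutes x).symm
      · simp [ext']
    rw [AlgHom.comp_apply, h1]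
    exact Φ.apply_symm_apply _

/-- An isomorphism of finitely generated Hopf algebras over an extension of an algebraically closed field
already exists over that field. -/
theorem nonempty_bialgEquiv_of_extension [IsAlgClosed k] [Algebra.FiniteType k A] [Algebra.FiniteType k B]
    (Φ : K ⊗[k] A ≃ₐc[K] K ⊗[k] B) : Nonempty (A ≃ₐc[k] B) := by
  classical
  have h := fam_of_bialgEquiv Φ
  obtain ⟨F₁, h₁⟩ := exists_scalars ((((Φ : K ⊗[k] A →ₐc[K] K ⊗[k] B) : K ⊗[k] A →ₐ[K] K ⊗[k] B).restrictScalars k).comp
        Algebra.TensorProduct.includeRight)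
  obtain ⟨F₂, h₂⟩ := exists_scalars ((((Φ.symm : K ⊗[k] B →ₐc[K] K ⊗[k] A) : K ⊗[k] B →ₐ[K] K ⊗[k] A).restrictScalars k).comp
        Algebra.TensorProduct.includeRight)
  let P : Subalgebra k K := Algebra.adjoin k ((F₁ ∪ F₂ : Finset K) : Set K)
  have hP : ((F₁ ∪ F₂ : Finset K) : Set K) ⊆ P := Algebra.subset_adjoin
  rw [Finset.coe_union] at hP
  have h₁' := h₁ P (Set.subset_union_left.trans hP)
  have h₂' := h₂ P (Set.subset_union_right.trans hP)
  let eB := AlgEquiv.ofInjective (push P.val B) (push_injective _ Subtype.val_injective B)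
  let eA := AlgEquiv.ofInjective (push P.val A) (push_injective _ Subtype.val_injective A)
  let fP : A →ₐ[k] P ⊗[k] B := eB.symm.toAlgHom.comp (AlgHom.codRestrict _ _ fun a => h₁' ⟨a, rfl⟩)
  let gP : B →ₐ[k] P ⊗[k] A := eA.symm.toAlgHom.comp (AlgHom.codRestrict _ _ fun a => h₂' ⟨a, rfl⟩)
  have hf : (push P.val B).comp fP = _ := AlgHom.ext fun a => congrArg Subtype.val (eB.apply_symm_apply ⟨_, h₁' ⟨a, rfl⟩⟩)
  have hg : (push P.val A).comp gP = _ := AlgHom.ext fun a => congrArg Subtype.val (eA.apply_symm_apply ⟨_, h₂' ⟨a, rfl⟩⟩)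
  have hfam : Fam fP gP := Fam.of_map P.val Subtype.val_injective (by rw [hf, hg]; exact h)
  haveI : Algebra.FiniteType k P := (Subalgebra.fg_iff_finiteType P).mp (Subalgebra.fg_adjoin_finset _)
  obtain ⟨χ⟩ : Nonempty (P →ₐ[k] k) := by
    obtain ⟨m, hm⟩ := Ideal.exists_maximal P
    letI := Ideal.Quotient.field m
    haveI : Algebra.FiniteType k (P ⧸ m) :=
      Algebra.FiniteType.of_surjective (Ideal.Quotient.mkₐ k m) Ideal.Quotient.mk_surjective
    haveI : Module.Finite k (P ⧸ m) := finite_of_finite_type_of_isJacobsonRing k (P ⧸ m)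
    exact ⟨((AlgEquiv.ofBijective (Algebra.ofId k (P ⧸ m))
      IsAlgClosed.algebraMap_bijective_of_isIntegral).symm.toAlgHom).comp (Ideal.Quotient.mkₐ k m)⟩
  exact (hfam.map χ).nonempty_bialgEquiv

end Groth.Agent.SGA3cLib.AlgClosedDescent26
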