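import Groth.Agent.SGA3cLib.NeutralDimCons
import Groth.Agent.EGA43.SectionComp.ConstFP

/-!
# Universal openness along neutral components and constancy of the dimension
-/

set_option autoImplicit false
set_option linter.style.haveILetI false
set_option backward.isDefEq.respectTransparency.types false

universe u

open CategoryTheory Limits MonoidalCategory CartesianMonoidalCategory MonObj GrpObj AlgebraicGeometry
open TopologicalSpace Topology

noncomputable section

namespace Groth.Agent.SGA3cLib.NeutralDim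

open AlgGrpLib EGA43.SectionComp

variable {S : Scheme.{u}} (G : Over S) [GrpObj G] [LocallyOfFinitePresentation G.hom]

theorem univOpenAt_of_dim_const (s : S)
    (h : ∃ U : Set S, U ∈ nhds s ∧ ∀ t ∈ U, topologicalKrullDim ↥(G.hom.base ⁻¹' {t}) = topologicalKrullDim ↥(G.hom.base ⁻¹' {s})) :
    ∀ x ∈ SGA3x.neutralSet G ∩ G.hom.base ⁻¹' {s}, EGA43.IsUnivOpenAt G.hom x := by
  obtain ⟨U, hU, hd⟩ := h
  obtain ⟨V, hsV, hV⟩ := exists_open_isUnivOpenAt_of_dim_const G.hom (unit G) (unit_w G) (isGeomIrrComp G) s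
    ⟨U, hU, fun z hz => by rw [← dim_fibre_eq, ← dim_fibre_eq]; exact hd z hz⟩
  intro x hx
  refine hV x ((sectionComponents_eq G).ge hx.1) ?_
  show G.hom.base x ∈ V
  rw [show G.hom.base x = s from hx.2]
  exact hsV

theorem dim_fiber_eq (z : S) : topologicalKrullDim ↥(G.hom.fiber z) = topologicalKrullDim ↥(comp G.hom (unit G) z) :=
  (G.hom.fiberHomeo z).isHomeomorph.topologicalKrullDim_eq.trans (dim_fibre_eq G z)

theorem dim_const_of_univOpenAt (s : S) (W : G.left.Opens) (hW : (unit G).base s ∈ W)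
    (h : ∀ x ∈ SGA3x.neutralSet G ∩ G.hom.base ⁻¹' {s}, x ∈ W → EGA43.IsUnivOpenAt G.hom x) :
    ∃ U : Set S, U ∈ nhds s ∧ ∀ t ∈ U, topologicalKrullDim ↥(G.hom.base ⁻¹' {t}) = topologicalKrullDim ↥(G.hom.base ⁻¹' {s}) := by
  obtain ⟨V, hV, hc⟩ := eventually_eq_of_generizations G.hom (unit G) (unit_w G) (isIrreducible_comp G) s fun z hz => by
    refine generic_le_of_dim_fibre G.hom (unit G) (unit_w G) (isIrreducible_comp G) s (fun ξ hξ hcl => ?_) hz
      (dim_fiber_eq G z)
    exact h ξ ((neutralSet_inter_fibre G s).ge hξ)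
      ((specializes_iff_mem_closure.2 (hcl (mem_comp_self G.hom (unit G) (unit_w G) s))).mem_open W.isOpen hW)
  exact ⟨V, hV, fun t ht => by rw [dim_fibre_eq, dim_fibre_eq]; exact hc t ht⟩

end Groth.Agent.SGA3cLib.NeutralDim
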