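import Groth.Agent.SGA3cLib.NeutralDim
import Groth.Agent.FlatMorSection.Constructible
import Groth.Agent.H8ProCons.Image
import Groth.Agent.FlatMorWeight.LevelSets
import Groth.Agent.S5323
import Groth.Agent.SGA3cLib.ArtinComponent
import Groth.Agent.H8Lim.Constructible
import Groth.Agent.EGA43.Limit.Basic

/-!
# Constructibility of the neutral set of a group scheme
-/

set_option autoImplicit false
set_option linter.style.haveILetI false
set_option backward.isDefEq.respectTransparency.types false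

universe u

open CategoryTheory Limits MonoidalCategory CartesianMonoidalCategory MonObj GrpObj AlgebraicGeometry
open TopologicalSpace Topology

noncomputable section

namespace Groth.Agent.SGA3cLib.NeutralDim

open EGA43.SectionComp AlgGrpLib

variable {S : Scheme.{u}} (G : Over S) [GrpObj G]

/-- An affine chart around the unit section over an affine open of the base. -/
theorem exists_chart_unit (s : S) :
    ∃ (V : S.Opens) (U : G.left.Opens), s ∈ V ∧ IsAffineOpen V ∧ IsAffineOpen U ∧ U ≤ G.hom ⁻¹ᵁ V ∧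
      V ≤ unit G ⁻¹ᵁ U := by
  obtain ⟨V₀, hV₀, hsV₀, -⟩ := exists_isAffineOpen_mem_and_subset (x := s) (U := ⊤) trivial
  obtain ⟨U₁, hU₁, heU₁, hU₁V₀⟩ := exists_isAffineOpen_mem_and_subset (x := (unit G).base s) (U := G.hom ⁻¹ᵁ V₀)
    (show G.hom.base ((unit G).base s) ∈ V₀ by rw [hom_unit]; exact hsV₀)
  obtain ⟨r, hrle, hsr⟩ := hV₀.exists_basicOpen_le (V := unit G ⁻¹ᵁ U₁) (⟨s, heU₁⟩ : ↥(unit G ⁻¹ᵁ U₁)) hsV₀
  refine ⟨S.basicOpen r, U₁ ⊓ G.hom ⁻¹ᵁ S.basicOpen r, hsr, hV₀.basicOpen r, ?_, inf_le_right, fun z hz => ?_⟩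
  · have h1 := hU₁.basicOpen (G.hom.appLE V₀ U₁ hU₁V₀ r)
    rwa [Scheme.basicOpen_appLE] at h1
  · exact ⟨hrle hz, show G.hom.base ((unit G).base z) ∈ _ by rw [hom_unit]; exact hz⟩

variable {G}

/-- A neutral point is a product of two points of a given neighbourhood of the unit in its fibre. -/
theorem exists_mul_eq_mem [LocallyOfFiniteType G.hom] (U : G.left.Opens) (x : G.left) (hx : x ∈ SGA3x.neutralSet G)
    (he : η[G].left.base (G.hom.base x) ∈ U) :
    ∃ z : ↥(G ⊗ G).left, ((fst G G).left.base z ∈ U ∧ (fst G G).left.base z ∈ SGA3x.neutralSet G) ∧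
      ((snd G G).left.base z ∈ U ∧ (snd G G).left.base z ∈ SGA3x.neutralSet G) ∧ μ[G].left.base z = x := by
  let s : S := G.hom.base x
  let g : Spec (CommRingCat.of (S.residueField s)) ⟶ S := S.fromSpecResidueField s
  let Gs : Over (Spec (CommRingCat.of (S.residueField s))) := Red.bc g G
  let π : Gs.left ⟶ G.left := pullback.fst G.hom g
  have h0 : Set.range (G.hom.fiberι s).base = G.hom.base ⁻¹' ({s} : Set S) := G.hom.range_fiberι s
  have hxr : x ∈ Set.range π.base := h0.ge (show G.hom.base x ∈ ({s} : Set S) from rfl)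
  obtain ⟨y, hy⟩ := hxr
  haveI : Subsingleton ↥(Spec (CommRingCat.of (S.residueField s))) :=
    inferInstanceAs (Subsingleton (PrimeSpectrum (S.residueField s)))
  have hyn : y ∈ SGA3x.neutralSet Gs := by
    rw [S5322.result]
    show π.base y ∈ SGA3x.neutralSet G
    rw [hy]
    exact hx
  have hyc : y ∈ connectedComponent (ConnComp.e₀ Gs) := by
    obtain ⟨p, hp⟩ := Set.mem_iUnion.1 hyn
    have huniv : ∀ q, Gs.hom.base ⁻¹' {q} = Set.univ := fun q =>
      Set.eq_univ_of_forall fun z =>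
        Subsingleton.elim (α := ↥(Spec (CommRingCat.of (S.residueField s)))) _ _
    rw [huniv, connectedComponentIn_univ] at hp
    rwa [Subsingleton.elim (α := ↥(Spec (CommRingCat.of (S.residueField s)))) p (IsLocalRing.closedPoint _)] at hp
  have hg : g.base (IsLocalRing.closedPoint (S.residueField s)) = s := Scheme.fromSpecResidueField_apply _ _
  have hηs : η[Gs] = BCPoints.pt g G (𝟙_ _) 1 := by
    have : BCPoints.pt g G (𝟙_ (Over (Spec (CommRingCat.of (S.residueField s))))) 1 = 1 :=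
      map_one (MonoidHom.mk' (BCPoints.pt g G (𝟙_ (Over (Spec (CommRingCat.of (S.residueField s))))))
        (BCPoints.pt_mul g))
    rw [this, Hom.one_def, toUnit_unique (toUnit (𝟙_ _)) (𝟙 _), Category.id_comp]
  have hπe : π.base (ConnComp.e₀ Gs) = η[G].left.base s := by
    show π.base (η[Gs].left.base _) = _
    have h1 : η[Gs].left ≫ π = (1 : (Over.map g).obj (𝟙_ _) ⟶ G).left := by
      rw [hηs, ← SGA3cLib.NeutralSmooth.pt_symm_left, Equiv.symm_apply_apply]
    rw [← Scheme.Hom.comp_apply, h1, Hom.one_def, Over.comp_left, Scheme.Hom.comp_apply]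
    exact congrArg η[G].left.base hg
  haveI : LocallyOfFiniteType Gs.hom := MorphismProperty.pullback_snd G.hom g ‹_›
  haveI : IsLocallyNoetherian Gs.left := LocallyOfFiniteType.isLocallyNoetherian Gs.hom
  let C : Gs.left.Opens := ⟨connectedComponent (ConnComp.e₀ Gs), SGA3cLib.isOpen_connectedComponent _⟩
  have hCn : ∀ w : Gs.left, w ∈ C → π.base w ∈ SGA3x.neutralSet G := fun w hw => by
    have h' : w ∈ SGA3x.neutralSet Gs := by
      refine Set.mem_iUnion.2 ⟨IsLocalRing.closedPoint _, ?_⟩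
      have huniv : ∀ q, Gs.hom.base ⁻¹' {q} = Set.univ := fun q =>
        Set.eq_univ_of_forall fun z =>
          Subsingleton.elim (α := ↥(Spec (CommRingCat.of (S.residueField s)))) _ _
      rw [huniv, connectedComponentIn_univ]
      exact hw
    rw [S5322.result] at h'
    exact h'
  obtain ⟨q, ⟨hqa, hqaC⟩, ⟨hqb, hqbC⟩, hqμ⟩ := SGA3cLib.NeutralSmooth.mem_mul_open Gs (π ⁻¹ᵁ U ⊓ C)
    ⟨show π.base _ ∈ U by rw [hπe]; exact he, mem_connectedComponent⟩ y hyc
  let T : Over S := (Over.map g).obj (Gs ⊗ Gs)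
  let a : T ⟶ G := (BCPoints.pt g G (Gs ⊗ Gs)).symm (fst Gs Gs)
  let b : T ⟶ G := (BCPoints.pt g G (Gs ⊗ Gs)).symm (snd Gs Gs)
  refine ⟨(lift a b).left.base q, ?_, ?_, ?_⟩
  · show (lift a b ≫ fst G G).left.base q ∈ U ∧ (lift a b ≫ fst G G).left.base q ∈ SGA3x.neutralSet G
    rw [lift_fst, show a.left = _ from SGA3cLib.NeutralSmooth.pt_symm_left g _]
    exact ⟨hqa, hCn _ hqaC⟩
  · show (lift a b ≫ snd G G).left.base q ∈ U ∧ (lift a b ≫ snd G G).left.base q ∈ SGA3x.neutralSet G
    rw [lift_snd, show b.left = _ from SGA3cLib.NeutralSmooth.pt_symm_left g _]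
    exact ⟨hqb, hCn _ hqbC⟩
  · show (lift a b ≫ μ[G]).left.base q = x
    have h2 : lift a b ≫ μ[G] = (BCPoints.pt g G (Gs ⊗ Gs)).symm μ[Gs] := by
      rw [← Hom.mul_def, Equiv.eq_symm_apply, BCPoints.pt_mul]
      simp only [a, b, Equiv.apply_symm_apply]
      rw [Hom.mul_def, lift_fst_snd, Category.id_comp]
    rw [h2, SGA3cLib.NeutralSmooth.pt_symm_left, Scheme.Hom.comp_apply, hqμ]
    exact hy

variable {V : S.Opens} {U : G.left.Opens}

/-- The neutral set inside a chart around the unit section is constructible. -/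
theorem isLocallyConstructible_chart [LocallyOfFinitePresentation G.hom] (hV : IsAffineOpen V) (hU : IsAffineOpen U)
    (hUV : U ≤ G.hom ⁻¹ᵁ V) (hVU : V ≤ unit G ⁻¹ᵁ U) :
    IsLocallyConstructible (U.ι.base ⁻¹' SGA3x.neutralSet G) := by
  haveI : IsAffine V.toScheme := hV
  haveI : IsAffine U.toScheme := hU
  let f₁ : U.toScheme ⟶ V.toScheme := G.hom.resLE V U hUV
  let g₁ : V.toScheme ⟶ U.toScheme := (unit G).resLE U V hVU
  have hf : f₁ ≫ V.ι = U.ι ≫ G.hom := Scheme.Hom.resLE_comp_ι _ _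
  have hg : g₁ ≫ U.ι = V.ι ≫ unit G := Scheme.Hom.resLE_comp_ι _ _
  have hfg : g₁ ≫ f₁ = 𝟙 _ := by
    rw [← cancel_mono V.ι, Category.assoc, hf, ← Category.assoc, hg, Category.assoc, unit_w, Category.comp_id,
      Category.id_comp]
  have hfa : ∀ x : U.toScheme, (f₁.base x).1 = G.hom.base x.1 := fun x =>
    congrArg (fun φ : U.toScheme ⟶ S => φ.base x) hf
  have hga : ∀ z : V.toScheme, (g₁.base z).1 = (unit G).base z.1 := fun z =>
    congrArg (fun φ : V.toScheme ⟶ G.left => φ.base z) hg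
  haveI : LocallyOfFinitePresentation f₁ :=
    IsZariskiLocalAtSource.resLE (P := @LocallyOfFinitePresentation) hUV ‹_›
  have hcomp : ∀ z : V.toScheme, comp f₁ g₁ z = U.ι.base ⁻¹' comp G.hom (unit G) z.1 := by
    intro z
    refine Set.Subset.antisymm (fun x hx => ?_) ?_
    · refine (isPreconnected_connectedComponentIn.image _ U.ι.continuous.continuousOn).subset_connectedComponentIn
        ⟨g₁.base z, mem_comp_self f₁ g₁ hfg z, hga z⟩ ?_ ⟨x, hx, rfl⟩
      rintro _ ⟨q, hq, rfl⟩
      show G.hom.base q.1 = z.1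
      rw [← hfa q, show f₁.base q = z from comp_subset f₁ g₁ z hq]
    · refine IsPreconnected.subset_connectedComponentIn ?_
        (show g₁.base z ∈ _ from (show (g₁.base z).1 ∈ comp G.hom (unit G) z.1 by
          rw [hga]; exact mem_comp_self G.hom (unit G) (unit_w G) z.1)) fun x hx => ?_
      · exact ((isIrreducible_comp G z.1).2.preimage U.ι.isOpenEmbedding).isPreconnected
      · exact Subtype.ext ((hfa x).trans (comp_subset G.hom (unit G) z.1 hx))
  have heq : MoreMor.sectionComponents f₁ g₁ = U.ι.base ⁻¹' SGA3x.neutralSet G := by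
    ext x
    rw [mem_sectionComponents_iff f₁ g₁ x, hcomp]
    show x.1 ∈ comp G.hom (unit G) (f₁.base x).1 ↔ x.1 ∈ SGA3x.neutralSet G
    rw [hfa, ← neutralSet_inter_fibre]
    exact ⟨fun h => h.1, fun h => ⟨h, rfl⟩⟩
  rw [← heq]
  exact FlatMorSection.isLocallyConstructible_sectionComponents f₁ g₁ hfg

/-- The multiplication of a chart into the group. -/
theorem exists_mul_chart [LocallyOfFinitePresentation G.hom] (hV : IsAffineOpen V) (hU : IsAffineOpen U)
    (hUV : U ≤ G.hom ⁻¹ᵁ V) (hVU : V ≤ unit G ⁻¹ᵁ U) :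
    ∃ (P : Scheme.{u}) (m : P ⟶ G.left) (E : Set P), IsAffine P ∧ LocallyOfFinitePresentation m ∧
      IsLocallyConstructible E ∧ m.base '' E = SGA3x.neutralSet G ∩ G.hom.base ⁻¹' (V : Set S) ∧
      ∀ p, G.hom.base (m.base p) ∈ V := by
  haveI : IsAffine V.toScheme := hV
  haveI : IsAffine U.toScheme := hU
  let f₁ : U.toScheme ⟶ V.toScheme := G.hom.resLE V U hUV
  have hf : f₁ ≫ V.ι = U.ι ≫ G.hom := Scheme.Hom.resLE_comp_ι _ _
  let φ : pullback f₁ f₁ ⟶ (G ⊗ G).left := pullback.map f₁ f₁ G.hom G.hom U.ι U.ι V.ι hf hf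
  have hφr : Set.range φ.base =
      (fst G G).left.base ⁻¹' (U : Set G.left) ∩ (snd G G).left.base ⁻¹' (U : Set G.left) := by
    refine (Scheme.Pullback.range_map f₁ f₁ G.hom G.hom U.ι U.ι V.ι hf hf).trans ?_
    rw [U.range_ι]
    rfl
  have hC := isLocallyConstructible_chart hV hU hUV hVU
  let a : pullback f₁ f₁ ⟶ U.toScheme := pullback.fst f₁ f₁
  let b : pullback f₁ f₁ ⟶ U.toScheme := pullback.snd f₁ f₁
  have ha : φ ≫ (fst G G).left = a ≫ U.ι := pullback.lift_fst _ _ _
  have hb : φ ≫ (snd G G).left = b ≫ U.ι := pullback.lift_snd _ _ _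
  have ha' : ∀ p, (fst G G).left.base (φ.base p) = U.ι.base (a.base p) := fun p =>
    congrArg (fun ψ : pullback f₁ f₁ ⟶ G.left => ψ.base p) ha
  have hb' : ∀ p, (snd G G).left.base (φ.base p) = U.ι.base (b.base p) := fun p =>
    congrArg (fun ψ : pullback f₁ f₁ ⟶ G.left => ψ.base p) hb
  haveI : LocallyOfFinitePresentation (φ ≫ μ[G].left) := by
    haveI : LocallyOfFinitePresentation f₁ :=
      IsZariskiLocalAtSource.resLE (P := @LocallyOfFinitePresentation) hUV ‹_›
    have hw : (φ ≫ μ[G].left) ≫ G.hom = (a ≫ f₁) ≫ V.ι := by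
      rw [Category.assoc, Over.w μ[G], Category.assoc, hf, ← Category.assoc a, ← ha, Category.assoc,
        Over.w (fst G G)]
    haveI : LocallyOfFinitePresentation a :=
      MorphismProperty.pullback_fst (P := @LocallyOfFinitePresentation.{u}) _ _ ‹_›
    haveI : LocallyOfFinitePresentation ((φ ≫ μ[G].left) ≫ G.hom) := by rw [hw]; infer_instance
    exact EGA43.Limit.locallyOfFinitePresentation_of_comp _ G.hom
  refine ⟨pullback f₁ f₁, φ ≫ μ[G].left,
    a.base ⁻¹' (U.ι.base ⁻¹' SGA3x.neutralSet G) ∩ b.base ⁻¹' (U.ι.base ⁻¹' SGA3x.neutralSet G),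
    inferInstance, inferInstance,
    (H8Lim.isLocallyConstructible_preimage a hC).inter (H8Lim.isLocallyConstructible_preimage b hC), ?_,
    fun p => ?_⟩
  swap
  · show G.hom.base (μ[G].left.base (φ.base p)) ∈ V
    have : G.hom.base (μ[G].left.base (φ.base p)) = G.hom.base ((fst G G).left.base (φ.base p)) := by
      rw [← Scheme.Hom.comp_apply, Over.w μ[G], ← Scheme.Hom.comp_apply (fst G G).left, Over.w (fst G G)]
    rw [this, ha']
    exact hUV (a.base p).2
  refine Set.Subset.antisymm ?_ ?_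
  · rintro _ ⟨p, ⟨hpa, hpb⟩, rfl⟩
    refine ⟨SGA3cLib.NeutralSmooth.mul_mem_neutral (φ.base p) ?_ ?_, ?_⟩
    · rw [ha']; exact hpa
    · rw [hb']; exact hpb
    · have : G.hom.base (μ[G].left.base (φ.base p)) = G.hom.base ((fst G G).left.base (φ.base p)) := by
        rw [← Scheme.Hom.comp_apply, Over.w μ[G], ← Scheme.Hom.comp_apply (fst G G).left, Over.w (fst G G)]
      show G.hom.base (μ[G].left.base (φ.base p)) ∈ V
      rw [this, ha']
      exact hUV (a.base p).2
  · rintro x ⟨hx, hxV⟩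
    have he : (unit G).base (G.hom.base x) ∈ U := hVU hxV
    obtain ⟨z, ⟨hz1, hz1'⟩, ⟨hz2, hz2'⟩, hz3⟩ := exists_mul_eq_mem U x hx he
    obtain ⟨p, rfl⟩ := hφr.ge ⟨hz1, hz2⟩
    refine ⟨p, ⟨?_, ?_⟩, hz3⟩
    · show U.ι.base (a.base p) ∈ SGA3x.neutralSet G
      rw [← ha']; exact hz1'
    · show U.ι.base (b.base p) ∈ SGA3x.neutralSet G
      rw [← hb']; exact hz2'

variable (G) [LocallyOfFinitePresentation G.hom]

/-- The neutral set is ind-constructible. -/
theorem isIndConstructible_neutralSet : ProCons.IsIndConstructible (SGA3x.neutralSet G) := by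
  refine H8ProCons.isIndConstructible_of_forall_nhd fun x hx => ?_
  obtain ⟨V, U, hxV, hV, hU, hUV, hVU⟩ := exists_chart_unit G (G.hom.base x)
  obtain ⟨P, m, E, hP, hm, hE, him, hmV⟩ := exists_mul_chart hV hU hUV hVU
  obtain ⟨W, hW, hxW, -⟩ := exists_isAffineOpen_mem_and_subset (x := x) (U := ⊤) trivial
  obtain ⟨C, hC, hxC, hCsub⟩ := H8ProCons.exists_constructible_nhd
    (H8ProCons.isIndConstructible_image m ((H8ProCons.isLocallyConstructible_iff_ind_and_pro.1 hE).1)) hW hxW
    (him.ge ⟨hx, hxV⟩)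
  refine ⟨W, hW, C, hC, ⟨⟨x, hxW⟩, hxC, rfl⟩, ?_⟩
  rintro _ ⟨y, hy, rfl⟩
  exact (him.le (hCsub hy)).1

/-- The neutral set of a quasi-separated group scheme is locally constructible. -/
theorem isLocallyConstructible_neutralSet [QuasiSeparated G.hom] :
    IsLocallyConstructible (SGA3x.neutralSet G) := by
  choose V U hsV hV hU hUV hVU using exists_chart_unit G
  refine IsLocallyConstructible.of_isOpenCover (U := fun s : S => G.hom ⁻¹ᵁ V s) ?_ fun s => ?_
  · exact eq_top_iff.2 fun x _ => Opens.mem_iSup.2 ⟨G.hom.base x, hsV _⟩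
  obtain ⟨P, m, E, hP, hm, hE, him, hmV⟩ := exists_mul_chart (hV s) (hU s) (hUV s) (hVU s)
  haveI : IsAffine (V s).toScheme := hV s
  let W : G.left.Opens := G.hom ⁻¹ᵁ V s
  haveI : QuasiSeparatedSpace W.toScheme := quasiSeparatedSpace_of_quasiSeparated (G.hom ∣_ V s)
  have hmem : Set.range m.base ⊆ Set.range W.ι.base := by
    rintro _ ⟨p, rfl⟩
    rw [W.range_ι]
    exact (hmV p : m.base p ∈ W)
  let m' : P ⟶ W.toScheme := IsOpenImmersion.lift W.ι m hmem
  have hm' : m' ≫ W.ι = m := IsOpenImmersion.lift_fac _ _ _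
  haveI : LocallyOfFinitePresentation m' := by
    haveI : LocallyOfFinitePresentation (m' ≫ W.ι) := by rw [hm']; exact hm
    exact EGA43.Limit.locallyOfFinitePresentation_of_comp m' W.ι
  have heq : m'.base '' E = W.ι.base ⁻¹' SGA3x.neutralSet G := by
    refine Set.image_injective.2 W.ι.isEmbedding.injective ?_
    rw [Set.image_image, Set.image_preimage_eq_inter_range, W.range_ι]
    refine Eq.trans ?_ him
    refine Set.image_congr fun p _ => ?_
    exact congrArg (fun φ : P ⟶ G.left => φ.base p) hm'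
  have hl : IsLocallyConstructible (W.ι.base ⁻¹' SGA3x.neutralSet G) := by
    rw [← heq]; exact m'.isLocallyConstructible_image hE
  exact hl

/-- Over a qcqs base the neutral set of a quasi-separated group scheme is constructible. -/
theorem isConstructible_neutralSet [QuasiSeparated G.hom] [CompactSpace S] [QuasiSeparatedSpace S] :
    IsConstructible (SGA3x.neutralSet G) := by
  haveI : QuasiSeparatedSpace G.left := quasiSeparatedSpace_of_quasiSeparated G.hom
  obtain ⟨W, hW, hsub⟩ := S5323.result S G fun s =>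
    MorphismProperty.pullback_snd (P := @LocallyOfFiniteType) _ _ inferInstance
  exact (isLocallyConstructible_neutralSet G).isConstructible_of_subset_of_isCompact hsub hW

end Groth.Agent.SGA3cLib.NeutralDim
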