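import Groth.Agent.SGA3cLib.RepSubset
import Groth.Agent.SGA3cLib.NeutralIndCons

/-!
# Representable neutral components
-/

set_option autoImplicit false
set_option linter.style.haveILetI false
set_option backward.isDefEq.respectTransparency.types false

universe u

open CategoryTheory Limits MonoidalCategory CartesianMonoidalCategory MonObj GrpObj AlgebraicGeometry
open TopologicalSpace Topology

noncomputable section

namespace Groth.Agent.SGA3cLib.NeutralDim

open EGA43.SectionComp AlgGrpLib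

variable {S : Scheme.{u}} (G : Over S) [GrpObj G] [LocallyOfFinitePresentation G.hom]

/-- The neutral set is quasi-compact over the base. -/
theorem isCompact_neutralSet_chart {V : S.Opens} {U : G.left.Opens} (hV : IsAffineOpen V) (hU : IsAffineOpen U)
    (hUV : U ≤ G.hom ⁻¹ᵁ V) (hVU : V ≤ unit G ⁻¹ᵁ U) :
    IsCompact (SGA3x.neutralSet G ∩ G.hom.base ⁻¹' (V : Set S)) := by
  obtain ⟨P, m, E, hP, hm, hE, him, -⟩ := exists_mul_chart hV hU hUV hVU
  rw [← him]
  exact (SGA3cLib.NeutralSmooth.isCompact_of_isConstructible hE.isConstructible).image m.continuous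

/-- A representable neutral subfunctor is an open quasi-compact subscheme. -/
theorem isOpenImmersion_of_rep (G0 : Over S) (i : G0 ⟶ G) [Mono i]
    (hrep : ∀ (T : Over S) (g : T ⟶ G), (∃ z : T ⟶ G0, z ≫ i = g) ↔ Set.range g.left.base ⊆ SGA3x.neutralSet G) :
    IsOpenImmersion i.left ∧ QuasiCompact G0.hom := by
  haveI : Mono i.left := Over.mono_left_of_mono i
  have hrep' : ∀ (T : Scheme.{u}) (g : T ⟶ G.left), (∃ z : T ⟶ G0.left, z ≫ i.left = g) ↔
      Set.range g.base ⊆ SGA3x.neutralSet G := fun T g => by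
    refine ⟨fun ⟨z, hz⟩ => (hrep (Over.mk (g ≫ G.hom)) (Over.homMk g rfl)).1
      ⟨Over.homMk z ?_, Over.OverMorphism.ext hz⟩, fun h => ?_⟩
    · show z ≫ G0.hom = g ≫ G.hom
      rw [← hz, Category.assoc, Over.w i]
    · obtain ⟨z, hz⟩ := (hrep (Over.mk (g ≫ G.hom)) (Over.homMk g rfl)).2 h
      exact ⟨z.left, congrArg CommaMorphism.left hz⟩
  have hr : Set.range i.left.base ⊆ SGA3x.neutralSet G := SGA3cLib.RepSubset.range_subset i.left _ hrep'
  let W : G.left.Opens := ⟨SGA3x.neutralSet G,
    SGA3cLib.RepSubset.isOpen i.left _ hrep' (isIndConstructible_neutralSet G)⟩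
  have hWr : Set.range W.ι.base = SGA3x.neutralSet G := W.range_ι
  obtain ⟨z, hz⟩ := (hrep' _ W.ι).2 hWr.le
  let l : G0.left ⟶ W.toScheme := IsOpenImmersion.lift W.ι i.left (hr.trans hWr.ge)
  have hl : l ≫ W.ι = i.left := IsOpenImmersion.lift_fac _ _ _
  haveI : IsIso l := by
    refine ⟨z, ?_, ?_⟩
    · rw [← cancel_mono i.left, Category.assoc, hz, hl, Category.id_comp]
    · rw [← cancel_mono W.ι, Category.assoc, hl, hz, Category.id_comp]
  refine ⟨hl ▸ inferInstance, ?_⟩
  choose V U hsV hV hU hUV hVU using exists_chart_unit G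
  have hq : QuasiCompact (W.ι ≫ G.hom) := by
    refine IsZariskiLocalAtTarget.of_iSup_eq_top (P := @QuasiCompact) V
      (eq_top_iff.2 fun s _ => Opens.mem_iSup.2 ⟨s, hsV s⟩) fun s => ?_
    haveI : IsAffine (V s).toScheme := hV s
    rw [HasAffineProperty.iff_of_isAffine (P := @QuasiCompact)]
    refine isCompact_iff_compactSpace.mp ?_
    rw [W.ι.isEmbedding.isCompact_iff]
    convert isCompact_neutralSet_chart G (hV s) (hU s) (hUV s) (hVU s) using 1
    rw [show ((W.ι ≫ G.hom) ⁻¹ᵁ V s : Set W.toScheme) = W.ι.base ⁻¹' (G.hom.base ⁻¹' (V s : Set S)) from rfl,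
      Set.image_preimage_eq_inter_range, hWr, Set.inter_comm]
  have : G0.hom = l ≫ W.ι ≫ G.hom := by rw [← Category.assoc, hl, Over.w i]
  rw [this]
  infer_instance

end Groth.Agent.SGA3cLib.NeutralDim
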