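import Groth.Agent.SGA3cLib.NeutralTranslate
import Groth.Agent.SGA3cLib.NeutralRep

/-!
# Separatedness along neutral components
-/

set_option autoImplicit false
set_option linter.style.haveILetI false
set_option backward.isDefEq.respectTransparency.types false

universe u

open CategoryTheory Limits MonoidalCategory CartesianMonoidalCategory MonObj GrpObj AlgebraicGeometry
open TopologicalSpace Topology

noncomputable section

namespace Groth.Agent.SGA3cLib.NeutralDim

variable {S : Scheme.{u}} {G : Over S} [GrpObj G] [LocallyOfFinitePresentation G.hom]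
  (hdim : IsLocallyConstant (fun s : S => topologicalKrullDim ↥(G.hom.base ⁻¹' {s})))

include hdim

/-- Locally on the base the neutral set lies in a separated open. -/
theorem exists_separated_nhd (s : S) :
    ∃ (V : S.Opens) (W : G.left.Opens), s ∈ V ∧ IsAffineOpen V ∧ IsSeparated (W.ι ≫ G.hom) ∧
      ∀ x ∈ SGA3x.neutralSet G, G.hom.base x ∈ V → x ∈ W := by
  obtain ⟨V, U, hsV, hV, hU, hUV, hVU⟩ := exists_chart_unit G s
  haveI : IsAffine U.toScheme := hU
  have hUs : IsSeparated (U.ι ≫ G.hom) := inferInstance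
  let a := SGA3cLib.regAction G
  have heq := image_eq a (U : Set G.left)
  have hopen := isOpen_translate hdim a U
  rw [← heq] at hopen
  refine ⟨V, ⟨_, hopen⟩, hsV, hV, isSeparated_translate hdim a U hUs _ fun x hx => ?_, fun x hx hxV => ?_⟩
  · obtain ⟨q, ⟨h1, h2⟩, h3⟩ := heq.le hx
    exact ⟨q, h1, h3, h2⟩
  · obtain ⟨z, ⟨-, hz1⟩, ⟨hz2, -⟩, hz3⟩ := exists_mul_eq_mem U x hx (hVU hxV)
    exact ⟨z, ⟨hz1, hz2⟩, hz3⟩

/-- The coincidence locus of two neutral sections is closed. -/
theorem isClosedImmersion_coincidence (σ τ : 𝟙_ (Over S) ⟶ G) (hσ : Set.range σ.left.base ⊆ SGA3x.neutralSet G)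
    (hτ : Set.range τ.left.base ⊆ SGA3x.neutralSet G) :
    IsClosedImmersion (pullback.fst (lift σ τ) (lift (𝟙 G) (𝟙 G))).left := by
  have sq : IsPullback (pullback.fst (lift σ τ) (lift (𝟙 G) (𝟙 G))).left
      (pullback.snd (lift σ τ) (lift (𝟙 G) (𝟙 G))).left (lift σ τ).left (lift (𝟙 G) (𝟙 G)).left :=
    (IsPullback.of_hasPullback (lift σ τ) (lift (𝟙 G) (𝟙 G))).map (Over.forget S)
  have hΔ : (lift (𝟙 G) (𝟙 G) : G ⟶ G ⊗ G).left = pullback.diagonal G.hom := by
    apply pullback.hom_ext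
    · rw [pullback.diagonal_fst]; exact congrArg (fun t : G ⟶ G => t.left) (lift_fst (𝟙 G) (𝟙 G))
    · rw [pullback.diagonal_snd]; exact congrArg (fun t : G ⟶ G => t.left) (lift_snd (𝟙 G) (𝟙 G))
  rw [hΔ] at sq
  haveI : IsImmersion (pullback.fst (lift σ τ) (lift (𝟙 G) (𝟙 G))).left :=
    MorphismProperty.of_isPullback (P := @IsImmersion) sq.flip inferInstance
  have hr : Set.range (pullback.fst (lift σ τ) (lift (𝟙 G) (𝟙 G))).left.base =
      (lift σ τ).left.base ⁻¹' Set.range (pullback.diagonal G.hom).base := by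
    rw [← sq.isoPullback_hom_fst, ← Scheme.Pullback.range_fst]
    exact Function.Surjective.range_comp sq.isoPullback.hom.homeomorph.surjective _
  refine IsClosedImmersion.of_isPreimmersion _ ?_
  rw [hr]
  have hs1 : σ.left ≫ G.hom = 𝟙 S := Over.w σ
  have ht1 : τ.left ≫ G.hom = 𝟙 S := Over.w τ
  choose V W hsV hV hW hNW using exists_separated_nhd hdim
  let R : Set S := (lift σ τ).left.base ⁻¹' Set.range (pullback.diagonal G.hom).base
  show IsClosed R
  refine ((IsOpenCover.mk (u := V) (eq_top_iff.2 fun s _ => Opens.mem_iSup.2 ⟨s, hsV s⟩)).isClosed_iff_coe_preimage).2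
    fun i => ?_
  have hσW : V i ≤ σ.left ⁻¹ᵁ W i := fun z hz => hNW i _ (hσ ⟨z, rfl⟩)
    (show G.hom.base (σ.left.base z) ∈ V i by rw [← Scheme.Hom.comp_apply, hs1]; exact hz)
  have hτW : V i ≤ τ.left ⁻¹ᵁ W i := fun z hz => hNW i _ (hτ ⟨z, rfl⟩)
    (show G.hom.base (τ.left.base z) ∈ V i by rw [← Scheme.Hom.comp_apply, ht1]; exact hz)
  let s₁ : (V i).toScheme ⟶ (W i).toScheme := σ.left.resLE (W i) (V i) hσW
  let t₁ : (V i).toScheme ⟶ (W i).toScheme := τ.left.resLE (W i) (V i) hτW
  have e₁ : s₁ ≫ (W i).ι = (V i).ι ≫ σ.left := Scheme.Hom.resLE_comp_ι _ _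
  have e₂ : t₁ ≫ (W i).ι = (V i).ι ≫ τ.left := Scheme.Hom.resLE_comp_ι _ _
  let φ : (V i).toScheme ⟶ pullback ((W i).ι ≫ G.hom) ((W i).ι ≫ G.hom) := pullback.lift s₁ t₁ (by
    rw [reassoc_of% e₁, reassoc_of% e₂, hs1, ht1])
  have hcl : IsClosed (Set.range (pullback.diagonal ((W i).ι ≫ G.hom)).base) :=
    haveI := hW i
    (pullback.diagonal ((W i).ι ≫ G.hom)).isClosedEmbedding.isClosed_range
  have hc2 := hcl.preimage φ.continuous
  suffices heq : ((V i).ι.base ⁻¹' R : Set (V i).toScheme) = φ.base ⁻¹' Set.range (pullback.diagonal ((W i).ι ≫ G.hom)).base by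
    rw [← heq] at hc2; exact hc2
  ext z
  show ((V i).ι ≫ (lift σ τ).left).base z ∈ Set.range (pullback.diagonal G.hom).base ↔
    φ.base z ∈ Set.range (pullback.diagonal ((W i).ι ≫ G.hom)).base
  have k1 : ((V i).ι ≫ (lift σ τ).left) ≫ pullback.fst G.hom G.hom = (V i).ι ≫ σ.left := by
    rw [Category.assoc]; exact congrArg _ (congrArg CommaMorphism.left (lift_fst σ τ))
  have k2 : ((V i).ι ≫ (lift σ τ).left) ≫ pullback.snd G.hom G.hom = (V i).ι ≫ τ.left := by
    rw [Category.assoc]; exact congrArg _ (congrArg CommaMorphism.left (lift_snd σ τ))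
  constructor
  · intro hz
    refine mem_diagonal_of_comp_eq ((W i).ι ≫ G.hom) φ z ?_
    have h' : (V i).toScheme.fromSpecResidueField z ≫ ((V i).ι ≫ (lift σ τ).left) ≫ pullback.fst G.hom G.hom =
        (V i).toScheme.fromSpecResidueField z ≫ ((V i).ι ≫ (lift σ τ).left) ≫ pullback.snd G.hom G.hom :=
      comp_eq_of_mem_diagonal G.hom _ z hz
    rw [k1, k2] at h'
    rw [pullback.lift_fst, pullback.lift_snd, ← cancel_mono (W i).ι, Category.assoc, Category.assoc, e₁, e₂]
    exact h'
  · intro hz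
    refine mem_diagonal_of_comp_eq G.hom ((V i).ι ≫ (lift σ τ).left) z ?_
    have h' := congrArg (· ≫ (W i).ι) (comp_eq_of_mem_diagonal ((W i).ι ≫ G.hom) φ z hz)
    simp only [Category.assoc] at h'
    rw [show (V i).toScheme.fromSpecResidueField z ≫ ((V i).ι ≫ (lift σ τ).left) ≫ pullback.fst G.hom G.hom = _ from
      congrArg _ k1, show (V i).toScheme.fromSpecResidueField z ≫ ((V i).ι ≫ (lift σ τ).left) ≫ pullback.snd G.hom G.hom = _ from
      congrArg _ k2, ← e₁, ← e₂]
    simp only [φ, pullback.lift_fst_assoc, pullback.lift_snd_assoc] at h'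
    exact h'

omit hdim in
/-- A universally open group scheme with connected fibres is separated and quasi-compact. -/
theorem isSeparated_and_quasiCompact [UniversallyOpen G.hom]
    (hconn : ∀ s : S, _root_.IsConnected (G.hom.base ⁻¹' {s})) : IsSeparated G.hom ∧ QuasiCompact G.hom := by
  have hN : ∀ x : G.left, x ∈ SGA3x.neutralSet G := fun x => by
    refine ((neutralSet_inter_fibre G (G.hom.base x)).ge ?_).1
    exact (hconn _).isPreconnected.subset_connectedComponentIn (hom_unit G _) subset_rfl rfl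
  have hdim : IsLocallyConstant (fun s : S => topologicalKrullDim ↥(G.hom.base ⁻¹' {s})) :=
    (IsLocallyConstant.iff_eventually_eq _).2 fun s => by
      obtain ⟨U, hU, h⟩ := dim_const_of_univOpenAt G s ⊤ trivial
        fun x _ _ => EGA43.DvrCrit.isUnivOpenAt_of_universallyOpen G.hom x
      exact Filter.eventually_of_mem hU h
  constructor
  · choose V W hsV hV hW hNW using exists_separated_nhd hdim
    refine IsZariskiLocalAtTarget.of_iSup_eq_top (P := @IsSeparated) V
      (eq_top_iff.2 fun s _ => Opens.mem_iSup.2 ⟨s, hsV s⟩) fun s => ?_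
    haveI := hW s
    have hle : G.hom ⁻¹ᵁ V s ≤ W s := fun x hx => hNW s x (hN x) hx
    haveI : IsSeparated ((G.hom ∣_ V s) ≫ (V s).ι) := by
      rw [morphismRestrict_ι, ← Scheme.homOfLE_ι _ hle, Category.assoc]
      infer_instance
    exact IsSeparated.of_comp _ (V s).ι
  · choose V U hsV hV hU hUV hVU using exists_chart_unit G
    refine IsZariskiLocalAtTarget.of_iSup_eq_top (P := @QuasiCompact) V
      (eq_top_iff.2 fun s _ => Opens.mem_iSup.2 ⟨s, hsV s⟩) fun s => ?_
    haveI : IsAffine (V s).toScheme := hV s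
    rw [HasAffineProperty.iff_of_isAffine (P := @QuasiCompact)]
    refine isCompact_iff_compactSpace.mp ?_
    have hc := isCompact_neutralSet_chart G (hV s) (hU s) (hUV s) (hVU s)
    rw [Set.inter_eq_right.2 fun x _ => hN x] at hc
    exact hc

end Groth.Agent.SGA3cLib.NeutralDim
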