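import Groth.Agent.SGA3cLib.CentralOpenGeom
import Groth.Agent.SGA3cLib.CentralDescent

/-!
# The locus of centrality is open

For a multiplicative type group mapping to a group with connected fibres, the fibres with central image
form an open subset, over which the homomorphism is central.
-/

set_option linter.style.haveILetI false
set_option autoImplicit false

universe u

open CategoryTheory CategoryTheory.Limits MonoidalCategory CartesianMonoidalCategory MonObj GrpObj AlgebraicGeometry

noncomputable section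

namespace Groth.Agent.SGA3cLib.CentralOpen

open MultTriv (Q q q_comp)

variable {S : Scheme.{u}} {H G : Over S} [GrpObj H] [GrpObj G] (u : H ⟶ G)

/-- Centrality at a point with values in a field only depends on its image. -/
theorem centralAt_image {K : Type u} [Field K] (ω : Spec (CommRingCat.of K) ⟶ S) (z : ↥(Spec (CommRingCat.of K))) :
    CentralAt u ω ↔ CentralAt u (S.fromSpecResidueField (ω.base z)) := by
  obtain ⟨⟨y, θ⟩, rfl⟩ := (Scheme.SpecToEquivOfField K S).symm.surjective ω
  have hy : (Spec.map θ ≫ S.fromSpecResidueField y).base z = y := by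
    rw [Scheme.Hom.comp_apply]
    exact S.fromSpecResidueField_apply y _
  change CentralAt u (Spec.map θ ≫ S.fromSpecResidueField y) ↔
    CentralAt u (S.fromSpecResidueField ((Spec.map θ ≫ S.fromSpecResidueField y).base z))
  rw [hy]
  exact (centralAt_iff u (K := S.residueField y) (L := K) (S.fromSpecResidueField y) (Spec.map θ) _ rfl).symm

/-- Centrality at a point of an affine scheme over the base. -/
theorem centralAt_prime {R : Type u} [CommRing R] (s : Spec (CommRingCat.of R) ⟶ S) (p : PrimeSpectrum R) :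
    CentralAt u (Spec.map (CommRingCat.ofHom (algebraMap R p.asIdeal.ResidueField)) ≫ s) ↔
      CentralAt u (S.fromSpecResidueField (s.base p)) := by
  let z : ↥(Spec (CommRingCat.of p.asIdeal.ResidueField)) := (⊥ : PrimeSpectrum p.asIdeal.ResidueField)
  have hz : (Spec.map (CommRingCat.ofHom (algebraMap R p.asIdeal.ResidueField))).base z = p :=
    PrimeSpectrum.ext (Ideal.ker_algebraMap_residueField p.asIdeal)
  rw [centralAt_image u _ z, Scheme.Hom.comp_apply]
  exact iff_of_eq (congrArg (fun x => CentralAt u (S.fromSpecResidueField (s.base x))) hz)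

variable [LocallyOfFiniteType G.hom] [IsMonHom u]

/-- The fibrewise centrality locus is open, and `u` is central above it. -/
theorem exists_open_central
    (hconn : ∀ t : S, ConnectedSpace ↥(pullback G.hom (S.fromSpecResidueField t))) (hH : SGA3x.IsMultTypeFT H) :
    ∃ U : S.Opens, (∀ t : S, t ∈ U ↔ CentralAt u (S.fromSpecResidueField t)) ∧
      ∀ (X : Over S) (_ : X ⟶ Over.mk U.ι) (g : X ⟶ G) (h : X ⟶ H), g * (h ≫ u) = (h ≫ u) * g := by
  obtain ⟨S', f, hfl, hsu, hqc, hsplit⟩ := hH
  haveI := hfl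
  have hcov : IsFpqcCov f := IsFpqcCov.of_forall f hqc
  let Z : Set S := {t | CentralAt u (S.fromSpecResidueField t)}
  have hopen : IsOpen (f.base ⁻¹' Z) := by
    rw [isOpen_iff_forall_mem_open]
    intro w hw
    obtain ⟨U', hwU', M, hM, -, ⟨e⟩⟩ := hsplit w
    let e₁ : S ⟶ G.left := η[G].left
    have he₁ : e₁ ≫ G.hom = 𝟙 S := Over.w η[G]
    obtain ⟨U₀, hU₀, hxU₀, -⟩ := exists_isAffineOpen_mem_and_subset (U := (⊤ : S.Opens)) (x := f.base w) trivial
    obtain ⟨V, hV, hxV, hVU⟩ := exists_isAffineOpen_mem_and_subset (U := G.hom ⁻¹ᵁ U₀) (x := e₁.base (f.base w)) (by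
      show (e₁ ≫ G.hom).base (f.base w) ∈ U₀
      rw [he₁]
      exact hxU₀)
    obtain ⟨P, hP, hwP, hPsub⟩ := exists_isAffineOpen_mem_and_subset
      (U := U' ⊓ (f ⁻¹ᵁ U₀ ⊓ (f ≫ e₁) ⁻¹ᵁ V)) (x := w) ⟨hwU', hxU₀, hxV⟩
    let R : CommRingCat.{u} := S'.presheaf.obj (Opposite.op P)
    let t : Spec (CommRingCat.of R) ⟶ U' := IsOpenImmersion.lift U'.ι hP.fromSpec (by
      rw [hP.range_fromSpec, Scheme.Opens.range_ι]; exact fun z hz => (hPsub hz).1)
    have ht : t ≫ U'.ι = hP.fromSpec := IsOpenImmersion.lift_fac _ _ _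
    let s : Spec (CommRingCat.of R) ⟶ S := t ≫ U'.ι ≫ f
    have hs : ∀ z, s.base z = f.base (hP.fromSpec.base z) := fun z => by
      rw [← ht]; rfl
    obtain ⟨pt, pt_mul, pt_nat, pt_surj⟩ := S5279.exists_points (U'.ι ≫ f) H M e t
    have hmem : ∀ z, hP.fromSpec.base z ∈ P := fun z => by
      rw [← SetLike.mem_coe, ← hP.range_fromSpec]; exact ⟨z, rfl⟩
    obtain ⟨W, hW, hWV⟩ := exists_unit_chart (G := G) s hU₀ hV hVU (by
      rintro _ ⟨z, rfl⟩
      rw [hs]
      exact (hPsub (hmem z)).2.1) (by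
      rintro _ ⟨z, rfl⟩
      show (s ≫ e₁).base z ∈ V
      rw [Scheme.Hom.comp_apply, hs]
      exact (hPsub (hmem z)).2.2)
    have hunit : ∀ z : ↥(pullback G.hom s), (pullback.fst G.hom s).base z ∈ Set.range (s ≫ η[G].left).base →
        z ∈ W := by
      rintro z ⟨y, hy⟩
      refine hWV z ?_
      rw [← hy]
      show (s ≫ e₁).base y ∈ V
      rw [Scheme.Hom.comp_apply, hs]
      exact (hPsub (hmem y)).2.2
    let p : PrimeSpectrum R := hP.primeIdealOf ⟨w, hwP⟩
    have hp : hP.fromSpec.base p = w := hP.fromSpec_primeIdealOf _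
    obtain ⟨r, hr, hrc⟩ := exists_away_central u hconn (CentralFib.locally_of_multTypeFT ⟨S', f, hfl, hsu, hqc, hsplit⟩)
      s (M := Multiplicative M) pt pt_mul pt_nat pt_surj hW hunit p.asIdeal
      ((centralAt_prime u s p).mpr (by rw [hs, hp]; exact hw))
    refine ⟨hP.fromSpec.base '' (PrimeSpectrum.basicOpen r : Set (PrimeSpectrum R)), ?_,
      hP.fromSpec.isOpenEmbedding.isOpenMap _ (PrimeSpectrum.basicOpen r).2, ⟨p, hr, hp⟩⟩
    rintro _ ⟨(p' : PrimeSpectrum R), hp', rfl⟩
    show CentralAt u (S.fromSpecResidueField (f.base (hP.fromSpec.base p')))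
    rw [← hs]
    refine (centralAt_prime u s p').mp (hrc _ _ ?_)
    exact fun h0 => hp' (Ideal.algebraMap_residueField_eq_zero.mp h0)
  have hquot : IsOpen Z := by
    rw [isOpen_iff_forall_mem_open]
    intro s hs
    obtain ⟨O, hsO, hO, W, e, hW, ⟨⟨hsur, hfl'⟩, hqc'⟩⟩ := hcov.exists_resLE s
    refine ⟨O.ι.base '' (O.ι.base ⁻¹' Z), Set.image_preimage_subset _ _, ?_, ⟨⟨s, hsO⟩, hs, rfl⟩⟩
    refine O.ι.isOpenEmbedding.isOpenMap _ ?_
    rw [← (Flat.isQuotientMap_of_surjective (f.resLE O W e)).isOpen_preimage, ← Set.preimage_comp]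
    have : O.ι.base ∘ (f.resLE O W e).base = f.base ∘ W.ι.base := by
      funext y
      exact congr($(Scheme.Hom.resLE_comp_ι f e).base y)
    rw [this, Set.preimage_comp]
    exact hopen.preimage W.ι.continuous
  let U : S.Opens := ⟨Z, hquot⟩
  refine ⟨U, fun _ => Iff.rfl, ?_⟩
  haveI : LocallyOfFiniteType (Red.bc U.ι G).hom := inferInstanceAs (LocallyOfFiniteType (pullback.snd G.hom U.ι))
  let uU := (Over.pullback U.ι).map u
  have hc := CentralFib.central_of_fibres uU (CentralDescent.isMultTypeFT_bc U.ι H ⟨S', f, hfl, hsu, hqc, hsplit⟩)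
    fun K _ ω Y p g h => by
      have hω : CentralAt u (ω ≫ U.ι) := by
        rw [centralAt_image u _ (⊥ : PrimeSpectrum K)]
        exact (ω.base (⊥ : PrimeSpectrum K)).2
      obtain ⟨g, rfl⟩ := (BCPoints.pt U.ι G Y).surjective g
      obtain ⟨h, rfl⟩ := (BCPoints.pt U.ι H Y).surjective h
      rw [← BCPoints.pt_comp, ← BCPoints.pt_mul, ← BCPoints.pt_mul]
      congr 1
      exact hω _ (Over.homMk p.left (by
        show p.left ≫ ω ≫ U.ι = Y.hom ≫ U.ι
        rw [← Over.w p, Category.assoc]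
        rfl)) g h
  exact fun X p g h => CentralFib.commute_of_bc u U.ι hc (𝟙 _) (Category.id_comp _) X p g h

end Groth.Agent.SGA3cLib.CentralOpen
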