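import Groth.Agent.SGA3cLib.AveragingLift

/-! Descent of the average: homomorphisms from groups of multiplicative type factoring through a subgroup modulo `J`,
`J² = 0`. -/

set_option linter.style.haveILetI false
set_option autoImplicit false
set_option backward.isDefEq.respectTransparency.types false

universe u

open CategoryTheory CategoryTheory.Limits MonoidalCategory CartesianMonoidalCategory MonObj AlgebraicGeometry

noncomputable section

namespace Groth.Agent.SGA3cLib.Averaging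

/-- Factorisations through a monomorphism glue. -/
theorem exists_fac_of_cover {X Y Z : Scheme.{u}} (k : Y ⟶ Z) [Mono k] (y : X ⟶ Z) (𝒰 : Scheme.OpenCover.{u} X)
    (h : ∀ i, ∃ x : 𝒰.X i ⟶ Y, x ≫ k = 𝒰.f i ≫ y) : ∃ x : X ⟶ Y, x ≫ k = y := by
  choose x hx using h
  refine ⟨𝒰.glueMorphisms x fun i i' => ?_, Scheme.Cover.hom_ext 𝒰 _ _ fun i => ?_⟩
  · rw [← cancel_mono k, Category.assoc, Category.assoc, hx, hx, pullback.condition_assoc]
  · rw [← Category.assoc, 𝒰.ι_glueMorphisms, hx]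

variable {R₀ : Type u} [CommRing R₀]

/-- A homomorphism factoring through a subgroup modulo a square-zero ideal, the factorisation lifting as a morphism,
is conjugate to one factoring through the subgroup by a point congruent to the unit. -/
theorem exists_conj_factor (J : Ideal R₀) (hJ : J * J = ⊥) (H G K' : Over (Spec (CommRingCat.of R₀))) [GrpObj H]
    [GrpObj G] [GrpObj K'] (hH : TwC.Locally (Spec (CommRingCat.of R₀)) TwC.Topology.fpqc (fun S' f => ∃ (M : Type)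
      (_ : AddCommGroup M), Nonempty (Grp.mk (Red.bc f H) ≅ Grp.mk (Red.DS S' M))))
    (u : H ⟶ G) [IsMonHom u] (k : K' ⟶ G) [IsMonHom k] [Mono k.left] (w₀ : H ⟶ K')
    (h0 : ∀ (A : Type u) [CommRing A] [Algebra R₀ A], J ≤ RingHom.ker (algebraMap R₀ A) →
      ∀ h : P R₀ A ⟶ H, h ≫ w₀ ≫ k = h ≫ u) :
    ∃ g : 𝟙_ (Over (Spec (CommRingCat.of R₀))) ⟶ G,
      toUnit (P R₀ (R₀ ⧸ J)) ≫ g = 1 ∧
      ∃ x : H ⟶ K', x ≫ k = (toUnit H ≫ g) * u * (toUnit H ≫ g)⁻¹ := by
  haveI : Mono k := Over.mono_of_mono_left _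
  classical
  obtain ⟨S', f, hfl, hsu, hq, hU⟩ := hH
  choose U hmemU M _ e using hU
  haveI := hfl
  have hcov := IsFpqcCov.of_forall f hq
  -- charts
  have hchart : ∀ s : S', ∃ (P₀ : S'.Opens) (W : G.left.Opens) (W' : K'.left.Opens), IsAffineOpen P₀ ∧
      IsAffineOpen W ∧ IsAffineOpen W' ∧ s ∈ P₀ ∧ P₀ ≤ U s ∧ P₀ ≤ (f ≫ η[G].left) ⁻¹ᵁ W ∧
      P₀ ≤ (f ≫ η[K'].left) ⁻¹ᵁ W' := by
    intro s
    obtain ⟨W, hW, hsW, -⟩ := exists_isAffineOpen_mem_and_subset (U := (⊤ : G.left.Opens))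
      (x := (f ≫ η[G].left).base s) trivial
    obtain ⟨W', hW', hsW', -⟩ := exists_isAffineOpen_mem_and_subset (U := (⊤ : K'.left.Opens))
      (x := (f ≫ η[K'].left).base s) trivial
    obtain ⟨P₀, hP₀, hsP, hle⟩ := exists_isAffineOpen_mem_and_subset
      (U := U s ⊓ ((f ≫ η[G].left) ⁻¹ᵁ W ⊓ (f ≫ η[K'].left) ⁻¹ᵁ W')) (x := s) ⟨hmemU s, hsW, hsW'⟩
    exact ⟨P₀, W, W', hP₀, hW, hW', hsP, fun x hx => (hle hx).1, fun x hx => (hle hx).2.1, fun x hx => (hle hx).2.2⟩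
  choose P₀ W W' hP₀ hW hW' hsP hPU hPW hPW' using hchart
  -- the data over an affine scheme mapping to a chart
  let alg : ∀ {R : Type u} [CommRing R], (Spec (CommRingCat.of R) ⟶ Spec (CommRingCat.of R₀)) → Algebra R₀ R :=
    fun t => (Spec.preimage t).hom.toAlgebra
  have hone : ∀ (X : Over (Spec (CommRingCat.of R₀))) [GrpObj X] (A : Type u) [CommRing A] [Algebra R₀ A],
      (1 : P R₀ A ⟶ X).left = Spec.map (CommRingCat.ofHom (algebraMap R₀ A)) ≫ η[X].left := fun X _ A _ _ => by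
    rw [Hom.one_def]; rfl
  have chart : ∀ (X : Over (Spec (CommRingCat.of R₀))) [GrpObj X] (O : X.left.Opens), IsAffineOpen O →
      ∀ (R : Type u) [CommRing R] [Algebra R₀ R] (t : Spec (CommRingCat.of R) ⟶ S'),
      t ≫ f = Spec.map (CommRingCat.ofHom (algebraMap R₀ R)) →
      Set.range t.base ⊆ ((f ≫ η[X].left) ⁻¹ᵁ O : Set S') →
      ∃ (B : Type u) (_ : CommRing B) (_ : Algebra R₀ B) (j : P R₀ B ⟶ X) (_ : IsOpenImmersion j.left),
        Set.range (1 : P R₀ R ⟶ X).left.base ⊆ Set.range j.left.base := by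
    intro X _ O hO R _ _ t htf ht
    letI : Algebra R₀ Γ(X.left, O) := (Spec.preimage (hO.fromSpec ≫ X.hom)).hom.toAlgebra
    refine ⟨Γ(X.left, O), inferInstance, inferInstance,
      Over.homMk hO.fromSpec (Spec.map_preimage (hO.fromSpec ≫ X.hom)).symm,
      inferInstanceAs (IsOpenImmersion hO.fromSpec), ?_⟩
    rw [hone X R, ← htf]
    rintro _ ⟨p, rfl⟩
    show _ ∈ Set.range hO.fromSpec.base
    rw [hO.range_fromSpec]
    exact ht ⟨p, rfl⟩
  have split : ∀ (s : S') (R : Type u) [CommRing R] [Algebra R₀ R] (t : Spec (CommRingCat.of R) ⟶ S'),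
      Set.range t.base ⊆ (P₀ s : Set S') → t ≫ f = Spec.map (CommRingCat.ofHom (algebraMap R₀ R)) →
      Nonempty (Split H R (Multiplicative (M s))) := by
    intro s R _ _ t ht htf
    let tU : Spec (CommRingCat.of R) ⟶ U s := IsOpenImmersion.lift (U s).ι t (by
      rw [Scheme.Opens.range_ι]; exact fun x hx => hPU s (ht hx))
    exact exists_split ((U s).ι ≫ f) (e s).some tU (by rw [IsOpenImmersion.lift_fac_assoc, htf])
  -- averages on the charts
  have hK : ∀ (R : Type u) [CommRing R] [Algebra R₀ R], J.map (algebraMap R₀ R) * J.map (algebraMap R₀ R) = ⊥ :=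
    fun R _ _ => by rw [← Ideal.map_mul, hJ, Ideal.map_bot]
  let Γs : S' → CommRingCat.{u} := fun s => Γ(S', P₀ s)
  letI algS : ∀ s, Algebra R₀ (Γs s) := fun s => alg ((hP₀ s).fromSpec ≫ f)
  have htS : ∀ s, (hP₀ s).fromSpec ≫ f = Spec.map (CommRingCat.ofHom (algebraMap R₀ (Γs s))) :=
    fun s => (Spec.map_preimage _).symm
  have havg : ∀ s, ∃ (σ : Split H (Γs s) (Multiplicative (M s))) (c : P R₀ (Γs s) ⟶ G),
      IsAvg σ (w₀ ≫ k) u _ (hK (Γs s)) c ∧
      sp (Ideal.Quotient.mkₐ R₀ (J.map (algebraMap R₀ (Γs s)))) ≫ c = 1 ∧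
      ∀ (A : Type u) [CommRing A] [Algebra R₀ A] [Algebra (Γs s) A] [IsScalarTower R₀ (Γs s) A]
        (χ : Multiplicative (M s) →* A),
        ∃ x : P R₀ A ⟶ K', x ≫ k = (sp (IsScalarTower.toAlgHom R₀ (Γs s) A) ≫ c)⁻¹ * (σ.pt A χ ≫ u) *
          (sp (IsScalarTower.toAlgHom R₀ (Γs s) A) ≫ c) := by
    intro s
    have hr : ∀ (O : S'.Opens), P₀ s ≤ O → Set.range (hP₀ s).fromSpec.base ⊆ (O : Set S') := fun O hO =>
      (hP₀ s).range_fromSpec.le.trans hO
    obtain ⟨B, _, _, j, _, hj⟩ := chart G (W s) (hW s) (Γs s) (hP₀ s).fromSpec (htS s) (hr _ (hPW s))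
    obtain ⟨B', _, _, jK, _, hjK⟩ := chart K' (W' s) (hW' s) (Γs s) (hP₀ s).fromSpec (htS s) (hr _ (hPW' s))
    obtain ⟨σ⟩ := split s (Γs s) (hP₀ s).fromSpec (hP₀ s).range_fromSpec.le (htS s)
    obtain ⟨hK', c, h1, h2, h3⟩ := AveragingLift.exists_avg j jK hj hjK u k w₀ J hJ h0 σ
    exact ⟨σ, c, h1, h2, h3⟩
  choose σ c hc hc1 hcconj using havg
  -- the averages agree on common affine schemes
  have agreeAff : ∀ (s s' : S') (R : Type u) [CommRing R] [Algebra R₀ R] (a : Γs s →ₐ[R₀] R) (a' : Γs s' →ₐ[R₀] R)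
      (t : Spec (CommRingCat.of R) ⟶ S'), Set.range t.base ⊆ (P₀ s : Set S') →
      t ≫ f = Spec.map (CommRingCat.ofHom (algebraMap R₀ R)) → sp a ≫ c s = sp a' ≫ c s' := by
    intro s s' R _ _ a a' t ht htf
    obtain ⟨B, _, _, j, _, hj⟩ := chart G (W s) (hW s) R t htf (ht.trans (hPW s))
    obtain ⟨τ⟩ := split s R t ht htf
    have key : ∀ (s : S') (a : Γs s →ₐ[R₀] R), IsAvg τ (w₀ ≫ k) u _ (hK R) (sp a ≫ c s) := by
      intro s a
      letI : Algebra (Γs s) R := a.toRingHom.toAlgebra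
      haveI : IsScalarTower R₀ (Γs s) R := IsScalarTower.of_algebraMap_eq' a.comp_algebraMap.symm
      have h1 := (hc s).transfer (w₀ ≫ k) u τ (hK R) (by rw [Ideal.map_map, ← IsScalarTower.algebraMap_eq])
      exact h1
    exact IsAvg.unique j (w₀ ≫ k) u hj (key s a) (key s' a')
  have agree : ∀ (s s' : S') {T : Scheme.{u}} (a : T ⟶ Spec (Γs s)) (a' : T ⟶ Spec (Γs s')),
      a ≫ (hP₀ s).fromSpec ≫ f = a' ≫ (hP₀ s').fromSpec ≫ f → a ≫ (c s).left = a' ≫ (c s').left := by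
    intro s s' T a a' haa
    refine Scheme.Cover.hom_ext T.affineCover _ _ fun i => ?_
    obtain ⟨R, w, hw⟩ : ∃ (R : CommRingCat.{u}) (w : Spec R ⟶ T) (q : T.affineCover.X i ⟶ Spec R),
        q ≫ w = T.affineCover.f i :=
      ⟨_, (T.affineCover.X i).isoSpec.inv ≫ T.affineCover.f i, (T.affineCover.X i).isoSpec.hom, Iso.hom_inv_id_assoc _ _⟩
    obtain ⟨q, hq⟩ := hw
    letI : Algebra R₀ R := alg (w ≫ a ≫ (hP₀ s).fromSpec ≫ f)
    obtain ⟨θ, hθ⟩ := Spec.map_surjective (w ≫ a)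
    obtain ⟨θ', hθ'⟩ := Spec.map_surjective (w ≫ a')
    have hbase : ∀ (s : S') (θ : Γs s ⟶ R), Spec.map θ ≫ (hP₀ s).fromSpec ≫ f =
        Spec.map (CommRingCat.ofHom (algebraMap R₀ R)) →
        ∀ r, θ (algebraMap R₀ (Γs s) r) = algebraMap R₀ R r := fun s θ h r => by
      rw [htS, ← Spec.map_comp] at h
      exact congr($(Spec.map_injective h) r)
    have hR : w ≫ a ≫ (hP₀ s).fromSpec ≫ f = Spec.map (CommRingCat.ofHom (algebraMap R₀ R)) :=
      (Spec.map_preimage _).symm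
    let α : Γs s →ₐ[R₀] R := ⟨θ.hom, hbase s θ (by rw [hθ, Category.assoc, hR])⟩
    let α' : Γs s' →ₐ[R₀] R := ⟨θ'.hom, hbase s' θ' (by rw [hθ', Category.assoc, ← haa, hR])⟩
    have h := congrArg CommaMorphism.left (agreeAff s s' R α α' ((w ≫ a) ≫ (hP₀ s).fromSpec) (by
      rintro _ ⟨p, rfl⟩
      rw [← (hP₀ s).range_fromSpec]
      exact ⟨_, rfl⟩) (by rw [Category.assoc, Category.assoc, hR]))
    change Spec.map θ ≫ (c s).left = Spec.map θ' ≫ (c s').left at h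
    rw [hθ, hθ', Category.assoc, Category.assoc] at h
    rw [← hq, Category.assoc, Category.assoc, h]
  -- glue on the covering
  have hPc : TopologicalSpace.IsOpenCover P₀ :=
    TopologicalSpace.IsOpenCover.mk (eq_top_iff.2 fun s _ => TopologicalSpace.Opens.mem_iSup.2 ⟨s, hsP s⟩)
  let 𝒰 := S'.openCoverOfIsOpenCover P₀ hPc
  let γ : S' ⟶ G.left := 𝒰.glueMorphisms (fun s => (hP₀ s).isoSpec.hom ≫ (c s).left) fun s s' => by
    rw [← Category.assoc, ← Category.assoc]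
    refine agree s s' _ _ ?_
    exact comp_cond f (hP₀ s).isoSpec_hom_fromSpec (hP₀ s').isoSpec_hom_fromSpec (pullback.condition (f := (P₀ s).ι) (g := (P₀ s').ι))
  have hγ : ∀ s : S', (P₀ s).ι ≫ γ = (hP₀ s).isoSpec.hom ≫ (c s).left := fun s => 𝒰.ι_glueMorphisms _ _ s
  have hγspec : ∀ s : S', (hP₀ s).fromSpec ≫ γ = (c s).left := fun s => by
    rw [← (hP₀ s).isoSpec_inv_ι, Category.assoc, hγ, Iso.inv_hom_id_assoc]
  have hlift : ∀ (s : S') {T : Scheme.{u}} (a : T ⟶ S'), Set.range a.base ⊆ (P₀ s : Set S') →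
      ∃ a' : T ⟶ Spec (Γs s), a' ≫ (hP₀ s).fromSpec = a := fun s T a ha =>
    ⟨IsOpenImmersion.lift (hP₀ s).fromSpec a (by rw [(hP₀ s).range_fromSpec]; exact ha), IsOpenImmersion.lift_fac _ _ _⟩
  -- descend
  obtain ⟨m, hm⟩ := HasCovLift.exists_desc (f := f) ⟨S', f, 𝟙 _, Category.id_comp _, hcov⟩ γ (by
    intro T a b hab
    let O : S' × S' → T.Opens := fun p => a ⁻¹ᵁ P₀ p.1 ⊓ b ⁻¹ᵁ P₀ p.2
    have hO : TopologicalSpace.IsOpenCover O :=
      TopologicalSpace.IsOpenCover.mk (eq_top_iff.2 fun x _ => TopologicalSpace.Opens.mem_iSup.2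
        ⟨(a.base x, b.base x), hsP _, hsP _⟩)
    refine Scheme.Cover.hom_ext (T.openCoverOfIsOpenCover O hO) _ _ fun p => ?_
    obtain ⟨a', ha'⟩ := hlift p.1 ((O p).ι ≫ a) (by rintro _ ⟨x, rfl⟩; exact x.2.1)
    obtain ⟨b', hb'⟩ := hlift p.2 ((O p).ι ≫ b) (by rintro _ ⟨x, rfl⟩; exact x.2.2)
    have := agree p.1 p.2 a' b' (by rw [reassoc_of% ha', reassoc_of% hb', hab])
    rw [← hγspec, ← hγspec, reassoc_of% ha', reassoc_of% hb'] at this
    exact this)
  haveI := hcov.epi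
  have hγhom : γ ≫ G.hom = f := Scheme.Cover.hom_ext 𝒰 _ _ fun s => by
    show (P₀ s).ι ≫ γ ≫ G.hom = (P₀ s).ι ≫ f
    rw [reassoc_of% (hγ s)]
    erw [Over.w (c s)]
    show _ ≫ Spec.map _ = _
    rw [← htS, IsAffineOpen.isoSpec_hom_fromSpec_assoc]
  let g : 𝟙_ (Over (Spec (CommRingCat.of R₀))) ⟶ G := Over.homMk m (by
    show m ≫ G.hom = 𝟙 _
    rw [← cancel_epi f, Category.comp_id, ← Category.assoc, hm, hγhom])
  refine ⟨g⁻¹, ?_, ?_⟩
  · -- modulo `J`
    rw [GrpObj.comp_inv, inv_eq_one]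
    haveI := (hcov.pullback_snd (P R₀ (R₀ ⧸ J)).hom).epi
    apply Over.OverMorphism.ext
    rw [← cancel_epi (pullback.snd f (P R₀ (R₀ ⧸ J)).hom)]
    let O : S' → (pullback f (P R₀ (R₀ ⧸ J)).hom).Opens := fun s => (pullback.fst f _) ⁻¹ᵁ P₀ s
    have hO : TopologicalSpace.IsOpenCover O :=
      TopologicalSpace.IsOpenCover.mk (eq_top_iff.2 fun x _ => TopologicalSpace.Opens.mem_iSup.2
        ⟨(pullback.fst f (P R₀ (R₀ ⧸ J)).hom).base x, hsP _⟩)
    refine Scheme.Cover.hom_ext ((pullback f (P R₀ (R₀ ⧸ J)).hom).openCoverOfIsOpenCover O hO) _ _ fun s => ?_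
    obtain ⟨a, ha⟩ := hlift s ((O s).ι ≫ pullback.fst _ _) (by rintro _ ⟨x, rfl⟩; exact x.2)
    -- factor through the reduction of the chart
    let b := (O s).ι ≫ pullback.snd f (P R₀ (R₀ ⧸ J)).hom
    have hab : a ≫ Spec.map (CommRingCat.ofHom (algebraMap R₀ (Γs s))) =
        b ≫ Spec.map (CommRingCat.ofHom (Ideal.Quotient.mk J)) := by
      rw [← htS, reassoc_of% ha, pullback.condition]
      rfl
    refine Scheme.Cover.hom_ext (O s).toScheme.affineCover _ _ fun i => ?_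
    obtain ⟨R, w, q, hq⟩ : ∃ (R : CommRingCat.{u}) (w : Spec R ⟶ (O s).toScheme) (q : (O s).toScheme.affineCover.X i ⟶ Spec R),
        q ≫ w = (O s).toScheme.affineCover.f i :=
      ⟨_, ((O s).toScheme.affineCover.X i).isoSpec.inv ≫ (O s).toScheme.affineCover.f i,
        ((O s).toScheme.affineCover.X i).isoSpec.hom, Iso.hom_inv_id_assoc _ _⟩
    obtain ⟨θ, hθ⟩ := Spec.map_surjective (w ≫ a)
    obtain ⟨ψ, hψ⟩ := Spec.map_surjective (R := CommRingCat.of (R₀ ⧸ J)) (w ≫ b)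
    letI : Algebra R₀ R := (ψ.hom.comp (Ideal.Quotient.mk J)).toAlgebra
    have hθψ : CommRingCat.ofHom (algebraMap R₀ (Γs s)) ≫ θ = CommRingCat.ofHom (Ideal.Quotient.mk J) ≫ ψ := by
      apply Spec.map_injective
      rw [Spec.map_comp, Spec.map_comp, hθ, hψ, Category.assoc, Category.assoc, hab]
      rfl
    let α : Γs s →ₐ[R₀] R := ⟨θ.hom, fun r => congr($hθψ r)⟩
    let β : (Γs s ⧸ J.map (algebraMap R₀ (Γs s))) →ₐ[R₀] R := Ideal.Quotient.liftₐ _ α (by
      suffices h : J.map (algebraMap R₀ (Γs s)) ≤ RingHom.ker α.toRingHom from fun x hx => h hx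
      rw [Ideal.map_le_iff_le_comap]
      intro r hr
      show α (algebraMap R₀ _ r) = 0
      rw [α.commutes]
      show ψ (Ideal.Quotient.mk J r) = 0
      rw [Ideal.Quotient.eq_zero_iff_mem.mpr hr, map_zero])
    have h1 : sp α ≫ c s = 1 := by
      rw [show α = β.comp (Ideal.Quotient.mkₐ R₀ _) from AlgHom.ext fun x => rfl, ← sp_comp, Category.assoc, hc1,
        MonObj.comp_one]
    have h2 := congrArg Over.Hom.left h1
    rw [hone G] at h2
    change Spec.map θ ≫ (c s).left = Spec.map (CommRingCat.ofHom (ψ.hom.comp (Ideal.Quotient.mk J))) ≫ η[G].left at h2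
    rw [hθ, CommRingCat.ofHom_comp, Spec.map_comp, ← hγspec, Category.assoc, reassoc_of% ha] at h2
    rw [Hom.one_def]
    show _ ≫ (O s).ι ≫ pullback.snd _ _ ≫ (P R₀ (R₀ ⧸ J)).hom ≫ m = _ ≫ (O s).ι ≫ pullback.snd _ _ ≫ (P R₀ (R₀ ⧸ J)).hom ≫ η[G].left
    rw [← pullback.condition_assoc, hm, ← hq]
    simp only [Category.assoc]
    rw [h2]
    erw [hψ]
    simp only [b, Category.assoc]
    rfl
  · -- conjugation
    let y : H ⟶ G := (toUnit H ≫ g)⁻¹ * u * (toUnit H ≫ g)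
    suffices hy : ∃ x : H.left ⟶ K'.left, x ≫ k.left = y.left by
      obtain ⟨x, hx⟩ := hy
      refine ⟨Over.homMk x ?_, ?_⟩
      · rw [← Over.w k, ← Category.assoc, hx]
        exact Over.w y
      · rw [GrpObj.comp_inv, inv_inv]
        exact Over.OverMorphism.ext hx
    let p := pullback.snd f H.hom
    suffices hy : ∃ x : pullback f H.hom ⟶ K'.left, x ≫ k.left = p ≫ y.left by
      obtain ⟨x, hx⟩ := hy
      obtain ⟨m', hm'⟩ := HasCovLift.exists_desc (f := p)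
        ⟨_, p, 𝟙 _, Category.id_comp _, hcov.pullback_snd H.hom⟩ x (by
          intro T a b hab
          rw [← cancel_mono k.left, Category.assoc, Category.assoc, hx, reassoc_of% hab])
      haveI := (hcov.pullback_snd H.hom).epi
      exact ⟨m', by rw [← cancel_epi p, reassoc_of% hm', hx]⟩
    let O : S' → (pullback f H.hom).Opens := fun s => (pullback.fst f _) ⁻¹ᵁ P₀ s
    have hO : TopologicalSpace.IsOpenCover O :=
      TopologicalSpace.IsOpenCover.mk (eq_top_iff.2 fun x _ => TopologicalSpace.Opens.mem_iSup.2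
        ⟨(pullback.fst f H.hom).base x, hsP _⟩)
    refine exists_fac_of_cover k.left _ ((pullback f H.hom).openCoverOfIsOpenCover O hO) fun s => ?_
    obtain ⟨a, ha⟩ := hlift s ((O s).ι ≫ pullback.fst _ _) (by rintro _ ⟨x, rfl⟩; exact x.2)
    let b := (O s).ι ≫ pullback.snd f H.hom
    refine exists_fac_of_cover k.left _ (O s).toScheme.affineCover fun i => ?_
    obtain ⟨R, v, q, hq⟩ : ∃ (R : CommRingCat.{u}) (v : Spec R ⟶ (O s).toScheme) (q : (O s).toScheme.affineCover.X i ⟶ Spec R),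
        q ≫ v = (O s).toScheme.affineCover.f i :=
      ⟨_, ((O s).toScheme.affineCover.X i).isoSpec.inv ≫ (O s).toScheme.affineCover.f i,
        ((O s).toScheme.affineCover.X i).isoSpec.hom, Iso.hom_inv_id_assoc _ _⟩
    obtain ⟨θ, hθ⟩ := Spec.map_surjective (v ≫ a)
    letI : Algebra (Γs s) R := θ.hom.toAlgebra
    letI : Algebra R₀ R := (θ.hom.comp (algebraMap R₀ (Γs s))).toAlgebra
    haveI : IsScalarTower R₀ (Γs s) R := IsScalarTower.of_algebraMap_eq' rfl
    let π : P R₀ R ⟶ H := Over.homMk (v ≫ b) (by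
      show (v ≫ b) ≫ H.hom = Spec.map (CommRingCat.ofHom (θ.hom.comp _))
      rw [CommRingCat.ofHom_comp, Spec.map_comp, ← htS]
      erw [hθ]
      simp only [b, Category.assoc, ← pullback.condition, reassoc_of% ha])
    obtain ⟨χ, hχ⟩ := (σ s).pt_surj R π
    obtain ⟨x, h1⟩ := hcconj s R χ
    have hπg : sp (IsScalarTower.toAlgHom R₀ (Γs s) R) ≫ c s = π ≫ toUnit H ≫ g := by
      apply Over.OverMorphism.ext
      show Spec.map θ ≫ (c s).left = (v ≫ b) ≫ H.hom ≫ m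
      rw [hθ, ← hγspec, Category.assoc, reassoc_of% ha]
      simp only [b, Category.assoc, ← pullback.condition_assoc, hm]
    rw [hχ, hπg, ← GrpObj.comp_inv, ← MonObj.comp_mul, ← MonObj.comp_mul] at h1
    have h2 : x.left ≫ k.left = (v ≫ b) ≫ y.left := congrArg Over.Hom.left h1
    refine ⟨q ≫ x.left, ?_⟩
    simp only [b, p, Category.assoc] at h2 ⊢
    erw [h2]
    erw [reassoc_of% hq]
    rfl

end Groth.Agent.SGA3cLib.Averaging
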