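import Groth.Agent.SGA3cLib.SplitHom
import Groth.Agent.SGA3cLib.AveragingDescent
import Groth.Agent.SGA3cLib.BCPoints

/-! Homomorphisms between groups of multiplicative type lift uniquely along nilpotent thickenings of affine bases. -/

set_option linter.style.haveILetI false
set_option autoImplicit false

universe u

open CategoryTheory CategoryTheory.Limits MonoidalCategory CartesianMonoidalCategory MonObj AlgebraicGeometry

noncomputable section

namespace Groth.Agent.SGA3cLib.MultHomLift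

open Averaging SplitHom

variable {R₀ : Type u} [CommRing R₀]

/-- Multiplicative type over an affine base. -/
abbrev IsMT (H : Over (Spec (CommRingCat.of R₀))) [GrpObj H] : Prop :=
  TwC.Locally (Spec (CommRingCat.of R₀)) TwC.Topology.fpqc (fun S' f => ∃ (M : Type) (_ : AddCommGroup M),
    Nonempty (Grp.mk (Red.bc f H) ≅ Grp.mk (Red.DS S' M)))

/-- A covering whose affine charts split both groups. -/
structure Charts (H H' : Over (Spec (CommRingCat.of R₀))) [GrpObj H] [GrpObj H'] where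
  Q : Scheme.{u}
  q : Q ⟶ Spec (CommRingCat.of R₀)
  cov : IsFpqcCov q
  nbhd : Q → Q.Opens
  isAffineOpen : ∀ z, IsAffineOpen (nbhd z)
  mem : ∀ z, z ∈ nbhd z
  split : ∀ (z : Q) (R : Type u) [CommRing R] [Algebra R₀ R] (t : Spec (CommRingCat.of R) ⟶ Q),
    Set.range t.base ⊆ (nbhd z : Set Q) → t ≫ q = Spec.map (CommRingCat.ofHom (algebraMap R₀ R)) →
    ∃ (M N : Type) (_ : CommGroup M) (_ : CommGroup N), Nonempty (Split H R M) ∧ Nonempty (Split H' R N)

variable {H H' : Over (Spec (CommRingCat.of R₀))} [GrpObj H] [GrpObj H']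

theorem exists_charts (hH : IsMT H) (hH' : IsMT H') : Nonempty (Charts H H') := by
  obtain ⟨S₁, f₁, hfl₁, -, hq₁, hU₁⟩ := hH
  obtain ⟨S₂, f₂, hfl₂, -, hq₂, hU₂⟩ := hH'
  choose U hmemU M _ e using hU₁
  choose V hmemV N _ d using hU₂
  haveI := hfl₁
  haveI := hfl₂
  have hcov : IsFpqcCov (pullback.snd f₁ f₂ ≫ f₂) :=
    (IsFpqcCov.of_forall f₂ hq₂).comp ((IsFpqcCov.of_forall f₁ hq₁).pullback_snd f₂)
  have hex : ∀ z : ↥(pullback f₁ f₂), ∃ P : (pullback f₁ f₂).Opens, IsAffineOpen P ∧ z ∈ P ∧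
      P ≤ pullback.fst f₁ f₂ ⁻¹ᵁ U ((pullback.fst f₁ f₂).base z) ⊓ pullback.snd f₁ f₂ ⁻¹ᵁ V ((pullback.snd f₁ f₂).base z) := fun z => by
    obtain ⟨P, hP, hz, hle⟩ := exists_isAffineOpen_mem_and_subset
      (U := pullback.fst f₁ f₂ ⁻¹ᵁ U ((pullback.fst f₁ f₂).base z) ⊓ pullback.snd f₁ f₂ ⁻¹ᵁ V ((pullback.snd f₁ f₂).base z))
      (x := z) ⟨hmemU _, hmemV _⟩
    exact ⟨P, hP, hz, hle⟩
  choose P hP hz hle using hex
  refine ⟨⟨_, _, hcov, P, hP, hz, fun z R _ _ t ht htq => ?_⟩⟩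
  refine ⟨Multiplicative (M ((pullback.fst f₁ f₂).base z)), Multiplicative (N ((pullback.snd f₁ f₂).base z)),
    inferInstance, inferInstance, ?_, ?_⟩
  · let s := (pullback.fst f₁ f₂).base z
    let tU : Spec (CommRingCat.of R) ⟶ U s := IsOpenImmersion.lift (U s).ι (t ≫ pullback.fst f₁ f₂) (by
      rw [Scheme.Opens.range_ι]; rintro _ ⟨p, rfl⟩; exact (hle z (ht ⟨p, rfl⟩)).1)
    exact exists_split ((U s).ι ≫ f₁) (e s).some tU (by
      rw [IsOpenImmersion.lift_fac_assoc, Category.assoc, pullback.condition, htq])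
  · let s := (pullback.snd f₁ f₂).base z
    let tV : Spec (CommRingCat.of R) ⟶ V s := IsOpenImmersion.lift (V s).ι (t ≫ pullback.snd f₁ f₂) (by
      rw [Scheme.Opens.range_ι]; rintro _ ⟨p, rfl⟩; exact (hle z (ht ⟨p, rfl⟩)).2)
    exact exists_split ((V s).ι ≫ f₂) (d s).some tV (by rw [IsOpenImmersion.lift_fac_assoc, Category.assoc, htq])

variable (C : Charts H H')

/-- Algebras over a chart. -/
def Charts.Good (A : Type u) [CommRing A] [Algebra R₀ A] : Prop :=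
  ∃ (z : C.Q) (t : Spec (CommRingCat.of A) ⟶ C.Q), Set.range t.base ⊆ (C.nbhd z : Set C.Q) ∧
    t ≫ C.q = Spec.map (CommRingCat.ofHom (algebraMap R₀ A))

theorem Charts.Good.of_algHom {A B : Type u} [CommRing A] [Algebra R₀ A] [CommRing B] [Algebra R₀ B]
    (hA : C.Good A) (v : A →ₐ[R₀] B) : C.Good B := by
  obtain ⟨z, t, ht, htq⟩ := hA
  refine ⟨z, Spec.map (CommRingCat.ofHom v.toRingHom) ≫ t, ?_, ?_⟩
  · rintro _ ⟨p, rfl⟩
    exact ht ⟨_, rfl⟩
  · rw [Category.assoc, htq, ← Spec.map_comp, ← CommRingCat.ofHom_comp, AlgHom.toRingHom_eq_coe, v.comp_algebraMap]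

/-- Restriction of a family to an algebra over the chart. -/
def restrictFam {R : Type u} [CommRing R] [Algebra R₀ R] (Φ : Fam H H' R) (R' : Type u) [CommRing R'] [Algebra R₀ R']
    (v : R →ₐ[R₀] R') : Fam H H' R' where
  F A _ _ _ _ x :=
    letI : Algebra R A := ((algebraMap R' A).comp v.toRingHom).toAlgebra
    haveI : IsScalarTower R₀ R A := IsScalarTower.of_algebraMap_eq fun r => by
      show algebraMap R₀ A r = algebraMap R' A (v (algebraMap R₀ R r))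
      rw [v.commutes, ← IsScalarTower.algebraMap_apply]
    Φ.F A x
  map_mul A _ _ _ _ x y :=
    letI : Algebra R A := ((algebraMap R' A).comp v.toRingHom).toAlgebra
    haveI : IsScalarTower R₀ R A := IsScalarTower.of_algebraMap_eq fun r => by
      show algebraMap R₀ A r = algebraMap R' A (v (algebraMap R₀ R r))
      rw [v.commutes, ← IsScalarTower.algebraMap_apply]
    Φ.map_mul A x y
  nat A A' _ _ _ _ _ _ _ _ w x :=
    letI : Algebra R A := ((algebraMap R' A).comp v.toRingHom).toAlgebra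
    letI : Algebra R A' := ((algebraMap R' A').comp v.toRingHom).toAlgebra
    haveI : IsScalarTower R₀ R A := IsScalarTower.of_algebraMap_eq fun r => by
      show algebraMap R₀ A r = algebraMap R' A (v (algebraMap R₀ R r))
      rw [v.commutes, ← IsScalarTower.algebraMap_apply]
    haveI : IsScalarTower R₀ R A' := IsScalarTower.of_algebraMap_eq fun r => by
      show algebraMap R₀ A' r = algebraMap R' A' (v (algebraMap R₀ R r))
      rw [v.commutes, ← IsScalarTower.algebraMap_apply]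
    let w' : A →ₐ[R] A' := { w.toRingHom with commutes' := fun r => w.commutes (v r) }
    Φ.nat A A' w' x

/-- The points of the base change along the covering, over the charts. -/
theorem exists_cover (X : Over (Spec (CommRingCat.of R₀))) (y : ↥(pullback X.hom C.q)) :
    ∃ (W : (pullback X.hom C.q).Opens) (hW : IsAffineOpen W) (_ : y ∈ W)
      (A : Type u) (_ : CommRing A) (_ : Algebra R₀ A) (_ : C.Good A) (x : P R₀ A ⟶ X)
      (e : Spec (CommRingCat.of A) ⟶ pullback X.hom C.q),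
      IsOpenImmersion e ∧ Set.range e.base = (W : Set ↥(pullback X.hom C.q)) ∧ e ≫ pullback.fst X.hom C.q = x.left := by
  obtain ⟨W, hW, hy, hle⟩ := exists_isAffineOpen_mem_and_subset
    (U := pullback.snd X.hom C.q ⁻¹ᵁ C.nbhd ((pullback.snd X.hom C.q).base y)) (x := y) (C.mem _)
  letI : Algebra R₀ Γ(pullback X.hom C.q, W) :=
    (Spec.preimage (hW.fromSpec ≫ pullback.fst X.hom C.q ≫ X.hom)).hom.toAlgebra
  have halg : hW.fromSpec ≫ pullback.fst X.hom C.q ≫ X.hom =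
      Spec.map (CommRingCat.ofHom (algebraMap R₀ Γ(pullback X.hom C.q, W))) := (Spec.map_preimage _).symm
  refine ⟨W, hW, hy, Γ(pullback X.hom C.q, W), inferInstance, inferInstance,
    ⟨(pullback.snd X.hom C.q).base y, hW.fromSpec ≫ pullback.snd X.hom C.q, ?_, ?_⟩,
    Over.homMk (hW.fromSpec ≫ pullback.fst X.hom C.q) ((Category.assoc _ _ _).trans halg),
    hW.fromSpec, inferInstanceAs (IsOpenImmersion hW.fromSpec), hW.range_fromSpec, rfl⟩
  · rintro _ ⟨p, rfl⟩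
    exact hle (hW.range_fromSpec.le ⟨p, rfl⟩)
  · rw [Category.assoc, ← pullback.condition]
    exact halg

theorem comp_congr {A B B' E F Z : Scheme.{u}} (w : A ⟶ Z) {a : Z ⟶ B} {b : Z ⟶ B'} {x : B ⟶ E} {y : B' ⟶ E}
    (g : E ⟶ F) (h : a ≫ x = b ≫ y) : (w ≫ a) ≫ x ≫ g = (w ≫ b) ≫ y ≫ g := by
  rw [Category.assoc, Category.assoc, reassoc_of% h]

theorem cover_congr {A B B' C C' E Z : Scheme.{u}} {p : A ⟶ B} {p' : A ⟶ B'} {j : B ⟶ C} {j' : B' ⟶ C'}
    {e : C ⟶ E} {e' : C' ⟶ E} (f : E ⟶ Z) {i : B ⟶ E} {i' : B' ⟶ E} (h : j ≫ e = i) (h' : j' ≫ e' = i')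
    (hc : p ≫ i = p' ≫ i') : (p ≫ j) ≫ e ≫ f = (p' ≫ j') ≫ e' ≫ f := by
  subst h h'
  simpa only [Category.assoc] using congrArg (· ≫ f) hc

theorem unit_congr {A B Z : Scheme.{u}} {d : A ⟶ B} {j : B ⟶ A} (h : d ≫ j = 𝟙 A) (k : A ⟶ Z) : d ≫ j ≫ k = k := by
  rw [← Category.assoc, h, Category.id_comp]

theorem fac_congr {A E H' Z : Scheme.{u}} {r' : A ⟶ E} {f : E ⟶ H'} {r : A ⟶ H'} {m : H' ⟶ Z} {γ : E ⟶ Z}
    (h : r' ≫ f = r) (hm : f ≫ m = γ) : r' ≫ γ = r ≫ m := by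
  rw [← h, ← hm, Category.assoc]

theorem isFpqcCov_of_isIso {X Y : Scheme.{u}} (f : X ⟶ Y) [IsIso f] : IsFpqcCov f := by
  refine IsFpqcCov.of_forall f fun V hV => ⟨f ⁻¹ᵁ V, (hV.preimage f).isCompact, ?_⟩
  exact Set.image_preimage_eq _ f.surjective

/-- Morphisms agreeing on points over the charts agree. -/
theorem hom_ext_good {X Y : Over (Spec (CommRingCat.of R₀))} (a b : X ⟶ Y)
    (h : ∀ (A : Type u) [CommRing A] [Algebra R₀ A], C.Good A → ∀ r : P R₀ A ⟶ X, r ≫ a = r ≫ b) : a = b := by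
  haveI := (C.cov.pullback_snd X.hom).epi
  haveI : Epi (pullback.fst X.hom C.q) := by
    rw [← pullbackSymmetry_hom_comp_snd]; infer_instance
  apply Over.OverMorphism.ext
  rw [← cancel_epi (pullback.fst X.hom C.q)]
  choose W hW hy A _ _ hA x e he hr hx using exists_cover C X
  have hWc : TopologicalSpace.IsOpenCover W :=
    TopologicalSpace.IsOpenCover.mk (eq_top_iff.2 fun y _ => TopologicalSpace.Opens.mem_iSup.2 ⟨y, hy y⟩)
  refine Scheme.Cover.hom_ext ((pullback X.hom C.q).openCoverOfIsOpenCover W hWc) _ _ fun y => ?_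
  haveI := he y
  show (W y).ι ≫ _ = (W y).ι ≫ _
  rw [← IsOpenImmersion.lift_fac (e y) (W y).ι (by rw [Scheme.Opens.range_ι]; exact (hr y).ge)]
  have h1 := congrArg Over.Hom.left (h (A y) (hA y) (x y))
  change (x y).left ≫ a.left = (x y).left ≫ b.left at h1
  simp only [Category.assoc, reassoc_of% (hx y)]
  exact congrArg (IsOpenImmersion.lift (e y) (W y).ι _ ≫ ·) h1

variable (J : Ideal R₀) (hJ : ∀ a ∈ J, IsNilpotent a)
include C hJ

/-- Congruent homomorphisms are equal. -/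
theorem hom_ext_of_charts (u v : H ⟶ H') [IsMonHom u] [IsMonHom v]
    (h0 : ∀ (X : Over (Spec (CommRingCat.of R₀))) (_ : X ⟶ P R₀ (R₀ ⧸ J)) (h : X ⟶ H), h ≫ u = h ≫ v) : u = v := by
  refine hom_ext_good C u v fun A _ _ hA x => ?_
  obtain ⟨z, t, ht, htq⟩ := hA
  obtain ⟨M, N, _, _, ⟨σ⟩, ⟨τ⟩⟩ := C.split z A t ht htq
  let Φu : Fam H H' A := ⟨fun B _ _ _ _ y => y ≫ u, fun B _ _ _ _ y y' => MonObj.mul_comp y y' u,
    fun B B' _ _ _ _ _ _ _ _ w y => (Category.assoc _ _ _).symm⟩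
  let Φv : Fam H H' A := ⟨fun B _ _ _ _ y => y ≫ v, fun B _ _ _ _ y y' => MonObj.mul_comp y y' v,
    fun B B' _ _ _ _ _ _ _ _ w y => (Category.assoc _ _ _).symm⟩
  exact SplitHom.ext J σ τ hJ (snd _ _ ≫ u) Φu Φv
    (fun B _ _ _ _ p y => by show y ≫ u = _; rw [lift_snd_assoc])
    (fun B _ _ _ _ p y => by show y ≫ v = _; rw [lift_snd_assoc, h0 _ p y]) A x

/-- Homomorphisms modulo `J` extend. -/
theorem exists_hom_of_charts (φ₀ : P R₀ (R₀ ⧸ J) ⊗ H ⟶ H')
    (hmul : ∀ (X : Over (Spec (CommRingCat.of R₀))) (p : X ⟶ P R₀ (R₀ ⧸ J)) (x y : X ⟶ H),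
      lift p (x * y) ≫ φ₀ = (lift p x ≫ φ₀) * (lift p y ≫ φ₀)) :
    ∃ φ : H ⟶ H', IsMonHom φ ∧
      ∀ (X : Over (Spec (CommRingCat.of R₀))) (p : X ⟶ P R₀ (R₀ ⧸ J)) (x : X ⟶ H), x ≫ φ = lift p x ≫ φ₀ := by
  classical
  -- the maps of points over the charts
  have hfam : ∀ (A : Type u) [CommRing A] [Algebra R₀ A], C.Good A → ∃ Φ : Fam H H' A, Φ.Congr J φ₀ := by
    intro A _ _ hA
    obtain ⟨z, t, ht, htq⟩ := hA
    obtain ⟨M, N, _, _, ⟨σ⟩, ⟨τ⟩⟩ := C.split z A t ht htq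
    exact SplitHom.exists_fam J σ τ hJ φ₀ hmul
  choose Φ hΦ using hfam
  let F : ∀ (A : Type u) [CommRing A] [Algebra R₀ A], C.Good A → (P R₀ A ⟶ H) → (P R₀ A ⟶ H') :=
    fun A _ _ hA x => (Φ A hA).F A x
  have Fnat : ∀ (A B : Type u) [CommRing A] [Algebra R₀ A] [CommRing B] [Algebra R₀ B] (hA : C.Good A) (hB : C.Good B)
      (v : A →ₐ[R₀] B) (x : P R₀ A ⟶ H), sp v ≫ F A hA x = F B hB (sp v ≫ x) := by
    intro A B _ _ _ _ hA hB v x
    letI : Algebra A B := v.toRingHom.toAlgebra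
    haveI : IsScalarTower R₀ A B := IsScalarTower.of_algebraMap_eq fun r => (v.commutes r).symm
    have h1 := (Φ A hA).nat A B (Algebra.ofId A B) x
    have h2 : (Algebra.ofId A B).restrictScalars R₀ = v := AlgHom.ext fun a => rfl
    rw [h2] at h1
    refine h1.trans ?_
    obtain ⟨z, t, ht, htq⟩ := id hB
    obtain ⟨M, N, _, _, ⟨σ⟩, ⟨τ⟩⟩ := C.split z B t ht htq
    refine Eq.trans ?_ (SplitHom.ext J σ τ hJ φ₀ (restrictFam (Φ A hA) B v) (Φ B hB) (fun D _ _ _ _ p y => ?_) (hΦ B hB) B (sp v ≫ x))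
    · rfl
    · letI : Algebra A D := ((algebraMap B D).comp v.toRingHom).toAlgebra
      haveI : IsScalarTower R₀ A D := IsScalarTower.of_algebraMap_eq fun r => by
        show algebraMap R₀ D r = algebraMap B D (v (algebraMap R₀ A r))
        rw [v.commutes, ← IsScalarTower.algebraMap_apply]
      exact hΦ A hA D p y
  have agree : ∀ {A B : Type u} [CommRing A] [Algebra R₀ A] [CommRing B] [Algebra R₀ B] (hA : C.Good A) (hB : C.Good B)
      (x : P R₀ A ⟶ H) (y : P R₀ B ⟶ H) {T : Scheme.{u}} (a : T ⟶ Spec (CommRingCat.of A)) (b : T ⟶ Spec (CommRingCat.of B)),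
      a ≫ x.left = b ≫ y.left → a ≫ (F A hA x).left = b ≫ (F B hB y).left := by
    intro A B _ _ _ _ hA hB x y T a b hab
    refine Scheme.Cover.hom_ext T.affineCover _ _ fun i => ?_
    obtain ⟨R, w, q, hq⟩ : ∃ (R : CommRingCat.{u}) (w : Spec R ⟶ T) (q : T.affineCover.X i ⟶ Spec R),
        q ≫ w = T.affineCover.f i :=
      ⟨_, (T.affineCover.X i).isoSpec.inv ≫ T.affineCover.f i, (T.affineCover.X i).isoSpec.hom, Iso.hom_inv_id_assoc _ _⟩
    obtain ⟨θ, hθ⟩ := Spec.map_surjective (R := CommRingCat.of A) (w ≫ a)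
    obtain ⟨θ', hθ'⟩ := Spec.map_surjective (R := CommRingCat.of B) (w ≫ b)
    letI : Algebra R₀ R := (θ.hom.comp (algebraMap R₀ A)).toAlgebra
    have hbase : CommRingCat.ofHom (algebraMap R₀ A) ≫ θ = CommRingCat.ofHom (algebraMap R₀ B) ≫ θ' := by
      apply Spec.map_injective
      rw [Spec.map_comp, Spec.map_comp, hθ, hθ']
      have h1 : x.left ≫ H.hom = Spec.map (CommRingCat.ofHom (algebraMap R₀ A)) := Over.w x
      have h2 : y.left ≫ H.hom = Spec.map (CommRingCat.ofHom (algebraMap R₀ B)) := Over.w y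
      rw [← h1, ← h2]
      exact comp_congr w H.hom hab
    let α : A →ₐ[R₀] R := ⟨θ.hom, fun r => rfl⟩
    let β : B →ₐ[R₀] R := ⟨θ'.hom, fun r => congr($hbase.symm r)⟩
    have hR : C.Good R := hA.of_algHom C α
    have hxy : sp α ≫ x = sp β ≫ y := by
      apply Over.OverMorphism.ext
      show Spec.map θ ≫ x.left = Spec.map θ' ≫ y.left
      rw [hθ, hθ', Category.assoc, Category.assoc, hab]
    have h3 := congrArg Over.Hom.left ((Fnat A R hA hR α x).trans ((congrArg (F R hR) hxy).trans (Fnat B R hB hR β y).symm))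
    change Spec.map θ ≫ (F A hA x).left = Spec.map θ' ≫ (F B hB y).left at h3
    rw [hθ, hθ', Category.assoc, Category.assoc] at h3
    rw [← hq, Category.assoc, Category.assoc, h3]
  -- glue and descend
  choose W hW hy A _ _ hA x e he hr hx using exists_cover C H
  have hWc : TopologicalSpace.IsOpenCover W :=
    TopologicalSpace.IsOpenCover.mk (eq_top_iff.2 fun y _ => TopologicalSpace.Opens.mem_iSup.2 ⟨y, hy y⟩)
  have hlift : ∀ (y : ↥(pullback H.hom C.q)) {T : Scheme.{u}} (a : T ⟶ pullback H.hom C.q),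
      Set.range a.base ⊆ (W y : Set _) → ∃ a' : T ⟶ Spec (CommRingCat.of (A y)), a' ≫ e y = a := fun y T a ha => by
    haveI := he y
    exact ⟨IsOpenImmersion.lift (e y) a (by rw [hr y]; exact ha), IsOpenImmersion.lift_fac _ _ _⟩
  choose j hj using fun y => hlift y (W y).ι (by rw [Scheme.Opens.range_ι])
  let 𝒰 := (pullback H.hom C.q).openCoverOfIsOpenCover W hWc
  let γ : pullback H.hom C.q ⟶ H'.left := 𝒰.glueMorphisms (fun y => j y ≫ (F (A y) (hA y) (x y)).left) fun y y' => by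
    rw [← Category.assoc, ← Category.assoc]
    refine agree _ _ _ _ _ _ ?_
    rw [← hx y, ← hx y']
    exact cover_congr (pullback.fst H.hom C.q) (hj y) (hj y') (pullback.condition (f := (W y).ι) (g := (W y').ι))
  have hγ : ∀ (y) {T : Scheme.{u}} (a : T ⟶ Spec (CommRingCat.of (A y))), a ≫ e y ≫ γ = a ≫ (F (A y) (hA y) (x y)).left := by
    intro y T a
    haveI := he y
    let d : Spec (CommRingCat.of (A y)) ⟶ (W y : Scheme.{u}) := IsOpenImmersion.lift (W y).ι (e y) (by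
      rw [Scheme.Opens.range_ι, hr y])
    have hd : d ≫ (W y).ι = e y := IsOpenImmersion.lift_fac _ _ _
    have hdj : d ≫ j y = 𝟙 _ := by rw [← cancel_mono (e y), Category.assoc, hj, hd, Category.id_comp]
    rw [← hd, Category.assoc]
    erw [𝒰.ι_glueMorphisms]
    exact congrArg (a ≫ ·) (unit_congr hdj _)
  have hcov' : IsFpqcCov (pullback.fst H.hom C.q) := by
    have := C.cov.pullback_snd H.hom
    rw [← pullbackSymmetry_hom_comp_snd]
    exact this.comp (isFpqcCov_of_isIso _)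
  obtain ⟨m, hm⟩ := HasCovLift.exists_desc (f := pullback.fst H.hom C.q)
    ⟨_, pullback.fst H.hom C.q, 𝟙 _, Category.id_comp _, hcov'⟩ γ (by
    intro T a b hab
    let O : ↥(pullback H.hom C.q) × ↥(pullback H.hom C.q) → T.Opens := fun p => a ⁻¹ᵁ W p.1 ⊓ b ⁻¹ᵁ W p.2
    have hO : TopologicalSpace.IsOpenCover O :=
      TopologicalSpace.IsOpenCover.mk (eq_top_iff.2 fun z _ => TopologicalSpace.Opens.mem_iSup.2
        ⟨(a.base z, b.base z), hy _, hy _⟩)
    refine Scheme.Cover.hom_ext (T.openCoverOfIsOpenCover O hO) _ _ fun p => ?_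
    obtain ⟨a', ha'⟩ := hlift p.1 ((O p).ι ≫ a) (by rintro _ ⟨z, rfl⟩; exact z.2.1)
    obtain ⟨b', hb'⟩ := hlift p.2 ((O p).ι ≫ b) (by rintro _ ⟨z, rfl⟩; exact z.2.2)
    show (O p).ι ≫ a ≫ γ = (O p).ι ≫ b ≫ γ
    rw [← reassoc_of% ha', ← reassoc_of% hb', hγ, hγ]
    refine agree _ _ _ _ _ _ ?_
    rw [← hx, ← hx, reassoc_of% ha', reassoc_of% hb', hab])
  haveI := hcov'.epi
  have hmhom : m ≫ H'.hom = H.hom := by
    rw [← cancel_epi (pullback.fst H.hom C.q), reassoc_of% hm]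
    refine Scheme.Cover.hom_ext 𝒰 _ _ fun y => ?_
    show (W y).ι ≫ γ ≫ H'.hom = (W y).ι ≫ pullback.fst H.hom C.q ≫ H.hom
    rw [← hj y]
    simp only [Category.assoc]
    rw [reassoc_of% (hγ y (j y)), reassoc_of% (hx y)]
    erw [Over.w (F (A y) (hA y) (x y)), Over.w (x y)]
  let φ : H ⟶ H' := Over.homMk m hmhom
  have spec : ∀ (B : Type u) [CommRing B] [Algebra R₀ B] (hB : C.Good B) (r : P R₀ B ⟶ H), r ≫ φ = F B hB r := by
    intro B _ _ hB r
    obtain ⟨z, t, ht, htq⟩ := id hB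
    let r' : Spec (CommRingCat.of B) ⟶ pullback H.hom C.q := pullback.lift r.left t ((Over.w r).trans htq.symm)
    have hr' : r' ≫ pullback.fst H.hom C.q = r.left := pullback.lift_fst _ _ _
    apply Over.OverMorphism.ext
    show r.left ≫ m = _
    refine (fac_congr hr' hm).symm.trans ?_
    let O : ↥(pullback H.hom C.q) → (Spec (CommRingCat.of B)).Opens := fun y => r' ⁻¹ᵁ W y
    have hO : TopologicalSpace.IsOpenCover O :=
      TopologicalSpace.IsOpenCover.mk (eq_top_iff.2 fun z _ => TopologicalSpace.Opens.mem_iSup.2 ⟨r'.base z, hy _⟩)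
    refine Scheme.Cover.hom_ext ((Spec (CommRingCat.of B)).openCoverOfIsOpenCover O hO) _ _ fun y => ?_
    obtain ⟨b, hb⟩ := hlift y ((O y).ι ≫ r') (by rintro _ ⟨z, rfl⟩; exact z.2)
    show (O y).ι ≫ r' ≫ γ = (O y).ι ≫ _
    rw [← reassoc_of% hb, hγ]
    refine agree _ _ _ _ _ _ ?_
    rw [← hx, reassoc_of% hb, hr']
  refine ⟨φ, BCPoints.isMonHom_of_mul φ fun X a b => hom_ext_good C _ _ fun B _ _ hB r => ?_,
    fun X p a => hom_ext_good C _ _ fun B _ _ hB r => ?_⟩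
  · rw [← Category.assoc, MonObj.comp_mul, MonObj.comp_mul, ← Category.assoc, ← Category.assoc, spec B hB, spec B hB,
      spec B hB]
    exact (Φ B hB).map_mul B _ _
  · rw [← Category.assoc, spec B hB, ← Category.assoc, comp_lift]
    exact hΦ B hB B _ _

omit C hJ

/-- Congruent homomorphisms between groups of multiplicative type are equal. -/
theorem hom_ext (J : Ideal R₀) (hJ : IsNilpotent J) (hH : IsMT H) (hH' : IsMT H') (u v : H ⟶ H') [IsMonHom u] [IsMonHom v]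
    (h0 : ∀ (X : Over (Spec (CommRingCat.of R₀))) (_ : X ⟶ P R₀ (R₀ ⧸ J)) (h : X ⟶ H), h ≫ u = h ≫ v) : u = v := by
  obtain ⟨C⟩ := exists_charts hH hH'
  obtain ⟨n, hn⟩ := hJ
  exact hom_ext_of_charts C J (fun a ha => ⟨n, by simpa [hn] using Ideal.pow_mem_pow ha n⟩) u v h0

/-- Homomorphisms modulo a nilpotent ideal between groups of multiplicative type extend. -/
theorem exists_hom (J : Ideal R₀) (hJ : IsNilpotent J) (hH : IsMT H) (hH' : IsMT H')
    (φ₀ : P R₀ (R₀ ⧸ J) ⊗ H ⟶ H')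
    (hmul : ∀ (X : Over (Spec (CommRingCat.of R₀))) (p : X ⟶ P R₀ (R₀ ⧸ J)) (x y : X ⟶ H),
      lift p (x * y) ≫ φ₀ = (lift p x ≫ φ₀) * (lift p y ≫ φ₀)) :
    ∃ φ : H ⟶ H', IsMonHom φ ∧
      ∀ (X : Over (Spec (CommRingCat.of R₀))) (p : X ⟶ P R₀ (R₀ ⧸ J)) (x : X ⟶ H), x ≫ φ = lift p x ≫ φ₀ := by
  obtain ⟨C⟩ := exists_charts hH hH'
  obtain ⟨n, hn⟩ := hJ
  exact exists_hom_of_charts C J (fun a ha => ⟨n, by simpa [hn] using Ideal.pow_mem_pow ha n⟩) φ₀ hmul

/-- Isomorphisms modulo a nilpotent ideal between groups of multiplicative type extend. -/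
theorem exists_iso (J : Ideal R₀) (hJ : IsNilpotent J) (hH : IsMT H) (hH' : IsMT H')
    (φ₀ : P R₀ (R₀ ⧸ J) ⊗ H ⟶ H')
    (hmul : ∀ (X : Over (Spec (CommRingCat.of R₀))) (p : X ⟶ P R₀ (R₀ ⧸ J)) (x y : X ⟶ H),
      lift p (x * y) ≫ φ₀ = (lift p x ≫ φ₀) * (lift p y ≫ φ₀))
    (ψ₀ : P R₀ (R₀ ⧸ J) ⊗ H' ⟶ H)
    (h₁ : ∀ (X : Over (Spec (CommRingCat.of R₀))) (p : X ⟶ P R₀ (R₀ ⧸ J)) (x : X ⟶ H), lift p (lift p x ≫ φ₀) ≫ ψ₀ = x)
    (h₂ : ∀ (X : Over (Spec (CommRingCat.of R₀))) (p : X ⟶ P R₀ (R₀ ⧸ J)) (y : X ⟶ H'), lift p (lift p y ≫ ψ₀) ≫ φ₀ = y) :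
    ∃ φ : H ≅ H', IsMonHom φ.hom ∧
      ∀ (X : Over (Spec (CommRingCat.of R₀))) (p : X ⟶ P R₀ (R₀ ⧸ J)) (x : X ⟶ H), x ≫ φ.hom = lift p x ≫ φ₀ := by
  have hmul' : ∀ (X : Over (Spec (CommRingCat.of R₀))) (p : X ⟶ P R₀ (R₀ ⧸ J)) (x y : X ⟶ H'),
      lift p (x * y) ≫ ψ₀ = (lift p x ≫ ψ₀) * (lift p y ≫ ψ₀) := fun X p x y => by
    conv_lhs => rw [← h₂ X p x, ← h₂ X p y, ← hmul, h₁]
  obtain ⟨φ, _, hφ⟩ := exists_hom J hJ hH hH' φ₀ hmul
  obtain ⟨ψ, _, hψ⟩ := exists_hom J hJ hH' hH ψ₀ hmul'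
  have e₁ : φ ≫ ψ = 𝟙 H := hom_ext J hJ hH hH _ _ fun X p h => by
    rw [Category.comp_id, ← Category.assoc, hψ X p, hφ X p, h₁]
  have e₂ : ψ ≫ φ = 𝟙 H' := hom_ext J hJ hH' hH' _ _ fun X p h => by
    rw [Category.comp_id, ← Category.assoc, hφ X p, hψ X p, h₂]
  exact ⟨⟨φ, ψ, e₁, e₂⟩, ‹_›, hφ⟩

end Groth.Agent.SGA3cLib.MultHomLift
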