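import Groth.Agent.SGA3cLib.CentralDescent
import Groth.Agent.SGA3cLib.CentralEq
import Groth.Agent.SGA3cLib.Transporter
import Groth.Agent.IsoTriv.SchemeBridge
import Groth.Agent.Desc19b.EffAffine
import Groth.Agent.Desc19b.Imm

/-! Descent of central subgroups of multiplicative type along fpqc coverings with geometrically connected fibres. -/

set_option linter.style.haveILetI false
set_option autoImplicit false
set_option backward.isDefEq.respectTransparency.types false

universe u

open CategoryTheory CategoryTheory.Limits MonoidalCategory CartesianMonoidalCategory MonObj AlgebraicGeometry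

noncomputable section

namespace Groth.Agent.SGA3cLib.CentralSubDescent

open BCPoints CentralDescent

theorem pt_left_fst {S S' : Scheme.{u}} (f : S' ⟶ S) (G : Over S) (X : Over S') (a : (Over.map f).obj X ⟶ G) :
    (pt f G X a).left ≫ pullback.fst G.hom f = a.left := by
  conv_rhs => rw [← (pt f G X).symm_apply_apply a]
  show _ = (((Over.mapPullbackAdj f).homEquiv X G).symm (pt f G X a)).left
  rw [Adjunction.homEquiv_counit]
  rfl

/-- Two monomorphisms agree above `g` iff they have the same points above `g`. -/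
theorem good_iff_points {S T : Scheme.{u}} {G H₁ H₂ : Over S} (i₁ : H₁ ⟶ G) (i₂ : H₂ ⟶ G) [Mono i₁.left]
    [Mono i₂.left] (g : T ⟶ S) :
    CentralEq.Good i₁ i₂ g ↔ ∀ Y : Over T,
      (∀ y : (Over.map g).obj Y ⟶ H₁, ∃ z : (Over.map g).obj Y ⟶ H₂, z ≫ i₂ = y ≫ i₁) ∧
      (∀ z : (Over.map g).obj Y ⟶ H₂, ∃ y : (Over.map g).obj Y ⟶ H₁, z ≫ i₂ = y ≫ i₁) := by
  haveI := CentralEq.mono_map g i₁
  haveI := CentralEq.mono_map g i₂
  rw [CentralEq.good_iff]
  constructor
  · rintro ⟨ψ, hψ⟩ Y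
    refine ⟨fun y => ⟨(pt g H₂ Y).symm (pt g H₁ Y y ≫ ψ.hom), (pt g G Y).injective ?_⟩,
      fun z => ⟨(pt g H₁ Y).symm (pt g H₂ Y z ≫ ψ.inv), (pt g G Y).injective ?_⟩⟩
    · rw [pt_comp, pt_comp, Equiv.apply_symm_apply, Category.assoc, hψ]
    · rw [pt_comp, pt_comp, Equiv.apply_symm_apply, Category.assoc, ← hψ, Iso.inv_hom_id_assoc]
  · intro h
    obtain ⟨z, hz⟩ := (h (Red.bc g H₁)).1 ((pt g H₁ _).symm (𝟙 _))
    obtain ⟨y, hy⟩ := (h (Red.bc g H₂)).2 ((pt g H₂ _).symm (𝟙 _))
    have h1 : pt g H₂ _ z ≫ (Over.pullback g).map i₂ = (Over.pullback g).map i₁ := by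
      rw [← pt_comp, hz, pt_comp, Equiv.apply_symm_apply, Category.id_comp]
    have h2 : pt g H₁ _ y ≫ (Over.pullback g).map i₁ = (Over.pullback g).map i₂ := by
      rw [← pt_comp, ← hy, pt_comp, Equiv.apply_symm_apply, Category.id_comp]
    exact ⟨⟨pt g H₂ _ z, pt g H₁ _ y,
      (cancel_mono ((Over.pullback g).map i₁)).1 (by rw [Category.assoc, h2, h1, Category.id_comp]),
      (cancel_mono ((Over.pullback g).map i₂)).1 (by rw [Category.assoc, h1, h2, Category.id_comp])⟩, h1⟩

variable {S S' : Scheme.{u}} {G : Over S} (π : S' ⟶ S) {H' : Over S'} (j' : H' ⟶ Red.bc π G)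

/-- The subgroup, seen in `G`. -/
def j0 : H'.left ⟶ G.left := j'.left ≫ pullback.fst G.hom π

theorem j0_w : j0 π j' ≫ G.hom = H'.hom ≫ π := by
  rw [j0, Category.assoc, pullback.condition, ← Category.assoc]
  exact congrArg (· ≫ π) (Over.w j')

theorem ext_j0 [Mono j'.left] {T : Scheme.{u}} (v w : T ⟶ H'.left) (h1 : v ≫ H'.hom = w ≫ H'.hom)
    (h2 : v ≫ j0 π j' = w ≫ j0 π j') : v = w := by
  rw [← cancel_mono j'.left]
  apply pullback.hom_ext
  · simpa only [j0, Category.assoc] using h2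
  · rw [Category.assoc, Category.assoc]
    exact (congrArg (v ≫ ·) (Over.w j')).trans (h1.trans (congrArg (w ≫ ·) (Over.w j')).symm)

/-- A point of the subgroup over `a`, as a point of `G`. -/
def val (X : Over S) (a : X.left ⟶ S') (ha : a ≫ π = X.hom) (h : Over.mk a ⟶ H') : X ⟶ G :=
  Over.homMk (h.left ≫ j0 π j') (by
    rw [Category.assoc, j0_w, ← Category.assoc]
    exact (congrArg (· ≫ π) (Over.w h)).trans ha)

theorem val_eq (X : Over S) (a : X.left ⟶ S') (ha : a ≫ π = X.hom) (h : Over.mk a ⟶ H') :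
    val π j' X a ha h = toLift π X a ha ≫ (pt π G _).symm (h ≫ j') := by
  apply Over.OverMorphism.ext
  show h.left ≫ j'.left ≫ pullback.fst G.hom π = 𝟙 _ ≫ ((pt π G (Over.mk a)).symm (h ≫ j')).left
  rw [Category.id_comp, ← pt_left_fst, Equiv.apply_symm_apply, Over.comp_left, Category.assoc]

theorem val_comm [GrpObj G] (hc : ∀ (X : Over S') (g : X ⟶ Red.bc π G) (h : X ⟶ H'), g * (h ≫ j') = (h ≫ j') * g)
    (X : Over S) (a : X.left ⟶ S') (ha : a ≫ π = X.hom) (h : Over.mk a ⟶ H') (g : X ⟶ G) :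
    g * val π j' X a ha h = val π j' X a ha h * g := by
  have h1 : g = toLift π X a ha ≫ (ofLift π X a ha ≫ g) := by
    rw [← Category.assoc, toLift_ofLift, Category.id_comp]
  rw [val_eq, h1, ← MonObj.comp_mul, ← MonObj.comp_mul]
  congr 1
  refine (pt π G _).injective ?_
  rw [pt_mul, pt_mul, Equiv.apply_symm_apply]
  exact hc _ _ _

theorem val_mul [GrpObj G] [GrpObj H'] [IsMonHom j'] (X : Over S) (a : X.left ⟶ S') (ha : a ≫ π = X.hom)
    (h h' : Over.mk a ⟶ H') : val π j' X a ha (h * h') = val π j' X a ha h * val π j' X a ha h' := by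
  rw [val_eq, val_eq, val_eq, ← MonObj.comp_mul]
  congr 1
  refine (pt π G _).injective ?_
  rw [pt_mul, Equiv.apply_symm_apply, Equiv.apply_symm_apply, Equiv.apply_symm_apply, MonObj.mul_comp]

variable {P : Scheme.{u}} (p : P ⟶ S') (q : P ⟶ S) (hp : p ≫ π = q)

/-- The pull-back of the subgroup by a projection, in the pull-back of `G`. -/
def inc : Red.bc p H' ⟶ Red.bc q G :=
  pt q G (Red.bc p H') (Over.homMk (pullback.fst H'.hom p ≫ j0 π j') (by
    rw [Category.assoc, j0_w, ← Category.assoc, pullback.condition, Category.assoc, hp]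
    rfl))

theorem comp_inc (Y : Over P) (h : (Over.map p).obj Y ⟶ H') :
    pt p H' Y h ≫ inc π j' p q hp = pt q G Y (val π j' ((Over.map q).obj Y) (Y.hom ≫ p)
      (by rw [Category.assoc, hp]; rfl) h) := by
  rw [inc, ← pt_map_comp]
  congr 1
  apply Over.OverMorphism.ext
  show (pt p H' Y h).left ≫ pullback.fst H'.hom p ≫ j0 π j' = h.left ≫ j0 π j'
  rw [← Category.assoc, pt_left_fst]

theorem mono_inc [Mono j'.left] : Mono (inc π j' p q hp) :=
  ⟨fun {Y} x y e => by
    obtain ⟨x, rfl⟩ := (pt p H' Y).surjective x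
    obtain ⟨y, rfl⟩ := (pt p H' Y).surjective y
    rw [comp_inc, comp_inc] at e
    have e' := congrArg CommaMorphism.left ((pt q G Y).injective e)
    exact congrArg _ (Over.OverMorphism.ext (ext_j0 π j' _ _ ((Over.w x).trans (Over.w y).symm) e'))⟩

theorem isMonHom_inc [GrpObj G] [GrpObj H'] [IsMonHom j'] : IsMonHom (inc π j' p q hp) :=
  isMonHom_of_mul _ fun Y x y => by
    obtain ⟨x, rfl⟩ := (pt p H' Y).surjective x
    obtain ⟨y, rfl⟩ := (pt p H' Y).surjective y
    rw [← pt_mul, comp_inc, comp_inc, comp_inc, ← pt_mul]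
    congr 1
    exact val_mul π j' ((Over.map q).obj Y) (Y.hom ≫ p) (by rw [Category.assoc, hp]; rfl) x y

theorem central_inc [GrpObj G] (hc : ∀ (X : Over S') (g : X ⟶ Red.bc π G) (h : X ⟶ H'), g * (h ≫ j') = (h ≫ j') * g)
    (Y : Over P) (g : Y ⟶ Red.bc q G) (h : Y ⟶ Red.bc p H') :
    g * (h ≫ inc π j' p q hp) = (h ≫ inc π j' p q hp) * g := by
  obtain ⟨g, rfl⟩ := (pt q G Y).surjective g
  obtain ⟨h, rfl⟩ := (pt p H' Y).surjective h
  rw [comp_inc, ← pt_mul, ← pt_mul, val_comm π j' hc]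

/-- The subgroup does not depend on the lift. -/
theorem agree [GrpObj G] [IsSeparated G.hom] [LocallyOfFinitePresentation G.hom] [GrpObj H'] [IsMonHom j'] [Mono j'.left]
    (hH : SGA3x.IsMultTypeFT H') (hconn : ∀ s : S, ConnectedSpace ↥(pullback π (Red.geomPt s)))
    (hc : ∀ (X : Over S') (g : X ⟶ Red.bc π G) (h : X ⟶ H'), g * (h ≫ j') = (h ≫ j') * g)
    {T : Scheme.{u}} (a b : T ⟶ S') (hab : a ≫ π = b ≫ π) (v : T ⟶ H'.left) (hv : v ≫ H'.hom = a) :
    ∃ w : T ⟶ H'.left, w ≫ H'.hom = b ∧ w ≫ j0 π j' = v ≫ j0 π j' := by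
  let q : pullback π π ⟶ S := pullback.fst π π ≫ π
  let i₁ := inc π j' (pullback.fst π π) q rfl
  let i₂ := inc π j' (pullback.snd π π) q pullback.condition.symm
  haveI : IsMonHom i₁ := isMonHom_inc _ _ _ _ _
  haveI : IsMonHom i₂ := isMonHom_inc _ _ _ _ _
  haveI : Mono i₁ := mono_inc _ _ _ _ _
  haveI : Mono i₂ := mono_inc _ _ _ _ _
  haveI : IsSeparated (Red.bc q G).hom := inferInstanceAs (IsSeparated (pullback.snd G.hom q))
  haveI : LocallyOfFinitePresentation (Red.bc q G).hom :=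
    inferInstanceAs (LocallyOfFinitePresentation (pullback.snd G.hom q))
  obtain ⟨U, hUcl, hU, hUT⟩ := CentralEq.exists_clopen i₁ i₂ (Or.inr inferInstance)
    (isMultTypeFT_bc _ H' hH) (isMultTypeFT_bc _ H' hH) (central_inc π j' _ q rfl hc)
  -- the subgroups agree on the diagonal
  have hδ : CentralEq.Good i₁ i₂ (pullback.diagonal π) := by
    refine (good_iff_points i₁ i₂ _).mpr fun Y => ?_
    let Z : Over (pullback π π) := (Over.map (pullback.diagonal π)).obj Y
    have he : Z.hom ≫ pullback.fst π π = Z.hom ≫ pullback.snd π π := by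
      show (Y.hom ≫ pullback.diagonal π) ≫ _ = (Y.hom ≫ pullback.diagonal π) ≫ _
      simp
    constructor
    · intro y
      let h := (pt (pullback.fst π π) H' Z).symm y
      let h' : (Over.map (pullback.snd π π)).obj Z ⟶ H' := Over.homMk h.left ((Over.w h).trans he)
      refine ⟨pt (pullback.snd π π) H' Z h', ?_⟩
      rw [show y = pt (pullback.fst π π) H' Z h from (Equiv.apply_symm_apply _ _).symm, comp_inc, comp_inc]
      exact congrArg _ (Over.OverMorphism.ext rfl)
    · intro z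
      let h := (pt (pullback.snd π π) H' Z).symm z
      let h' : (Over.map (pullback.fst π π)).obj Z ⟶ H' := Over.homMk h.left ((Over.w h).trans he.symm)
      refine ⟨pt (pullback.fst π π) H' Z h', ?_⟩
      rw [show z = pt (pullback.snd π π) H' Z h from (Equiv.apply_symm_apply _ _).symm, comp_inc, comp_inc]
      exact congrArg _ (Over.OverMorphism.ext rfl)
  have hδU : ∀ w : S', (pullback.diagonal π).base w ∈ U := fun w => by
    rw [hU]
    have h1 := (CentralEq.good_field i₁ i₂ (S'.fromSpecResidueField w ≫ pullback.diagonal π)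
      (IsLocalRing.closedPoint _)).mp (hδ.of_comp i₁ i₂ (S'.fromSpecResidueField w) rfl)
    have h2 : (S'.fromSpecResidueField w ≫ pullback.diagonal π).base (IsLocalRing.closedPoint (S'.residueField w)) =
        (pullback.diagonal π).base w := by
      show (pullback.diagonal π).base ((S'.fromSpecResidueField w).base _) = _
      rw [Scheme.fromSpecResidueField_apply]
    have h3 : ∀ z, z = (pullback.diagonal π).base w → CentralEq.Good i₁ i₂ ((pullback π π).fromSpecResidueField z) →
        CentralEq.Good i₁ i₂ ((pullback π π).fromSpecResidueField ((pullback.diagonal π).base w)) := fun _ e h => e ▸ h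
    exact h3 _ h2 h1
  -- the fibres are connected
  have hall : ∀ z : ↥(pullback π π), z ∈ U := fun z => by
    let g := Red.geomPt (q.base z)
    let f := pullback.snd π g
    haveI := hconn (q.base z)
    haveI : GeometricallyConnected f := geometricallyConnected_of_isAlgClosed f
    haveI : ConnectedSpace ↥(pullback f f) := inferInstance
    let m : pullback f f ⟶ pullback π π := pullback.map f f π π (pullback.fst π g) (pullback.fst π g) g
      pullback.condition.symm pullback.condition.symm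
    obtain ⟨w⟩ : Nonempty ↥(pullback π g) := inferInstance
    have hne : (m.base ⁻¹' (U : Set ↥(pullback π π))).Nonempty := by
      refine ⟨(pullback.diagonal f).base w, ?_⟩
      show m.base ((pullback.diagonal f).base w) ∈ U
      have h1 : pullback.diagonal f ≫ m = pullback.fst π g ≫ pullback.diagonal π := by
        apply pullback.hom_ext <;>
          simp only [m, pullback.map, Category.assoc, pullback.lift_fst, pullback.lift_snd, pullback.diagonal_fst_assoc,
            pullback.diagonal_snd_assoc, pullback.diagonal_fst, pullback.diagonal_snd, Category.comp_id]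
      rw [← Scheme.Hom.comp_apply, h1, Scheme.Hom.comp_apply]
      exact hδU _
    have huniv := IsClopen.eq_univ
      (⟨hUcl.preimage m.continuous, U.isOpen.preimage m.continuous⟩ : IsClopen (m.base ⁻¹' (U : Set ↥(pullback π π)))) hne
    have hg : q.base z ∈ Set.range g.base := ⟨IsLocalRing.closedPoint _, by
      show (S.fromSpecResidueField (q.base z)).base _ = q.base z
      exact Scheme.fromSpecResidueField_apply _ _⟩
    let n : pullback q g ⟶ pullback f f := pullback.lift
      (pullback.lift (pullback.fst q g ≫ pullback.fst π π) (pullback.snd q g)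
        ((Category.assoc _ _ _).trans pullback.condition))
      (pullback.lift (pullback.fst q g ≫ pullback.snd π π) (pullback.snd q g) (by
        rw [Category.assoc, ← pullback.condition (f := π) (g := π)]; exact pullback.condition))
      (by simp only [f, pullback.lift_snd])
    have hnm : n ≫ m = pullback.fst q g := by
      apply pullback.hom_ext <;>
        simp only [n, m, pullback.map, Category.assoc, pullback.lift_fst, pullback.lift_snd, pullback.lift_fst_assoc,
          pullback.lift_snd_assoc]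
    obtain ⟨z₀, hz₀⟩ : z ∈ Set.range (pullback.fst q g).base := by
      rw [Scheme.Pullback.range_fst]; exact hg
    obtain ⟨z', hz'⟩ : z ∈ Set.range m.base := ⟨n.base z₀, by rw [← Scheme.Hom.comp_apply, hnm]; exact hz₀⟩
    exact hz' ▸ (huniv.ge (Set.mem_univ z'))
  have hUtop : U = ⊤ := eq_top_iff.mpr fun z _ => hall z
  haveI : IsIso U.ι := by
    subst hUtop
    exact (inferInstance : IsIso (Scheme.topIso (pullback π π)).hom)
  have hT : CentralEq.Good i₁ i₂ (𝟙 (pullback π π)) := hUT.of_comp i₁ i₂ (inv U.ι) (IsIso.inv_hom_id _)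
  -- conclusion
  let c : T ⟶ pullback π π := pullback.lift a b hab
  let Y : Over (pullback π π) := Over.mk c
  let Z : Over (pullback π π) := (Over.map (𝟙 (pullback π π))).obj Y
  have hZ : Z.hom = c := Category.comp_id c
  let h : (Over.map (pullback.fst π π)).obj Z ⟶ H' := Over.homMk v (by
    show v ≫ H'.hom = Z.hom ≫ pullback.fst π π
    rw [hZ, pullback.lift_fst, hv])
  obtain ⟨z, hz⟩ := ((good_iff_points i₁ i₂ _).mp hT Y).1 (pt (pullback.fst π π) H' Z h)
  obtain ⟨h', rfl⟩ := (pt (pullback.snd π π) H' Z).surjective z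
  rw [comp_inc, comp_inc] at hz
  refine ⟨h'.left, ?_, congrArg CommaMorphism.left ((pt q G Z).injective hz)⟩
  refine (Over.w h').trans ?_
  show Z.hom ≫ pullback.snd π π = b
  rw [hZ, pullback.lift_snd]

open Desc in
/-- A central subgroup of multiplicative type descends. -/
theorem exists_desc_sub [GrpObj G] [IsSeparated G.hom] [LocallyOfFinitePresentation G.hom] [GrpObj H'] [IsMonHom j']
    [IsImmersion j'.left] (hH : SGA3x.IsMultTypeFT H') (hπ : IsFpqcCov π)
    (hconn : ∀ s : S, ConnectedSpace ↥(pullback π (Red.geomPt s)))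
    (hc : ∀ (X : Over S') (g : X ⟶ Red.bc π G) (h : X ⟶ H'), g * (h ≫ j') = (h ≫ j') * g) :
    ∃ (H : Over S) (_ : GrpObj H) (j : H ⟶ G), IsMonHom j ∧ IsImmersion j.left ∧ SGA3x.IsMultTypeFT H ∧
      ∃ φ : Red.bc π H ≅ H', φ.hom ≫ j' = (Over.pullback π).map j := by
  have hag : ∀ {T : Scheme.{u}} (a b : T ⟶ S') (hab : a ≫ π = b ≫ π) (v : T ⟶ H'.left) (hv : v ≫ H'.hom = a),
      ∃ w : T ⟶ H'.left, w ≫ H'.hom = b ∧ w ≫ j0 π j' = v ≫ j0 π j' := fun a b hab v hv =>
    agree π j' hH hconn hc a b hab v hv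
  choose tr htr₁ htr₂ using @hag
  let D : SchDDFam (fun _ : PUnit.{u + 1} => π) :=
    { obj := fun _ => H'
      φ := fun T i j x₀ x₁ h =>
        { toFun := fun v => ⟨tr x₀ x₁ h v.1 v.2, htr₁ x₀ x₁ h v.1 v.2⟩
          invFun := fun v => ⟨tr x₁ x₀ h.symm v.1 v.2, htr₁ x₁ x₀ h.symm v.1 v.2⟩
          left_inv := fun v => Subtype.ext (ext_j0 π j' _ _ ((htr₁ _ _ _ _ _).trans v.2.symm)
            ((htr₂ _ _ _ _ _).trans (htr₂ _ _ _ _ _)))
          right_inv := fun v => Subtype.ext (ext_j0 π j' _ _ ((htr₁ _ _ _ _ _).trans v.2.symm)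
            ((htr₂ _ _ _ _ _).trans (htr₂ _ _ _ _ _))) }
      φ_natural := fun T T' g i j x₀ x₁ h y₀ y₁ hy₀ hy₁ h' v v' hv' => by
        refine ext_j0 π j' _ _ ?_ ?_
        · show tr y₀ y₁ h' v'.1 v'.2 ≫ H'.hom = (g ≫ tr x₀ x₁ h v.1 v.2) ≫ H'.hom
          rw [htr₁, Category.assoc, htr₁, hy₁]
        · show tr y₀ y₁ h' v'.1 v'.2 ≫ j0 π j' = (g ≫ tr x₀ x₁ h v.1 v.2) ≫ j0 π j'
          rw [htr₂, Category.assoc, htr₂, hv', Category.assoc]
      φ_self := fun T i x v => Subtype.ext (ext_j0 π j' _ _ ((htr₁ _ _ _ _ _).trans v.2.symm) (htr₂ _ _ _ _ _))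
      φ_comp := fun T i j k x₀ x₁ x₂ h₀₁ h₁₂ v => Subtype.ext (ext_j0 π j' _ _
        ((htr₁ _ _ _ _ _).trans (htr₁ _ _ _ _ _).symm)
        ((htr₂ _ _ _ _ _).trans ((htr₂ _ _ _ _ _).trans (htr₂ _ _ _ _ _).symm))) }
  have hf : Presieve.ofArrows (fun _ : PUnit.{u + 1} => S') (fun _ => π) ∈ Scheme.fpqcPrecoverage S := by
    rw [Presieve.ofArrows_pUnit]
    exact hπ.singleton_mem
  haveI hHa := IsoTriv.SchemeBridge.isAffineHom_of_multTypeFT H' hH
  obtain ⟨E, ⟨e⟩⟩ := Desc19b.isEffective_of_isAffineHom hf D fun _ => hHa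
  let lh : pullback π E.hom ⟶ H'.left := (e.hom.hom PUnit.unit).left
  let li : H'.left ⟶ pullback π E.hom := (e.inv.hom PUnit.unit).left
  have hlh : lh ≫ H'.hom = pullback.fst π E.hom := Over.w (e.hom.hom PUnit.unit)
  have hli : li ≫ pullback.fst π E.hom = H'.hom := Over.w (e.inv.hom PUnit.unit)
  have hl : lh ≫ li = 𝟙 _ := by
    show (e.hom.hom PUnit.unit).left ≫ (e.inv.hom PUnit.unit).left = _
    rw [← Over.comp_left, ← SchDDFam.comp_hom, e.hom_inv_id]; rfl
  have hr : li ≫ lh = 𝟙 _ := by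
    show (e.inv.hom PUnit.unit).left ≫ (e.hom.hom PUnit.unit).left = _
    rw [← Over.comp_left, ← SchDDFam.comp_hom, e.inv_hom_id]; rfl
  have hcov : HasCovLift (pullback.snd π E.hom) := ⟨_, _, 𝟙 _, Category.id_comp _, hπ.pullback_snd E.hom⟩
  haveI := hcov.epi
  obtain ⟨u₀, hu₀⟩ := hcov.exists_desc (lh ≫ j0 π j') fun {T} a b hab => by
    have hx : (a ≫ pullback.fst π E.hom) ≫ π = (b ≫ pullback.fst π E.hom) ≫ π := by
      rw [Category.assoc, Category.assoc, pullback.condition, ← Category.assoc, hab, Category.assoc]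
    have h1 := e.hom.comm (i := PUnit.unit) (j := PUnit.unit) (a ≫ pullback.fst π E.hom)
      (b ≫ pullback.fst π E.hom) hx ⟨a, rfl⟩ ⟨a ≫ lh, by
        show (a ≫ lh) ≫ H'.hom = a ≫ pullback.fst π E.hom
        rw [Category.assoc, hlh]⟩ rfl
    have h2 : pullback.lift (b ≫ pullback.fst π E.hom) (a ≫ pullback.snd π E.hom)
        (by rw [Category.assoc, hab, pullback.condition, Category.assoc]) = b := by
      apply pullback.hom_ext
      · rw [pullback.lift_fst]
      · rw [pullback.lift_snd, hab]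
    have h3 : tr (a ≫ pullback.fst π E.hom) (b ≫ pullback.fst π E.hom) hx (a ≫ lh)
        (by rw [Category.assoc, hlh]) = b ≫ lh := h1.trans (congrArg (· ≫ lh) h2)
    rw [← Category.assoc, ← Category.assoc, ← h3, htr₂]
  let j : E ⟶ G := Over.homMk u₀ (by
    rw [← cancel_epi (pullback.snd π E.hom), reassoc_of% hu₀, j0_w, reassoc_of% hlh, pullback.condition])
  have hj : pullback.snd π E.hom ≫ j.left = lh ≫ j0 π j' := hu₀
  let c₀ : H'.left ⟶ E.left := li ≫ pullback.snd π E.hom
  have hc₀ : c₀ ≫ j.left = j0 π j' := by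
    show (li ≫ pullback.snd π E.hom) ≫ j.left = _
    rw [Category.assoc, hj, reassoc_of% hr]
  have hbig : IsPullback c₀ H'.hom E.hom π :=
    IsPullback.of_iso (IsPullback.of_hasPullback π E.hom).flip ⟨lh, li, hl, hr⟩ (Iso.refl _) (Iso.refl _) (Iso.refl _)
      (by show pullback.snd π E.hom ≫ 𝟙 _ = lh ≫ li ≫ pullback.snd π E.hom; rw [Category.comp_id, reassoc_of% hl])
      (by show pullback.fst π E.hom ≫ 𝟙 _ = lh ≫ H'.hom; rw [Category.comp_id, hlh])
      (by simp) (by simp)
  have htop : IsPullback c₀ j'.left j.left (pullback.fst G.hom π) := by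
    refine IsPullback.of_bot ?_ hc₀ (IsPullback.of_hasPullback G.hom π)
    have h1 : j'.left ≫ pullback.snd G.hom π = H'.hom := Over.w j'
    rw [h1, Over.w j]
    exact hbig
  -- immersion
  have himm : IsImmersion j.left := by
    haveI : IsImmersion j'.left := inferInstance
    haveI : QuasiCompact (j'.left ≫ pullback.snd G.hom π) := by
      show QuasiCompact (j'.left ≫ (Red.bc π G).hom)
      rw [Over.w j']; infer_instance
    haveI : QuasiCompact j'.left := QuasiCompact.of_comp j'.left (pullback.snd G.hom π)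
    haveI := Desc19b.descendsAlong_immersion_qc.{u}
    have hq : IsFpqcCov (pullback.fst G.hom π) := by
      have h1 := hπ.pullback_snd G.hom
      rw [← pullbackSymmetry_hom_comp_snd]
      exact IsFpqcCov.comp h1 (IsFpqcCov.of_forall _ fun V hV =>
        ⟨(pullbackSymmetry G.hom π).hom ⁻¹ᵁ V, (pullbackSymmetry G.hom π).hom.isCompact_preimage hV.isCompact,
          Set.image_preimage_eq _ (pullbackSymmetry G.hom π).hom.surjective⟩)
    refine (hq.descend (@IsImmersion ⊓ @QuasiCompact : MorphismProperty Scheme.{u}) j.left ?_).1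
    rw [← htop.isoPullback_inv_snd]
    exact (MorphismProperty.cancel_left_of_respectsIso (@IsImmersion ⊓ @QuasiCompact : MorphismProperty Scheme.{u}) _ _).2
      ⟨inferInstance, inferInstance⟩
  haveI : Mono j := Over.mono_of_mono_left j
  -- a point of `G` lies in `E` as soon as it does after a covering
  have fac : ∀ (X : Over S) (x : X ⟶ G) (v : pullback π X.hom ⟶ H'.left),
      v ≫ j0 π j' = pullback.snd π X.hom ≫ x.left → ∃ z : X ⟶ E, z ≫ j = x := by
    intro X x v hv
    have hcX : HasCovLift (pullback.snd π X.hom) := ⟨_, _, 𝟙 _, Category.id_comp _, hπ.pullback_snd X.hom⟩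
    haveI := hcX.epi
    obtain ⟨m, hm⟩ := hcX.exists_desc (v ≫ c₀) fun {T} a b hab => by
      rw [← cancel_mono j.left]
      simp only [Category.assoc, hc₀, hv]
      rw [← Category.assoc, hab, Category.assoc]
    have hmj : m ≫ j.left = x.left := by
      rw [← cancel_epi (pullback.snd π X.hom), reassoc_of% hm, hc₀, hv]
    exact ⟨Over.homMk m (by rw [← Over.w j, ← Category.assoc, hmj, Over.w x]), Over.OverMorphism.ext hmj⟩
  have lifts : ∀ (X : Over S) (x : X ⟶ E),
      ∃ h : Over.mk (pullback.fst π X.hom) ⟶ H', val π j' (Over.mk (pullback.snd π X.hom ≫ X.hom))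
        (pullback.fst π X.hom) pullback.condition h = Over.homMk (pullback.snd π X.hom) rfl ≫ x ≫ j := by
    intro X x
    refine ⟨Over.homMk (hbig.lift (pullback.snd π X.hom ≫ x.left) (pullback.fst π X.hom)
      (by rw [Category.assoc, Over.w x, pullback.condition])) (hbig.lift_snd _ _ _), Over.OverMorphism.ext ?_⟩
    show hbig.lift _ _ _ ≫ j0 π j' = pullback.snd π X.hom ≫ x.left ≫ j.left
    rw [← hc₀, hbig.lift_fst_assoc, Category.assoc]
  -- group law
  obtain ⟨hE, hjm⟩ := exists_grpObj_of_subgroup j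
    (fun X => fac X 1 ((1 : Over.mk (pullback.fst π X.hom) ⟶ H').left) (by
      have h1 : val π j' (Over.mk (pullback.snd π X.hom ≫ X.hom)) (pullback.fst π X.hom) pullback.condition 1 =
          (1 : _ ⟶ G) := by
        have h2 := val_mul π j' (Over.mk (pullback.snd π X.hom ≫ X.hom)) (pullback.fst π X.hom) pullback.condition 1 1
        rw [_root_.one_mul] at h2
        exact left_eq_mul.mp h2
      have h3 := congrArg CommaMorphism.left (h1.trans
        (MonObj.comp_one (Over.homMk (pullback.snd π X.hom) rfl : Over.mk (pullback.snd π X.hom ≫ X.hom) ⟶ X)).symm)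
      exact h3))
    (fun X a b => by
      obtain ⟨ha, hha⟩ := lifts X a
      obtain ⟨hb, hhb⟩ := lifts X b
      refine fac X _ (ha * hb).left ?_
      have h1 := val_mul π j' (Over.mk (pullback.snd π X.hom ≫ X.hom)) (pullback.fst π X.hom) pullback.condition ha hb
      rw [hha, hhb, ← MonObj.comp_mul] at h1
      exact congrArg CommaMorphism.left h1)
    (fun X a => by
      obtain ⟨ha, hha⟩ := lifts X a
      refine fac X _ ha⁻¹.left ?_
      have h1 := val_mul π j' (Over.mk (pullback.snd π X.hom ≫ X.hom)) (pullback.fst π X.hom) pullback.condition ha ha⁻¹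
      have h2 := val_mul π j' (Over.mk (pullback.snd π X.hom ≫ X.hom)) (pullback.fst π X.hom) pullback.condition 1 1
      rw [_root_.one_mul] at h2
      rw [mul_inv_cancel, left_eq_mul.mp h2, eq_comm, mul_eq_one_iff_eq_inv', hha, ← GrpObj.comp_inv] at h1
      exact congrArg CommaMorphism.left h1)
  haveI := hjm
  -- the isomorphism
  let φ : Red.bc π E ≅ H' := Over.isoMk hbig.isoPullback.symm hbig.isoPullback_inv_snd
  have hφ : φ.hom ≫ j' = (Over.pullback π).map j := by
    apply Over.OverMorphism.ext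
    show hbig.isoPullback.inv ≫ j'.left = ((Over.pullback π).map j).left
    apply pullback.hom_ext
    · rw [MultHomLocus.map_left_fst, Category.assoc, show j'.left ≫ pullback.fst G.hom π = c₀ ≫ j.left from hc₀.symm,
        hbig.isoPullback_inv_fst_assoc]
    · rw [Category.assoc, show j'.left ≫ pullback.snd G.hom π = H'.hom from Over.w j', hbig.isoPullback_inv_snd]
      exact (Over.w ((Over.pullback π).map j)).symm
  haveI : Mono j' := Over.mono_of_mono_left j'
  haveI : IsMonHom φ.hom := isMonHom_of_mul φ.hom fun X x y => by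
    rw [← cancel_mono j', Category.assoc, hφ, MonObj.mul_comp, MonObj.mul_comp, Category.assoc, hφ,
      Category.assoc, hφ]
  refine ⟨E, hE, j, hjm, himm, ?_, φ, hφ⟩
  obtain ⟨Q, r, hrfl, hrs, hr, hU⟩ := hH
  haveI := hrfl
  have hcQ := hπ.comp (IsFpqcCov.of_forall r hr)
  refine ⟨Q, r ≫ π, hcQ.1, hcQ.surjective, fun V hV => forall_affine hcQ V hV, fun z => ?_⟩
  obtain ⟨U, hzU, M, hM, hMfg, ⟨i⟩⟩ := hU z
  refine ⟨U, hzU, M, hM, hMfg, ?_⟩
  obtain ⟨m⟩ := IsoTriv.SchemeSpec.nonempty_bc_congr (U.ι ≫ r) (Grp.mkIso φ (IsMonHom.one_hom _) (IsMonHom.mul_hom _) :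
    Grp.mk (Red.bc π E) ≅ Grp.mk H')
  let α := GrpBC.bcCongr π (U.ι ≫ r) (U.ι ≫ r ≫ π) (Category.assoc _ _ _)
  obtain ⟨h₁, h₂⟩ := GrpBC.isMonHom_app α E
  let a : Red.bc (U.ι ≫ r) (Red.bc π E) ≅ Red.bc (U.ι ≫ r ≫ π) E := α.app E
  haveI : IsMonHom a.hom := h₁
  exact ⟨(Grp.mkIso a (IsMonHom.one_hom _) (IsMonHom.mul_hom _)).symm ≪≫ m ≪≫ i⟩

/-- A subgroup is determined by its pull-back along an fpqc covering. -/
theorem exists_fac (hπ : IsFpqcCov π) {H₁ H₂ : Over S} (j₁ : H₁ ⟶ G) (j₂ : H₂ ⟶ G) [Mono j₂.left]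
    (θ : Red.bc π H₁ ⟶ Red.bc π H₂) (hθ : θ ≫ (Over.pullback π).map j₂ = (Over.pullback π).map j₁) :
    ∃ ψ : H₁ ⟶ H₂, ψ ≫ j₂ = j₁ := by
  have h1 : θ.left ≫ pullback.fst H₂.hom π ≫ j₂.left = pullback.fst H₁.hom π ≫ j₁.left := by
    rw [← MultHomLocus.map_left_fst, ← MultHomLocus.map_left_fst, ← Category.assoc, ← Over.comp_left, hθ]
  have hcov : HasCovLift (pullback.fst H₁.hom π) :=
    ⟨_, pullback.snd π H₁.hom, (pullbackSymmetry _ _).hom, pullbackSymmetry_hom_comp_fst _ _,
      hπ.pullback_snd H₁.hom⟩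
  haveI := hcov.epi
  obtain ⟨m, hm⟩ := hcov.exists_desc (θ.left ≫ pullback.fst H₂.hom π) fun {T} a b hab => by
    rw [← cancel_mono j₂.left]
    simp only [Category.assoc, h1]
    rw [← Category.assoc, hab, Category.assoc]
  have hmj : m ≫ j₂.left = j₁.left := by
    rw [← cancel_epi (pullback.fst H₁.hom π), reassoc_of% hm, h1]
  exact ⟨Over.homMk m (by rw [← Over.w j₂, ← Category.assoc, hmj, Over.w j₁]), Over.OverMorphism.ext hmj⟩

/-- Uniqueness of the descended subgroup. -/
theorem exists_iso_sub (hπ : IsFpqcCov π) {H₁ H₂ : Over S} (j₁ : H₁ ⟶ G) (j₂ : H₂ ⟶ G) [Mono j₁.left] [Mono j₂.left]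
    (φ₁ : Red.bc π H₁ ≅ H') (hφ₁ : φ₁.hom ≫ j' = (Over.pullback π).map j₁)
    (φ₂ : Red.bc π H₂ ≅ H') (hφ₂ : φ₂.hom ≫ j' = (Over.pullback π).map j₂) :
    ∃ ψ : H₁ ≅ H₂, ψ.hom ≫ j₂ = j₁ := by
  obtain ⟨a, ha⟩ := exists_fac π hπ j₁ j₂ (φ₁.hom ≫ φ₂.inv) (by rw [← hφ₂, Category.assoc, Iso.inv_hom_id_assoc, hφ₁])
  obtain ⟨b, hb⟩ := exists_fac π hπ j₂ j₁ (φ₂.hom ≫ φ₁.inv) (by rw [← hφ₁, Category.assoc, Iso.inv_hom_id_assoc, hφ₂])
  haveI : Mono j₁ := Over.mono_of_mono_left j₁
  haveI : Mono j₂ := Over.mono_of_mono_left j₂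
  exact ⟨⟨a, b, (cancel_mono j₁).1 (by rw [Category.assoc, hb, ha, Category.id_comp]),
    (cancel_mono j₂).1 (by rw [Category.assoc, ha, hb, Category.id_comp])⟩, ha⟩

end Groth.Agent.SGA3cLib.CentralSubDescent
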