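import Groth.Agent.SGA3cLib.NeutralUnivOpen
import Groth.Agent.SGA3cLib.NeutralIndCons
import Groth.Agent.SGA3cLib.ActionPoints
import Groth.Agent.EGA43.OpenAt

/-!
# Translates of opens by neutral components (SGA 3 VI_B 4.2)
-/

set_option autoImplicit false
set_option linter.style.haveILetI false
set_option backward.isDefEq.respectTransparency.types false

universe u

open CategoryTheory Limits MonoidalCategory CartesianMonoidalCategory MonObj GrpObj AlgebraicGeometry
open TopologicalSpace Topology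

noncomputable section

namespace Groth.Agent.SGA3cLib.NeutralDim

open AlgGrpLib EGA43.SectionComp

section Generic

variable {X S : Scheme.{u}} (f : X ⟶ S) [LocallyOfFiniteType f]

/-- Below a specialisation some point of the fibre has at least the transcendence degree of the source. -/
theorem exists_between' {ξ x : X} (h : ξ ⤳ x) :
    ∃ z, ξ ⤳ z ∧ z ⤳ x ∧ f z = f x ∧ EGA43.DimFormula.trdAt f ξ ≤ EGA43.DimFormula.trdAt f z := by
  obtain ⟨Z, j, hj, hZ, hr, hg⟩ := EGA43.DimFormula.exists_integral_subscheme ξ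
  haveI := hj
  haveI := hZ
  obtain ⟨w, rfl⟩ : x ∈ Set.range j := hr ▸ specializes_iff_mem_closure.1 h
  obtain ⟨z, hzw, hz, -, hd⟩ := EGA43.Chevalley.exists_maximal_fibreDimAt (j ≫ f) w
  have hle := EGA43.Chevalley.trdegHom_le_fibreDimAt (j ≫ f) (genericPoint_specializes w) _ hd.le
  refine ⟨j z, ?_, hzw.map j.continuous, hz, ?_⟩
  · rw [← hg inferInstance]
    exact (genericPoint_specializes z).map j.continuous
  · rw [← hg inferInstance, ← EGA43.DimFormula.trdAt_comp j f, ← EGA43.DimFormula.trdAt_comp j f]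
    exact hle

end Generic

variable {S : Scheme.{u}} (G : Over S) [GrpObj G] [LocallyOfFinitePresentation G.hom]

/-- Generic points of neutral components specialise to each other. -/
theorem exists_generic_specializes (hopen : ∀ x ∈ SGA3x.neutralSet G, EGA43.IsUnivOpenAt G.hom x)
    {u₀ s : S} (h : u₀ ⤳ s) :
    ∃ θ ∈ SGA3x.neutralSet G, G.hom.base θ = u₀ ∧
      ∀ q ∈ SGA3x.neutralSet G, G.hom.base q = s → θ ⤳ q := by
  obtain ⟨θ, hθ, hθgen, -⟩ := exists_generic_comp G.hom (unit G) (unit_w G) u₀ (isIrreducible_comp G u₀)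
  obtain ⟨ω, hω, hωgen, -⟩ := exists_generic_comp G.hom (unit G) (unit_w G) s (isIrreducible_comp G s)
  have hn := (neutralSet_inter_fibre G u₀).ge hθ
  refine ⟨θ, hn.1, hn.2, fun q hq hqs => ?_⟩
  have hqC : q ∈ comp G.hom (unit G) s := (neutralSet_inter_fibre G s).le ⟨hq, hqs⟩
  have hle : topologicalKrullDim ↥(comp G.hom (unit G) s) ≤ topologicalKrullDim ↥(comp G.hom (unit G) u₀) := by
    refine generic_le_of_dim_fibre G.hom (unit G) (unit_w G) (isIrreducible_comp G) s (fun ξ hξ _ => ?_) h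
      (dim_fiber_eq G u₀)
    exact hopen ξ ((neutralSet_inter_fibre G s).ge hξ).1
  rw [topologicalKrullDim_comp_eq G.hom (unit G) (unit_w G) s hω hωgen,
    topologicalKrullDim_comp_eq G.hom (unit G) (unit_w G) u₀ hθ hθgen] at hle
  have hle' : EGA43.DimFormula.trdAt G.hom ω ≤ EGA43.DimFormula.trdAt G.hom θ := by exact_mod_cast hle
  have hes : G.hom.base ((unit G).base s) = s := hom_unit G s
  obtain ⟨w, hθw, hwe, hfw, hd⟩ := exists_between' G.hom
    ((hθgen _ (mem_comp_self G.hom (unit G) (unit_w G) u₀)).trans (h.map (unit G).continuous))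
  have hwC : w ∈ comp G.hom (unit G) s :=
    mem_comp_of_specializes G.hom (unit G) (mem_comp_self G.hom (unit G) (unit_w G) s) (hfw.trans hes) (Or.inl hwe)
  have hwω : ω = w := by
    by_contra hne
    have := trdAt_lt G.hom (hωgen w hwC)
      ((comp_subset G.hom (unit G) s hω).trans (comp_subset G.hom (unit G) s hwC).symm) hne
    omega
  exact hθw.trans (hwω ▸ hωgen q hqC)

omit [LocallyOfFinitePresentation G.hom] in
theorem inv_mem_neutral (z : G.left) (hz : z ∈ SGA3x.neutralSet G) : ι[G].left.base z ∈ SGA3x.neutralSet G := by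
  let P : Over S := Over.mk (G.left.fromSpecResidueField z ≫ G.hom)
  let p : P ⟶ G := Over.homMk (G.left.fromSpecResidueField z)
  have hp : ∀ o : P.left, p.left.base o = z := fun o => Scheme.fromSpecResidueField_apply z o
  obtain ⟨o⟩ : Nonempty ↥(Spec (G.left.residueField z)) :=
    inferInstanceAs (Nonempty (PrimeSpectrum (G.left.residueField z)))
  have h := SGA3cLib.NeutralSmooth.forall_mem_mul_inv (1 : P ⟶ G) p SGA3cLib.NeutralSmooth.forall_mem_one
    (fun o' => by rw [hp]; exact hz) o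
  rw [_root_.one_mul] at h
  have e : p⁻¹ = p ≫ ι[G] := by rw [GrpObj.inv_eq_inv, GrpObj.comp_inv, Category.comp_id]
  rw [e, Over.comp_left, Scheme.Hom.comp_apply, hp] at h
  exact h

variable {G} (hdim : IsLocallyConstant (fun s : S => topologicalKrullDim ↥(G.hom.base ⁻¹' {s}))) (Y : Over S)

include hdim

theorem univOpenAt_neutral (x : G.left) (hx : x ∈ SGA3x.neutralSet G) : EGA43.IsUnivOpenAt G.hom x :=
  univOpenAt_of_dim_const G (G.hom.base x)
    ⟨_, (hdim.isOpen_fiber _).mem_nhds rfl, fun _ ht => ht⟩ x ⟨hx, rfl⟩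

theorem univOpenAt_snd (q : ↥(G ⊗ Y).left) (hq : (fst G Y).left.base q ∈ SGA3x.neutralSet G) :
    EGA43.IsUnivOpenAt (snd G Y).left q :=
  EGA43.isUnivOpenAt_of_isPullback (univOpenAt_neutral hdim _ hq) (IsPullback.of_hasPullback G.hom Y.hom) rfl

/-- Over specialising points of `Y`, a neutral generisation dominating all neutral points. -/
theorem exists_generic_snd {y' y : Y.left} (h : y' ⤳ y) :
    ∃ θ : ↥(G ⊗ Y).left, (fst G Y).left.base θ ∈ SGA3x.neutralSet G ∧ (snd G Y).left.base θ = y' ∧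
      ∀ q : ↥(G ⊗ Y).left, (fst G Y).left.base q ∈ SGA3x.neutralSet G → (snd G Y).left.base q = y → θ ⤳ q := by
  let G' : Over Y.left := Red.bc Y.hom G
  haveI : LocallyOfFinitePresentation G'.hom := MorphismProperty.pullback_snd G.hom Y.hom inferInstance
  have hN : SGA3x.neutralSet G' = (fst G Y).left.base ⁻¹' SGA3x.neutralSet G := S5322.result S Y.left Y.hom G
  obtain ⟨θ, h1, h2, h3⟩ := exists_generic_specializes G'
    (fun x hx => univOpenAt_snd hdim Y x (hN.le hx)) h
  exact ⟨θ, hN.le h1, h2, fun q hq hqy => h3 q (hN.ge hq) hqy⟩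

variable {Y} {X : Over S} (a : AlgGrp.Action G X)

omit hdim in
theorem image_eq (U : Set X.left) :
    a.act.left.base '' {z : ↥(G ⊗ X).left | (fst G X).left.base z ∈ SGA3x.neutralSet G ∧ (snd G X).left.base z ∈ U} =
      (snd G X).left.base '' ((fst G X).left.base ⁻¹' SGA3x.neutralSet G ∩ a.act.left.base ⁻¹' U) := by
  let τ : G ⊗ X ⟶ G ⊗ X := lift (fst G X)⁻¹ a.act
  have hfst : ∀ z, (fst G X).left.base (τ.left.base z) = ι[G].left.base ((fst G X).left.base z) := fun z => by
    rw [← Scheme.Hom.comp_apply, ← Over.comp_left, lift_fst, ← Scheme.Hom.comp_apply, ← Over.comp_left,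
      GrpObj.inv_eq_inv, GrpObj.comp_inv, Category.comp_id]
  have hsnd : ∀ z, (snd G X).left.base (τ.left.base z) = a.act.left.base z := fun z => by
    rw [← Scheme.Hom.comp_apply, ← Over.comp_left, lift_snd]
  have hact : τ ≫ a.act = snd G X := by
    have h1 := SGA3cLib.inv_smulPt a (fst G X) (snd G X)
    rw [show SGA3cLib.smulPt a (fst G X) (snd G X) = a.act by simp [SGA3cLib.smulPt]] at h1
    exact h1
  have hact' : ∀ z, a.act.left.base (τ.left.base z) = (snd G X).left.base z := fun z => by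
    rw [← Scheme.Hom.comp_apply, ← Over.comp_left, hact]
  refine Set.Subset.antisymm ?_ ?_
  · rintro _ ⟨z, ⟨hz1, hz2⟩, rfl⟩
    refine ⟨τ.left.base z, ⟨?_, ?_⟩, hsnd z⟩
    · show _ ∈ SGA3x.neutralSet G
      rw [hfst]; exact inv_mem_neutral G _ hz1
    · show _ ∈ U
      rw [hact']; exact hz2
  · rintro _ ⟨z, ⟨hz1, hz2⟩, rfl⟩
    refine ⟨τ.left.base z, ⟨?_, ?_⟩, hact' z⟩
    · rw [hfst]; exact inv_mem_neutral G _ hz1
    · rw [hsnd]; exact hz2

/-- `G⁰ · U` is open. -/
theorem isOpen_translate (U : X.left.Opens) :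
    IsOpen ((snd G X).left.base '' ((fst G X).left.base ⁻¹' SGA3x.neutralSet G ∩ a.act.left.base ⁻¹' (U : Set X.left))) := by
  haveI : LocallyOfFinitePresentation (snd G X).left :=
    MorphismProperty.pullback_snd (P := @LocallyOfFinitePresentation.{u}) G.hom X.hom inferInstance
  have hind := H8ProCons.isIndConstructible_image (snd G X).left
    (FlatMorWeight.isIndConstructible_inter
      (H8ProCons.isIndConstructible_preimage (fst G X).left (isIndConstructible_neutralSet G))
      (H8ProCons.isIndConstructible_of_isOpen (U.isOpen.preimage a.act.left.continuous)))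
  rw [← subset_interior_iff_isOpen]
  rintro y ⟨q, ⟨hq1, hq2⟩, rfl⟩
  refine (H8ProCons.mem_interior_iff hind _).2 fun y' hy' => ?_
  obtain ⟨θ, h1, h2, h3⟩ := exists_generic_snd hdim X hy'
  exact ⟨θ, ⟨h1, (h3 q hq1 rfl).mem_open (U.isOpen.preimage a.act.left.continuous) hq2⟩, h2⟩

omit hdim in
theorem comp_eq_of_mem_diagonal {W Z : Scheme.{u}} (f : W ⟶ S) (h : Z ⟶ pullback f f) (p : Z)
    (hp : h.base p ∈ Set.range (pullback.diagonal f).base) :
    Z.fromSpecResidueField p ≫ h ≫ pullback.fst f f = Z.fromSpecResidueField p ≫ h ≫ pullback.snd f f := by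
  obtain ⟨v, hv⟩ := hp
  haveI := DimLib.isIso_residueFieldMap_of_isPreimmersion (pullback.diagonal f) v
  have h0 : (pullback f f).fromSpecResidueField ((pullback.diagonal f).base v) ≫ pullback.fst f f =
      (pullback f f).fromSpecResidueField ((pullback.diagonal f).base v) ≫ pullback.snd f f := by
    rw [← cancel_epi (Spec.map ((pullback.diagonal f).residueFieldMap v)),
      Scheme.Hom.SpecMap_residueFieldMap_fromSpecResidueField_assoc,
      Scheme.Hom.SpecMap_residueFieldMap_fromSpecResidueField_assoc, pullback.diagonal_fst, pullback.diagonal_snd]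
  have h1 : (pullback f f).fromSpecResidueField (h.base p) ≫ pullback.fst f f =
      (pullback f f).fromSpecResidueField (h.base p) ≫ pullback.snd f f := hv ▸ h0
  have h2 := congrArg (Spec.map (h.residueFieldMap p) ≫ ·) h1
  simpa only [Scheme.Hom.SpecMap_residueFieldMap_fromSpecResidueField_assoc] using h2

omit hdim in
theorem mem_diagonal_of_comp_eq {W Z : Scheme.{u}} (f : W ⟶ S) (h : Z ⟶ pullback f f) (p : Z)
    (he : Z.fromSpecResidueField p ≫ h ≫ pullback.fst f f = Z.fromSpecResidueField p ≫ h ≫ pullback.snd f f) :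
    h.base p ∈ Set.range (pullback.diagonal f).base := by
  have e : Z.fromSpecResidueField p ≫ h = (Z.fromSpecResidueField p ≫ h ≫ pullback.fst f f) ≫ pullback.diagonal f := by
    apply pullback.hom_ext
    · simp
    · simp [he]
  obtain ⟨o⟩ : Nonempty ↥(Spec (Z.residueField p)) := inferInstanceAs (Nonempty (PrimeSpectrum (Z.residueField p)))
  refine ⟨(Z.fromSpecResidueField p ≫ h ≫ pullback.fst f f).base o, ?_⟩
  rw [← Scheme.Hom.comp_apply, ← e, Scheme.Hom.comp_apply, Scheme.fromSpecResidueField_apply]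

/-- `G⁰ · U` is separated for `U` separated. -/
theorem isSeparated_translate (U : X.left.Opens) (hU : IsSeparated (U.ι ≫ X.hom)) (V : X.left.Opens)
    (hV : ∀ x ∈ V, ∃ q : ↥(G ⊗ X).left, (fst G X).left.base q ∈ SGA3x.neutralSet G ∧
      (snd G X).left.base q = x ∧ a.act.left.base q ∈ U) :
    IsSeparated (V.ι ≫ X.hom) := by
  let Vo : Over S := Over.mk (V.ι ≫ X.hom)
  let vι : Vo ⟶ X := Over.homMk V.ι
  let PP : Over S := Vo ⊗ Vo
  let pr := (snd G PP).left
  let k₁ : PP ⟶ X := fst Vo Vo ≫ vι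
  let k₂ : PP ⟶ X := snd Vo Vo ≫ vι
  let act₁ : G ⊗ PP ⟶ X := SGA3cLib.smulPt a (fst G PP) (snd G PP ≫ k₁)
  let act₂ : G ⊗ PP ⟶ X := SGA3cLib.smulPt a (fst G PP) (snd G PP ≫ k₂)
  let O : (G ⊗ PP).left.Opens := act₁.left ⁻¹ᵁ U ⊓ act₂.left ⁻¹ᵁ U
  constructor
  refine IsClosedImmersion.of_isPreimmersion _ (isClosed_of_closure_subset fun c hc => ?_)
  obtain ⟨ω, hω1, hω2, hω3⟩ := exists_generic_snd hdim PP (specializes_refl (show PP.left from c))
  have hbase : ∀ (k : PP ⟶ X), k.left.base c ∈ V →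
      ω ∈ (SGA3cLib.smulPt a (fst G PP) (snd G PP ≫ k)).left ⁻¹ᵁ U := by
    intro k hk
    obtain ⟨q, hq1, hq2, hq3⟩ := hV _ hk
    have hsq : IsPullback (G ◁ k).left (snd G PP).left (snd G X).left k.left := by
      refine IsPullback.of_right (h₁₂ := (fst G X).left) (v₁₃ := G.hom) (h₂₂ := X.hom) ?_
        (congrArg CommaMorphism.left (whiskerLeft_snd G k)) (IsPullback.of_hasPullback G.hom X.hom).flip.flip
      rw [show (G ◁ k).left ≫ (fst G X).left = (fst G PP).left from congrArg CommaMorphism.left (whiskerLeft_fst G k),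
        Over.w k]
      exact IsPullback.of_hasPullback G.hom PP.hom
    obtain ⟨p₀, hp₀q, hp₀c⟩ := Scheme.Pullback.exists_preimage_pullback (f := (snd G X).left) (g := k.left) q
      (show PP.left from c) hq2
    let p := hsq.isoPullback.inv.base p₀
    have hpq : (G ◁ k).left.base p = q := by
      rw [← Scheme.Hom.comp_apply, hsq.isoPullback_inv_fst]; exact hp₀q
    have hpc : (snd G PP).left.base p = c := by
      rw [← Scheme.Hom.comp_apply, hsq.isoPullback_inv_snd]; exact hp₀c
    have hpN : (fst G PP).left.base p ∈ SGA3x.neutralSet G := by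
      rw [show (fst G PP).left = (G ◁ k).left ≫ (fst G X).left from
        (congrArg CommaMorphism.left (whiskerLeft_fst G k)).symm, Scheme.Hom.comp_apply, hpq]
      exact hq1
    have hsm : SGA3cLib.smulPt a (fst G PP) (snd G PP ≫ k) = (G ◁ k) ≫ a.act := by
      have : lift (fst G PP) (snd G PP ≫ k) = G ◁ k := by
        apply CartesianMonoidalCategory.hom_ext <;> simp
      rw [SGA3cLib.smulPt, this]
    refine (hω3 p hpN hpc).mem_open (Opens.isOpen _) ?_
    show _ ∈ U
    rw [hsm, Over.comp_left, Scheme.Hom.comp_apply, hpq]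
    exact hq3
  have hωO : ω ∈ O := ⟨hbase k₁ ((fst Vo Vo).left.base c).2, hbase k₂ ((snd Vo Vo).left.base c).2⟩
  -- the map to the product of `U` with itself
  let UU := pullback (U.ι ≫ X.hom) (U.ι ≫ X.hom)
  let e₁ : O.toScheme ⟶ U.toScheme := act₁.left.resLE U O inf_le_left
  let e₂ : O.toScheme ⟶ U.toScheme := act₂.left.resLE U O inf_le_right
  have he₁ : e₁ ≫ U.ι = O.ι ≫ act₁.left := Scheme.Hom.resLE_comp_ι _ _
  have he₂ : e₂ ≫ U.ι = O.ι ≫ act₂.left := Scheme.Hom.resLE_comp_ι _ _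
  let Ψ : O.toScheme ⟶ UU := pullback.lift e₁ e₂ (by
    rw [reassoc_of% he₁, reassoc_of% he₂, Over.w act₁, Over.w act₂])
  have hcl : IsClosed (Set.range (pullback.diagonal (U.ι ≫ X.hom)).base) :=
    haveI := hU
    (pullback.diagonal (U.ι ≫ X.hom)).isClosedEmbedding.isClosed_range
  -- points over the diagonal map to the diagonal
  have key : ∀ p : O.toScheme, pr.base p.1 ∈ Set.range (pullback.diagonal (V.ι ≫ X.hom)).base →
      Ψ.base p ∈ Set.range (pullback.diagonal (U.ι ≫ X.hom)).base := by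
    intro p hp
    let T : Over S := Over.mk ((O.toScheme.fromSpecResidueField p ≫ O.ι) ≫ (G ⊗ PP).hom)
    let t : T ⟶ G ⊗ PP := Over.homMk (O.toScheme.fromSpecResidueField p ≫ O.ι)
    have hk : t ≫ snd G PP ≫ k₁ = t ≫ snd G PP ≫ k₂ := by
      have h := comp_eq_of_mem_diagonal (V.ι ≫ X.hom) (O.ι ≫ pr) p hp
      apply Over.OverMorphism.ext
      have h' := congrArg (· ≫ V.ι) h
      simp only [Category.assoc] at h'
      simp only [Over.comp_left]
      show (O.toScheme.fromSpecResidueField p ≫ O.ι) ≫ pr ≫ pullback.fst _ _ ≫ V.ι =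
        (O.toScheme.fromSpecResidueField p ≫ O.ι) ≫ pr ≫ pullback.snd _ _ ≫ V.ι
      simp only [Category.assoc]
      exact h'
    have he : t ≫ act₁ = t ≫ act₂ := by
      simp only [act₁, act₂, SGA3cLib.comp_smulPt, hk]
    refine mem_diagonal_of_comp_eq (U.ι ≫ X.hom) Ψ p ?_
    rw [pullback.lift_fst, pullback.lift_snd, ← cancel_mono U.ι, Category.assoc, Category.assoc, he₁, he₂]
    have := congrArg CommaMorphism.left he
    simpa [t, Category.assoc] using this
  -- `ω` is in the closure of the points over the diagonal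
  have hωcl : (⟨ω, hωO⟩ : O.toScheme) ∈ closure (O.ι.base ⁻¹' (pr.base ⁻¹'
      Set.range (pullback.diagonal (V.ι ≫ X.hom)).base)) := by
    refine mem_closure_iff.2 fun W hW hωW => ?_
    have h2 := EGA43.isOpenAt_of_isPullback (univOpenAt_snd hdim PP ω hω1)
      (IsPullback.of_horiz_isIso (fst := 𝟙 _) (g := 𝟙 _) (snd := pr) ⟨by simp [pr]⟩) (x' := ω) rfl
      _ ((O.ι.isOpenEmbedding.isOpenMap _ hW).mem_nhds ⟨_, hωW, rfl⟩)
    rw [show pr.base ω = c from hω2] at h2
    obtain ⟨_, ⟨_, ⟨w, hwW, rfl⟩, rfl⟩, hwD⟩ := mem_closure_iff_nhds.1 hc _ h2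
    exact ⟨w, hwW, hwD⟩
  have hΨω : Ψ.base ⟨ω, hωO⟩ ∈ Set.range (pullback.diagonal (U.ι ≫ X.hom)).base :=
    closure_minimal (fun p hp => key p hp) (hcl.preimage Ψ.continuous) hωcl
  -- cancel the group element
  replace hΨω := comp_eq_of_mem_diagonal (U.ι ≫ X.hom) Ψ _ hΨω
  rw [pullback.lift_fst, pullback.lift_snd] at hΨω
  let T : Over S := Over.mk ((O.toScheme.fromSpecResidueField ⟨ω, hωO⟩ ≫ O.ι) ≫ (G ⊗ PP).hom)
  let t : T ⟶ G ⊗ PP := Over.homMk (O.toScheme.fromSpecResidueField ⟨ω, hωO⟩ ≫ O.ι)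
  have he : t ≫ act₁ = t ≫ act₂ := by
    apply Over.OverMorphism.ext
    have := congrArg (· ≫ U.ι) hΨω
    simp only [Category.assoc, he₁, he₂] at this
    simpa [t, Category.assoc] using this
  simp only [act₁, act₂, SGA3cLib.comp_smulPt] at he
  have hk : t ≫ snd G PP ≫ k₁ = t ≫ snd G PP ≫ k₂ := by
    rw [← SGA3cLib.inv_smulPt a (t ≫ fst G PP) (t ≫ snd G PP ≫ k₁), he, SGA3cLib.inv_smulPt]
  have hk' : (O.toScheme.fromSpecResidueField ⟨ω, hωO⟩ ≫ O.ι ≫ pr) ≫ pullback.fst (V.ι ≫ X.hom) (V.ι ≫ X.hom) =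
      (O.toScheme.fromSpecResidueField ⟨ω, hωO⟩ ≫ O.ι ≫ pr) ≫ pullback.snd (V.ι ≫ X.hom) (V.ι ≫ X.hom) := by
    rw [← cancel_mono V.ι, Category.assoc, Category.assoc]
    have := congrArg CommaMorphism.left hk
    simp only [Category.assoc]
    exact this
  simp only [Category.assoc] at hk'
  have hmem := mem_diagonal_of_comp_eq (V.ι ≫ X.hom) (O.ι ≫ pr) ⟨ω, hωO⟩ (by
    simp only [Category.assoc]
    exact hk')
  have hωc : (O.ι ≫ pr).base ⟨ω, hωO⟩ = c := hω2
  exact hωc ▸ hmem

end Groth.Agent.SGA3cLib.NeutralDim
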