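import Groth.Agent.CommAlg6.CMLocusFormal
import Groth.Agent.CAlgH3.CMRing
import Groth.Agent.FSchLib.Systems
import Mathlib.RingTheory.RegularLocalRing.Polynomial
import Mathlib.RingTheory.Jacobson.Ring
import Mathlib.AlgebraicGeometry.Morphisms.FiniteType

/-! Algebras of finite type over Artinian rings have a maximal ideal with CM localization. -/

set_option linter.style.haveILetI false

universe u

open CategoryTheory AlgebraicGeometry IsLocalRing

namespace Groth.Agent.SGA3c

theorem isCMLocalRing_of_krullDimLE_zero (R : Type u) [CommRing R] [IsLocalRing R] [IsNoetherianRing R]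
    [Ring.KrullDimLE 0 R] : LocCoh.IsCohenMacaulayLocalRing R := by
  have hd : ringKrullDim R = 0 := ringKrullDimZero_iff_ringKrullDim_eq_zero.mp inferInstance
  rw [CAlgH3.isCohenMacaulayLocalRing_iff_depth, hd]
  have h := (CAlgH3.depth_le_supportDim (R := R) (M := R)).trans
    ((Module.supportDim_le_ringKrullDim R R).trans_eq hd)
  exact le_antisymm (by simp) h

theorem exists_isMaximal_cm (A B : Type u) [CommRing A] [IsArtinianRing A] [IsLocalRing A]
    [CommRing B] [Algebra A B] [Algebra.FiniteType A B] [Nontrivial B] :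
    ∃ m : Ideal B, ∃ _ : m.IsMaximal, LocCoh.IsCohenMacaulayLocalRing (Localization.AtPrime m) := by
  obtain ⟨k, hk⟩ := IsArtinianRing.isNilpotent_jacobson_bot (R := A)
  rw [IsLocalRing.jacobson_eq_maximalIdeal _ bot_ne_top] at hk
  haveI := FSchLib.isAdicComplete_of_pow_eq_bot hk
  obtain ⟨P, _, _, φ, hφ⟩ := CommAlg6.exists_regular_surjection A
  obtain ⟨n, ψ, hψ⟩ := Algebra.FiniteType.iff_quotient_mvPolynomial''.mp
    (inferInstance : Algebra.FiniteType A B)
  letI : Algebra (MvPolynomial (Fin n) P) B :=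
    (ψ.toRingHom.comp (MvPolynomial.map φ)).toAlgebra
  have hs : Function.Surjective (algebraMap (MvPolynomial (Fin n) P) B) :=
    hψ.comp (MvPolynomial.map_surjective φ hφ)
  have hopen := CommAlg6.isOpen_cmLocus_quotient hs
  haveI : IsNoetherianRing B := Algebra.FiniteType.isNoetherianRing A B
  obtain ⟨q, hq⟩ := Set.nonempty_coe_sort.mp (Ideal.nonempty_minimalPrimes (I := (⊥ : Ideal B)) bot_ne_top)
  haveI := hq.1.1
  haveI : Ring.KrullDimLE 0 (Localization.AtPrime q) := by
    rw [Ring.KrullDimLE, Order.krullDimLE_iff]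
    show ringKrullDim (Localization.AtPrime q) ≤ 0
    rw [IsLocalization.AtPrime.ringKrullDim_eq_height q (Localization.AtPrime q)]
    exact le_of_eq (by rw [Ideal.height_eq_zero_iff.mpr hq]; rfl)
  have hne : {p : PrimeSpectrum B |
      LocCoh.IsCohenMacaulayLocalRing (Localization.AtPrime p.asIdeal)}.Nonempty :=
    ⟨⟨q, inferInstance⟩, isCMLocalRing_of_krullDimLE_zero (Localization.AtPrime q)⟩
  haveI : IsJacobsonRing B := isJacobsonRing_of_finiteType (A := A)
  haveI : JacobsonSpace (PrimeSpectrum B) :=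
    PrimeSpectrum.isJacobsonRing_iff_jacobsonSpace.mp inferInstance
  obtain ⟨p, hp, hpc⟩ := nonempty_inter_closedPoints hne hopen.isLocallyClosed
  exact ⟨p.asIdeal, (PrimeSpectrum.isClosed_singleton_iff_isMaximal p).mp hpc, hp⟩

/-- A nonempty scheme locally of finite type over an Artinian ring has a closed point with
Cohen–Macaulay local ring. -/
theorem exists_closedPoint_cm (A : Type u) [CommRing A] [IsArtinianRing A] (X : Scheme.{u})
    (f : X ⟶ Spec (CommRingCat.of A)) [LocallyOfFiniteType f] [Nonempty X] :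
    ∃ x : X, IsClosed ({x} : Set X) ∧ LocCoh.IsCohenMacaulayLocalRing (X.presheaf.stalk x) := by
  obtain ⟨x₀⟩ := ‹Nonempty X›
  let p : PrimeSpectrum A := f.base x₀
  obtain ⟨_, ⟨U, hU, rfl⟩, hx₀, hsub⟩ := X.isBasis_affineOpens.exists_subset_of_mem_open
    (show x₀ ∈ f.base ⁻¹' {p} from rfl)
    ((isOpen_discrete ({p} : Set (PrimeSpectrum A))).preimage f.base.hom.2)
  let ψ := (Scheme.ΓSpecIso (CommRingCat.of A)).inv ≫ f.appLE ⊤ U (by simp)
  have hft : ψ.hom.FiniteType :=
    RingHom.FiniteType.comp (f.finiteType_appLE (isAffineOpen_top _) hU (by simp))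
      (RingHom.FiniteType.of_surjective _
        (ConcreteCategory.bijective_of_isIso (Scheme.ΓSpecIso (CommRingCat.of A)).inv).2)
  have hunit : ∀ s : p.asIdeal.primeCompl, IsUnit (ψ.hom (s : A)) := by
    intro s
    apply X.toRingedSpace.isUnit_of_isUnit_germ
    intro x hx
    have : x ∈ X.basicOpen (ψ.hom (s : A)) := by
      show x ∈ X.basicOpen (X.presheaf.map _ (f.app ⊤ ((Scheme.ΓSpecIso (CommRingCat.of A)).inv (s : A))))
      rw [Scheme.basicOpen_res, ← Scheme.preimage_basicOpen, basicOpen_eq_of_affine]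
      refine ⟨hx, ?_⟩
      show (f.base x : PrimeSpectrum A) ∈ PrimeSpectrum.basicOpen (s : A)
      rw [show (f.base x : PrimeSpectrum A) = p from hsub hx]
      exact s.2
    exact (Scheme.mem_basicOpen X (ψ.hom (s : A)) x hx).mp this
  let φ : Localization.AtPrime p.asIdeal →+* Γ(X, U) := IsLocalization.lift hunit
  letI := φ.toAlgebra
  haveI : Algebra.FiniteType (Localization.AtPrime p.asIdeal) Γ(X, U) := by
    have : (φ.comp (algebraMap A _)).FiniteType := by
      rw [IsLocalization.lift_comp]; exact hft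
    exact RingHom.FiniteType.of_comp_finiteType this
  haveI : Nonempty U := ⟨⟨x₀, hx₀⟩⟩
  obtain ⟨m, _, hcm⟩ := exists_isMaximal_cm (Localization.AtPrime p.asIdeal) Γ(X, U)
  let y : PrimeSpectrum Γ(X, U) := ⟨m, inferInstance⟩
  have hy : hU.fromSpec.base y ∈ U := hU.range_fromSpec.le ⟨y, rfl⟩
  refine ⟨hU.fromSpec.base y, ?_, ?_⟩
  · haveI : JacobsonSpace X := LocallyOfFiniteType.jacobsonSpace f
    have h : IsClosed ({y} : Set (PrimeSpectrum Γ(X, U))) :=
      (PrimeSpectrum.isClosed_singleton_iff_isMaximal y).mpr inferInstance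
    have := hU.fromSpec.isOpenEmbedding.preimage_closedPoints
    exact (this.ge h : hU.fromSpec.base y ∈ closedPoints X)
  · letI : Algebra Γ(X, U) (X.presheaf.stalk (hU.fromSpec.base y)) :=
      TopCat.Presheaf.algebra_section_stalk X.presheaf ⟨_, hy⟩
    haveI : IsLocalization m.primeCompl (X.presheaf.stalk (hU.fromSpec.base y)) :=
      hU.isLocalization_stalk' y hy
    exact CAlgH3.isCohenMacaulayLocalRing_of_ringEquiv
      (IsLocalization.algEquiv m.primeCompl (Localization.AtPrime m)
        (X.presheaf.stalk (hU.fromSpec.base y))).toRingEquiv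

end Groth.Agent.SGA3c
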