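import Groth.Agent.SGA3cLib.DSChar
import Groth.Agent.SGA3cLib.TorusBasic
import Mathlib.AlgebraicGeometry.ResidueField
import Mathlib.AlgebraicGeometry.Limits
import Mathlib.FieldTheory.IsAlgClosed.Basic
import Mathlib.RingTheory.AdjoinRoot

/-! A character of a torus, nontrivial on every geometric fibre, takes every unit as a value, fppf-locally. -/

set_option linter.style.haveILetI false
set_option autoImplicit false

universe u

open CategoryTheory CategoryTheory.Limits MonoidalCategory CartesianMonoidalCategory MonObj AlgebraicGeometry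

noncomputable section

namespace Groth.Agent.SGA3cLib

variable {S : Scheme.{u}} {Q : Over S} [GrpObj Q] (χ : Q ⟶ Red.Gm S)

/-- Triviality of a morphism to `Gm` after base change along `f` is tested on points over `f`. -/
theorem pullback_map_eq_one_iff {S' : Scheme.{u}} (f : S' ⟶ S) :
    (Over.pullback f).map χ = 1 ↔
      pullback.fst Q.hom f ≫ χ.left = pullback.fst Q.hom f ≫ (1 : Q ⟶ Red.Gm S).left := by
  rw [← Functor.map_one (Over.pullback f)]
  constructor
  · intro h
    have h' := congrArg (fun q => CommaMorphism.left q ≫ pullback.fst (Red.Gm S).hom f) h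
    simp only [Over.pullback_map_left] at h'
    erw [pullback.lift_fst, pullback.lift_fst] at h'
    exact h'
  · intro h
    ext1
    simp only [Over.pullback_map_left]
    apply pullback.hom_ext
    · erw [pullback.lift_fst, pullback.lift_fst]
      exact h
    · erw [pullback.lift_snd, pullback.lift_snd]

/-- A character trivial at some geometric point over `s` is trivial at `geomPt s`. -/
theorem geomPt_map_eq_one {Ω : Type u} [Field Ω] [IsAlgClosed Ω] (ω : Spec (CommRingCat.of Ω) ⟶ S)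
    (h : (Over.pullback ω).map χ = 1) : ∃ s : S, (Over.pullback (Red.geomPt s)).map χ = 1 := by
  obtain ⟨⟨s, φ⟩, rfl⟩ := (Scheme.SpecToEquivOfField Ω S).symm.surjective ω
  refine ⟨s, ?_⟩
  let k := S.residueField s
  letI : Algebra k Ω := φ.hom.toAlgebra
  let σ : AlgebraicClosure k →ₐ[k] Ω := IsAlgClosed.lift
  let σ' : CommRingCat.of (AlgebraicClosure k) ⟶ CommRingCat.of Ω := CommRingCat.ofHom σ.toRingHom
  have hσ : Spec.map σ' ≫ Red.geomPt s = (Scheme.SpecToEquivOfField Ω S).symm ⟨s, φ⟩ := by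
    show Spec.map σ' ≫ Spec.map _ ≫ S.fromSpecResidueField s = Spec.map φ ≫ S.fromSpecResidueField s
    rw [← Spec.map_comp_assoc]
    congr 2
    ext x
    exact σ.commutes x
  letI : Algebra (AlgebraicClosure k) Ω := σ.toRingHom.toAlgebra
  have hfs : Flat (Spec.map σ') ∧ Surjective (Spec.map σ') := by
    rw [flat_and_surjective_SpecMap_iff]
    exact (inferInstanceAs (Module.FaithfullyFlat (AlgebraicClosure k) Ω))
  haveI := hfs.1
  haveI := hfs.2
  rw [pullback_map_eq_one_iff] at h ⊢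
  haveI : Flat (pullback.fst (pullback.snd Q.hom (Red.geomPt s)) (Spec.map σ')) := inferInstance
  haveI : Surjective (pullback.fst (pullback.snd Q.hom (Red.geomPt s)) (Spec.map σ')) := inferInstance
  haveI : Epi (pullback.fst (pullback.snd Q.hom (Red.geomPt s)) (Spec.map σ')) := Flat.epi_of_flat_of_surjective _
  rw [← cancel_epi (pullback.fst (pullback.snd Q.hom (Red.geomPt s)) (Spec.map σ'))]
  have h1 := h
  let c : pullback (pullback.snd Q.hom (Red.geomPt s)) (Spec.map σ') ⟶
      pullback Q.hom ((Scheme.SpecToEquivOfField Ω S).symm ⟨s, φ⟩) :=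
    pullback.lift (pullback.fst _ _ ≫ pullback.fst _ _) (pullback.snd _ _) (by
      rw [Category.assoc, pullback.condition, pullback.condition_assoc, hσ])
  have h2 := congrArg (c ≫ ·) h1
  simp only [c, pullback.lift_fst_assoc, Category.assoc] at h2
  exact h2

variable [IsMonHom χ]

/-- Local existence of roots along a split torus. -/
theorem exists_lift_split {U : Scheme.{u}} (g : U ⟶ S) {n : ℕ} (e : Red.bc g Q ≅ Red.DS U (Fin n → ℤ))
    [IsMonHom e.inv] (hχ : ∀ s : S, (Over.pullback (Red.geomPt s)).map χ ≠ 1)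
    {R : CommRingCat.{u}} (v : Spec R ⟶ U) (r : R) (hr : IsUnit r) :
    ∃ (R' : CommRingCat.{u}) (ρ : R ⟶ R') (t : Over.mk ((Spec.map ρ ≫ v) ≫ g) ⟶ Q),
      Flat (Spec.map ρ) ∧ Surjective (Spec.map ρ) ∧
      Red.gmFn (t ≫ χ) = (Scheme.ΓSpecIso R').inv (ρ r) := by
  classical
  obtain ⟨s, a, hidem, horth, hsum, formula⟩ := exists_psi_coeff g e χ v
  -- no component is the trivial character
  have h1 : a 1 = 0 := by
    by_contra hne
    obtain ⟨P, hP, hPa⟩ : ∃ P : Ideal R, P.IsPrime ∧ a 1 ∉ P := by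
      by_contra! hall
      have hnil : IsNilpotent (a 1) := nilpotent_iff_mem_prime.mpr hall
      exact hne ((show IsIdempotentElem (a 1) from hidem 1).eq_zero_of_isNilpotent hnil)
    haveI := hP
    let Ω := AlgebraicClosure P.ResidueField
    let θ : R ⟶ CommRingCat.of Ω := CommRingCat.ofHom ((algebraMap P.ResidueField Ω).comp (algebraMap R P.ResidueField))
    have hθ : IsUnit (θ (a 1)) := by
      refine (isUnit_iff_ne_zero.mpr ?_)
      show algebraMap P.ResidueField Ω (algebraMap R P.ResidueField (a 1)) ≠ 0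
      rw [map_ne_zero_iff _ (algebraMap P.ResidueField Ω).injective]
      exact fun h0 => hPa (Ideal.algebraMap_residueField_eq_zero.mp h0)
    have hθ1 : θ (a 1) = 1 := by
      have := congrArg θ (hidem 1)
      rw [map_mul] at this
      exact hθ.mul_eq_left.mp this
    have hθ0 : ∀ m, m ≠ 1 → θ (a m) = 0 := by
      intro m hm
      have := congrArg θ (horth m 1 hm)
      rwa [map_mul, map_zero, hθ1, _root_.mul_one] at this
    let ω : Spec (CommRingCat.of Ω) ⟶ S := Spec.map θ ≫ v ≫ g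
    obtain ⟨s₀, hs₀⟩ := geomPt_map_eq_one χ ω (by
      rw [pullback_map_eq_one_iff]
      let W : Over U := Over.mk (pullback.snd Q.hom ω ≫ Spec.map θ ≫ v)
      let t : (Over.map g).obj W ⟶ Q := Over.homMk (pullback.fst Q.hom ω) (by
        show pullback.fst Q.hom ω ≫ Q.hom = (pullback.snd Q.hom ω ≫ Spec.map θ ≫ v) ≫ g
        rw [pullback.condition]
        simp only [ω, Category.assoc])
      obtain ⟨p, hp⟩ := toPt_surjective g e t
      let w : W.left ⟶ Spec R := pullback.snd Q.hom ω ≫ Spec.map θ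
      have hψ : psi g e χ p = 1 := by
        have hw : ∀ x, theta (pullback.snd Q.hom ω ≫ Spec.map θ) x =
            (pullback.snd Q.hom ω).appTop ((Scheme.ΓSpecIso (CommRingCat.of Ω)).inv (θ x)) := by
          intro x
          rw [← theta_SpecMap θ x]
          rfl
        have h01 : ∀ m ∈ s, theta w (a m) * dsFn p m =
            if m = 1 then 1 else 0 := by
          intro m _
          erw [hw]
          split
          · next hm =>
            subst hm
            rw [hθ1, map_one (dsFn p)]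
            simp
          · next hm =>
            rw [hθ0 m hm]
            simp
        rw [formula W w (Category.assoc _ _ _) p,
          Finset.sum_congr rfl h01, Finset.sum_ite_eq']
        refine if_pos ?_
        by_contra h1s
        have h1 := congrArg θ hsum
        rw [map_sum, map_one, Finset.sum_eq_zero (fun m hm => hθ0 m (fun h => h1s (h ▸ hm)))] at h1
        exact zero_ne_one h1
      have ht : t ≫ χ = t ≫ (1 : Q ⟶ Red.Gm S) := by
        rw [MonObj.comp_one]
        refine gmFn_injective ?_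
        rw [gmFn_one, ← hp]
        exact hψ
      exact congrArg CommaMorphism.left ht)
    exact hχ s₀ hs₀
  -- choose a coordinate for each component
  have hne : ∀ m : Multiplicative (Fin n → ℤ), m ≠ 1 → ∃ i : Fin n, m.toAdd i ≠ 0 := by
    intro m hm
    by_contra! hall
    exact hm (Multiplicative.toAdd.injective (funext hall))
  choose idx hidx using hne
  let J : Finset (Multiplicative (Fin n → ℤ)) := s.erase 1
  let D : Multiplicative (Fin n → ℤ) → ℤ := fun m => if h : m = 1 then 1 else m.toAdd (idx m h)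
  have hD : ∀ m, D m ≠ 0 := by
    intro m
    by_cases h : m = 1
    · simp [D, h]
    · simpa [D, h] using hidx m h
  let N : ℕ := (∏ m ∈ J, D m).natAbs
  have hN : N ≠ 0 := Int.natAbs_ne_zero.mpr (Finset.prod_ne_zero_iff.mpr fun m _ => hD m)
  have hdvd : ∀ m ∈ J, D m ∣ (N : ℤ) := fun m hm => Int.dvd_natAbs.mpr (Finset.dvd_prod_of_mem D hm)
  -- the root extension
  let P : Polynomial R := Polynomial.X ^ N - Polynomial.C r
  have hPm : P.Monic := Polynomial.monic_X_pow_sub_C r hN
  let R' : CommRingCat.{u} := CommRingCat.of (AdjoinRoot P)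
  let ρ : R ⟶ R' := CommRingCat.ofHom (AdjoinRoot.of P)
  let x : AdjoinRoot P := AdjoinRoot.root P
  have hx : x ^ N = AdjoinRoot.of P r := by
    have := AdjoinRoot.eval₂_root P
    simpa [P, sub_eq_zero] using this
  have hxu : IsUnit x := (isUnit_pow_iff hN).mp (hx ▸ hr.map _)
  let e' : Multiplicative (Fin n → ℤ) → (Fin n → ℤ) → ℤ := fun m k =>
    if h : m = 1 then 0 else ((N : ℤ) / D m) * k (idx m h)
  have heN : ∀ m ∈ J, e' m m.toAdd = N := by
    intro m hm
    have h : m ≠ 1 := (Finset.mem_erase.mp hm).1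
    have hDm : D m = m.toAdd (idx m h) := by simp [D, h]
    simp only [e', dif_neg h]
    rw [← hDm]
    exact Int.ediv_mul_cancel (hdvd m hm)
  have headd : ∀ m k k', e' m (k + k') = e' m k + e' m k' := by
    intro m k k'
    by_cases h : m = 1
    · simp [e', h]
    · simp [e', h, mul_add]
  have hJ : ∀ (F : Multiplicative (Fin n → ℤ) → AdjoinRoot P),
      ∑ m ∈ s, AdjoinRoot.of P (a m) * F m = ∑ m ∈ J, AdjoinRoot.of P (a m) * F m := by
    intro F
    refine (Finset.sum_erase _ ?_).symm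
    rw [h1, map_zero, zero_mul]
  have hsumJ : ∑ m ∈ J, AdjoinRoot.of P (a m) = 1 := by
    have := (hJ fun _ => 1)
    simp only [_root_.mul_one] at this
    rw [← this, ← map_sum, hsum, map_one]
  have hmulJ : ∀ F G : Multiplicative (Fin n → ℤ) → AdjoinRoot P,
      (∑ m ∈ J, AdjoinRoot.of P (a m) * F m) * (∑ m ∈ J, AdjoinRoot.of P (a m) * G m) =
        ∑ m ∈ J, AdjoinRoot.of P (a m) * (F m * G m) := by
    intro F G
    rw [Finset.sum_mul_sum]
    refine Finset.sum_congr rfl fun m hm => ?_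
    rw [Finset.sum_eq_single m]
    · rw [_root_.mul_mul_mul_comm, ← map_mul, hidem]
    · intro m' _ hne'
      rw [_root_.mul_mul_mul_comm, ← map_mul, horth m m' (Ne.symm hne'), map_zero, zero_mul]
    · exact fun h => absurd hm h
  let φ : Multiplicative (Fin n → ℤ) →* AdjoinRoot P :=
    { toFun := fun k => ∑ m ∈ J, AdjoinRoot.of P (a m) * (hxu.unit ^ e' m k.toAdd : (AdjoinRoot P)ˣ)
      map_one' := by
        have h0 : ∀ m, e' m 0 = 0 := fun m => by simp [e']
        simp [h0, hsumJ]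
      map_mul' := fun k k' => by
        rw [hmulJ]
        simp [headd, zpow_add] }
  let W : Over U := Over.mk (Spec.map ρ ≫ v)
  obtain ⟨p, hp⟩ := exists_dsPt (W := W) ((Scheme.ΓSpecIso R').inv.hom.toMonoidHom.comp φ)
  refine ⟨R', ρ, toPt g e p, ?_⟩
  haveI : Module.Free R (AdjoinRoot P) := Module.Free.of_basis (AdjoinRoot.powerBasis' hPm).basis
  have hff : Module.FaithfullyFlat R (AdjoinRoot P) := by
    rcases subsingleton_or_nontrivial R with hsub | hnt
    · haveI : Subsingleton (AdjoinRoot P) := Module.subsingleton R _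
      refine ⟨fun {m} hm => (hm.ne_top (Subsingleton.elim _ _)).elim⟩
    · haveI : Nontrivial (AdjoinRoot P) := by
        have hd : P.natDegree = N := Polynomial.natDegree_X_pow_sub_C
        exact ⟨⟨(AdjoinRoot.powerBasis' hPm).basis ⟨0, by rw [AdjoinRoot.powerBasis'_dim, hd]; omega⟩, 0,
          Module.Basis.ne_zero _ _⟩⟩
      infer_instance
  have hfs : Flat (Spec.map ρ) ∧ Surjective (Spec.map ρ) := by
    rw [flat_and_surjective_SpecMap_iff]
    show (algebraMap R (AdjoinRoot P)).FaithfullyFlat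
    exact RingHom.faithfullyFlat_algebraMap_iff.mpr hff
  refine ⟨hfs.1, hfs.2, ?_⟩
  show psi g e χ p = _
  rw [formula W (Spec.map ρ) rfl p]
  let i' : R' →+* Γ(Spec R', ⊤) := (Scheme.ΓSpecIso R').inv.hom
  let w' : W.left ⟶ Spec R := Spec.map ρ
  show ∑ m ∈ s, theta w' (a m) * dsFn p m = i' (ρ r)
  have hterm : ∀ m ∈ s, theta w' (a m) * dsFn p m = i' (AdjoinRoot.of P (a m) * φ m) := by
    intro m _
    rw [map_mul]
    exact congrArg₂ (· * ·) (theta_SpecMap ρ (a m)) (DFunLike.congr_fun hp m)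
  rw [Finset.sum_congr rfl hterm, ← map_sum, hJ]
  congr 1
  show _ = AdjoinRoot.of P r
  calc ∑ m ∈ J, AdjoinRoot.of P (a m) * φ m
      = ∑ m ∈ J, AdjoinRoot.of P (a m) * x ^ N := by
        refine Finset.sum_congr rfl fun m hm => ?_
        show _ * (∑ k ∈ J, AdjoinRoot.of P (a k) * _) = _
        rw [Finset.mul_sum, Finset.sum_eq_single m]
        · rw [← _root_.mul_assoc, ← map_mul, hidem, heN m hm, zpow_natCast, Units.val_pow_eq_pow_val, IsUnit.unit_spec]
        · intro m' _ hne'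
          rw [← _root_.mul_assoc, ← map_mul, horth m m' (Ne.symm hne'), map_zero, zero_mul]
        · exact fun h => absurd hm h
    _ = AdjoinRoot.of P r := by rw [← Finset.sum_mul, hsumJ, _root_.one_mul, hx]

theorem isoSpec_inv_appTop' (X : Scheme.{u}) [IsAffine X] :
    X.isoSpec.inv.appTop = (Scheme.ΓSpecIso Γ(X, ⊤)).inv := by
  have h := congrArg Scheme.Hom.appTop (Scheme.isoSpec_inv_toSpecΓ X)
  rw [Scheme.Hom.comp_appTop, Scheme.toSpecΓ_appTop, Scheme.Hom.id_appTop] at h
  exact ((Iso.inv_comp_eq _).mpr (h.trans (by rfl)).symm).symm.trans (Category.comp_id _)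

/-- **Fppf surjectivity of fibrewise nontrivial characters of tori.** -/
theorem exists_char_lift (hQ : Red.IsTorus Q) (hχ : ∀ s : S, (Over.pullback (Red.geomPt s)).map χ ≠ 1)
    {X : Over S} {r : Γ(X.left, ⊤)} (hr : IsUnit r) :
    ∃ (X' : Over S) (π : X' ⟶ X) (t : X' ⟶ Q), Surjective π.left ∧ Epi π ∧
      Red.gmFn (t ≫ χ) = π.left.appTop r := by
  obtain ⟨S', f, hfl, hsu, -, hU⟩ := hQ
  choose U hmem rk hsplit using hU
  haveI := hfl
  haveI := hsu
  have hcov : TopologicalSpace.IsOpenCover U :=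
    TopologicalSpace.IsOpenCover.mk (eq_top_iff.2 fun s _ => TopologicalSpace.Opens.mem_iSup.2 ⟨s, hmem s⟩)
  let P := pullback X.hom f
  haveI : Flat (pullback.fst X.hom f) := inferInstance
  haveI : Surjective (pullback.fst X.hom f) := inferInstance
  haveI : Epi (pullback.fst X.hom f) := Flat.epi_of_flat_of_surjective _
  let 𝒰 : P.OpenCover := (S'.openCoverOfIsOpenCover U hcov).pullback₁ (pullback.snd X.hom f)
  let κ := Σ s : 𝒰.I₀, (𝒰.X s).affineCover.I₀
  let V : κ → Scheme.{u} := fun k => (𝒰.X k.1).affineCover.X k.2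
  have hmain : ∀ k : κ, ∃ (V' : Scheme.{u}) (ρ : V' ⟶ V k)
      (t : Over.mk ((ρ ≫ (𝒰.X k.1).affineCover.f k.2 ≫ 𝒰.f k.1 ≫ pullback.fst X.hom f) ≫ X.hom) ⟶ Q),
      Flat ρ ∧ Surjective ρ ∧ Red.gmFn (t ≫ χ) =
        (ρ ≫ (𝒰.X k.1).affineCover.f k.2 ≫ 𝒰.f k.1 ≫ pullback.fst X.hom f).appTop r := by
    intro k
    let A : CommRingCat.{u} := Γ(V k, ⊤)
    haveI : IsAffine (V k) := inferInstanceAs (IsAffine ((𝒰.X k.1).affineCover.X k.2))
    let v : Spec A ⟶ (U k.1 : Scheme.{u}) :=
      (V k).isoSpec.inv ≫ (𝒰.X k.1).affineCover.f k.2 ≫ pullback.snd (pullback.snd X.hom f) (U k.1).ι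
    let r' : A := ((𝒰.X k.1).affineCover.f k.2 ≫ 𝒰.f k.1 ≫ pullback.fst X.hom f).appTop r
    obtain ⟨e⟩ := hsplit k.1
    let e₀ : Red.bc ((U k.1).ι ≫ f) Q ≅ Red.DS (U k.1 : Scheme.{u}) (Fin (rk k.1) → ℤ) :=
      (Grp.forget _).mapIso e
    haveI : IsMonHom e₀.inv := e.inv.hom.isMonHom_hom
    obtain ⟨R', ρ, t, hρ1, hρ2, ht⟩ := exists_lift_split χ ((U k.1).ι ≫ f) e₀ hχ v r' (hr.map _)
    have hstr : (Spec.map ρ ≫ v) ≫ (U k.1).ι ≫ f = ((Spec.map ρ ≫ (V k).isoSpec.inv) ≫
        (𝒰.X k.1).affineCover.f k.2 ≫ 𝒰.f k.1 ≫ pullback.fst X.hom f) ≫ X.hom := by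
      simp only [v, Category.assoc]
      congr 3
      show pullback.snd (pullback.snd X.hom f) (U k.1).ι ≫ (U k.1).ι ≫ f =
        pullback.fst (pullback.snd X.hom f) (U k.1).ι ≫ pullback.fst X.hom f ≫ X.hom
      rw [← pullback.condition_assoc, pullback.condition]
    let t' : Over.mk (((Spec.map ρ ≫ (V k).isoSpec.inv) ≫
        (𝒰.X k.1).affineCover.f k.2 ≫ 𝒰.f k.1 ≫ pullback.fst X.hom f) ≫ X.hom) ⟶ Q :=
      Over.homMk (t.left : Spec R' ⟶ Q.left) (((Over.w t).trans hstr :) : t.left ≫ Q.hom = _)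
    refine ⟨Spec R', Spec.map ρ ≫ (V k).isoSpec.inv, t', inferInstance, inferInstance, ?_⟩
    refine (gmFn_comp t' χ).trans ((gmFn_comp t χ).symm.trans (ht.trans ?_))
    rw [Scheme.Hom.comp_appTop (Spec.map ρ ≫ (V k).isoSpec.inv), Scheme.Hom.comp_appTop (Spec.map ρ)]
    show _ = (Spec.map ρ).appTop ((V k).isoSpec.inv.appTop r')
    rw [isoSpec_inv_appTop']
    exact congrArg (fun q => q.hom r') (Scheme.ΓSpecIso_inv_naturality ρ)
  choose V' ρ t hρfl hρsu ht using hmain
  let pr : ∀ k, V' k ⟶ X.left := fun k => ρ k ≫ (𝒰.X k.1).affineCover.f k.2 ≫ 𝒰.f k.1 ≫ pullback.fst X.hom f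
  let X' : Over S := Over.mk (Sigma.desc pr ≫ X.hom)
  let π : X' ⟶ X := Over.homMk (Sigma.desc pr) rfl
  let τ : X' ⟶ Q := Over.homMk (Sigma.desc fun k => (t k).left) (by
    refine Sigma.hom_ext _ _ fun k => ?_
    rw [Sigma.ι_desc_assoc]
    show (t k).left ≫ Q.hom = Sigma.ι _ k ≫ Sigma.desc pr ≫ X.hom
    rw [Sigma.ι_desc_assoc]
    exact Over.w (t k))
  have hsurj : Surjective π.left := ⟨fun x => by
    obtain ⟨y, rfl⟩ := (pullback.fst X.hom f).surjective x
    obtain ⟨s, z, rfl⟩ := 𝒰.exists_eq y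
    obtain ⟨j, w, rfl⟩ := (𝒰.X s).affineCover.exists_eq z
    haveI := hρsu ⟨s, j⟩
    obtain ⟨w', rfl⟩ := (ρ ⟨s, j⟩).surjective w
    refine ⟨(Sigma.ι V' ⟨s, j⟩).base w', ?_⟩
    show (Sigma.ι V' ⟨s, j⟩ ≫ Sigma.desc pr).base w' = _
    rw [Sigma.ι_desc]
    rfl⟩
  have hepi : Epi π.left := ⟨fun a b hab => by
    refine (cancel_epi (pullback.fst X.hom f)).mp (Scheme.Cover.hom_ext 𝒰 _ _ fun s => ?_)
    refine Scheme.Cover.hom_ext (𝒰.X s).affineCover _ _ fun j => ?_
    haveI := hρfl ⟨s, j⟩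
    haveI := hρsu ⟨s, j⟩
    haveI : Epi (ρ ⟨s, j⟩) := Flat.epi_of_flat_of_surjective _
    refine (cancel_epi (ρ ⟨s, j⟩)).mp ?_
    have h' := congrArg (Sigma.ι V' ⟨s, j⟩ ≫ ·) hab
    simp only [π, Over.homMk_left, Sigma.ι_desc_assoc, pr, Category.assoc] at h'
    exact h'⟩
  refine ⟨X', π, τ, hsurj, (Over.forget S).epi_of_epi_map hepi, ?_⟩
  obtain ⟨z, hz⟩ := exists_gmFn (S := S) hr
  rw [← hz, ← gmFn_comp]
  refine congrArg Red.gmFn (Over.OverMorphism.ext (Sigma.hom_ext _ _ fun k => ?_))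
  let c : Over.mk (pr k ≫ X.hom) ⟶ X' := Over.homMk (Sigma.ι V' k) (by
    show Sigma.ι V' k ≫ Sigma.desc pr ≫ X.hom = pr k ≫ X.hom
    rw [Sigma.ι_desc_assoc])
  have hc1 : c ≫ τ = t k := Over.OverMorphism.ext (by simp [c, τ])
  have hc2 : (c ≫ π).left = pr k := by simp [c, π]
  suffices c ≫ τ ≫ χ = c ≫ π ≫ z from congrArg CommaMorphism.left this
  refine gmFn_injective ?_
  rw [← Category.assoc, hc1, ← Category.assoc, gmFn_comp (c ≫ π) z, hc2, hz]
  exact ht k

end Groth.Agent.SGA3cLib
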