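import Groth.Agent.SGA3cLib.CommutatorSpread

/-! A factorisation on the generic fibre holds over an open. -/

set_option autoImplicit false
set_option linter.style.haveILetI false
set_option backward.isDefEq.respectTransparency.types false

universe u

open CategoryTheory CategoryTheory.Limits MonoidalCategory CartesianMonoidalCategory MonObj GrpObj AlgebraicGeometry

noncomputable section

namespace Groth.Agent.SGA3cLib.LiftOpen

open CommSpread

variable {S : Scheme.{u}} {I : Type u} [SmallCategory I] [IsCofiltered I] {Dg : I ⥤ Scheme.{u}} {cc : Cone Dg}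
  [∀ (V V' : I) (f : V ⟶ V'), IsAffineHom (Dg.map f)] [∀ V, CompactSpace (Dg.obj V)]
  [∀ V, QuasiSeparatedSpace (Dg.obj V)] (hc : IsLimit cc)

include hc in
theorem exists_stage {inc : ∀ V, Dg.obj V ⟶ S} (hinc : ∀ {V W : I} (f : V ⟶ W), Dg.map f ≫ inc W = inc V)
    {s : cc.pt ⟶ S} (hs : ∀ V, cc.π.app V ≫ inc V = s) (j : I) {W X Y : Over S} [QuasiCompact W.hom]
    [QuasiSeparated W.hom] [LocallyOfFinitePresentation X.hom] [LocallyOfFiniteType Y.hom] (v : X ⟶ Y) (m : W ⟶ Y)
    (h : ∃ z : Red.bc s W ⟶ Red.bc s X, z ≫ (Over.pullback s).map v = (Over.pullback s).map m) :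
    ∃ (V : I) (z : Red.bc (inc V) W ⟶ Red.bc (inc V) X),
      z ≫ (Over.pullback (inc V)).map v = (Over.pullback (inc V)).map m := by
  haveI : QuasiCompact (Red.bc (inc j) W).hom := inferInstanceAs (QuasiCompact (pullback.snd W.hom _))
  haveI : QuasiSeparated (Red.bc (inc j) W).hom := inferInstanceAs (QuasiSeparated (pullback.snd W.hom _))
  haveI : LocallyOfFinitePresentation (Red.bc (inc j) X).hom :=
    inferInstanceAs (LocallyOfFinitePresentation (pullback.snd X.hom _))
  haveI : LocallyOfFiniteType (Red.bc (inc j) Y).hom := inferInstanceAs (LocallyOfFiniteType (pullback.snd Y.hom _))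
  obtain ⟨z, hz⟩ := h
  let e := GrpLim26.cmpNat (hs j)
  obtain ⟨V, f, z', hz'⟩ := GrpLim26.exists_lift hc ((Over.pullback (inc j)).map v) ((Over.pullback (inc j)).map m)
    ⟨e.symm.inv.app W ≫ z ≫ e.symm.hom.app X, GrpLim26.transfer e.symm hz⟩
  let w := GrpLim26.cmpNat (hinc f)
  exact ⟨V, w.inv.app W ≫ z' ≫ w.hom.app X, GrpLim26.transfer w hz'⟩

/-- The generic point of an open maps through the residue field at the generic point. -/
theorem exists_factor_residue {S : Scheme.{u}} [IsIntegral S] (U : S.Opens) [IsIntegral (U : Scheme.{u})] :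
    ∃ φ : Spec ((U : Scheme.{u}).presheaf.stalk (genericPoint (U : Scheme.{u}))) ⟶ Spec (S.residueField (genericPoint S)),
      φ ≫ S.fromSpecResidueField (genericPoint S) =
        (U : Scheme.{u}).fromSpecStalk (genericPoint (U : Scheme.{u})) ≫ U.ι := by
  let T : Scheme.{u} := U
  let K : Type u := T.functionField
  let m : Spec (CommRingCat.of K) ⟶ S := T.fromSpecStalk (genericPoint T) ≫ U.ι
  obtain ⟨⟨y, φ⟩, hφ⟩ := (Scheme.SpecToEquivOfField K S).symm.surjective m
  have hφ : Spec.map φ ≫ S.fromSpecResidueField y = m := hφ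
  have h0 : m (IsLocalRing.closedPoint K) = genericPoint S :=
    ((Scheme.Hom.comp_apply _ _ _).trans (congrArg U.ι (Scheme.fromSpecStalk_closedPoint))).trans
      (genericPoint_eq_of_isOpenImmersion U.ι)
  have hy : y = genericPoint S := by
    rw [← h0, ← hφ, Scheme.Hom.comp_apply]
    exact (S.fromSpecResidueField_apply y _).symm
  subst hy
  exact ⟨Spec.map φ, hφ⟩

/-- A factorisation on the generic fibre holds over an open. -/
theorem exists_open {S : Scheme.{u}} [IsIntegral S] {W X Y : Over S} [QuasiCompact W.hom] [QuasiSeparated W.hom]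
    [LocallyOfFinitePresentation X.hom] [LocallyOfFiniteType Y.hom] (v : X ⟶ Y) (m : W ⟶ Y)
    (h : ∃ z : Red.bc (S.fromSpecStalk (genericPoint S)) W ⟶ Red.bc (S.fromSpecStalk (genericPoint S)) X,
      z ≫ (Over.pullback (S.fromSpecStalk (genericPoint S))).map v = (Over.pullback (S.fromSpecStalk (genericPoint S))).map m) :
    ∃ U : S.Opens, genericPoint S ∈ U ∧
      ∃ z : Red.bc U.ι W ⟶ Red.bc U.ι X, z ≫ (Over.pullback U.ι).map v = (Over.pullback U.ι).map m := by
  let η₀ := genericPoint S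
  haveI : ∀ (V V' : H8Lim.StalkLimit.AffNhd η₀) (f : V ⟶ V'), IsAffineHom ((H8Lim.StalkLimit.diagram η₀).map f) :=
    fun V V' f => inferInstance
  haveI : ∀ V, CompactSpace ((H8Lim.StalkLimit.diagram η₀).obj V) := fun V => inferInstance
  haveI : ∀ V, QuasiSeparatedSpace ((H8Lim.StalkLimit.diagram η₀).obj V) := fun V => inferInstance
  obtain ⟨j⟩ := IsCofiltered.nonempty (C := H8Lim.StalkLimit.AffNhd η₀)
  obtain ⟨V, z, hz⟩ := exists_stage (H8Lim.StalkLimit.isLimitCone η₀)
    (fun f => H8Lim.StalkLimit.map_incMap η₀ f) (H8Lim.StalkLimit.cone_incMap η₀) j v m h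
  exact ⟨V.1, V.2.2, fac_of_comp (V.2.1.isoSpec_hom_fromSpec) ⟨z, hz⟩⟩

end Groth.Agent.SGA3cLib.LiftOpen
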