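import Mathlib

/-! # Morphisms congruent modulo an ideal of square zero -/

set_option autoImplicit false
universe u

open CategoryTheory Limits AlgebraicGeometry MonoidalCategory CartesianMonoidalCategory MonObj

namespace Groth.Agent.SGA3cLib.SquareZero

variable {R : Type u} [CommRing R] {J : Ideal R}

/-- the closed subscheme of the base cut out by `J` -/
noncomputable abbrev incl (J : Ideal R) : Spec (CommRingCat.of (R ⧸ J)) ⟶ Spec (CommRingCat.of R) :=
  Spec.map (CommRingCat.ofHom (Ideal.Quotient.mk J))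

/-- two morphisms are congruent if they agree over the closed subscheme -/
def Cong (J : Ideal R) {X Y : Over (Spec (CommRingCat.of R))} (g g' : Y ⟶ X) : Prop :=
  pullback.fst Y.hom (incl J) ≫ g.left = pullback.fst Y.hom (incl J) ≫ g'.left

theorem cong_of_map {X Y : Over (Spec (CommRingCat.of R))} (g g' : Y ⟶ X)
    (h : (Over.pullback (incl J)).map g = (Over.pullback (incl J)).map g') : Cong J g g' := by
  have := congrArg (fun φ => CommaMorphism.left φ ≫ pullback.fst X.hom (incl J)) h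
  simp [Cong] at this ⊢
  erw [pullback.lift_fst, pullback.lift_fst] at this
  exact this

theorem Cong.lift {X X' Y : Over (Spec (CommRingCat.of R))} {g g' : Y ⟶ X} {k k' : Y ⟶ X'}
    (h : Cong J g g') (h' : Cong J k k') :
    Cong J (CartesianMonoidalCategory.lift g k) (CartesianMonoidalCategory.lift g' k') := by
  unfold Cong at *
  rw [Over.lift_left, Over.lift_left]
  apply pullback.hom_ext <;> simp only [Category.assoc, pullback.lift_fst, pullback.lift_snd]
  · exact h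
  · exact h'

theorem Cong.rfl {X Y : Over (Spec (CommRingCat.of R))} (g : Y ⟶ X) : Cong J g g := Eq.refl _

theorem surjective_incl (hJ : J * J = ⊥) : Surjective (incl J) := by
  constructor
  intro p
  have hle : J ≤ p.asIdeal := fun x hx => by
    have : x * x = 0 := by
      have := Ideal.mul_mem_mul hx hx
      rwa [hJ, Ideal.mem_bot] at this
    exact (p.isPrime.mem_or_mem (this ▸ p.asIdeal.zero_mem)).elim id id
  have : p ∈ PrimeSpectrum.zeroLocus (J : Set R) := hle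
  rw [← Ideal.mk_ker (I := J), ← range_comap_of_surjective _ _
    Ideal.Quotient.mk_surjective] at this
  exact this

theorem Cong.base_eq (hJ : J * J = ⊥) {X Y : Over (Spec (CommRingCat.of R))} {g g' : Y ⟶ X}
    (h : Cong J g g') (y : Y.left) : g.left y = g'.left y := by
  have := surjective_incl hJ
  obtain ⟨z, hz⟩ := (pullback.fst Y.hom (incl J)).surjective y
  rw [← hz, ← Scheme.Hom.comp_apply, ← Scheme.Hom.comp_apply, h]

/-- The test thickening: on an affine `Spec A → Y` congruent morphisms agree modulo `J A`. -/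
theorem Cong.test {X Y : Over (Spec (CommRingCat.of R))} {g g' : Y ⟶ X} (h : Cong J g g')
    {A : CommRingCat.{u}} (t : Spec A ⟶ Y.left) :
    Spec.map (CommRingCat.ofHom (Ideal.Quotient.mk (J.map (Spec.preimage (t ≫ Y.hom)).hom))) ≫
        t ≫ g.left =
      Spec.map (CommRingCat.ofHom (Ideal.Quotient.mk (J.map (Spec.preimage (t ≫ Y.hom)).hom))) ≫
        t ≫ g'.left := by
  set s := Spec.preimage (t ≫ Y.hom) with hs
  set I := J.map s.hom
  let w : Spec (CommRingCat.of (A ⧸ I)) ⟶ Spec (CommRingCat.of (R ⧸ J)) :=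
    Spec.map (CommRingCat.ofHom (Ideal.quotientMap I s.hom Ideal.le_comap_map))
  have hc : (Spec.map (CommRingCat.ofHom (Ideal.Quotient.mk I)) ≫ t) ≫ Y.hom = w ≫ incl J := by
    rw [Category.assoc, ← Spec.map_preimage (t ≫ Y.hom), ← Spec.map_comp, ← Spec.map_comp]
    congr 1
  have := congrArg (fun φ => pullback.lift _ w hc ≫ φ) h
  simpa only [pullback.lift_fst_assoc, Category.assoc] using this

theorem coord_exists {X : Scheme.{u}} {U : X.Opens} (hU : IsAffineOpen U) {A : CommRingCat.{u}}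
    (f : Spec A ⟶ X) (hf : ∀ a, f a ∈ U) :
    ∃ φ : Γ(X, U) ⟶ A, Spec.map φ ≫ hU.fromSpec = f := by
  have hr : Set.range f ⊆ Set.range hU.fromSpec := by
    rw [hU.range_fromSpec]; rintro _ ⟨a, rfl⟩; exact hf a
  exact ⟨Spec.preimage (IsOpenImmersion.lift hU.fromSpec f hr), by simp⟩

theorem coord_unique {X : Scheme.{u}} {U : X.Opens} (hU : IsAffineOpen U) {A : CommRingCat.{u}}
    {φ ψ : Γ(X, U) ⟶ A} (h : Spec.map φ ≫ hU.fromSpec = Spec.map ψ ≫ hU.fromSpec) : φ = ψ :=
  Spec.map_injective ((cancel_mono hU.fromSpec).mp h)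

theorem coord_congr {X Y : Over (Spec (CommRingCat.of R))} {g g' : Y ⟶ X} (h : Cong J g g')
    {A : CommRingCat.{u}} (t : Spec A ⟶ Y.left) {U : X.left.Opens} (hU : IsAffineOpen U)
    {φ ψ : Γ(X.left, U) ⟶ A} (hφ : Spec.map φ ≫ hU.fromSpec = t ≫ g.left)
    (hψ : Spec.map ψ ≫ hU.fromSpec = t ≫ g'.left) (x : Γ(X.left, U)) :
    φ x - ψ x ∈ J.map (Spec.preimage (t ≫ Y.hom)).hom := by
  have hh := h.test t
  rw [← hφ, ← hψ, ← Spec.map_comp_assoc, ← Spec.map_comp_assoc] at hh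
  have := congrArg (fun q => q.hom x) (coord_unique hU hh)
  exact Ideal.Quotient.eq.mp this

theorem map_sq_zero (hJ : J * J = ⊥) {A : Type u} [CommRing A] (s : R →+* A)
    {x y : A} (hx : x ∈ J.map s) (hy : y ∈ J.map s) : x * y = 0 := by
  have := Ideal.mul_mem_mul hx hy
  rwa [← Ideal.map_mul, hJ, Ideal.map_bot, Ideal.mem_bot] at this

/-- `a + b - c` is a ring map if `a`, `b` differ from `c` by elements with pairwise zero products. -/
theorem exists_addSub {B A : Type u} [CommRing B] [CommRing A] (a b c : B →+* A)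
    (h : ∀ x y, (a x - c x) * (b y - c y) = 0) :
    ∃ d : B →+* A, ∀ x, d x = a x + b x - c x :=
  ⟨{ toFun := fun x => a x + b x - c x
     map_zero' := by simp
     map_one' := by simp
     map_add' := fun x y => by simp only [map_add]; ring
     map_mul' := fun x y => by
        have h1 := h x y
        have h2 := h y x
        simp only [map_mul]
        linear_combination -h1 - h2 }, fun _ => rfl⟩

/-- If `P` is the "sum" of the congruent morphisms `A`, `B` with base point `C` (as detected by a jointly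
monomorphic pair), then morphisms agreeing on `A`, `B`, `C` agree on `P`. -/
theorem comp_eq_of_sum (hJ : J * J = ⊥) {X Y Z : Over (Spec (CommRingCat.of R))}
    (P A B C : Y ⟶ Z) (hP : Cong J P C) (hA : Cong J A C) (hB : Cong J B C) (q₁ q₂ f f' : Z ⟶ X)
    (hq : ∀ {T : Scheme.{u}} (u v : T ⟶ Z.left),
      u ≫ q₁.left = v ≫ q₁.left → u ≫ q₂.left = v ≫ q₂.left → u = v)
    (h1A : A ≫ q₁ = P ≫ q₁) (h1B : B ≫ q₁ = C ≫ q₁) (h2A : A ≫ q₂ = C ≫ q₂)
    (h2B : B ≫ q₂ = P ≫ q₂) (hfA : A ≫ f = A ≫ f') (hfB : B ≫ f = B ≫ f')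
    (hfC : C ≫ f = C ≫ f') : P ≫ f = P ≫ f' := by
  apply Over.OverMorphism.ext
  apply Scheme.hom_ext_of_forall
  intro y
  set z := C.left y
  obtain ⟨U, hU, hyU, -⟩ := exists_isAffineOpen_mem_and_subset
    (U := ⊤) (x := f.left z) (by simp)
  obtain ⟨U₁, hU₁, hyU₁, -⟩ := exists_isAffineOpen_mem_and_subset
    (U := ⊤) (x := q₁.left z) (by simp)
  obtain ⟨U₂, hU₂, hyU₂, -⟩ := exists_isAffineOpen_mem_and_subset
    (U := ⊤) (x := q₂.left z) (by simp)
  have hzf' : z ∈ f'.left ⁻¹ᵁ U := by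
    show f'.left (C.left y) ∈ U
    rw [← Scheme.Hom.comp_apply, ← Over.comp_left, ← hfC, Over.comp_left, Scheme.Hom.comp_apply]
    exact hyU
  obtain ⟨W, hW, hzW, hWle⟩ := exists_isAffineOpen_mem_and_subset
    (U := f.left ⁻¹ᵁ U ⊓ f'.left ⁻¹ᵁ U ⊓ q₁.left ⁻¹ᵁ U₁ ⊓ q₂.left ⁻¹ᵁ U₂) (x := z)
    ⟨⟨⟨hyU, hzf'⟩, hyU₁⟩, hyU₂⟩
  obtain ⟨V, hV, hyV, hVle⟩ := exists_isAffineOpen_mem_and_subset
    (U := C.left ⁻¹ᵁ W) (x := y) hzW
  refine ⟨V, hyV, ?_⟩
  rw [← cancel_epi hV.isoSpec.inv]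
  have ht : ∀ a, hV.fromSpec a ∈ C.left ⁻¹ᵁ W := fun a => hVle (by
    have : hV.fromSpec a ∈ Set.range hV.fromSpec := ⟨a, rfl⟩
    rwa [hV.range_fromSpec] at this)
  have hh : ∀ {D : Y ⟶ Z}, Cong J D C → ∃ φ, Spec.map φ ≫ hW.fromSpec = hV.fromSpec ≫ D.left :=
    fun {D} hD => coord_exists hW _ fun a => by
      rw [Scheme.Hom.comp_apply, hD.base_eq hJ]; exact ht a
  obtain ⟨p, hp⟩ := hh hP
  obtain ⟨a, ha⟩ := hh hA
  obtain ⟨b, hb⟩ := hh hB
  obtain ⟨c, hc⟩ := hh (Cong.rfl C)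
  obtain ⟨d, hd⟩ := exists_addSub a.hom b.hom c.hom fun x y =>
    map_sq_zero hJ _ (coord_congr hA _ hW ha hc x) (coord_congr hB _ hW hb hc y)
  -- functoriality
  have key : ∀ (q : Z ⟶ X) (U : X.left.Opens) (hU : IsAffineOpen U) (e : W ≤ q.left ⁻¹ᵁ U)
      (φ : Γ(Z.left, W) ⟶ Γ(Y.left, V)) (D : Y ⟶ Z),
      Spec.map φ ≫ hW.fromSpec = hV.fromSpec ≫ D.left →
      Spec.map (q.left.appLE U W e ≫ φ) ≫ hU.fromSpec = hV.fromSpec ≫ D.left ≫ q.left := by
    intro q U hU e φ D hD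
    rw [Spec.map_comp, Category.assoc, IsAffineOpen.SpecMap_appLE_fromSpec _ hU hW,
      ← Category.assoc, hD, Category.assoc]
  have keyD : ∀ (q : Z ⟶ X) (U : X.left.Opens) (hU : IsAffineOpen U) (e : W ≤ q.left ⁻¹ᵁ U),
      Spec.map (q.left.appLE U W e ≫ CommRingCat.ofHom d) ≫ hU.fromSpec =
        (Spec.map (CommRingCat.ofHom d) ≫ hW.fromSpec) ≫ q.left := by
    intro q U hU e
    rw [Spec.map_comp, Category.assoc, IsAffineOpen.SpecMap_appLE_fromSpec _ hU hW, Category.assoc]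
  have e : W ≤ f.left ⁻¹ᵁ U := fun w hw => (hWle hw).1.1.1
  have e' : W ≤ f'.left ⁻¹ᵁ U := fun w hw => (hWle hw).1.1.2
  have e₁ : W ≤ q₁.left ⁻¹ᵁ U₁ := fun w hw => (hWle hw).1.2
  have e₂ : W ≤ q₂.left ⁻¹ᵁ U₂ := fun w hw => (hWle hw).2
  have same : ∀ (q q' : Z ⟶ X) (U : X.left.Opens) (hU : IsAffineOpen U)
      (e : W ≤ q.left ⁻¹ᵁ U) (e' : W ≤ q'.left ⁻¹ᵁ U) (φ ψ : Γ(Z.left, W) ⟶ Γ(Y.left, V))
      (D D' : Y ⟶ Z), Spec.map φ ≫ hW.fromSpec = hV.fromSpec ≫ D.left →
      Spec.map ψ ≫ hW.fromSpec = hV.fromSpec ≫ D'.left → D ≫ q = D' ≫ q' →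
      ∀ x, φ (q.left.appLE U W e x) = ψ (q'.left.appLE U W e' x) := by
    intro q q' U hU e e' φ ψ D D' hφ hψ hDD x
    have h' : Spec.map (q.left.appLE U W e ≫ φ) ≫ hU.fromSpec =
        Spec.map (q'.left.appLE U W e' ≫ ψ) ≫ hU.fromSpec := by
      rw [key q U hU e φ D hφ, key q' U hU e' ψ D' hψ, ← Over.comp_left, hDD, Over.comp_left]
    exact congrArg (fun k => k.hom x) (coord_unique hU h')
  -- the sum is `P`
  have hdP : Spec.map (CommRingCat.ofHom d) ≫ hW.fromSpec = hV.fromSpec ≫ P.left := by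
    apply hq
    · rw [← keyD q₁ U₁ hU₁ e₁, Category.assoc, ← key q₁ U₁ hU₁ e₁ p P hp]
      congr 2
      ext x
      show d (q₁.left.appLE U₁ W e₁ x) = p (q₁.left.appLE U₁ W e₁ x)
      simp only [hd]; erw [same q₁ q₁ U₁ hU₁ e₁ e₁ a p A P ha hp h1A x, same q₁ q₁ U₁ hU₁ e₁ e₁ b c B C hb hc h1B x]
      exact add_sub_cancel_right _ _
    · rw [← keyD q₂ U₂ hU₂ e₂, Category.assoc, ← key q₂ U₂ hU₂ e₂ p P hp]
      congr 2
      ext x
      show d (q₂.left.appLE U₂ W e₂ x) = p (q₂.left.appLE U₂ W e₂ x)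
      simp only [hd]; erw [same q₂ q₂ U₂ hU₂ e₂ e₂ a c A C ha hc h2A x, same q₂ q₂ U₂ hU₂ e₂ e₂ b p B P hb hp h2B x]
      exact add_sub_cancel_left _ _
  have hfin : hV.fromSpec ≫ P.left ≫ f.left = hV.fromSpec ≫ P.left ≫ f'.left := by
    rw [← Category.assoc, ← hdP, ← keyD f U hU e, ← Category.assoc hV.fromSpec, ← hdP,
      ← keyD f' U hU e']
    congr 2
    ext x
    show d (f.left.appLE U W e x) = d (f'.left.appLE U W e' x)
    simp only [hd]; erw [same f f' U hU e e' a a A A ha ha hfA x, same f f' U hU e e' b b B B hb hb hfB x,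
      same f f' U hU e e' c c C C hc hc hfC x]
  simpa [IsAffineOpen.isoSpec_inv_ι_assoc] using hfin

theorem mul_comm_of_cong (hJ : J * J = ⊥) {X Y : Over (Spec (CommRingCat.of R))} [GrpObj X]
    (g g' : Y ⟶ X) (hg : Cong J g 1) (hg' : Cong J g' 1) : g * g' = g' * g := by
  have h := comp_eq_of_sum hJ (CartesianMonoidalCategory.lift g g')
    (CartesianMonoidalCategory.lift g 1) (CartesianMonoidalCategory.lift 1 g')
    (CartesianMonoidalCategory.lift 1 1) (hg.lift hg') (hg.lift (Cong.rfl 1))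
    ((Cong.rfl 1).lift hg') (fst X X) (snd X X) MonObj.mul
    (CartesianMonoidalCategory.lift (snd X X) (fst X X) ≫ MonObj.mul)
    (fun u v h₁ h₂ => pullback.hom_ext h₁ h₂) (by simp) (by simp) (by simp) (by simp)
  simp only [← Category.assoc, comp_lift, lift_fst, lift_snd] at h
  rw [Hom.mul_def, Hom.mul_def]
  apply h <;> simp [← Hom.mul_def]

theorem isIso_of_cong_id (hJ : J * J = ⊥) {X : Over (Spec (CommRingCat.of R))} (u : X ⟶ X)
    (h : Cong J u (𝟙 X)) : IsIso u := by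
  suffices IsIso u.left from by
    have : IsIso ((Over.forget _).map u) := this
    exact isIso_of_reflects_iso u (Over.forget _)
  have hb : ∀ x, u.left x = x := fun x => by simpa using h.base_eq hJ x
  have hpre : ∀ U : X.left.Opens, u.left ⁻¹ᵁ U = U := fun U => by
    ext x; simp [hb]
  have : IsAffineHom u.left := ⟨fun U hU => by rw [hpre]; exact hU⟩
  refine IsZariskiLocalAtTarget.of_forall_exists_morphismRestrict
    (P := MorphismProperty.isomorphisms Scheme.{u}) fun x => ?_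
  obtain ⟨U, hU, hxU, -⟩ := exists_isAffineOpen_mem_and_subset (U := ⊤) (x := x) (by simp)
  refine ⟨U, hxU, (isIso_morphismRestrict_iff_isIso_app _ hU).mpr ?_⟩
  have e : U ≤ u.left ⁻¹ᵁ U := (hpre U).ge
  suffices IsIso (u.left.appLE U U e) by
    rw [Scheme.Hom.app_eq_appLE]
    have h2 : u.left.appLE U (u.left ⁻¹ᵁ U) le_rfl =
        u.left.appLE U U e ≫ X.left.presheaf.map (homOfLE (hpre U).le).op := by
      rw [Scheme.Hom.appLE_map]
    rw [h2]
    have : IsIso (homOfLE (hpre U).le) := ⟨homOfLE (hpre U).ge, rfl, rfl⟩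
    infer_instance
  set φ := u.left.appLE U U e
  have hφ : Spec.map φ ≫ hU.fromSpec = hU.fromSpec ≫ u.left :=
    IsAffineOpen.SpecMap_appLE_fromSpec _ hU hU e
  have hid : Spec.map (𝟙 _) ≫ hU.fromSpec = hU.fromSpec ≫ (𝟙 X : X ⟶ X).left := by simp
  set s := Spec.preimage (hU.fromSpec ≫ X.hom) with hs
  have hc : ∀ x, φ x - x ∈ J.map s.hom := fun x => coord_congr h hU.fromSpec hU hφ hid x
  have hsφ : ∀ r, φ (s.hom r) = s.hom r := fun r => by
    have : s ≫ φ = s := by
      apply Spec.map_injective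
      rw [Spec.map_comp, Spec.map_preimage, ← Category.assoc, hφ, Category.assoc, Over.w]
    exact congrArg (fun q => q.hom r) this
  have hfix : ∀ y ∈ J.map s.hom, φ y = y := fun y hy => by
    refine Submodule.span_induction (p := fun y _ => φ y = y) ?_ (map_zero _) ?_ ?_ hy
    · rintro _ ⟨r, -, rfl⟩; exact hsφ r
    · intro a b _ _ ha hb; rw [map_add, ha, hb]
    · intro a b hb' hb
      have h0 : (φ a - a) * b = 0 := map_sq_zero hJ _ (hc a) hb'
      rw [smul_eq_mul, map_mul, hb]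
      linear_combination h0
  rw [ConcreteCategory.isIso_iff_bijective]
  constructor
  · intro a b hab
    have h0 : φ (a - b) = 0 := by rw [map_sub, hab, sub_self]
    have hmem : a - b ∈ J.map s.hom := by
      have := hc (a - b); rw [h0, zero_sub] at this
      simpa using Ideal.neg_mem_iff _ |>.mp this
    rw [hfix _ hmem] at h0
    exact sub_eq_zero.mp h0
  · intro y
    refine ⟨y - (φ y - y), ?_⟩
    rw [map_sub, hfix _ (hc y)]
    ring

end Groth.Agent.SGA3cLib.SquareZero
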