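import Groth.Agent.CommAlg6.SemiLocalComplete
import Groth.Agent.AdicRing.Basic
import Mathlib.AlgebraicGeometry.Morphisms.Affine
import Mathlib.RingTheory.AdicCompletion.RingHom
import Mathlib.RingTheory.Localization.Away.Lemmas

/-! # Morphisms out of finite algebras over complete local rings -/

set_option linter.style.haveILetI false
set_option autoImplicit false
universe u

open CategoryTheory AlgebraicGeometry IsLocalRing

namespace Groth.Agent.SGA3cLib.FiniteComplete

variable (A : Type u) [CommRing A] [IsLocalRing A] [IsNoetherianRing A] [IsAdicComplete (maximalIdeal A) A]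

/-- `Spec (C / m^n C)` -/
noncomputable abbrev pw (C : Type u) [CommRing C] [Algebra A C] (n : ℕ) : Ideal C :=
  Ideal.map (algebraMap A C) (maximalIdeal A ^ n)

noncomputable abbrev red (C : Type u) [CommRing C] [Algebra A C] (n : ℕ) :
    Spec (CommRingCat.of (C ⧸ pw A C n)) ⟶ Spec (CommRingCat.of C) :=
  Spec.map (CommRingCat.ofHom (Ideal.Quotient.mk (pw A C n)))

theorem pw_eq (C : Type u) [CommRing C] [Algebra A C] (n : ℕ) :
    pw A C n = Ideal.map (algebraMap A C) (maximalIdeal A) ^ n := Ideal.map_pow _ _ _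

variable (C : Type u) [CommRing C] [Algebra A C] [Module.Finite A C]

omit [IsLocalRing A] [IsAdicComplete (maximalIdeal A) A] in
theorem isNoetherian_of_finite (A C : Type u) [CommRing A] [IsNoetherianRing A] [CommRing C] [Algebra A C]
    [Module.Finite A C] : IsNoetherianRing C :=
  IsNoetherianRing.of_finite A C

theorem complete : IsAdicComplete (Ideal.map (algebraMap A C) (maximalIdeal A)) C :=
  (IsAdicComplete.map_algebraMap_iff _ _).mpr (AdicRing.isAdicComplete_of_finite _ C)

theorem isMaximal_of_le {p : Ideal C} (hp : p.IsPrime) (n : ℕ) (h : pw A C n ≤ p) : p.IsMaximal := by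
  rw [pw_eq] at h
  have h1 : Ideal.map (algebraMap A C) (maximalIdeal A) ≤ p := Ideal.IsPrime.le_of_pow_le h
  refine Ideal.isMaximal_of_isIntegral_of_isMaximal_comap (R := A) p ?_
  have : maximalIdeal A = p.comap (algebraMap A C) :=
    (maximalIdeal.isMaximal A).eq_of_le (Ideal.comap_ne_top _ hp.ne_top) (Ideal.map_le_iff_le_comap.1 h1)
  exact this ▸ maximalIdeal.isMaximal A

/-- the reduction of an idempotent piece is the preimage of the piece -/
theorem reduction_piece {B : Type u} [CommRing B] [Algebra A B] {e : B} (he : IsIdempotentElem e) (n : ℕ)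
    (h : pw A B n ≤ (pw A (B ⧸ Ideal.span {1 - e}) n).comap (Ideal.Quotient.mk (Ideal.span {1 - e}))) :
    IsOpenImmersion (Spec.map (CommRingCat.ofHom (Ideal.quotientMap _ (Ideal.Quotient.mk (Ideal.span {1 - e})) h))) ∧
    ∀ t, red A B n t ∈ Set.range (Spec.map (CommRingCat.ofHom (Ideal.Quotient.mk (Ideal.span {1 - e})))) →
      t ∈ Set.range (Spec.map (CommRingCat.ofHom (Ideal.quotientMap _ (Ideal.Quotient.mk (Ideal.span {1 - e})) h))) := by
  set θ := Ideal.quotientMap _ (Ideal.Quotient.mk (Ideal.span {1 - e})) h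
  have hsurj : Function.Surjective θ := Ideal.quotientMap_surjective Ideal.Quotient.mk_surjective
  have hcomap : (pw A (B ⧸ Ideal.span {1 - e}) n).comap (Ideal.Quotient.mk (Ideal.span {1 - e})) =
      pw A B n ⊔ Ideal.span {1 - e} := by
    have : pw A (B ⧸ Ideal.span {1 - e}) n = (pw A B n).map (Ideal.Quotient.mk (Ideal.span {1 - e})) := by
      rw [Ideal.map_map]; rfl
    rw [this, Ideal.comap_map_of_surjective _ Ideal.Quotient.mk_surjective, ← RingHom.ker_eq_comap_bot, Ideal.mk_ker]
  have hker : RingHom.ker θ = Ideal.span {Ideal.Quotient.mk (pw A B n) (1 - e)} := by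
    refine Eq.trans ?_ ((Ideal.map_span (Ideal.Quotient.mk (pw A B n)) {1 - e}).trans (congrArg Ideal.span Set.image_singleton))
    ext a
    obtain ⟨c, rfl⟩ := Ideal.Quotient.mk_surjective a
    rw [RingHom.mem_ker, show θ (Ideal.Quotient.mk _ c) = Ideal.Quotient.mk _ (Ideal.Quotient.mk _ c) from rfl,
      Ideal.Quotient.eq_zero_iff_mem, ← Ideal.mem_comap, hcomap, ← Ideal.mem_comap,
      Ideal.comap_map_of_surjective _ Ideal.Quotient.mk_surjective, ← RingHom.ker_eq_comap_bot, Ideal.mk_ker,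
      sup_comm]
  refine ⟨(isOpenImmersion_SpecMap_iff_of_surjective _ hsurj).2
    ⟨_, he.one_sub.map (Ideal.Quotient.mk _), hker⟩, fun t ht => ?_⟩
  change t ∈ Set.range (PrimeSpectrum.comap θ)
  rw [range_comap_of_surjective _ _ hsurj, hker]
  change _ ∈ Set.range (PrimeSpectrum.comap (Ideal.Quotient.mk (Ideal.span {1 - e}))) at ht
  rw [range_comap_of_surjective _ _ Ideal.Quotient.mk_surjective, Ideal.mk_ker] at ht
  simp only [PrimeSpectrum.mem_zeroLocus, SetLike.coe_subset_coe, Ideal.span_singleton_le_iff_mem] at ht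
  intro a ha
  obtain ⟨b, rfl⟩ := Ideal.mem_span_singleton'.1 ha
  exact t.asIdeal.mul_mem_left b ht

section Local

variable [IsLocalRing C]

theorem apply_red (n : ℕ) (x : Spec (CommRingCat.of (C ⧸ pw A C n))) : red A C n x = closedPoint C := by
  apply PrimeSpectrum.ext
  refine IsLocalRing.eq_maximalIdeal (isMaximal_of_le A C ((red A C n x).isPrime) n ?_)
  intro c hc
  show Ideal.Quotient.mk (pw A C n) c ∈ x.asIdeal
  rw [Ideal.Quotient.eq_zero_iff_mem.2 hc]
  exact zero_mem _

theorem subsingleton_red (n : ℕ) : Subsingleton (Spec (CommRingCat.of (C ⧸ pw A C n))) :=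
  ⟨fun x x' => (PrimeSpectrum.comap_injective_of_surjective _ Ideal.Quotient.mk_surjective)
    ((apply_red A C n x).trans (apply_red A C n x').symm)⟩

theorem nonempty_red : Nonempty (Spec (CommRingCat.of (C ⧸ pw A C 1))) := by
  haveI : Nontrivial (C ⧸ pw A C 1) := by
    refine Ideal.Quotient.nontrivial_iff.2 fun h => ?_
    rw [pw_eq, pow_one] at h
    haveI := complete A C
    have := IsAdicComplete.le_jacobson_bot (Ideal.map (algebraMap A C) (maximalIdeal A))
    rw [h, top_le_iff, IsLocalRing.jacobson_eq_maximalIdeal _ bot_ne_top] at this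
    exact (maximalIdeal.isMaximal C).ne_top this
  exact inferInstanceAs (Nonempty (PrimeSpectrum (C ⧸ pw A C 1)))

theorem mem_of_closedPoint {Y : Scheme.{u}} (f : Spec (CommRingCat.of C) ⟶ Y) (V : Y.Opens)
    (h : f (closedPoint C) ∈ V) (x : Spec (CommRingCat.of C)) : f x ∈ V :=
  ((IsLocalRing.specializes_closedPoint x).map f.continuous).mem_open V.isOpen h

theorem ext_local {Y : Scheme.{u}} (f g : Spec (CommRingCat.of C) ⟶ Y)
    (h : ∀ n, red A C n ≫ f = red A C n ≫ g) : f = g := by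
  obtain ⟨x⟩ := nonempty_red A C
  have hfg : f (closedPoint C) = g (closedPoint C) := by
    rw [← apply_red A C 1 x, ← Scheme.Hom.comp_apply, h 1, Scheme.Hom.comp_apply]
  obtain ⟨V, hV, hfV, -⟩ := exists_isAffineOpen_mem_and_subset (U := (⊤ : Y.Opens)) (x := f (closedPoint C)) trivial
  have co : ∀ (k : Spec (CommRingCat.of C) ⟶ Y), k (closedPoint C) ∈ V →
      ∃ φ : Γ(Y, V) ⟶ CommRingCat.of C, Spec.map φ ≫ hV.fromSpec = k := by
    intro k hk
    have hr : Set.range k ⊆ Set.range hV.fromSpec := by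
      rw [hV.range_fromSpec]; rintro _ ⟨z, rfl⟩; exact mem_of_closedPoint C k V hk z
    exact ⟨Spec.preimage (IsOpenImmersion.lift hV.fromSpec k hr), by simp⟩
  obtain ⟨φ, hφ⟩ := co f hfV
  obtain ⟨ψ, hψ⟩ := co g (hfg ▸ hfV)
  suffices φ = ψ by rw [← hφ, ← hψ, this]
  haveI := complete A C
  ext a
  refine IsHausdorff.eq_iff_smodEq (I := Ideal.map (algebraMap A C) (maximalIdeal A)) |>.2 fun n => ?_
  rw [SModEq.sub_mem, smul_eq_mul, Ideal.mul_top, ← pw_eq, ← Ideal.Quotient.eq]
  have hn := h n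
  rw [← hφ, ← hψ, ← Spec.map_comp_assoc, ← Spec.map_comp_assoc] at hn
  have := Spec.map_injective ((cancel_mono hV.fromSpec).mp hn)
  exact congrArg (fun q => q.hom a) this

theorem exists_local {Y : Scheme.{u}} (u : (n : ℕ) → (Spec (CommRingCat.of (C ⧸ pw A C n)) ⟶ Y))
    (hu : ∀ n : ℕ, Spec.map (CommRingCat.ofHom (Ideal.Quotient.factor
      (Ideal.map_mono (f := algebraMap A C) (Ideal.pow_le_pow_right (I := maximalIdeal A) (Nat.le_succ n))))) ≫ u (n + 1) = u n) :
    ∃ f : Spec (CommRingCat.of C) ⟶ Y, ∀ n, red A C n ≫ f = u n := by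
  obtain ⟨x₁⟩ := nonempty_red A C
  obtain ⟨V, hV, hyV, -⟩ := exists_isAffineOpen_mem_and_subset (U := (⊤ : Y.Opens)) (x := u 1 x₁) trivial
  have hmem : ∀ (n : ℕ) (z : Spec (CommRingCat.of (C ⧸ pw A C n))), u n z ∈ V := by
    intro n
    rcases n with _ | n
    · intro z
      exfalso
      exact (isMaximal_of_le A C (red A C 0 z).isPrime 1 (by
        intro c hc
        have : (1 : C) ∈ pw A C 0 := by simp [pw, Ideal.map_top]
        have h0 : Ideal.Quotient.mk (pw A C 0) 1 ∈ z.asIdeal := by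
          rw [Ideal.Quotient.eq_zero_iff_mem.2 this]; exact zero_mem _
        exact absurd ((Ideal.eq_top_iff_one _).2 (by simpa using h0)) z.isPrime.ne_top)).ne_top
        ((Ideal.eq_top_iff_one _).2 (by
          show Ideal.Quotient.mk (pw A C 0) 1 ∈ z.asIdeal
          rw [Ideal.Quotient.eq_zero_iff_mem.2 (show (1 : C) ∈ pw A C 0 by simp [pw, Ideal.map_top])]
          exact zero_mem _))
    induction n with
    | zero =>
      intro z
      haveI := subsingleton_red A C 1
      rw [Subsingleton.elim z x₁]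
      exact hyV
    | succ n ih =>
      intro z
      let t := Spec.map (CommRingCat.ofHom (Ideal.Quotient.factor
        (Ideal.map_mono (f := algebraMap A C) (Ideal.pow_le_pow_right (I := maximalIdeal A) (Nat.le_succ (n + 1))))))
      have hne : Nonempty (Spec (CommRingCat.of (C ⧸ pw A C (n + 1)))) :=
        ⟨(Spec.map (CommRingCat.ofHom (Ideal.Quotient.factor
          (Ideal.map_mono (f := algebraMap A C) (Ideal.pow_le_pow_right (I := maximalIdeal A) (Nat.succ_le_succ (Nat.zero_le n))))))) x₁⟩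
      obtain ⟨z'⟩ := hne
      haveI := subsingleton_red A C (n + 1 + 1)
      rw [Subsingleton.elim z (t z'), ← Scheme.Hom.comp_apply, hu (n + 1)]
      exact ih z'
  have co : ∀ n, ∃ φ : Γ(Y, V) ⟶ CommRingCat.of (C ⧸ pw A C n), Spec.map φ ≫ hV.fromSpec = u n := by
    intro n
    have hr : Set.range (u n) ⊆ Set.range hV.fromSpec := by
      rw [hV.range_fromSpec]; rintro _ ⟨z, rfl⟩; exact hmem n z
    exact ⟨Spec.preimage (IsOpenImmersion.lift hV.fromSpec (u n) hr), by simp⟩
  choose φ hφ using co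
  let J := Ideal.map (algebraMap A C) (maximalIdeal A)
  haveI : IsAdicComplete J C := complete A C
  let ψ : (n : ℕ) → Γ(Y, V) →+* C ⧸ J ^ n := fun n =>
    (Ideal.quotEquivOfEq (pw_eq A C n)).toRingHom.comp (φ n).hom
  have step : ∀ n, (Ideal.Quotient.factor (Ideal.pow_le_pow_right (Nat.le_succ n))).comp (ψ (n + 1)) = ψ n := by
    intro n
    have h := hu n
    rw [← hφ, ← hφ, ← Spec.map_comp_assoc] at h
    have h2 := Spec.map_injective ((cancel_mono hV.fromSpec).mp h)
    ext a
    have h3 := congrArg (fun q => q.hom a) h2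
    simp only [ψ, RingHom.comp_apply]
    rw [← h3]
    obtain ⟨c, hc⟩ := Ideal.Quotient.mk_surjective ((φ (n + 1)).hom a)
    simp only [CommRingCat.hom_comp, RingHom.comp_apply, CommRingCat.hom_ofHom]
    rw [← hc]
    rfl
  have hf : ∀ {m n : ℕ} (hle : m ≤ n), (Ideal.Quotient.factorPow J hle).comp (ψ n) = ψ m := by
    intro m n hle
    induction n, hle using Nat.le_induction with
    | base => ext a; obtain ⟨c, hc⟩ := Ideal.Quotient.mk_surjective (ψ m a); simp only [RingHom.comp_apply, ← hc]; rfl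
    | succ k hk ih =>
      rw [← ih, ← step k]
      ext a
      obtain ⟨c, hc⟩ := Ideal.Quotient.mk_surjective (ψ (k + 1) a)
      simp only [RingHom.comp_apply, ← hc]
      rfl
  let F := IsAdicComplete.liftRingHom J ψ hf
  refine ⟨Spec.map (CommRingCat.ofHom F) ≫ hV.fromSpec, fun n => ?_⟩
  rw [← hφ n, ← Spec.map_comp_assoc]
  congr 2
  ext a
  apply (Ideal.quotEquivOfEq (pw_eq A C n)).injective
  show Ideal.quotEquivOfEq (pw_eq A C n) (Ideal.Quotient.mk _ (F a)) = _
  rw [Ideal.quotEquivOfEq_mk]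
  exact IsAdicComplete.mk_liftRingHom J ψ hf n a

end Local

/-- decomposition into local pieces -/
theorem exists_pieces (B : Type u) [CommRing B] [Algebra A B] [Module.Finite A B] :
    ∃ e : MaximalSpectrum B → B, (∀ M, IsIdempotentElem (e M)) ∧
      (∀ M, IsLocalRing (B ⧸ Ideal.span {1 - e M})) ∧
      (∀ M, IsOpenImmersion (Spec.map (CommRingCat.ofHom (Ideal.Quotient.mk (Ideal.span {1 - e M}))))) ∧
      (∀ x : Spec (CommRingCat.of B), ∃ M z,
        Spec.map (CommRingCat.ofHom (Ideal.Quotient.mk (Ideal.span {1 - e M}))) z = x) ∧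
      (∀ M N z z', Spec.map (CommRingCat.ofHom (Ideal.Quotient.mk (Ideal.span {1 - e M}))) z =
        Spec.map (CommRingCat.ofHom (Ideal.Quotient.mk (Ideal.span {1 - e N}))) z' → M = N) := by
  classical
  let J := Ideal.map (algebraMap A B) (maximalIdeal A)
  haveI : IsAdicComplete J B := complete A B
  haveI : IsNoetherianRing B := isNoetherian_of_finite A B
  haveI : IsArtinianRing (B ⧸ J) := by
    haveI : Ring.KrullDimLE 0 (B ⧸ J) := Ring.krullDimLE_zero_iff.2 fun p hp => by
      haveI := hp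
      have := isMaximal_of_le A B (Ideal.comap_isPrime (Ideal.Quotient.mk J) p) 1 (by
        rw [pw_eq, pow_one]
        intro c hc
        show Ideal.Quotient.mk J c ∈ p
        rw [Ideal.Quotient.eq_zero_iff_mem.2 hc]
        exact zero_mem _)
      have h2 := Ideal.map_comap_of_surjective (Ideal.Quotient.mk J) Ideal.Quotient.mk_surjective p
      rcases Ideal.map_eq_top_or_isMaximal_of_surjective (Ideal.Quotient.mk J) Ideal.Quotient.mk_surjective this with h | h
      · exact absurd (h2.symm.trans h) hp.ne_top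
      · rwa [h2] at h
    exact isArtinianRing_iff_isNoetherianRing_krullDimLE_zero.2 ⟨inferInstance, inferInstance⟩
  have he : ∀ M : MaximalSpectrum B, ∃ e : B, IsIdempotentElem e ∧ e ∉ M.asIdeal ∧
      ∀ N : Ideal B, N.IsMaximal → N ≠ M.asIdeal → e ∈ N := fun M =>
    haveI := M.isMaximal
    CommAlg6.exists_isIdempotentElem_of_isMaximal J M.asIdeal
  choose e hid hnot hin using he
  have hpt : ∀ (M : MaximalSpectrum B) (z : Spec (CommRingCat.of (B ⧸ Ideal.span {1 - e M}))),
      e M ∉ (Spec.map (CommRingCat.ofHom (Ideal.Quotient.mk (Ideal.span {1 - e M}))) z).asIdeal := by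
    intro M z h
    have h1 : Ideal.Quotient.mk (Ideal.span {1 - e M}) (e M) ∈ z.asIdeal := h
    have h2 : Ideal.Quotient.mk (Ideal.span {1 - e M}) (e M) = 1 := by
      rw [← sub_eq_zero, ← map_one (Ideal.Quotient.mk (Ideal.span {1 - e M})), ← map_sub,
        Ideal.Quotient.eq_zero_iff_mem]
      exact Ideal.mem_span_singleton.2 ⟨-1, by ring⟩
    exact z.isPrime.ne_top ((Ideal.eq_top_iff_one _).2 (h2 ▸ h1))
  have hmax : ∀ (M : MaximalSpectrum B) (p : Ideal B), p.IsPrime → e M ∉ p → ∀ Q : Ideal B, Q.IsMaximal → p ≤ Q → Q = M.asIdeal := by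
    intro M p hp hep Q hQ hle
    by_contra hne
    have h1 : 1 - e M ∈ p := by
      have : e M * (1 - e M) ∈ p := by rw [mul_sub, _root_.mul_one, hid M, sub_self]; exact zero_mem _
      exact (hp.mem_or_mem this).resolve_left hep
    exact hQ.ne_top ((Ideal.eq_top_iff_one _).2 (by simpa using Q.add_mem (hle h1) (hin M Q hQ hne)))
  refine ⟨e, hid, fun M => ?_, fun M => ?_, fun x => ?_, fun M N z z' h => ?_⟩
  · have hne : Ideal.span {1 - e M} ≤ M.asIdeal := by
      rw [Ideal.span_singleton_le_iff_mem]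
      have : e M * (1 - e M) ∈ M.asIdeal := by rw [mul_sub, _root_.mul_one, hid M, sub_self]; exact zero_mem _
      exact (M.isMaximal.isPrime.mem_or_mem this).resolve_left (hnot M)
    refine IsLocalRing.of_unique_max_ideal ⟨M.asIdeal.map (Ideal.Quotient.mk _), ?_, fun Q hQ => ?_⟩
    · refine (Ideal.map_eq_top_or_isMaximal_of_surjective _ Ideal.Quotient.mk_surjective M.isMaximal).resolve_left fun h => ?_
      have := congrArg (Ideal.comap (Ideal.Quotient.mk (Ideal.span {1 - e M}))) h
      rw [Ideal.comap_map_of_surjective _ Ideal.Quotient.mk_surjective, ← RingHom.ker_eq_comap_bot, Ideal.mk_ker,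
        sup_eq_left.2 hne, Ideal.comap_top] at this
      exact M.isMaximal.ne_top this
    · have hQ' : (Q.comap (Ideal.Quotient.mk (Ideal.span {1 - e M}))).IsMaximal :=
        Ideal.comap_isMaximal_of_surjective _ Ideal.Quotient.mk_surjective
      rw [← hmax M _ hQ'.isPrime (hpt M ⟨Q, hQ.isPrime⟩) _ hQ' le_rfl,
        Ideal.map_comap_of_surjective _ Ideal.Quotient.mk_surjective]
  · haveI : IsLocalization.Away (e M) (B ⧸ Ideal.span {1 - e M}) := IsLocalization.Away.quotient_of_isIdempotentElem (hid M)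
    exact IsOpenImmersion.of_isLocalization (S := B ⧸ Ideal.span {1 - e M}) (e M)
  · obtain ⟨Q, hQ, hle⟩ := Ideal.exists_le_maximal x.asIdeal x.isPrime.ne_top
    have hx : e ⟨Q, hQ⟩ ∉ x.asIdeal := fun h => hnot ⟨Q, hQ⟩ (hle h)
    have : x ∈ Set.range (PrimeSpectrum.comap (Ideal.Quotient.mk (Ideal.span {1 - e ⟨Q, hQ⟩}))) := by
      rw [range_comap_of_surjective _ _ Ideal.Quotient.mk_surjective, Ideal.mk_ker]
      show (↑(Ideal.span {1 - e ⟨Q, hQ⟩}) : Set B) ⊆ x.asIdeal
      rw [SetLike.coe_subset_coe, Ideal.span_singleton_le_iff_mem]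
      have : e ⟨Q, hQ⟩ * (1 - e ⟨Q, hQ⟩) ∈ x.asIdeal := by
        rw [mul_sub, _root_.mul_one, hid ⟨Q, hQ⟩, sub_self]; exact zero_mem _
      exact (x.isPrime.mem_or_mem this).resolve_left hx
    exact ⟨⟨Q, hQ⟩, this⟩
  · set p := Spec.map (CommRingCat.ofHom (Ideal.Quotient.mk (Ideal.span {1 - e M}))) z
    obtain ⟨Q, hQ, hle⟩ := Ideal.exists_le_maximal p.asIdeal p.isPrime.ne_top
    apply MaximalSpectrum.ext
    rw [← hmax M _ p.isPrime (hpt M z) Q hQ hle, ← hmax N _ p.isPrime (h ▸ hpt N z') Q hQ hle]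

theorem main (B : Type u) [CommRing B] [Algebra A B] [Module.Finite A B] (Y : Scheme.{u}) :
    (∀ f g : Spec (CommRingCat.of B) ⟶ Y, (∀ n, red A B n ≫ f = red A B n ≫ g) → f = g) ∧
    (∀ u : (n : ℕ) → (Spec (CommRingCat.of (B ⧸ pw A B n)) ⟶ Y),
      (∀ n : ℕ, Spec.map (CommRingCat.ofHom (Ideal.Quotient.factor
        (Ideal.map_mono (f := algebraMap A B) (Ideal.pow_le_pow_right (I := maximalIdeal A) (Nat.le_succ n))))) ≫ u (n + 1) = u n) →
      ∃ f : Spec (CommRingCat.of B) ⟶ Y, ∀ n, red A B n ≫ f = u n) := by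
  obtain ⟨e, hide, hloc, hopen, hcov, hdis⟩ := exists_pieces A B
  have hid : ∀ M, IsIdempotentElem (e M) := hide
  let C := fun M => B ⧸ Ideal.span {1 - e M}
  let q := fun M => Spec.map (CommRingCat.ofHom (Ideal.Quotient.mk (Ideal.span {1 - e M})))
  let 𝒰 : (Spec (CommRingCat.of B)).OpenCover :=
    { I₀ := MaximalSpectrum B, X := fun M => Spec (CommRingCat.of (C M)), f := q
      mem₀ := by
        rw [Scheme.presieve₀_mem_precoverage_iff]
        exact ⟨fun x => by obtain ⟨M, z, hz⟩ := hcov x; exact ⟨M, z, hz⟩, hopen⟩ }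
  -- compatibility of the reductions
  have hle : ∀ M n, pw A B n ≤ (pw A (C M) n).comap (Ideal.Quotient.mk (Ideal.span {1 - e M})) := fun M n => by
    rw [← Ideal.map_le_iff_le_comap, Ideal.map_map]
    rfl
  let r : ∀ M n, Spec (CommRingCat.of (C M ⧸ pw A (C M) n)) ⟶ Spec (CommRingCat.of (B ⧸ pw A B n)) := fun M n =>
    Spec.map (CommRingCat.ofHom (Ideal.quotientMap (pw A (C M) n) (Ideal.Quotient.mk (Ideal.span {1 - e M})) (hle M n)))
  have hr : ∀ M n, r M n ≫ red A B n = red A (C M) n ≫ q M := fun M n => by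
    rw [← Spec.map_comp, ← Spec.map_comp]; rfl
  have uniq : ∀ f g : Spec (CommRingCat.of B) ⟶ Y, (∀ n, red A B n ≫ f = red A B n ≫ g) → f = g := by
    intro f g h
    refine Scheme.Cover.hom_ext 𝒰 _ _ fun M => ?_
    haveI := hloc M
    refine ext_local A (C M) _ _ fun n => ?_
    show red A (C M) n ≫ q M ≫ f = red A (C M) n ≫ q M ≫ g
    rw [← Category.assoc, ← hr, Category.assoc, h, ← Category.assoc, hr, Category.assoc]
  refine ⟨uniq, fun u hu => ?_⟩
  have loc : ∀ M, ∃ f : Spec (CommRingCat.of (C M)) ⟶ Y, ∀ n, red A (C M) n ≫ f = r M n ≫ u n := fun M => by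
    haveI := hloc M
    refine exists_local A (C M) (fun n => r M n ≫ u n) fun n => ?_
    rw [← hu n, ← Category.assoc, ← Category.assoc, ← Spec.map_comp, ← Spec.map_comp]
    congr 2
    ext a
    rfl
  choose fM hfM using loc
  have hc : ∀ M N : MaximalSpectrum B, Limits.pullback.fst (q M) (q N) ≫ fM M = Limits.pullback.snd (q M) (q N) ≫ fM N := by
    intro M N
    by_cases hMN : M = N
    · subst hMN
      haveI := hopen M
      have h := (cancel_mono (q M)).1 (Limits.pullback.condition (f := q M) (g := q M))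
      rw [h]
    · refine Scheme.hom_ext_of_forall _ _ fun t => absurd ?_ hMN
      refine hdis M N (Limits.pullback.fst (q M) (q N) t) (Limits.pullback.snd (q M) (q N) t) ?_
      rw [← Scheme.Hom.comp_apply, ← Scheme.Hom.comp_apply, Limits.pullback.condition]
  obtain ⟨f, hf⟩ : ∃ f : Spec (CommRingCat.of B) ⟶ Y, ∀ M, q M ≫ f = fM M :=
    ⟨_, fun M => Scheme.Cover.ι_glueMorphisms 𝒰 fM hc M⟩
  refine ⟨f, fun n => ?_⟩
  haveI : ∀ M, IsOpenImmersion (q M) := hopen
  refine Scheme.hom_ext_of_forall _ _ fun t => ?_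
  obtain ⟨M, z, hz⟩ := hcov (red A B n t)
  obtain ⟨ho, hrange⟩ := reduction_piece A (hid M) n (hle M n)
  haveI : IsOpenImmersion (r M n) := ho
  obtain ⟨z', hz'⟩ := hrange t ⟨z, hz⟩
  refine ⟨(r M n).opensRange, ⟨z', hz'⟩, ?_⟩
  rw [← cancel_epi (r M n).isoOpensRange.hom, Scheme.Hom.isoOpensRange_hom_ι_assoc,
    Scheme.Hom.isoOpensRange_hom_ι_assoc, ← Category.assoc, hr, Category.assoc, hf, hfM]

end Groth.Agent.SGA3cLib.FiniteComplete
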