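import Groth.Agent.S16775
import Groth.Agent.RedQuotLib.Basic
import Groth.Agent.GrpLim26.Quotient
import Groth.Agent.AlgGrpLib.SubGrpMono

/-! Preimages of central homomorphisms from groups of multiplicative type under quotients by central mult-type subgroups. -/

set_option autoImplicit false
set_option linter.style.haveILetI false
set_option backward.isDefEq.respectTransparency.types false

universe u

open CategoryTheory CategoryTheory.Limits MonoidalCategory CartesianMonoidalCategory MonObj GrpObj AlgebraicGeometry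
open Groth.Agent.IsoTriv

noncomputable section

namespace Groth.Agent.SGA3cLib.CentralPreimage

variable {S : Scheme.{u}}

/-- A quotient map of groups has the subgroup for kernel. -/
theorem isKernel_of_isQuotient {G H Q : Over S} [GrpObj G] [GrpObj H] [GrpObj Q] (i : H ⟶ G) [Mono i] (q : G ⟶ Q)
    [IsMonHom q] (hq : RedSub.IsQuotient i q) : AlgGrp.IsKernel i q := by
  have hiq : i ≫ q = 1 := by
    have h := RedQuotLib.mul_comp_eq hq (1 : H ⟶ G) (𝟙 H)
    rw [MonObj.mul_comp, MonObj.one_comp, _root_.one_mul, Category.id_comp] at h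
    exact h
  have key : ∀ {X : Over S} (a : X ⟶ G), a ≫ q = 1 → ∃ h : X ⟶ H, h ≫ i = a := fun {X} a ha => by
    obtain ⟨h, hh⟩ := (RedQuotLib.comp_eq_iff hq 1 a).1 (by rw [MonObj.one_comp, ha])
    exact ⟨h, by rw [hh, _root_.one_mul]⟩
  refine IsPullback.of_isLimit' ⟨hiq.trans Hom.one_def⟩ (PullbackCone.IsLimit.mk _
    (fun c => (key c.fst (c.condition.trans (by rw [toUnit_unique c.snd (toUnit _), ← Hom.one_def]))).choose)
    (fun c => (key c.fst (c.condition.trans (by rw [toUnit_unique c.snd (toUnit _), ← Hom.one_def]))).choose_spec)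
    (fun c => toUnit_unique _ _) fun c m h1 _ => ?_)
  rw [← cancel_mono i, h1]
  exact ((key c.fst (c.condition.trans (by rw [toUnit_unique c.snd (toUnit _), ← Hom.one_def]))).choose_spec).symm

/-- The preimage of a central homomorphism from a group of multiplicative type is central of multiplicative type. -/
theorem exists_preimage {G H Q H' : Over S} [GrpObj G] [GrpObj H] [GrpObj Q] [GrpObj H']
    [Smooth G.hom] [IsAffineHom G.hom] (hconn : ∀ s : S, ConnectedSpace ↥(pullback G.hom (S.fromSpecResidueField s)))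
    (i : H ⟶ G) [IsMonHom i] [Mono i] (hH : SGA3x.IsMultTypeFT H)
    (hHc : ∀ (X : Over S) (x : X ⟶ H) (g : X ⟶ G), (x ≫ i) * g = g * (x ≫ i))
    (q : G ⟶ Q) [IsMonHom q] (hq : RedSub.IsQuotient i q)
    (j : H' ⟶ Q) [IsMonHom j] (hH' : SGA3x.IsMultTypeFT H')
    (hcenH' : ∀ (X : Over S) (x : X ⟶ H') (g : X ⟶ Q), (x ≫ j) * g = g * (x ≫ j)) :
    ∃ (P : Over S) (_ : GrpObj P) (i' : P ⟶ G) (p : P ⟶ H'), IsMonHom i' ∧ Epi p ∧ i' ≫ q = p ≫ j ∧
      SGA3x.IsMultTypeFT P ∧ ∀ (X : Over S) (x : X ⟶ P) (g : X ⟶ G), (x ≫ i') * g = g * (x ≫ i') := by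
  have hker := isKernel_of_isQuotient i q hq
  let i' := pullback.fst q j
  let p := pullback.snd q j
  have hP : IsPullback i' p q j := IsPullback.of_hasPullback q j
  let e : pullback q j ⟶ G ⊗ H' := lift i' p
  have e1 : ∀ {X : Over S} (x : X ⟶ pullback q j), (x ≫ e) ≫ fst G H' = x ≫ i' := fun x => by
    rw [Category.assoc, lift_fst]
  have e2 : ∀ {X : Over S} (x : X ⟶ pullback q j), (x ≫ e) ≫ snd G H' = x ≫ p := fun x => by
    rw [Category.assoc, lift_snd]
  haveI : Mono e := ⟨fun a b h => hP.hom_ext (by rw [← e1, h, e1]) (by rw [← e2, h, e2])⟩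
  have mem : ∀ {X : Over S} (y : X ⟶ G ⊗ H'), (y ≫ fst G H') ≫ q = (y ≫ snd G H') ≫ j → ∃ z, z ≫ e = y :=
    fun y hy => ⟨hP.lift _ _ hy, CartesianMonoidalCategory.hom_ext _ _ (by rw [e1, hP.lift_fst]) (by rw [e2, hP.lift_snd])⟩
  have we : ∀ {X : Over S} (x : X ⟶ pullback q j), ((x ≫ e) ≫ fst G H') ≫ q = ((x ≫ e) ≫ snd G H') ≫ j := fun x => by
    rw [e1, e2, Category.assoc, hP.w, Category.assoc]
  obtain ⟨instP, he⟩ := Groth.Agent.AlgGrpLib.exists_grpObj_of_mono e
    (mem 1 (by rw [MonObj.one_comp, MonObj.one_comp, MonObj.one_comp, MonObj.one_comp]))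
    (mem _ (by simp only [MonObj.mul_comp, we]))
    (mem _ (by rw [GrpObj.inv_comp, GrpObj.inv_comp, GrpObj.inv_comp, GrpObj.inv_comp]; simpa using congrArg (·⁻¹) (we (𝟙 _))))
  haveI := he
  haveI : IsMonHom i' := by
    have : IsMonHom (e ≫ fst G H') := inferInstance
    simpa [e] using this
  haveI : IsMonHom p := by
    have : IsMonHom (e ≫ snd G H') := inferInstance
    simpa [e] using this
  haveI : Surjective q.left := hq.1
  haveI : Flat q.left := hq.2.1
  haveI : LocallyOfFinitePresentation q.left := hq.2.2.1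
  haveI := SchemeBridge.isAffineHom_of_multTypeFT H hH
  haveI : LocallyOfFinitePresentation H.hom := TrivLocus.locallyOfFinitePresentation_of_multTypeFT H hH
  haveI : QuasiCompact (fst G H).left := MorphismProperty.pullback_fst (P := @QuasiCompact) _ _ inferInstance
  haveI : QuasiCompact q.left :=
    @S16775.quasiCompact_of_selfBase _ _ q.left _ _ _ _ _ _ (hq.2.2.2.map (Over.forget S)) ‹QuasiCompact (fst G H).left›
  have sq := hP.map (Over.forget S)
  haveI hps : Surjective p.left := MorphismProperty.of_isPullback (P := @Surjective) sq ‹_›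
  haveI hpf : Flat p.left := MorphismProperty.of_isPullback (P := @Flat) sq ‹_›
  haveI hpq : QuasiCompact p.left := MorphismProperty.of_isPullback (P := @QuasiCompact) sq ‹_›
  have hpl : LocallyOfFinitePresentation p.left := MorphismProperty.of_isPullback (P := @LocallyOfFinitePresentation) sq ‹_›
  let k : H ⟶ pullback q j := hP.lift i 1 (by rw [ExtensionComm.comp_isKernel i q hker, MonObj.one_comp])
  have hki : k ≫ i' = i := hP.lift_fst _ _ _
  have hkp : k ≫ p = 1 := hP.lift_snd _ _ _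
  haveI : IsMonHom k := by
    refine Agent.SGA3cLib.BCPoints.isMonHom_of_mul _ fun X a b => hP.hom_ext ?_ ?_
    · conv_rhs => rw [MonObj.mul_comp]
      simp only [Category.assoc, hki]
      exact MonObj.mul_comp a b i
    · conv_rhs => rw [MonObj.mul_comp]
      simp only [Category.assoc, hkp, MonObj.comp_one, _root_.one_mul]
  have hkk : AlgGrp.IsKernel k p := by
    refine IsPullback.of_right (h₁₂ := i') (h₂₂ := j) (v₁₃ := q) ?_ (hkp.trans Hom.one_def) hP
    rw [hki, IsMonHom.one_hom j]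
    exact hker
  have hlift : ∀ (X : Over S) (g : X ⟶ G) (x : X ⟶ pullback q j), ∃ c : X ⟶ H, c ≫ i = g * (x ≫ i') * g⁻¹ * (x ≫ i')⁻¹ :=
    fun X g x => ExtensionComm.exists_lift_kernel i q hker _ (by
      simp only [MonObj.mul_comp, GrpObj.inv_comp, Category.assoc, hP.w]
      rw [← Category.assoc x p j, ← hcenH' X (x ≫ p) (g ≫ q), mul_inv_cancel_right, mul_inv_cancel])
  choose φ hφ using hlift
  have hcen : ∀ (X : Over S) (x : X ⟶ pullback q j) (g : X ⟶ G), (x ≫ i') * g = g * (x ≫ i') := fun X x g => by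
    have h := ExtensionNormal.eq_one (G := G) (Z := H) k p hkk hH' (fun s => isConnected_iff_connectedSpace.mpr
        ((G.hom.fiberHomeo s).connectedSpace_iff.mp (hconn s))) φ
      (fun X Y r g x => by
        rw [← cancel_mono i, Category.assoc, hφ, hφ]
        simp only [MonObj.comp_mul, GrpObj.comp_inv, Category.assoc])
      (fun X g x y => by
        rw [← cancel_mono i, MonObj.mul_comp, hφ, hφ, hφ, MonObj.mul_comp]
        have h1 : (x ≫ i') * (g * (y ≫ i') * g⁻¹ * (y ≫ i')⁻¹) = (g * (y ≫ i') * g⁻¹ * (y ≫ i')⁻¹) * (x ≫ i') := by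
          rw [← hφ]; exact (hHc X (φ X g y) (x ≫ i')).symm
        calc g * ((x ≫ i') * (y ≫ i')) * g⁻¹ * ((x ≫ i') * (y ≫ i'))⁻¹
            = g * (x ≫ i') * g⁻¹ * (x ≫ i')⁻¹ * ((x ≫ i') * (g * (y ≫ i') * g⁻¹ * (y ≫ i')⁻¹)) * (x ≫ i')⁻¹ := by group
          _ = _ := by rw [h1]; group)
      (fun X x => by rw [← cancel_mono i, hφ, MonObj.one_comp, _root_.one_mul, inv_one, _root_.mul_one, mul_inv_cancel])
      (fun X g n => by
        rw [← cancel_mono i, hφ, MonObj.one_comp, Category.assoc, hki, ← hHc X n g, mul_inv_cancel_right, mul_inv_cancel])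
      X g x
    have h2 := congrArg (fun z => z ≫ i) h
    rw [hφ, MonObj.one_comp] at h2
    exact (mul_inv_eq_iff_eq_mul.mp (mul_inv_eq_one.mp h2)).symm
  haveI : Epi p := by
    haveI : Epi p.left := (RedQuotLib.IsFppfCov.epi_left ⟨hps, hpf, hpl⟩)
    exact Over.epi_of_epi_left p
  refine ⟨pullback q j, instP, i', p, inferInstance, inferInstance, hP.w,
    S16775.isMultTypeFT_of_extension' k p hkk hH hH' fun X a b => hP.hom_ext ?_ ?_, hcen⟩
  · rw [MonObj.mul_comp, MonObj.mul_comp]
    exact hcen X a (b ≫ i')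
  · rw [MonObj.mul_comp, MonObj.mul_comp]
    exact mul_comm_of_multTypeFT hH' (a ≫ p) (b ≫ p)

end Groth.Agent.SGA3cLib.CentralPreimage
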