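import Groth.Agent.SGA3cLib.CentralSubDescent
import Groth.Agent.Et18.Descent

/-! Descent of subgroups of multiplicative type determined by a universal property. -/

set_option linter.style.haveILetI false
set_option autoImplicit false
set_option backward.isDefEq.respectTransparency.types false

universe u

open CategoryTheory CategoryTheory.Limits MonoidalCategory CartesianMonoidalCategory MonObj AlgebraicGeometry

noncomputable section

namespace Groth.Agent.SGA3cLib.UnivSubDescent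

open BCPoints CentralDescent CentralSubDescent

section Reindex

variable {S S' T P : Scheme.{u}} (π : S' ⟶ S) (f : T ⟶ S) (a : P ⟶ S') (b : P ⟶ T) (hab : a ≫ π = b ≫ f)
  {G : Over S} {H : Over T} (v : H ⟶ Red.bc f G)

/-- A point of `H` above `b`, seen as a point of `G`. -/
def reVal (Y : Over P) (h : (Over.map b).obj Y ⟶ H) : (Over.map π).obj ((Over.map a).obj Y) ⟶ G :=
  Over.homMk ((pt f G _).symm (h ≫ v)).left (by
    refine (Over.w ((pt f G _).symm (h ≫ v))).trans ?_
    show (Y.hom ≫ b) ≫ f = (Y.hom ≫ a) ≫ π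
    rw [Category.assoc, Category.assoc, hab])

/-- The iso of the two ways of seeing an object above `S`. -/
def reIso (Y : Over P) : (Over.map π).obj ((Over.map a).obj Y) ⟶ (Over.map f).obj ((Over.map b).obj Y) :=
  Over.homMk (𝟙 _) (by
    show 𝟙 _ ≫ (Y.hom ≫ b) ≫ f = (Y.hom ≫ a) ≫ π
    rw [Category.id_comp, Category.assoc, Category.assoc, hab])

theorem reVal_eq (Y : Over P) (h : (Over.map b).obj Y ⟶ H) :
    reVal π f a b hab v Y h = reIso π f a b hab Y ≫ (pt f G _).symm (h ≫ v) :=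
  Over.OverMorphism.ext (Category.id_comp _).symm

/-- The homomorphism read after base change to a common refinement. -/
def reMap : Red.bc b H ⟶ Red.bc a (Red.bc π G) :=
  pt a (Red.bc π G) (Red.bc b H) (pt π G _ (reVal π f a b hab v _ ((pt b H _).symm (𝟙 _))))

theorem comp_reMap (Y : Over P) (h : (Over.map b).obj Y ⟶ H) :
    pt b H Y h ≫ reMap π f a b hab v = pt a (Red.bc π G) Y (pt π G _ (reVal π f a b hab v Y h)) := by
  rw [reMap, ← pt_map_comp, ← pt_map_comp]
  congr 2
  apply Over.OverMorphism.ext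
  have e : (Over.map b).map (pt b H Y h) ≫ (pt b H (Red.bc b H)).symm (𝟙 _) = h :=
    (pt b H Y).injective (by rw [pt_map_comp, Equiv.apply_symm_apply, Category.comp_id])
  have e2 : (pt f G _).symm (h ≫ v) = (Over.map f).map ((Over.map b).map (pt b H Y h)) ≫
      (pt f G _).symm ((pt b H (Red.bc b H)).symm (𝟙 _) ≫ v) :=
    (pt f G _).injective (by rw [pt_map_comp, Equiv.apply_symm_apply, Equiv.apply_symm_apply, ← Category.assoc, e])
  show (pt b H Y h).left ≫ ((pt f G _).symm ((pt b H (Red.bc b H)).symm (𝟙 _) ≫ v)).left = ((pt f G _).symm (h ≫ v)).left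
  rw [e2]
  rfl

theorem isMonHom_reMap [GrpObj G] [GrpObj H] [IsMonHom v] : IsMonHom (reMap π f a b hab v) :=
  isMonHom_of_mul _ fun Y x y => by
    obtain ⟨x, rfl⟩ := (pt b H Y).surjective x
    obtain ⟨y, rfl⟩ := (pt b H Y).surjective y
    rw [← pt_mul, comp_reMap, comp_reMap, comp_reMap, ← pt_mul, ← pt_mul]
    congr 2
    rw [reVal_eq, reVal_eq, reVal_eq, ← MonObj.comp_mul, MonObj.mul_comp]
    congr 1
    exact (pt f G _).injective (by rw [pt_mul, Equiv.apply_symm_apply, Equiv.apply_symm_apply, Equiv.apply_symm_apply])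

theorem central_reMap [GrpObj G] (hv : ∀ (X : Over T) (x : X ⟶ H) (g : X ⟶ Red.bc f G), (x ≫ v) * g = g * (x ≫ v))
    (Y : Over P) (h : Y ⟶ Red.bc b H) (g : Y ⟶ Red.bc a (Red.bc π G)) :
    (h ≫ reMap π f a b hab v) * g = g * (h ≫ reMap π f a b hab v) := by
  obtain ⟨h, rfl⟩ := (pt b H Y).surjective h
  obtain ⟨g, rfl⟩ := (pt a (Red.bc π G) Y).surjective g
  obtain ⟨g, rfl⟩ := (pt π G _).surjective g
  rw [comp_reMap, ← pt_mul, ← pt_mul, ← pt_mul, ← pt_mul]
  congr 2
  let g₁ : (Over.map f).obj ((Over.map b).obj Y) ⟶ G := Over.homMk g.left (by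
    refine (Over.w g).trans ?_
    show (Y.hom ≫ a) ≫ π = (Y.hom ≫ b) ≫ f
    rw [Category.assoc, Category.assoc, hab])
  have hg : g = reIso π f a b hab Y ≫ g₁ := Over.OverMorphism.ext (Category.id_comp _).symm
  rw [reVal_eq, hg, ← MonObj.comp_mul, ← MonObj.comp_mul]
  congr 1
  refine (pt f G _).injective ?_
  rw [pt_mul, pt_mul, Equiv.apply_symm_apply]
  exact hv _ _ _

/-- A factorisation of the re-read homomorphism moves points into the subgroup. -/
theorem exists_point {H' : Over S'} (j' : H' ⟶ Red.bc π G) (w : Red.bc b H ⟶ Red.bc a H')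
    (hw : w ≫ (Over.pullback a).map j' = reMap π f a b hab v) {Q : Scheme.{u}} (y : Q ⟶ P) (h : Q ⟶ H.left)
    (hh : h ≫ H.hom = y ≫ b) :
    ∃ h' : Q ⟶ H'.left, h' ≫ H'.hom = y ≫ a ∧ h' ≫ j0 π j' = h ≫ v.left ≫ pullback.fst G.hom f := by
  let Y : Over P := Over.mk y
  let h₁ : (Over.map b).obj Y ⟶ H := Over.homMk h hh
  let h' : (Over.map a).obj Y ⟶ H' := (pt a H' Y).symm (pt b H Y h₁ ≫ w)
  have e : h' ≫ j' = pt π G _ (reVal π f a b hab v Y h₁) := by
    apply (pt a (Red.bc π G) Y).injective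
    rw [pt_comp, Equiv.apply_symm_apply, Category.assoc, hw, comp_reMap]
  refine ⟨h'.left, Over.w h', ?_⟩
  rw [j0, ← Category.assoc, ← Over.comp_left, e, pt_left_fst]
  show ((pt f G _).symm (h₁ ≫ v)).left = _
  rw [← pt_left_fst f G _ ((pt f G _).symm (h₁ ≫ v)), Equiv.apply_symm_apply, Over.comp_left, Category.assoc]
  rfl

end Reindex

variable {S S' : Scheme.{u}} {G : Over S} (π : S' ⟶ S) {H' : Over S'} (j' : H' ⟶ Red.bc π G)

open Desc in
/-- A central subgroup of multiplicative type descends. -/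
theorem exists_desc_sub [GrpObj G] [GrpObj H'] [IsMonHom j'] [Mono j'.left] (hH : SGA3x.IsMultTypeFT H')
    (hπ : IsFpqcCov π)
    (hag : ∀ {T : Scheme.{u}} (a b : T ⟶ S') (_ : a ≫ π = b ≫ π) (v : T ⟶ H'.left) (_ : v ≫ H'.hom = a),
      ∃ w : T ⟶ H'.left, w ≫ H'.hom = b ∧ w ≫ j0 π j' = v ≫ j0 π j') :
    ∃ (H : Over S) (_ : GrpObj H) (j : H ⟶ G), IsMonHom j ∧ Mono j.left ∧ SGA3x.IsMultTypeFT H ∧
      ∃ φ : Red.bc π H ≅ H', φ.hom ≫ j' = (Over.pullback π).map j := by
  choose tr htr₁ htr₂ using @hag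
  let D : SchDDFam (fun _ : PUnit.{u + 1} => π) :=
    { obj := fun _ => H'
      φ := fun T i j x₀ x₁ h =>
        { toFun := fun v => ⟨tr x₀ x₁ h v.1 v.2, htr₁ x₀ x₁ h v.1 v.2⟩
          invFun := fun v => ⟨tr x₁ x₀ h.symm v.1 v.2, htr₁ x₁ x₀ h.symm v.1 v.2⟩
          left_inv := fun v => Subtype.ext (ext_j0 π j' _ _ ((htr₁ _ _ _ _ _).trans v.2.symm)
            ((htr₂ _ _ _ _ _).trans (htr₂ _ _ _ _ _)))
          right_inv := fun v => Subtype.ext (ext_j0 π j' _ _ ((htr₁ _ _ _ _ _).trans v.2.symm)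
            ((htr₂ _ _ _ _ _).trans (htr₂ _ _ _ _ _))) }
      φ_natural := fun T T' g i j x₀ x₁ h y₀ y₁ hy₀ hy₁ h' v v' hv' => by
        refine ext_j0 π j' _ _ ?_ ?_
        · show tr y₀ y₁ h' v'.1 v'.2 ≫ H'.hom = (g ≫ tr x₀ x₁ h v.1 v.2) ≫ H'.hom
          rw [htr₁, Category.assoc, htr₁, hy₁]
        · show tr y₀ y₁ h' v'.1 v'.2 ≫ j0 π j' = (g ≫ tr x₀ x₁ h v.1 v.2) ≫ j0 π j'
          rw [htr₂, Category.assoc, htr₂, hv', Category.assoc]
      φ_self := fun T i x v => Subtype.ext (ext_j0 π j' _ _ ((htr₁ _ _ _ _ _).trans v.2.symm) (htr₂ _ _ _ _ _))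
      φ_comp := fun T i j k x₀ x₁ x₂ h₀₁ h₁₂ v => Subtype.ext (ext_j0 π j' _ _
        ((htr₁ _ _ _ _ _).trans (htr₁ _ _ _ _ _).symm)
        ((htr₂ _ _ _ _ _).trans ((htr₂ _ _ _ _ _).trans (htr₂ _ _ _ _ _).symm))) }
  have hf : Presieve.ofArrows (fun _ : PUnit.{u + 1} => S') (fun _ => π) ∈ Scheme.fpqcPrecoverage S := by
    rw [Presieve.ofArrows_pUnit]
    exact hπ.singleton_mem
  haveI hHa := IsoTriv.SchemeBridge.isAffineHom_of_multTypeFT H' hH
  obtain ⟨E, ⟨e⟩⟩ := Desc19b.isEffective_of_isAffineHom hf D fun _ => hHa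
  let lh : pullback π E.hom ⟶ H'.left := (e.hom.hom PUnit.unit).left
  let li : H'.left ⟶ pullback π E.hom := (e.inv.hom PUnit.unit).left
  have hlh : lh ≫ H'.hom = pullback.fst π E.hom := Over.w (e.hom.hom PUnit.unit)
  have hli : li ≫ pullback.fst π E.hom = H'.hom := Over.w (e.inv.hom PUnit.unit)
  have hl : lh ≫ li = 𝟙 _ := by
    show (e.hom.hom PUnit.unit).left ≫ (e.inv.hom PUnit.unit).left = _
    rw [← Over.comp_left, ← SchDDFam.comp_hom, e.hom_inv_id]; rfl
  have hr : li ≫ lh = 𝟙 _ := by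
    show (e.inv.hom PUnit.unit).left ≫ (e.hom.hom PUnit.unit).left = _
    rw [← Over.comp_left, ← SchDDFam.comp_hom, e.inv_hom_id]; rfl
  have hcov : HasCovLift (pullback.snd π E.hom) := ⟨_, _, 𝟙 _, Category.id_comp _, hπ.pullback_snd E.hom⟩
  haveI := hcov.epi
  obtain ⟨u₀, hu₀⟩ := hcov.exists_desc (lh ≫ j0 π j') fun {T} a b hab => by
    have hx : (a ≫ pullback.fst π E.hom) ≫ π = (b ≫ pullback.fst π E.hom) ≫ π := by
      rw [Category.assoc, Category.assoc, pullback.condition, ← Category.assoc, hab, Category.assoc]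
    have h1 := e.hom.comm (i := PUnit.unit) (j := PUnit.unit) (a ≫ pullback.fst π E.hom)
      (b ≫ pullback.fst π E.hom) hx ⟨a, rfl⟩ ⟨a ≫ lh, by
        show (a ≫ lh) ≫ H'.hom = a ≫ pullback.fst π E.hom
        rw [Category.assoc, hlh]⟩ rfl
    have h2 : pullback.lift (b ≫ pullback.fst π E.hom) (a ≫ pullback.snd π E.hom)
        (by rw [Category.assoc, hab, pullback.condition, Category.assoc]) = b := by
      apply pullback.hom_ext
      · rw [pullback.lift_fst]
      · rw [pullback.lift_snd, hab]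
    have h3 : tr (a ≫ pullback.fst π E.hom) (b ≫ pullback.fst π E.hom) hx (a ≫ lh)
        (by rw [Category.assoc, hlh]) = b ≫ lh := h1.trans (congrArg (· ≫ lh) h2)
    rw [← Category.assoc, ← Category.assoc, ← h3, htr₂]
  let j : E ⟶ G := Over.homMk u₀ (by
    rw [← cancel_epi (pullback.snd π E.hom), reassoc_of% hu₀, j0_w, reassoc_of% hlh, pullback.condition])
  have hj : pullback.snd π E.hom ≫ j.left = lh ≫ j0 π j' := hu₀
  let c₀ : H'.left ⟶ E.left := li ≫ pullback.snd π E.hom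
  have hc₀ : c₀ ≫ j.left = j0 π j' := by
    show (li ≫ pullback.snd π E.hom) ≫ j.left = _
    rw [Category.assoc, hj, reassoc_of% hr]
  have hbig : IsPullback c₀ H'.hom E.hom π :=
    IsPullback.of_iso (IsPullback.of_hasPullback π E.hom).flip ⟨lh, li, hl, hr⟩ (Iso.refl _) (Iso.refl _) (Iso.refl _)
      (by show pullback.snd π E.hom ≫ 𝟙 _ = lh ≫ li ≫ pullback.snd π E.hom; rw [Category.comp_id, reassoc_of% hl])
      (by show pullback.fst π E.hom ≫ 𝟙 _ = lh ≫ H'.hom; rw [Category.comp_id, hlh])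
      (by simp) (by simp)
  have htop : IsPullback c₀ j'.left j.left (pullback.fst G.hom π) := by
    refine IsPullback.of_bot ?_ hc₀ (IsPullback.of_hasPullback G.hom π)
    have h1 : j'.left ≫ pullback.snd G.hom π = H'.hom := Over.w j'
    rw [h1, Over.w j]
    exact hbig
  have himm : Mono j.left := by
    have hq : IsFpqcCov (pullback.fst G.hom π) := by
      have h1 := hπ.pullback_snd G.hom
      rw [← pullbackSymmetry_hom_comp_snd]
      exact IsFpqcCov.comp h1 (IsFpqcCov.of_forall _ fun V hV =>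
        ⟨(pullbackSymmetry G.hom π).hom ⁻¹ᵁ V, (pullbackSymmetry G.hom π).hom.isCompact_preimage hV.isCompact,
          Set.image_preimage_eq _ (pullbackSymmetry G.hom π).hom.surjective⟩)
    haveI : MorphismProperty.DescendsAlong (MorphismProperty.monomorphisms Scheme.{u}) (@Surjective ⊓ @Flat ⊓ @QuasiCompact) :=
      Et18.descends_monomorphisms
    refine hq.descend (MorphismProperty.monomorphisms Scheme.{u}) j.left ?_
    show Mono (pullback.snd j.left (pullback.fst G.hom π))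
    rw [← htop.isoPullback_inv_snd]
    infer_instance
  haveI : Mono j := Over.mono_of_mono_left j
  -- a point of `G` lies in `E` as soon as it does after a covering
  have fac : ∀ (X : Over S) (x : X ⟶ G) (v : pullback π X.hom ⟶ H'.left),
      v ≫ j0 π j' = pullback.snd π X.hom ≫ x.left → ∃ z : X ⟶ E, z ≫ j = x := by
    intro X x v hv
    have hcX : HasCovLift (pullback.snd π X.hom) := ⟨_, _, 𝟙 _, Category.id_comp _, hπ.pullback_snd X.hom⟩
    haveI := hcX.epi
    obtain ⟨m, hm⟩ := hcX.exists_desc (v ≫ c₀) fun {T} a b hab => by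
      rw [← cancel_mono j.left]
      simp only [Category.assoc, hc₀, hv]
      rw [← Category.assoc, hab, Category.assoc]
    have hmj : m ≫ j.left = x.left := by
      rw [← cancel_epi (pullback.snd π X.hom), reassoc_of% hm, hc₀, hv]
    exact ⟨Over.homMk m (by rw [← Over.w j, ← Category.assoc, hmj, Over.w x]), Over.OverMorphism.ext hmj⟩
  have lifts : ∀ (X : Over S) (x : X ⟶ E),
      ∃ h : Over.mk (pullback.fst π X.hom) ⟶ H', val π j' (Over.mk (pullback.snd π X.hom ≫ X.hom))
        (pullback.fst π X.hom) pullback.condition h = Over.homMk (pullback.snd π X.hom) rfl ≫ x ≫ j := by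
    intro X x
    refine ⟨Over.homMk (hbig.lift (pullback.snd π X.hom ≫ x.left) (pullback.fst π X.hom)
      (by rw [Category.assoc, Over.w x, pullback.condition])) (hbig.lift_snd _ _ _), Over.OverMorphism.ext ?_⟩
    show hbig.lift _ _ _ ≫ j0 π j' = pullback.snd π X.hom ≫ x.left ≫ j.left
    rw [← hc₀, hbig.lift_fst_assoc, Category.assoc]
  -- group law
  obtain ⟨hE, hjm⟩ := exists_grpObj_of_subgroup j
    (fun X => fac X 1 ((1 : Over.mk (pullback.fst π X.hom) ⟶ H').left) (by
      have h1 : val π j' (Over.mk (pullback.snd π X.hom ≫ X.hom)) (pullback.fst π X.hom) pullback.condition 1 =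
          (1 : _ ⟶ G) := by
        have h2 := val_mul π j' (Over.mk (pullback.snd π X.hom ≫ X.hom)) (pullback.fst π X.hom) pullback.condition 1 1
        rw [_root_.one_mul] at h2
        exact left_eq_mul.mp h2
      have h3 := congrArg CommaMorphism.left (h1.trans
        (MonObj.comp_one (Over.homMk (pullback.snd π X.hom) rfl : Over.mk (pullback.snd π X.hom ≫ X.hom) ⟶ X)).symm)
      exact h3))
    (fun X a b => by
      obtain ⟨ha, hha⟩ := lifts X a
      obtain ⟨hb, hhb⟩ := lifts X b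
      refine fac X _ (ha * hb).left ?_
      have h1 := val_mul π j' (Over.mk (pullback.snd π X.hom ≫ X.hom)) (pullback.fst π X.hom) pullback.condition ha hb
      rw [hha, hhb, ← MonObj.comp_mul] at h1
      exact congrArg CommaMorphism.left h1)
    (fun X a => by
      obtain ⟨ha, hha⟩ := lifts X a
      refine fac X _ ha⁻¹.left ?_
      have h1 := val_mul π j' (Over.mk (pullback.snd π X.hom ≫ X.hom)) (pullback.fst π X.hom) pullback.condition ha ha⁻¹
      have h2 := val_mul π j' (Over.mk (pullback.snd π X.hom ≫ X.hom)) (pullback.fst π X.hom) pullback.condition 1 1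
      rw [_root_.one_mul] at h2
      rw [mul_inv_cancel, left_eq_mul.mp h2, eq_comm, mul_eq_one_iff_eq_inv', hha, ← GrpObj.comp_inv] at h1
      exact congrArg CommaMorphism.left h1)
  haveI := hjm
  -- the isomorphism
  let φ : Red.bc π E ≅ H' := Over.isoMk hbig.isoPullback.symm hbig.isoPullback_inv_snd
  have hφ : φ.hom ≫ j' = (Over.pullback π).map j := by
    apply Over.OverMorphism.ext
    show hbig.isoPullback.inv ≫ j'.left = ((Over.pullback π).map j).left
    apply pullback.hom_ext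
    · rw [MultHomLocus.map_left_fst, Category.assoc, show j'.left ≫ pullback.fst G.hom π = c₀ ≫ j.left from hc₀.symm,
        hbig.isoPullback_inv_fst_assoc]
    · rw [Category.assoc, show j'.left ≫ pullback.snd G.hom π = H'.hom from Over.w j', hbig.isoPullback_inv_snd]
      exact (Over.w ((Over.pullback π).map j)).symm
  haveI : Mono j' := Over.mono_of_mono_left j'
  haveI : IsMonHom φ.hom := isMonHom_of_mul φ.hom fun X x y => by
    rw [← cancel_mono j', Category.assoc, hφ, MonObj.mul_comp, MonObj.mul_comp, Category.assoc, hφ,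
      Category.assoc, hφ]
  refine ⟨E, hE, j, hjm, himm, ?_, φ, hφ⟩
  obtain ⟨Q, r, hrfl, hrs, hr, hU⟩ := hH
  haveI := hrfl
  have hcQ := hπ.comp (IsFpqcCov.of_forall r hr)
  refine ⟨Q, r ≫ π, hcQ.1, hcQ.surjective, fun V hV => forall_affine hcQ V hV, fun z => ?_⟩
  obtain ⟨U, hzU, M, hM, hMfg, ⟨i⟩⟩ := hU z
  refine ⟨U, hzU, M, hM, hMfg, ?_⟩
  obtain ⟨m⟩ := IsoTriv.SchemeSpec.nonempty_bc_congr (U.ι ≫ r) (Grp.mkIso φ (IsMonHom.one_hom _) (IsMonHom.mul_hom _) :
    Grp.mk (Red.bc π E) ≅ Grp.mk H')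
  let α := GrpBC.bcCongr π (U.ι ≫ r) (U.ι ≫ r ≫ π) (Category.assoc _ _ _)
  obtain ⟨h₁, h₂⟩ := GrpBC.isMonHom_app α E
  let a : Red.bc (U.ι ≫ r) (Red.bc π E) ≅ Red.bc (U.ι ≫ r ≫ π) E := α.app E
  haveI : IsMonHom a.hom := h₁
  exact ⟨(Grp.mkIso a (IsMonHom.one_hom _) (IsMonHom.mul_hom _)).symm ≪≫ m ≪≫ i⟩

end Groth.Agent.SGA3cLib.UnivSubDescent
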