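import Groth.Agent.SGA3cLib.DiagPoints
import Mathlib.AlgebraicGeometry.Morphisms.SchemeTheoreticallyDominant
import Mathlib.AlgebraicGeometry.Morphisms.Separated
import Mathlib.Algebra.Polynomial.Laurent
import Mathlib.RingTheory.Localization.FractionRing

/-! Rigidity of equivariant homomorphisms `Ga ⟶ G` relative to a big cell `pm · T · pp`. -/

set_option linter.style.haveILetI false
set_option linter.unusedSectionVars false
set_option autoImplicit false

universe u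

open CategoryTheory CategoryTheory.Limits MonoidalCategory CartesianMonoidalCategory MonObj AlgebraicGeometry
open scoped LaurentPolynomial
open Red

noncomputable section

namespace Groth.Agent.SGA3cLib

theorem isSchemeTheoreticallyDominant_SpecMap {A B : CommRingCat.{u}} (φ : A ⟶ B)
    (h : Function.Injective φ.hom) : IsSchemeTheoreticallyDominant (Spec.map φ) := by
  refine ⟨Scheme.IdealSheafData.ext_of_isAffine ?_⟩
  rw [Scheme.Hom.ker_apply, Scheme.IdealSheafData.ideal_bot]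
  show RingHom.ker (Spec.map φ).appTop.hom = ⊥
  rw [← RingHom.injective_iff_ker_eq_bot]
  have e : (Spec.map φ).appTop = (Scheme.ΓSpecIso A).hom ≫ φ ≫ (Scheme.ΓSpecIso B).inv := by
    rw [← Category.assoc, ← Scheme.ΓSpecIso_naturality, Category.assoc, Iso.hom_inv_id, Category.comp_id]
  rw [e]
  exact ((ConcreteCategory.bijective_of_isIso (Scheme.ΓSpecIso B).inv).1.comp h).comp
    (ConcreteCategory.bijective_of_isIso (Scheme.ΓSpecIso A).hom).1

variable {S : Scheme.{u}}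

theorem cancel_dominant {X₂ X₁ Z : Over S} [IsSeparated Z.hom] (j : X₂ ⟶ X₁)
    [IsSchemeTheoreticallyDominant j.left] (f g : X₁ ⟶ Z) (h : j ≫ f = j ≫ g) : f = g := by
  let E := equalizer f g
  let l : X₂ ⟶ E := equalizer.lift j h
  haveI : IsClosedImmersion (equalizer.ι f g).left := inferInstance
  have hker : (equalizer.ι f g).left.ker ≤ j.left.ker := by
    rw [← equalizer.lift_ι j h, Over.comp_left]
    exact Scheme.Hom.le_ker_comp _ _
  rw [j.left.ker_eq_bot] at hker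
  have hle : (equalizer.ι f g).left.ker ≤ (𝟙 X₁.left : X₁.left ⟶ X₁.left).ker := hker.trans bot_le
  let s := IsClosedImmersion.lift (equalizer.ι f g).left (𝟙 X₁.left) hle
  have hs : s ≫ (equalizer.ι f g).left = 𝟙 _ := IsClosedImmersion.lift_fac _ _ _
  refine Over.OverMorphism.ext ?_
  rw [← Category.id_comp f.left, ← Category.id_comp g.left, ← hs, Category.assoc, Category.assoc,
    ← Over.comp_left, ← Over.comp_left, equalizer.condition]

/-- An `X`-scheme `Spec B → X`, as an `S`-scheme. -/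
abbrev specOver {X : Over S} {B : CommRingCat.{u}} (b : Spec B ⟶ X.left) : Over S := Over.mk (b ≫ X.hom)

theorem exists_point {X₁ : Over S} (r : Γ(X₁.left, ⊤)) : ∃ x : X₁ ⟶ Ga S, gaFn x = r := exists_gaFn r

/-- A morphism out of `Ga ⊗ Ga` to a separated scheme is determined by its restriction to `Gm × Ga`. -/
theorem extend_unit {Z : Over S} [IsSeparated Z.hom] (f g : Ga S ⊗ Ga S ⟶ Z)
    (h : ∀ (X : Over S) (r x : X ⟶ Ga S), IsUnit (gaFn r) → lift r x ≫ f = lift r x ≫ g) : f = g := by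
  refine Over.OverMorphism.ext (Scheme.Cover.hom_ext (Ga S ⊗ Ga S).left.affineCover _ _ fun k => ?_)
  let ιk := (Ga S ⊗ Ga S).left.affineCover.f k
  let X : Over S := Over.mk (ιk ≫ (Ga S ⊗ Ga S).hom)
  let c : X ⟶ Ga S ⊗ Ga S := Over.homMk ιk rfl
  suffices c ≫ f = c ≫ g from congrArg CommaMorphism.left this
  haveI : IsAffine X.left := inferInstanceAs (IsAffine ((Ga S ⊗ Ga S).left.affineCover.X k))
  let R := Γ(X.left, ⊤)
  let φ₁ : R ⟶ CommRingCat.of (Polynomial R) := CommRingCat.ofHom Polynomial.C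
  let b₁ : Spec (CommRingCat.of (Polynomial R)) ⟶ X.left := Spec.map φ₁ ≫ X.left.isoSpec.inv
  let X₁ : Over S := specOver b₁
  let π : X₁ ⟶ X := Over.homMk b₁ rfl
  let φ₂ : CommRingCat.of (Polynomial R) ⟶ CommRingCat.of R[T;T⁻¹] := CommRingCat.ofHom Polynomial.toLaurent
  let X₂ : Over S := specOver (Spec.map φ₂ ≫ b₁)
  let j : X₂ ⟶ X₁ := Over.homMk (Spec.map φ₂) (Category.assoc _ _ _).symm
  haveI : IsSchemeTheoreticallyDominant j.left :=
    isSchemeTheoreticallyDominant_SpecMap φ₂ Polynomial.toLaurent_injective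
  obtain ⟨T', hT'⟩ := exists_gaFn (S := S) (X := X₁)
    ((Scheme.ΓSpecIso (CommRingCat.of (Polynomial R))).inv Polynomial.X)
  have hu : IsUnit (gaFn (j ≫ T')) := by
    rw [gaFn_comp, hT']
    have e : j.left.appTop ((Scheme.ΓSpecIso (CommRingCat.of (Polynomial R))).inv Polynomial.X) =
        (Scheme.ΓSpecIso (CommRingCat.of R[T;T⁻¹])).inv (φ₂ Polynomial.X) :=
      (congrArg (fun q => q.hom Polynomial.X) (Scheme.ΓSpecIso_inv_naturality φ₂)).symm
    rw [e]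
    refine IsUnit.map _ ?_
    show IsUnit (Polynomial.toLaurent Polynomial.X)
    rw [Polynomial.toLaurent_X]
    exact LaurentPolynomial.isUnit_T 1
  have h1 : lift T' (π ≫ c ≫ snd _ _) ≫ f = lift T' (π ≫ c ≫ snd _ _) ≫ g := by
    refine cancel_dominant j _ _ ?_
    rw [comp_lift_assoc, comp_lift_assoc]
    exact h X₂ _ _ hu
  let φ₀ : CommRingCat.of (Polynomial R) ⟶ R :=
    CommRingCat.ofHom (Polynomial.evalRingHom (gaFn (c ≫ fst _ _)))
  let s : X ⟶ X₁ := Over.homMk (X.left.isoSpec.hom ≫ Spec.map φ₀) (by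
    show (X.left.isoSpec.hom ≫ Spec.map φ₀) ≫ (Spec.map φ₁ ≫ X.left.isoSpec.inv) ≫ X.hom = X.hom
    have : φ₁ ≫ φ₀ = 𝟙 R := CommRingCat.hom_ext (RingHom.ext fun a => Polynomial.eval_C)
    simp only [Category.assoc]
    rw [← Spec.map_comp_assoc, this, Spec.map_id, Category.id_comp, Iso.hom_inv_id_assoc])
  have hsπ : s ≫ π = 𝟙 X := by
    refine Over.OverMorphism.ext ?_
    have : φ₁ ≫ φ₀ = 𝟙 R := CommRingCat.hom_ext (RingHom.ext fun a => Polynomial.eval_C)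
    show (X.left.isoSpec.hom ≫ Spec.map φ₀) ≫ Spec.map φ₁ ≫ X.left.isoSpec.inv = 𝟙 _
    simp only [Category.assoc]
    rw [← Spec.map_comp_assoc, this, Spec.map_id, Category.id_comp, Iso.hom_inv_id]
  have hsT : s ≫ T' = c ≫ fst _ _ := by
    refine gaFn_injective ?_
    rw [gaFn_comp, hT']
    show (X.left.isoSpec.hom ≫ Spec.map φ₀).appTop _ = _
    rw [Scheme.Hom.comp_appTop, CommRingCat.comp_apply]
    have e : (Spec.map φ₀).appTop ((Scheme.ΓSpecIso (CommRingCat.of (Polynomial R))).inv Polynomial.X) =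
        (Scheme.ΓSpecIso R).inv (φ₀ Polynomial.X) :=
      (congrArg (fun q => q.hom Polynomial.X) (Scheme.ΓSpecIso_inv_naturality φ₀)).symm
    rw [e, show φ₀ Polynomial.X = gaFn (c ≫ fst _ _) from Polynomial.eval_X]
    show X.left.toSpecΓ.appTop _ = _
    rw [Scheme.toSpecΓ_appTop, Iso.inv_hom_id_apply]
  have h2 := congrArg (s ≫ ·) h1
  simp only [← Category.assoc, comp_lift, hsT, hsπ, Category.id_comp] at h2
  rwa [← comp_lift c, lift_fst_snd, Category.comp_id] at h2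

variable {G T : Over S} [GrpObj G] [GrpObj T] {i : T ⟶ G} [IsMonHom i] {pp pm : Ga S ⟶ G}
  [IsMonHom pp] [IsMonHom pm] {α : T ⟶ Gm S}

variable (i pp pm) in
/-- The multiplication `Ga × T × Ga ⟶ G`. -/
abbrev cellHom : (Ga S ⊗ T) ⊗ Ga S ⟶ G := ((pm ⊗ₘ i) ⊗ₘ pp) ≫ (μ[G] ▷ G) ≫ μ[G]

theorem lift_cellHom {X : Over S} (a : X ⟶ Ga S) (t : X ⟶ T) (b : X ⟶ Ga S) :
    lift (lift a t) b ≫ cellHom i pp pm = (a ≫ pm) * (t ≫ i) * (b ≫ pp) := by
  simp only [cellHom, ← Category.assoc, lift_map, lift_whiskerRight]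
  rfl

theorem eq_cell {X : Over S} (v : X ⟶ (Ga S ⊗ T) ⊗ Ga S) :
    v ≫ cellHom i pp pm = ((v ≫ fst _ _ ≫ fst _ _) ≫ pm) * ((v ≫ fst _ _ ≫ snd _ _) ≫ i) *
      ((v ≫ snd _ _) ≫ pp) := by
  rw [← lift_cellHom]
  congr 1
  apply CartesianMonoidalCategory.hom_ext <;> simp
  apply CartesianMonoidalCategory.hom_ext <;> simp

variable (hΩ : IsOpenImmersion (cellHom i pp pm).left)
include hΩ

theorem cell_unique {X : Over S} {a a' : X ⟶ Ga S} {t t' : X ⟶ T} {b b' : X ⟶ Ga S}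
    (h : (a ≫ pm) * (t ≫ i) * (b ≫ pp) = (a' ≫ pm) * (t' ≫ i) * (b' ≫ pp)) : a = a' ∧ t = t' ∧ b = b' := by
  rw [← lift_cellHom, ← lift_cellHom] at h
  haveI : Mono (cellHom i pp pm) := (Over.forget S).mono_of_mono_map
    (inferInstanceAs (Mono (cellHom i pp pm).left))
  have e := (cancel_mono (cellHom i pp pm)).mp h
  have e1 := congrArg (· ≫ fst _ _) e
  have e2 := congrArg (· ≫ snd _ _) e
  simp only [lift_fst, lift_snd] at e1 e2
  have e11 := congrArg (· ≫ fst _ _) e1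
  have e12 := congrArg (· ≫ snd _ _) e1
  simp only [lift_fst, lift_snd] at e11 e12
  exact ⟨e11, e12, e2⟩

theorem exists_cell {X : Over S} (g : X ⟶ G)
    (hg : Set.range g.left.base ⊆ Set.range (cellHom i pp pm).left.base) :
    ∃ (a : X ⟶ Ga S) (t : X ⟶ T) (b : X ⟶ Ga S), g = (a ≫ pm) * (t ≫ i) * (b ≫ pp) := by
  haveI := hΩ
  let v : X ⟶ (Ga S ⊗ T) ⊗ Ga S := Over.homMk (IsOpenImmersion.lift (cellHom i pp pm).left g.left hg) (by
    rw [← Over.w (cellHom i pp pm), IsOpenImmersion.lift_fac_assoc, Over.w g])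
  exact ⟨_, _, _, (Over.OverMorphism.ext (IsOpenImmersion.lift_fac _ _ _).symm : g = v ≫ cellHom i pp pm).trans
    (eq_cell v)⟩

omit hΩ in
theorem cell_range {X : Over S} (a : X ⟶ Ga S) (t : X ⟶ T) (b : X ⟶ Ga S) :
    Set.range ((a ≫ pm) * (t ≫ i) * (b ≫ pp)).left.base ⊆ Set.range (cellHom i pp pm).left.base := by
  rw [← lift_cellHom, Over.comp_left]
  rintro _ ⟨x, rfl⟩
  exact ⟨_, rfl⟩

variable (hpp : ∀ (X : Over S) (t : X ⟶ T) (x : X ⟶ Ga S), ∃ x' : X ⟶ Ga S,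
    x' ≫ pp = (t ≫ i) * (x ≫ pp) * (t ≫ i)⁻¹ ∧ gaFn x' = gmFn (t ≫ α) * gaFn x)
  (hpm : ∀ (X : Over S) (t : X ⟶ T) (y : X ⟶ Ga S), ∃ y' : X ⟶ Ga S,
    y' ≫ pm = (t ≫ i) * (y ≫ pm) * (t ≫ i)⁻¹ ∧ gaFn y' * gmFn (t ≫ α) = gaFn y)
  (hcomm : ∀ (X : Over S) (t t' : X ⟶ T), t * t' = t' * t)
  [IsSeparated T.hom]
include hpp hpm hcomm

/-- A homomorphism `p : Ga ⟶ G` on which `T` acts through `α ^ q` (tested on a covering) is `x ↦ pp (ν x ^ q)`. -/
theorem exists_coeff (q : ℕ) (p : Ga S ⟶ G) [IsMonHom p]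
    (hsc : ∀ (X : Over S) (x x' : X ⟶ Ga S) (r : Γ(X.left, ⊤)), IsUnit r → gaFn x' = r * gaFn x →
      ∃ (X' : Over S) (π : X' ⟶ X) (t₀ : X' ⟶ T), Surjective π.left ∧ Epi π ∧
        gmFn (t₀ ≫ α) = π.left.appTop r ^ q ∧ π ≫ x' ≫ p = (t₀ ≫ i) * (π ≫ x ≫ p) * (t₀ ≫ i)⁻¹) :
    ∃ ν : 𝟙_ (Over S) ⟶ Ga S, ∀ (X : Over S) (x y : X ⟶ Ga S),
      gaFn y = gaFn (toUnit X ≫ ν) * gaFn x ^ q → x ≫ p = y ≫ pp := by
  have hconj : ∀ {X : Over S} (t₀ : X ⟶ T) (a : X ⟶ Ga S) (t : X ⟶ T) (b : X ⟶ Ga S),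
      ∃ a' b' : X ⟶ Ga S, gaFn a' * gmFn (t₀ ≫ α) = gaFn a ∧ gaFn b' = gmFn (t₀ ≫ α) * gaFn b ∧
      (t₀ ≫ i) * ((a ≫ pm) * (t ≫ i) * (b ≫ pp)) * (t₀ ≫ i)⁻¹ = (a' ≫ pm) * (t ≫ i) * (b' ≫ pp) := by
    intro X t₀ a t b
    obtain ⟨a', ha, ha'⟩ := hpm X t₀ a
    obtain ⟨b', hb, hb'⟩ := hpp X t₀ b
    refine ⟨a', b', ha', hb', ?_⟩
    have hc : (t₀ ≫ i) * (t ≫ i) = (t ≫ i) * (t₀ ≫ i) := by
      rw [← MonObj.mul_comp t₀ t i, hcomm, MonObj.mul_comp t t₀ i]
    rw [ha, hb]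
    calc (t₀ ≫ i) * ((a ≫ pm) * (t ≫ i) * (b ≫ pp)) * (t₀ ≫ i)⁻¹
        = (t₀ ≫ i) * (a ≫ pm) * (t ≫ i) * (b ≫ pp) * (t₀ ≫ i)⁻¹ := by simp only [_root_.mul_assoc]
      _ = (t₀ ≫ i) * (a ≫ pm) * (t₀ ≫ i)⁻¹ * ((t₀ ≫ i) * (t ≫ i)) * (b ≫ pp) * (t₀ ≫ i)⁻¹ := by group
      _ = _ := by rw [hc]; simp only [_root_.mul_assoc]
  let R : Set G.left := Set.range (cellHom i pp pm).left.base
  have hscale : ∀ {X : Over S} (x x' : X ⟶ Ga S) (r : Γ(X.left, ⊤)), IsUnit r → gaFn x' = r * gaFn x →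
      Set.range (x ≫ p).left.base ⊆ R → Set.range (x' ≫ p).left.base ⊆ R := by
    intro X x x' r hr hx hin
    obtain ⟨X', π, t₀, hπ, -, -, he⟩ := hsc X x x' r hr hx
    obtain ⟨a, t, b, hab⟩ := exists_cell hΩ (x ≫ p) hin
    obtain ⟨a', b', -, -, hc⟩ := hconj t₀ (π ≫ a) (π ≫ t) (π ≫ b)
    have he' : π ≫ x' ≫ p = (a' ≫ pm) * ((π ≫ t) ≫ i) * (b' ≫ pp) := by
      rw [← hc, he, hab]
      simp only [MonObj.comp_mul, Category.assoc]
    rintro _ ⟨z, rfl⟩
    obtain ⟨z', rfl⟩ := π.left.surjective z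
    exact cell_range a' (π ≫ t) b' (he' ▸ ⟨z', rfl⟩)
  have hzero : ∀ {X : Over S} (x : X ⟶ Ga S), x = 1 → Set.range (x ≫ p).left.base ⊆ R := by
    rintro X x rfl
    have h1 := cell_range (i := i) (pp := pp) (pm := pm) (1 : X ⟶ Ga S) 1 1
    rw [MonObj.one_comp, MonObj.one_comp, MonObj.one_comp, _root_.one_mul, _root_.one_mul] at h1
    rwa [MonObj.one_comp]
  -- everything lies in the cell
  have hall : Set.range ((𝟙 (Ga S)) ≫ p).left.base ⊆ R := by
    rw [Category.id_comp]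
    rintro _ ⟨w, rfl⟩
    let K := (Ga S).left.residueField w
    let b : Spec K ⟶ (Ga S).left := (Ga S).left.fromSpecResidueField w
    let X : Over S := specOver b
    let x : X ⟶ Ga S := Over.homMk b rfl
    suffices Set.range (x ≫ p).left.base ⊆ R from
      this ⟨IsLocalRing.closedPoint K, congrArg p.left.base ((Ga S).left.fromSpecResidueField_apply w _)⟩
    let a : K := (Scheme.ΓSpecIso K).hom (gaFn x)
    have ha : gaFn x = (Scheme.ΓSpecIso K).inv a := (Iso.hom_inv_id_apply (Scheme.ΓSpecIso K) (gaFn x)).symm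
    by_cases ha0 : a = 0
    · refine hzero x (gaFn_injective ?_)
      rw [ha, ha0, map_zero, gaFn_one]
    let A := Polynomial K
    let F := FractionRing A
    let X₁ : Over S := specOver (X := X) (Spec.map (CommRingCat.ofHom (Polynomial.C : K →+* A)))
    let π₁ : X₁ ⟶ X := Over.homMk (Spec.map (CommRingCat.ofHom (Polynomial.C : K →+* A))) rfl
    let X₂ : Over S := specOver (X := X₁) (Spec.map (CommRingCat.ofHom (algebraMap A F)))
    let j : X₂ ⟶ X₁ := Over.homMk (Spec.map (CommRingCat.ofHom (algebraMap A F))) rfl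
    obtain ⟨xT, hxT⟩ := exists_gaFn (S := S) (X := X₁) ((Scheme.ΓSpecIso (CommRingCat.of A)).inv Polynomial.X)
    let s₀ : X ⟶ X₁ := Over.homMk (Spec.map (CommRingCat.ofHom (Polynomial.evalRingHom (0 : K)))) (by
      show Spec.map _ ≫ Spec.map _ ≫ X.hom = X.hom
      rw [← Spec.map_comp_assoc]
      erw [show CommRingCat.ofHom (Polynomial.C : K →+* A) ≫ CommRingCat.ofHom (Polynomial.evalRingHom (0 : K)) = 𝟙 K from
        CommRingCat.hom_ext (RingHom.ext fun k => Polynomial.eval_C)]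
      rw [Spec.map_id, Category.id_comp])
    have hval : ∀ {B C : CommRingCat.{u}} (φ : B ⟶ C) (v : B),
        (Spec.map φ).appTop ((Scheme.ΓSpecIso B).inv v) = (Scheme.ΓSpecIso C).inv (φ v) :=
      fun φ v => (congrArg (fun q => q.hom v) (Scheme.ΓSpecIso_inv_naturality φ)).symm
    have h0 : s₀ ≫ xT = 1 := gaFn_injective (by
      rw [gaFn_comp, hxT, gaFn_one]
      refine (hval (CommRingCat.ofHom (Polynomial.evalRingHom (0 : K))) Polynomial.X).trans ?_
      simp)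
    have hO : IsOpen ((xT ≫ p).left.base ⁻¹' R) :=
      ((cellHom i pp pm).left.isOpenEmbedding.isOpen_range).preimage (xT ≫ p).left.continuous
    have hne : ((xT ≫ p).left.base ⁻¹' R).Nonempty := by
      refine ⟨s₀.left.base (IsLocalRing.closedPoint K), hzero (s₀ ≫ xT) h0 ⟨IsLocalRing.closedPoint K, ?_⟩⟩
      rw [Category.assoc]
      rfl
    have hgen : Set.range (j ≫ xT ≫ p).left.base ⊆ R := by
      rintro _ ⟨z, rfl⟩
      obtain ⟨o, ho⟩ := hne
      refine (Specializes.mem_open ?_ hO ho : j.left.base z ∈ _)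
      have hz : (j.left.base z : PrimeSpectrum A).asIdeal = ⊥ := by
        show Ideal.comap (algebraMap A F) (z : PrimeSpectrum F).asIdeal = ⊥
        rw [(Ideal.eq_bot_or_top (z : PrimeSpectrum F).asIdeal).resolve_right (z : PrimeSpectrum F).isPrime.ne_top,
          ← RingHom.ker_eq_comap_bot, ← RingHom.injective_iff_ker_eq_bot]
        exact IsFractionRing.injective A F
      exact (PrimeSpectrum.le_iff_specializes (j.left.base z) o).mp
        (show (j.left.base z : PrimeSpectrum A).asIdeal ≤ (o : PrimeSpectrum A).asIdeal from hz ▸ bot_le)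
    -- scale the generic point to `a`
    let θ : K ⟶ CommRingCat.of F := CommRingCat.ofHom (Polynomial.C : K →+* A) ≫ CommRingCat.ofHom (algebraMap A F)
    have hX : algebraMap A F Polynomial.X ≠ 0 :=
      fun h => Polynomial.X_ne_zero (IsFractionRing.injective A F (h.trans (map_zero _).symm))
    obtain ⟨r, hr⟩ : ∃ r : F, r = θ a * (algebraMap A F Polynomial.X)⁻¹ := ⟨_, rfl⟩
    have hθa : θ a ≠ 0 := fun h => ha0 (θ.hom.injective (h.trans (map_zero _).symm))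
    have hin := hscale (j ≫ xT) (j ≫ π₁ ≫ x) ((Scheme.ΓSpecIso (CommRingCat.of F)).inv r)
      (IsUnit.map _ (isUnit_iff_ne_zero.mpr (hr ▸ mul_ne_zero hθa (inv_ne_zero hX)))) (by
        rw [gaFn_comp, gaFn_comp, gaFn_comp, hxT, ha]
        refine ((congrArg _ (hval _ _)).trans (hval _ _)).trans ?_
        refine Eq.trans ?_ (congrArg _ (hval _ _)).symm
        refine Eq.trans ?_ (map_mul (Scheme.ΓSpecIso (CommRingCat.of F)).inv.hom _ _)
        rw [hr]
        congr 1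
        show θ a = _
        rw [_root_.mul_assoc]
        erw [inv_mul_cancel₀ hX, _root_.mul_one]) hgen
    rintro _ ⟨z, rfl⟩
    haveI : Subsingleton (Spec K) := inferInstanceAs (Subsingleton (PrimeSpectrum K))
    obtain ⟨z₂⟩ : Nonempty X₂.left := inferInstanceAs (Nonempty (PrimeSpectrum F))
    refine hin ⟨z₂, ?_⟩
    rw [Category.assoc, Category.assoc, Over.comp_left, Over.comp_left, Scheme.Hom.comp_apply,
      Scheme.Hom.comp_apply]
    exact congrArg (x ≫ p).left.base (Subsingleton.elim (α := Spec K) _ z)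
  obtain ⟨a₀, t₀', b₀, h₀⟩ := exists_cell hΩ _ hall
  have hcell : ∀ {X : Over S} (x : X ⟶ Ga S),
      x ≫ p = ((x ≫ a₀) ≫ pm) * ((x ≫ t₀') ≫ i) * ((x ≫ b₀) ≫ pp) := by
    intro X x
    rw [← Category.id_comp p, h₀, MonObj.comp_mul, MonObj.comp_mul]
    simp only [Category.assoc]
  -- the equations on units
  have hunit : ∀ {X : Over S} (r x x' : X ⟶ Ga S), IsUnit (gaFn r) → gaFn x' = gaFn r * gaFn x →
      gaFn (x' ≫ a₀) * gaFn r ^ q = gaFn (x ≫ a₀) ∧ x' ≫ t₀' = x ≫ t₀' ∧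
        gaFn (x' ≫ b₀) = gaFn r ^ q * gaFn (x ≫ b₀) := by
    intro X r x x' hr hx
    obtain ⟨X', π, t, -, hπ, ht, he⟩ := hsc X x x' _ hr hx
    haveI := hπ
    obtain ⟨a', b', ha', hb', hc⟩ := hconj t (π ≫ x ≫ a₀) (π ≫ x ≫ t₀') (π ≫ x ≫ b₀)
    rw [hcell x', hcell x] at he
    simp only [MonObj.comp_mul, Category.assoc] at he hc
    rw [hc] at he
    simp only [← Category.assoc] at he
    obtain ⟨e1, e2, e3⟩ := cell_unique hΩ he
    obtain ⟨ya, hya⟩ := exists_gaFn (S := S) (gaFn (x' ≫ a₀) * gaFn r ^ q)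
    obtain ⟨yb, hyb⟩ := exists_gaFn (S := S) (gaFn r ^ q * gaFn (x ≫ b₀))
    refine ⟨?_, (cancel_epi π).mp (by simpa only [Category.assoc] using e2), ?_⟩
    · rw [← hya]
      refine congrArg gaFn ((cancel_epi π).mp (gaFn_injective ?_))
      rw [gaFn_comp π ya, hya, map_mul, map_pow, ← ht, ← gaFn_comp, ← Category.assoc π x', e1, ha']
    · rw [← hyb]
      refine congrArg gaFn ((cancel_epi π).mp (gaFn_injective ?_))
      rw [gaFn_comp π yb, hyb, map_mul, map_pow, ← ht, ← gaFn_comp, ← Category.assoc π x', e3, hb']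
  obtain ⟨mm, hmm⟩ := exists_gaFn (S := S) (gaFn (fst (Ga S) (Ga S)) * gaFn (snd (Ga S) (Ga S)))
  have hmm' : ∀ {X : Over S} (r x : X ⟶ Ga S), gaFn (lift r x ≫ mm) = gaFn r * gaFn x := by
    intro X r x
    rw [gaFn_comp, hmm, map_mul, ← gaFn_comp, ← gaFn_comp, lift_fst, lift_snd]
  obtain ⟨fa, hfa⟩ := exists_gaFn (S := S) (gaFn (mm ≫ a₀) * gaFn (fst (Ga S) (Ga S)) ^ q)
  obtain ⟨fb, hfb⟩ := exists_gaFn (S := S) (gaFn (fst (Ga S) (Ga S)) ^ q * gaFn (snd (Ga S) (Ga S) ≫ b₀))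
  haveI : IsSeparated (Ga S).hom := by
    refine MorphismProperty.pullback_snd (P := @IsSeparated) _ _ ?_
    haveI : IsAffineHom ((Spec (CommRingCat.of (SymmetricAlgebra (ULift.{u} ℤ) (ULift.{u} ℤ)))).asOver
        (Spec (CommRingCat.of (ULift.{u} ℤ)))).hom :=
      isAffineHom_of_isAffine (X := Spec (CommRingCat.of (SymmetricAlgebra (ULift.{u} ℤ) (ULift.{u} ℤ)))) _
    infer_instance
  have hfaE : fa = snd (Ga S) (Ga S) ≫ a₀ := extend_unit _ _ fun X r x hr => gaFn_injective (by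
    rw [gaFn_comp _ fa, hfa, map_mul, map_pow, ← gaFn_comp, ← gaFn_comp, lift_fst, lift_snd_assoc,
      ← Category.assoc]
    exact (hunit r x _ hr (hmm' r x)).1)
  have htE : mm ≫ t₀' = snd (Ga S) (Ga S) ≫ t₀' := extend_unit _ _ fun X r x hr => by
    rw [lift_snd_assoc, ← Category.assoc]
    exact (hunit r x _ hr (hmm' r x)).2.1
  have hfbE : mm ≫ b₀ = fb := extend_unit _ _ fun X r x hr => gaFn_injective (by
    rw [gaFn_comp _ fb, hfb, map_mul, map_pow, ← gaFn_comp, ← gaFn_comp, lift_fst, lift_snd_assoc,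
      ← Category.assoc]
    exact (hunit r x _ hr (hmm' r x)).2.2)
  have hEa : ∀ {X : Over S} (r x x' : X ⟶ Ga S), gaFn x' = gaFn r * gaFn x →
      gaFn (x' ≫ a₀) * gaFn r ^ q = gaFn (x ≫ a₀) := by
    intro X r x x' hx
    obtain rfl : x' = lift r x ≫ mm := gaFn_injective (hx.trans (hmm' r x).symm)
    have h := congrArg (fun f => gaFn (lift r x ≫ f)) hfaE
    simp only [lift_snd_assoc] at h
    rwa [gaFn_comp _ fa, hfa, map_mul, map_pow, ← gaFn_comp, ← gaFn_comp, lift_fst, ← Category.assoc] at h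
  have hEt : ∀ {X : Over S} (r x x' : X ⟶ Ga S), gaFn x' = gaFn r * gaFn x → x' ≫ t₀' = x ≫ t₀' := by
    intro X r x x' hx
    obtain rfl : x' = lift r x ≫ mm := gaFn_injective (hx.trans (hmm' r x).symm)
    rw [Category.assoc, htE, lift_snd_assoc]
  have hEb : ∀ {X : Over S} (r x x' : X ⟶ Ga S), gaFn x' = gaFn r * gaFn x →
      gaFn (x' ≫ b₀) = gaFn r ^ q * gaFn (x ≫ b₀) := by
    intro X r x x' hx
    obtain rfl : x' = lift r x ≫ mm := gaFn_injective (hx.trans (hmm' r x).symm)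
    rw [Category.assoc, hfbE, gaFn_comp, hfb, map_mul, map_pow, ← gaFn_comp, ← gaFn_comp, lift_fst,
      lift_snd_assoc]
  have h1 : ∀ (X : Over S), (1 : X ⟶ Ga S) ≫ a₀ = 1 ∧ (1 : X ⟶ Ga S) ≫ t₀' = 1 ∧ (1 : X ⟶ Ga S) ≫ b₀ = 1 := by
    intro X
    refine cell_unique hΩ (X := X) ?_
    rw [← hcell, MonObj.one_comp, MonObj.one_comp, MonObj.one_comp, MonObj.one_comp, _root_.one_mul,
      _root_.one_mul]
  obtain ⟨e₁, he₁⟩ := exists_gaFn (S := S) (X := 𝟙_ (Over S)) 1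
  refine ⟨e₁ ≫ b₀, fun X x y hy => ?_⟩
  obtain ⟨ha1, ht1, hb1⟩ := h1 X
  have hx1 : gaFn (1 : X ⟶ Ga S) = gaFn (1 : X ⟶ Ga S) * gaFn x := by rw [gaFn_one, zero_mul]
  have hax : x ≫ a₀ = 1 := gaFn_injective (by
    rw [← hEa 1 x 1 hx1, ha1, gaFn_one, zero_mul])
  have htx : x ≫ t₀' = 1 := by rw [← hEt 1 x 1 hx1, ht1]
  have hbx : x ≫ b₀ = y := gaFn_injective (by
    rw [hy, hEb x (toUnit X ≫ e₁) x (by rw [gaFn_comp, he₁, map_one, _root_.mul_one]), Category.assoc,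
      _root_.mul_comm])
  rw [hcell x, hax, htx, hbx, MonObj.one_comp, MonObj.one_comp, _root_.one_mul, _root_.one_mul]

end Groth.Agent.SGA3cLib
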