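import Groth.Agent.SGA3cLib.Bruhat

/-! Centralisers in rank one: of the coroot, and of the whole group. -/

set_option linter.style.haveILetI false
set_option linter.unusedSectionVars false
set_option autoImplicit false

universe u

open CategoryTheory CategoryTheory.Limits MonoidalCategory CartesianMonoidalCategory MonObj AlgebraicGeometry
open Red

noncomputable section

namespace Groth.Agent.SGA3cLib

variable {S : Scheme.{u}} {G T : Over S} [GrpObj G] [GrpObj T] {i : T ⟶ G} [IsMonHom i]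
  {α : T ⟶ Gm S} [IsMonHom α] {pp pm : Ga S ⟶ G} [IsMonHom pp] [IsMonHom pm]
  {av : Gm S ⟶ T} [IsMonHom av]

/-- Cell coordinates of an element fixed by conjugation under a point `s` of `T` with `α(s) - 1` invertible vanish. -/
theorem cell_eq_T_of_conj (hΩ : IsOpenImmersion (cellHom i pp pm).left)
    (hpp : ∀ (X : Over S) (t : X ⟶ T) (x : X ⟶ Ga S), ∃ x' : X ⟶ Ga S,
      x' ≫ pp = (t ≫ i) * (x ≫ pp) * (t ≫ i)⁻¹ ∧ gaFn x' = gmFn (t ≫ α) * gaFn x)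
    (hpm : ∀ (X : Over S) (t : X ⟶ T) (y : X ⟶ Ga S), ∃ y' : X ⟶ Ga S,
      y' ≫ pm = (t ≫ i) * (y ≫ pm) * (t ≫ i)⁻¹ ∧ gaFn y' * gmFn (t ≫ α) = gaFn y)
    (hcomm : ∀ (X : Over S) (t t' : X ⟶ T), t * t' = t' * t)
    {X : Over S} {a b : X ⟶ Ga S} {t : X ⟶ T} (s : X ⟶ T) (hs : IsUnit (gmFn (s ≫ α) - 1))
    (h : (s ≫ i) * ((a ≫ pm) * (t ≫ i) * (b ≫ pp)) = ((a ≫ pm) * (t ≫ i) * (b ≫ pp)) * (s ≫ i)) :
    a = 1 ∧ b = 1 := by
  obtain ⟨a', ha, ha'⟩ := hpm X s a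
  obtain ⟨b', hb, hb'⟩ := hpp X s b
  have hc : (s ≫ i) * (t ≫ i) * (s ≫ i)⁻¹ = t ≫ i := by
    rw [← MonObj.mul_comp s t i, hcomm, MonObj.mul_comp t s i, mul_inv_cancel_right]
  have he : (a' ≫ pm) * (t ≫ i) * (b' ≫ pp) = (a ≫ pm) * (t ≫ i) * (b ≫ pp) := by
    rw [ha, hb]
    calc _ = (s ≫ i) * (a ≫ pm) * (s ≫ i)⁻¹ * ((s ≫ i) * (t ≫ i) * (s ≫ i)⁻¹) *
            ((s ≫ i) * (b ≫ pp) * (s ≫ i)⁻¹) := by rw [hc]
      _ = (s ≫ i) * ((a ≫ pm) * (t ≫ i) * (b ≫ pp)) * (s ≫ i)⁻¹ := by group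
      _ = _ := by rw [h]; group
  obtain ⟨e1, -, e3⟩ := cell_unique hΩ he
  constructor
  · refine gaFn_injective ?_
    rw [gaFn_one]
    rw [e1] at ha'
    exact hs.mul_right_eq_zero.mp (show (gmFn (s ≫ α) - 1) * gaFn a = 0 by linear_combination ha')
  · refine gaFn_injective ?_
    rw [gaFn_one]
    rw [e3] at hb'
    exact hs.mul_right_eq_zero.mp (show (gmFn (s ≫ α) - 1) * gaFn b = 0 by linear_combination -hb')

theorem exists_unit_pow_ne_one (K : Type u) [Field K] [IsAlgClosed K] {m : ℕ} (hm : m ≠ 0) :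
    ∃ r : Γ(Spec (CommRingCat.of K), ⊤), IsUnit r ∧ r ^ m ≠ 1 := by
  classical
  let P : Polynomial K := Polynomial.X ^ (m + 1) - Polynomial.X
  have hP : P ≠ 0 := by
    intro h
    have := congrArg (Polynomial.coeff · 1) h
    simp [P, hm] at this
  obtain ⟨ζ, hζ⟩ := Infinite.exists_notMem_finset P.roots.toFinset
  rw [Multiset.mem_toFinset, Polynomial.mem_roots hP] at hζ
  have hζ' : ζ ^ (m + 1) ≠ ζ := fun h => hζ (by simp [P, h])
  have h0 : ζ ≠ 0 := fun h => hζ' (by rw [h, zero_pow (Nat.succ_ne_zero m)])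
  refine ⟨(Scheme.ΓSpecIso (CommRingCat.of K)).inv ζ, (isUnit_iff_ne_zero.mpr h0).map _, fun h => hζ' ?_⟩
  rw [← map_pow, ← map_one (Scheme.ΓSpecIso (CommRingCat.of K)).inv.hom] at h
  rw [pow_succ, (ConcreteCategory.bijective_of_isIso (Scheme.ΓSpecIso (CommRingCat.of K)).inv).1 h,
    _root_.one_mul]

namespace SL2Rel

variable (H : SL2Rel i α pp pm av)
include H

/-- An element commuting with the `n`-th powers of the coroot lies in the big cell. -/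
theorem range_subset_cell_of_commute [Mono i] (hG : Red.IsReductive G)
    (hΩ : IsOpenImmersion (cellHom i pp pm).left) (n : ℤ) (hn : n ≠ 0) {X : Over S} (g : X ⟶ G)
    (hcent : ∀ (X' : Over S) (y : X' ⟶ X) (z : X' ⟶ Gm S),
      (y ≫ g) * (((z ≫ av) ^ n) ≫ i) = (((z ≫ av) ^ n) ≫ i) * (y ≫ g)) :
    Set.range g.left.base ⊆ Set.range (cellHom i pp pm).left.base := by
  rintro _ ⟨w, rfl⟩
  let K := AlgebraicClosure (X.left.residueField w)
  let k₀ : Spec (CommRingCat.of K) ⟶ X.left :=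
    Spec.map (CommRingCat.ofHom (algebraMap (X.left.residueField w) K)) ≫ X.left.fromSpecResidueField w
  let X₀ : Over S := Over.mk (k₀ ≫ X.hom)
  let k : X₀ ⟶ X := Over.homMk k₀ rfl
  obtain ⟨o, ho⟩ := exists_gaFn (S := S) (X := X₀) 1
  obtain ⟨o', ho'⟩ := exists_gaFn (S := S) (X := X₀) (-1)
  have hbr : Br i pp (SL2Rel.w pp pm o o') (k ≫ g) := bruhat H hG hΩ (k₀ ≫ X.hom) ho ho' (k ≫ g)
  obtain ⟨r, hr, hr1⟩ := exists_unit_pow_ne_one K (m := 4 * n.natAbs) (by omega)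
  obtain ⟨z, hz⟩ := exists_gmFn (S := S) (X := X₀) hr
  have hu : gmFn (z ^ n) ^ 4 ≠ 1 := by
    intro h
    apply hr1
    have h1 : (z ^ n) ^ 4 = 1 := gmFn_injective (by rw [gmFn_pow, h, gmFn_one])
    have h2' : (z ^ 4) ^ n = 1 := by
      exact ((congrArg (· ^ n) (zpow_natCast z 4)).symm.trans ((_root_.zpow_mul z (4 : ℕ) n).symm.trans
        ((congrArg (z ^ ·) (_root_.mul_comm _ _)).trans ((_root_.zpow_mul z n (4 : ℕ)).trans (zpow_natCast _ 4))))).trans h1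
    have h2 : (z ^ 4) ^ n.natAbs = 1 := pow_natAbs_eq_one.mpr h2'
    have h3 := congrArg gmFn h2
    rwa [gmFn_pow, gmFn_pow, hz, gmFn_one, ← pow_mul] at h3
  obtain ⟨b, t, hbt⟩ := H.exists_formA_of_commute hΩ ho ho' hbr (z ^ n) hu (by
    rw [← Category.assoc (z ^ n), GrpObj.zpow_comp]
    exact hcent X₀ k z)
  obtain ⟨b', hb', -⟩ := H.hpp X₀ t⁻¹ b
  have hk : Set.range (k ≫ g).left.base ⊆ Set.range (cellHom i pp pm).left.base := by
    have e : (b ≫ pp) * (t ≫ i) = ((1 : X₀ ⟶ Ga S) ≫ pm) * (t ≫ i) * (b' ≫ pp) := by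
      rw [MonObj.one_comp, _root_.one_mul, hb', GrpObj.inv_comp]
      group
    rw [hbt, e]
    exact cell_range _ _ _
  have hw : k.left.base (IsLocalRing.closedPoint K) = w := X.left.fromSpecResidueField_apply w _
  rw [← hw]
  exact hk ⟨IsLocalRing.closedPoint K, rfl⟩

/-- The centraliser of the `n`-th powers of the coroot is `T`. -/
theorem exists_T_of_commute [Mono i] (hG : Red.IsReductive G)
    (hΩ : IsOpenImmersion (cellHom i pp pm).left) (hcomm : ∀ (X : Over S) (t t' : X ⟶ T), t * t' = t' * t)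
    (n : ℤ) (hn : n ≠ 0) {X : Over S} (g : X ⟶ G)
    (hcent : ∀ (X' : Over S) (y : X' ⟶ X) (z : X' ⟶ Gm S),
      (y ≫ g) * (((z ≫ av) ^ n) ≫ i) = (((z ≫ av) ^ n) ≫ i) * (y ≫ g)) :
    ∃ t : X ⟶ T, t ≫ i = g := by
  obtain ⟨a, t, b, hab⟩ := exists_cell hΩ g (H.range_subset_cell_of_commute hG hΩ n hn g hcent)
  let m := n.natAbs
  have hm : m ≠ 0 := Int.natAbs_ne_zero.mpr hn
  rcases subsingleton_or_nontrivial Γ(X.left, ⊤) with hsub | hnt
  · exact ⟨t, by rw [hab, gaFn_injective (x := a) (y := 1) (Subsingleton.elim _ _),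
      gaFn_injective (x := b) (y := 1) (Subsingleton.elim _ _), MonObj.one_comp, MonObj.one_comp,
      _root_.mul_one, _root_.one_mul]⟩
  let Q : Polynomial Γ(X.left, ⊤) := Polynomial.X ^ (4 * m) - (Polynomial.X ^ (2 * m) + 1)
  have hdeg : (Polynomial.X ^ (2 * m) + 1 : Polynomial Γ(X.left, ⊤)).degree < ((4 * m : ℕ) : WithBot ℕ) := by
    rw [← Polynomial.C_1, Polynomial.degree_X_pow_add_C (by omega)]
    exact_mod_cast (by omega : 2 * m < 4 * m)
  have hQ : Q.Monic := Polynomial.monic_X_pow_sub hdeg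
  have hQd : Q.natDegree ≠ 0 := by
    have : Q.degree = ((4 * m : ℕ) : WithBot ℕ) := by
      rw [Polynomial.degree_sub_eq_left_of_degree_lt (by rwa [Polynomial.degree_X_pow]), Polynomial.degree_X_pow]
    rw [Polynomial.natDegree_eq_of_degree_eq_some this]
    omega
  obtain ⟨X', π, r, -, hπ, hr⟩ := exists_root_cover Q hQ hQd
  haveI := hπ
  simp only [Q, Polynomial.eval₂_sub, Polynomial.eval₂_add, Polynomial.eval₂_X_pow, Polynomial.eval₂_one] at hr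
  have hr' : r ^ (2 * m) * (r ^ (2 * m) - 1) = 1 := by
    rw [mul_sub, ← pow_add, _root_.mul_one]; linear_combination (norm := ring_nf) hr
  have hru : IsUnit r := (isUnit_pow_iff (by omega)).mp (IsUnit.of_mul_eq_one _ hr')
  obtain ⟨z, hz⟩ := exists_gmFn (S := S) hru
  have hs : IsUnit (gmFn (((z ^ n) ≫ av) ≫ α) - 1) := by
    rw [gmFn_av_α H]
    rcases Int.natAbs_eq n with h | h
    · rw [h, zpow_natCast, gmFn_pow, hz, ← pow_mul, _root_.mul_comm m 2]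
      exact IsUnit.of_mul_eq_one (r ^ (2 * m)) (by rw [_root_.mul_comm]; exact hr')
    · have hinv : gmFn (z ^ n) * r ^ m = 1 := by
        have e : z ^ n = (z ^ m)⁻¹ := by
          conv_lhs => rw [h]
          exact (_root_.zpow_neg z (m : ℤ)).trans (congrArg Inv.inv (zpow_natCast z m))
        rw [e, ← hz, ← gmFn_pow, gmFn_inv_mul]
      refine IsUnit.of_mul_eq_one (-(r ^ (4 * m))) ?_
      linear_combination hr' - (gmFn (z ^ n) * r ^ m + 1) * r ^ (2 * m) * hinv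
  have hcomm' := hcent X' π z
  rw [hab, MonObj.comp_mul, MonObj.comp_mul, ← GrpObj.zpow_comp z n av, ← Category.assoc π a, ← Category.assoc π t,
    ← Category.assoc π b] at hcomm'
  obtain ⟨ha, hb⟩ := cell_eq_T_of_conj hΩ H.hpp H.hpm hcomm ((z ^ n) ≫ av) hs hcomm'.symm
  refine ⟨t, ?_⟩
  rw [hab, (cancel_epi π).mp (ha.trans (MonObj.comp_one π).symm),
    (cancel_epi π).mp (hb.trans (MonObj.comp_one π).symm), MonObj.one_comp, MonObj.one_comp, _root_.mul_one,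
    _root_.one_mul]

end SL2Rel

/-- A central element lies in the big cell. -/
theorem range_subset_cell_of_central (hG : Red.IsReductive G) (hΩ : IsOpenImmersion (cellHom i pp pm).left)
    (hpp : ∀ (X : Over S) (t : X ⟶ T) (x : X ⟶ Ga S), ∃ x' : X ⟶ Ga S,
      x' ≫ pp = (t ≫ i) * (x ≫ pp) * (t ≫ i)⁻¹ ∧ gaFn x' = gmFn (t ≫ α) * gaFn x)
    {X : Over S} (g : X ⟶ G) (hg : ∀ (X' : Over S) (x : X' ⟶ X) (k : X' ⟶ G), (x ≫ g) * k = k * (x ≫ g)) :
    Set.range g.left.base ⊆ Set.range (cellHom i pp pm).left.base := by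
  rintro _ ⟨w, rfl⟩
  let K := AlgebraicClosure (X.left.residueField w)
  let k₀ : Spec (CommRingCat.of K) ⟶ X.left :=
    Spec.map (CommRingCat.ofHom (algebraMap (X.left.residueField w) K)) ≫ X.left.fromSpecResidueField w
  let X₀ : Over S := Over.mk (k₀ ≫ X.hom)
  let k : X₀ ⟶ X := Over.homMk k₀ rfl
  obtain ⟨h, hh₁, hh₂⟩ := exists_cell_ratio hG hΩ (k₀ ≫ X.hom) (k ≫ g : X₀ ⟶ G)
  obtain ⟨a, t, b, e₁⟩ := exists_cell hΩ h hh₁
  obtain ⟨a', t', b', e₂⟩ := exists_cell hΩ ((k ≫ g : X₀ ⟶ G) * h) hh₂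
  obtain ⟨c, hc⟩ : ∃ c : X₀ ⟶ Ga S, (b' ≫ pp) * (b ≫ pp)⁻¹ = c ≫ pp :=
    ⟨b' * b⁻¹, by rw [MonObj.mul_comp b' (b⁻¹) pp, GrpObj.inv_comp]⟩
  obtain ⟨c', hc', -⟩ : ∃ c' : X₀ ⟶ Ga S, (c' ≫ pp = (t ≫ i) * (c ≫ pp) * (t ≫ i)⁻¹) ∧ True := by
    obtain ⟨c', h, -⟩ := hpp X₀ t c
    exact ⟨c', h, trivial⟩
  have hk : Set.range (k ≫ g).left.base ⊆ Set.range (cellHom i pp pm).left.base := by
    have hcen : (k ≫ g) * (a ≫ pm) = (a ≫ pm) * (k ≫ g) := hg X₀ k (a ≫ pm)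
    have e : k ≫ g = ((a⁻¹ * a') ≫ pm) * ((t' * t⁻¹) ≫ i) * (c' ≫ pp) := by
      rw [MonObj.mul_comp (a⁻¹) a' pm, MonObj.mul_comp t' (t⁻¹) i, GrpObj.inv_comp, GrpObj.inv_comp, hc', ← hc]
      calc k ≫ g = (a ≫ pm)⁻¹ * ((k ≫ g) * (a ≫ pm)) := by rw [hcen]; group
        _ = (a ≫ pm)⁻¹ * (((k ≫ g) * h) * (b ≫ pp)⁻¹ * (t ≫ i)⁻¹) := by rw [e₁]; group
        _ = _ := by rw [e₂]; group
    rw [e]
    exact cell_range _ _ _
  have hw : k.left.base (IsLocalRing.closedPoint K) = w := X.left.fromSpecResidueField_apply w _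
  rw [← hw]
  exact hk ⟨IsLocalRing.closedPoint K, rfl⟩

end Groth.Agent.SGA3cLib
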