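import Groth.Agent.SGA3cLib.DiagPoints
import Mathlib.RingTheory.AdjoinRoot
import Mathlib.AlgebraicGeometry.Morphisms.Flat
import Mathlib.RingTheory.Flat.FaithfullyFlat.Basic

/-! Relations in a group with two additive one-parameter subgroups satisfying the rank one formula (SGA3 XX). -/

set_option linter.style.haveILetI false
set_option autoImplicit false

universe u

open CategoryTheory MonoidalCategory CartesianMonoidalCategory MonObj GrpObj AlgebraicGeometry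
open Red

noncomputable section

namespace Groth.Agent.SGA3cLib

variable {S : Scheme.{u}} {G T : Over S} [GrpObj G] [GrpObj T]

/-- The hypotheses: `T` acts on `pp`, `pm` through `α`, `α⁻¹`, and the rank one formula holds with coroot `av`. -/
structure SL2Rel (i : T ⟶ G) (α : T ⟶ Gm S) (pp pm : Ga S ⟶ G) (av : Gm S ⟶ T) : Prop where
  hpp : ∀ (X : Over S) (t : X ⟶ T) (x : X ⟶ Ga S), ∃ x' : X ⟶ Ga S,
    x' ≫ pp = (t ≫ i) * (x ≫ pp) * (t ≫ i)⁻¹ ∧ gaFn x' = gmFn (t ≫ α) * gaFn x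
  hpm : ∀ (X : Over S) (t : X ⟶ T) (y : X ⟶ Ga S), ∃ y' : X ⟶ Ga S,
    y' ≫ pm = (t ≫ i) * (y ≫ pm) * (t ≫ i)⁻¹ ∧ gaFn y' * gmFn (t ≫ α) = gaFn y
  h2 : av ≫ α = (𝟙 (Gm S)) ^ 2
  hF : ∀ (X : Over S) (x y : X ⟶ Ga S), IsUnit (1 + gaFn x * gaFn y) →
    ∃ (x' y' : X ⟶ Ga S) (z : X ⟶ Gm S), gmFn z = 1 + gaFn x * gaFn y ∧
      gaFn x' * gmFn z = gaFn x ∧ gaFn y' * gmFn z = gaFn y ∧
      (x ≫ pp) * (y ≫ pm) = (y' ≫ pm) * (z ≫ av ≫ i) * (x' ≫ pp)

/-- A faithfully flat cover of `X` on which `(t - 1) * (t + 1 - q) + 1 = 0` has a solution. -/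
theorem exists_cover {X : Over S} (q : Γ(X.left, ⊤)) :
    ∃ (X' : Over S) (p : X' ⟶ X) (t : Γ(X'.left, ⊤)), Epi p ∧ IsUnit (1 - t) ∧
      IsUnit (t + 1 - p.left.appTop q) := by
  let R := Γ(X.left, ⊤)
  let P : Polynomial R := (Polynomial.X - Polynomial.C 1) * (Polynomial.X - Polynomial.C (q - 1)) + 1
  have hP : P.Monic := by
    rcases subsingleton_or_nontrivial R with h | h
    · exact Subsingleton.elim _ _
    refine ((Polynomial.monic_X_sub_C (1 : R)).mul (Polynomial.monic_X_sub_C (q - 1))).add_of_left ?_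
    rw [Polynomial.degree_one, Polynomial.degree_mul' (by rw [(Polynomial.monic_X_sub_C _).leadingCoeff, (Polynomial.monic_X_sub_C _).leadingCoeff, _root_.one_mul]; exact one_ne_zero), Polynomial.degree_X_sub_C,
      Polynomial.degree_X_sub_C]
    decide
  haveI := hP.free_adjoinRoot
  let φ : R ⟶ CommRingCat.of (AdjoinRoot P) := CommRingCat.ofHom (AdjoinRoot.of P)
  haveI : Flat (Spec.map φ) := by
    rw [Flat.SpecMap_iff]
    show (algebraMap R (AdjoinRoot P)).Flat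
    exact RingHom.flat_algebraMap_iff.mpr inferInstance
  haveI : Surjective (Spec.map φ) := by
    refine ⟨fun x => ?_⟩
    rcases subsingleton_or_nontrivial R with h | h
    · exact ((PrimeSpectrum.isEmpty_iff_subsingleton.mpr h).false x).elim
    have hdeg : P.degree = 2 := by
      have h2 : ((Polynomial.X - Polynomial.C (1 : R)) * (Polynomial.X - Polynomial.C (q - 1))).degree = 2 := by
        rw [Polynomial.degree_mul' (by rw [(Polynomial.monic_X_sub_C _).leadingCoeff, (Polynomial.monic_X_sub_C _).leadingCoeff, _root_.one_mul]; exact one_ne_zero), Polynomial.degree_X_sub_C, Polynomial.degree_X_sub_C]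
        rfl
      exact (Polynomial.degree_add_eq_left_of_degree_lt (by rw [Polynomial.degree_one, h2]; decide)).trans h2
    haveI : Nontrivial (AdjoinRoot P) :=
      nontrivial_of_ne _ _ ((AdjoinRoot.powerBasis' hP).basis.ne_zero
        ⟨0, by rw [AdjoinRoot.powerBasis'_dim, Polynomial.natDegree_eq_of_degree_eq_some (n := 2) hdeg]; omega⟩)
    haveI : Module.FaithfullyFlat R (AdjoinRoot P) := inferInstance
    exact PrimeSpectrum.comap_surjective_of_faithfullyFlat (A := R) (B := AdjoinRoot P) x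
  let X' := Limits.pullback X.left.toSpecΓ (Spec.map φ)
  let p := Limits.pullback.fst X.left.toSpecΓ (Spec.map φ)
  let ψ : AdjoinRoot P →+* Γ(X', ⊤) :=
    ((Scheme.ΓSpecIso (CommRingCat.of (AdjoinRoot P))).inv ≫
      (Limits.pullback.snd X.left.toSpecΓ (Spec.map φ)).appTop).hom
  have hψ : ∀ r : R, ψ (AdjoinRoot.of P r) = p.appTop r := by
    intro r
    have h := congrArg (fun f : X' ⟶ Spec R => ((Scheme.ΓSpecIso R).inv ≫ f.appTop).hom r)
      (Limits.pullback.condition (f := X.left.toSpecΓ) (g := Spec.map φ))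
    simp only [Scheme.Hom.comp_appTop] at h
    rw [Scheme.toSpecΓ_appTop, Iso.inv_hom_id_assoc, ← Category.assoc, ← Scheme.ΓSpecIso_inv_naturality,
      Category.assoc] at h
    exact h.symm
  refine ⟨Over.mk (p ≫ X.hom), Over.homMk p rfl, ψ (AdjoinRoot.root P), ?_, ?_⟩
  · haveI : Flat p := inferInstance
    haveI : Surjective p := inferInstance
    haveI : Epi p := Flat.epi_of_flat_of_surjective p
    exact (Over.forget S).epi_of_epi_map (f := Over.homMk (U := Over.mk (p ≫ X.hom)) (V := X) p rfl) ‹_›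
  have h0 : (ψ (AdjoinRoot.root P) - 1) * (ψ (AdjoinRoot.root P) - (p.appTop q - 1)) + 1 = 0 := by
    have h := congrArg ψ (AdjoinRoot.eval₂_root P)
    rw [map_zero] at h
    rw [← h]
    simp only [P, Polynomial.eval₂_add, Polynomial.eval₂_mul, Polynomial.eval₂_sub, Polynomial.eval₂_X,
      Polynomial.eval₂_C, Polynomial.eval₂_one, map_add, map_mul, map_sub, map_one]
    rw [hψ]
  constructor
  · exact IsUnit.of_mul_eq_one _ (show (1 - ψ (AdjoinRoot.root P)) *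
      (ψ (AdjoinRoot.root P) - (p.appTop q - 1)) = 1 by linear_combination -h0)
  · exact IsUnit.of_mul_eq_one _ (show (ψ (AdjoinRoot.root P) + 1 - p.appTop q) *
      (1 - ψ (AdjoinRoot.root P)) = 1 by linear_combination -h0)

namespace SL2Rel

variable {i : T ⟶ G} [IsMonHom i] {α : T ⟶ Gm S} [IsMonHom α] {pp pm : Ga S ⟶ G} [IsMonHom pp] [IsMonHom pm]
  {av : Gm S ⟶ T} [IsMonHom av] {X : Over S}

theorem conj_pp (H : SL2Rel i α pp pm av) (t : X ⟶ T) {x x' : X ⟶ Ga S}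
    (h : gaFn x' = gmFn (t ≫ α) * gaFn x) : (t ≫ i) * (x ≫ pp) * (t ≫ i)⁻¹ = x' ≫ pp := by
  obtain ⟨y, hy, hy'⟩ := H.hpp X t x
  rw [← hy, gaFn_injective (hy'.trans h.symm)]

theorem conj_pm (H : SL2Rel i α pp pm av) (t : X ⟶ T) {y y' : X ⟶ Ga S}
    (h : gaFn y' * gmFn (t ≫ α) = gaFn y) : (t ≫ i) * (y ≫ pm) * (t ≫ i)⁻¹ = y' ≫ pm := by
  obtain ⟨a, ha, ha'⟩ := H.hpm X t y
  rw [← ha, gaFn_injective ((isUnit_gmFn (t ≫ α)).mul_right_cancel (ha'.trans h.symm))]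

theorem gmFn_av_α (H : SL2Rel i α pp pm av) (z : X ⟶ Gm S) : gmFn ((z ≫ av) ≫ α) = gmFn z ^ 2 := by
  rw [Category.assoc, H.h2, MonObj.comp_pow, Category.comp_id, gmFn_pow]

theorem conj_h_pp (H : SL2Rel i α pp pm av) (z : X ⟶ Gm S) {x x' : X ⟶ Ga S}
    (h : gaFn x' = gmFn z ^ 2 * gaFn x) :
    (z ≫ av ≫ i) * (x ≫ pp) * (z ≫ av ≫ i)⁻¹ = x' ≫ pp := by
  have := H.conj_pp (z ≫ av) (x := x) (x' := x') (by rw [gmFn_av_α H]; exact h)
  rwa [Category.assoc] at this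

theorem conj_h_pm (H : SL2Rel i α pp pm av) (z : X ⟶ Gm S) {x x' : X ⟶ Ga S}
    (h : gaFn x' * gmFn z ^ 2 = gaFn x) :
    (z ≫ av ≫ i) * (x ≫ pm) * (z ≫ av ≫ i)⁻¹ = x' ≫ pm := by
  have := H.conj_pm (z ≫ av) (y := x) (y' := x') (by rw [gmFn_av_α H]; exact h)
  rwa [Category.assoc] at this

theorem add_pp {p : Ga S ⟶ G} [IsMonHom p] {a b c : X ⟶ Ga S} (h : gaFn c = gaFn a + gaFn b) :
    (a ≫ p) * (b ≫ p) = c ≫ p := by
  rw [← MonObj.mul_comp a b p, gaFn_injective (h.trans (gaFn_mul a b).symm)]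

/-- `w(x) = pp(x) pm(x') pp(x)`, where `x' = -1/x`. -/
abbrev w (pp pm : Ga S ⟶ G) (x x' : X ⟶ Ga S) : X ⟶ G := (x ≫ pp) * (x' ≫ pm) * (x ≫ pp)

omit [GrpObj T] in
theorem isUnit_of_pair {x x' : X ⟶ Ga S} (hx : gaFn x' * gaFn x = -1) : IsUnit (gaFn x) :=
  IsUnit.of_mul_eq_one (-gaFn x') (by linear_combination -hx)

/-- `w(x) w(y) = h(-x/y)`. -/
theorem w_mul_w (H : SL2Rel i α pp pm av) {x x' y y' : X ⟶ Ga S} (hx : gaFn x' * gaFn x = -1)
    (hy : gaFn y' * gaFn y = -1) (m : X ⟶ Gm S) (hm : gmFn m * gaFn y = -gaFn x) :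
    w pp pm x x' * w pp pm y y' = m ≫ av ≫ i := by
  obtain ⟨s, hs⟩ := exists_gaFn (S := S) (gaFn x + gaFn y)
  have hm' : gmFn m = 1 + gaFn s * gaFn y' := by
    apply (isUnit_of_pair hy).mul_right_cancel
    linear_combination hm - gaFn s * hy + hs
  obtain ⟨a, b, z, hz, ha, hb, he⟩ := H.hF X s y' (hm' ▸ isUnit_gmFn m)
  obtain rfl : z = m := gmFn_injective (hz.trans hm'.symm)
  have hb1 : (x' ≫ pm) * (b ≫ pm) = 1 := by
    rw [← MonObj.mul_comp x' b pm, gaFn_injective (x := x' * b) (y := 1) ?_, MonObj.one_comp]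
    rw [gaFn_mul, gaFn_one]
    refine ((isUnit_gmFn z).mul ((isUnit_of_pair hx).mul (isUnit_of_pair hy))).mul_left_eq_zero.mp ?_
    linear_combination gmFn z * gaFn y * hx + gaFn x * gaFn y * hb + gaFn x * hy - hm
  obtain ⟨c, hc⟩ := exists_gaFn (S := S) (gmFn z ^ 2 * (gaFn a + gaFn y))
  have h1 : (x ≫ pp) * (z ≫ av ≫ i) * ((a ≫ pp) * (y ≫ pp)) = z ≫ av ≫ i := by
    obtain ⟨d, hd⟩ := exists_gaFn (S := S) (gaFn a + gaFn y)
    rw [add_pp hd, _root_.mul_assoc, ← inv_mul_cancel_right ((z ≫ av ≫ i) * (d ≫ pp)) (z ≫ av ≫ i),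
      H.conj_h_pp z (x' := c) (by rw [hc, hd]), ← _root_.mul_assoc, ← MonObj.mul_comp x c pp,
      gaFn_injective (x := x * c) (y := 1) ?_, MonObj.one_comp, _root_.one_mul]
    rw [gaFn_mul, gaFn_one, hc]
    linear_combination gmFn z * ha + gmFn z * hs + (gmFn z + 1) * hm
  calc w pp pm x x' * w pp pm y y'
      = (x ≫ pp) * (x' ≫ pm) * (((x ≫ pp) * (y ≫ pp)) * (y' ≫ pm)) * (y ≫ pp) := by
        simp only [w, _root_.mul_assoc]
    _ = (x ≫ pp) * ((x' ≫ pm) * (b ≫ pm)) * (z ≫ av ≫ i) * ((a ≫ pp) * (y ≫ pp)) := by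
        rw [add_pp hs, he]; simp only [_root_.mul_assoc]
    _ = z ≫ av ≫ i := by rw [hb1, _root_.mul_one, h1]

theorem h_one {z : X ⟶ Gm S} (hz : gmFn z = 1) : z ≫ av ≫ i = 1 := by
  rw [gmFn_injective (hz.trans gmFn_one.symm), MonObj.one_comp]

theorem h_mul {z z' z'' : X ⟶ Gm S} (h : gmFn z'' = gmFn z * gmFn z') :
    z'' ≫ av ≫ i = (z ≫ av ≫ i) * (z' ≫ av ≫ i) := by
  rw [gmFn_injective (h.trans (gmFn_mul z z').symm), MonObj.mul_comp]

/-- `w(-x) = w(x)⁻¹`. -/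
theorem w_neg (H : SL2Rel i α pp pm av) {x x' nx nx' : X ⟶ Ga S} (hx : gaFn x' * gaFn x = -1)
    (hnx : gaFn nx = -gaFn x) (hnx' : gaFn nx' = -gaFn x') : w pp pm nx nx' = (w pp pm x x')⁻¹ := by
  refine eq_inv_of_mul_eq_one_right ?_
  rw [H.w_mul_w hx (by rw [hnx, hnx']; linear_combination hx) 1 (by rw [gmFn_one, hnx, _root_.one_mul]),
    h_one (gmFn_one)]

/-- `w(zx) = h(z) w(x)`. -/
theorem w_smul (H : SL2Rel i α pp pm av) {x x' y y' : X ⟶ Ga S} (hx : gaFn x' * gaFn x = -1)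
    (hy : gaFn y' * gaFn y = -1) (z : X ⟶ Gm S) (hz : gaFn y = gmFn z * gaFn x) :
    w pp pm y y' = (z ≫ av ≫ i) * w pp pm x x' ∧ w pp pm y y' = w pp pm x x' * (z ≫ av ≫ i)⁻¹ := by
  obtain ⟨nx, hnx⟩ := exists_gaFn (S := S) (-gaFn x)
  obtain ⟨nx', hnx'⟩ := exists_gaFn (S := S) (-gaFn x')
  have hn : gaFn nx' * gaFn nx = -1 := by rw [hnx, hnx']; linear_combination hx
  constructor
  · have := H.w_mul_w hy hn z (by rw [hnx, hz]; ring)
    rw [H.w_neg hx hnx hnx'] at this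
    exact (mul_inv_eq_iff_eq_mul.mp this)
  · obtain ⟨z', hz'⟩ := exists_gmFn (S := S) ((isUnit_gmFn z⁻¹))
    have hzz : z' = z⁻¹ := gmFn_injective hz'
    have := H.w_mul_w hn hy z⁻¹ (by
      rw [hnx, hz]; linear_combination gaFn x * gmFn_inv_mul z)
    rw [H.w_neg hx hnx hnx', GrpObj.inv_comp] at this
    exact inv_mul_eq_iff_eq_mul.mp this

/-- `w(x) t w(x)⁻¹ = t (av α t)⁻¹`. -/
theorem w_conj_T (H : SL2Rel i α pp pm av) {x x' : X ⟶ Ga S} (hx : gaFn x' * gaFn x = -1) (t : X ⟶ T) :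
    w pp pm x x' * (t ≫ i) * (w pp pm x x')⁻¹ = (t ≫ α ≫ av ≫ i)⁻¹ * (t ≫ i) := by
  obtain ⟨nx, hnx⟩ := exists_gaFn (S := S) (-gaFn x)
  obtain ⟨nx', hnx'⟩ := exists_gaFn (S := S) (-gaFn x')
  have hn : gaFn nx' * gaFn nx = -1 := by rw [hnx, hnx']; linear_combination hx
  obtain ⟨y, hy, hy'⟩ := H.hpp X t nx
  obtain ⟨y', hym, hym'⟩ := H.hpm X t nx'
  have hyy : gaFn y' * gaFn y = -1 := by
    rw [hy']; linear_combination gaFn nx * hym' + hn
  have h1 := (H.w_smul hn hyy (t ≫ α) hy').2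
  have h2 : w pp pm y y' = (t ≫ i) * w pp pm nx nx' * (t ≫ i)⁻¹ := by
    show (y ≫ pp) * (y' ≫ pm) * (y ≫ pp) = _
    rw [hy, hym]
    simp only [w]
    group
  rw [h2, H.w_neg hx hnx hnx'] at h1
  simp only [Category.assoc] at h1
  generalize hW : w pp pm x x' = W at h1 ⊢
  generalize t ≫ α ≫ av ≫ i = A at h1 ⊢
  generalize t ≫ i = B at h1 ⊢
  calc W * B * W⁻¹ = W * (B * W⁻¹ * B⁻¹) * B := by group
    _ = A⁻¹ * B := by rw [h1]; group

/-- `w(x) pp(c) w(x)⁻¹ = pm(c')` for `c = x q`, `1 + q` invertible, `c' = -c/x²`. -/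
theorem w_conj_pp_aux (H : SL2Rel i α pp pm av) {x x' c c' : X ⟶ Ga S} (hx : gaFn x' * gaFn x = -1)
    (hc : IsUnit (1 - gaFn x' * gaFn c)) (hc' : gaFn c' = -gaFn c * gaFn x' ^ 2) :
    w pp pm x x' * (c ≫ pp) = (c' ≫ pm) * w pp pm x x' := by
  obtain ⟨v, hv⟩ := hc.exists_left_inv
  -- split x' = s₁ + s₂
  obtain ⟨s₁, hs₁⟩ := exists_gaFn (S := S) (gaFn x' * gaFn x' * gaFn c * v * -1)
  obtain ⟨s₂, hs₂⟩ := exists_gaFn (S := S) (gaFn x' - gaFn s₁)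
  obtain ⟨t₂, ht₂⟩ := exists_gaFn (S := S) (gaFn x * (1 - gaFn x' * gaFn c))
  have hs2x : gaFn s₂ * gaFn t₂ = -1 := by
    rw [hs₂, ht₂, hs₁]
    linear_combination ((1 - gaFn x' * gaFn c) + gaFn x' * gaFn c * v * (1 - gaFn x' * gaFn c)) * hx
      - gaFn x' * gaFn c * hv
  have hU : IsUnit (1 + gaFn x * gaFn s₁) := by
    refine IsUnit.of_mul_eq_one (1 - gaFn x' * gaFn c) ?_
    rw [hs₁]
    linear_combination -(gaFn x' * gaFn c * (1 - gaFn x' * gaFn c) * v) * hx + gaFn x' * gaFn c * hv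
  obtain ⟨a, b, z, hz, ha, hb, he⟩ := H.hF X x s₁ hU
  obtain ⟨nt, hnt⟩ := exists_gaFn (S := S) (-gaFn t₂)
  obtain ⟨d, hd⟩ := exists_gaFn (S := S) (gaFn x + gaFn nt)
  have hzval : gmFn z * (1 - gaFn x' * gaFn c) = 1 := by
    rw [hz, hs₁]
    linear_combination -(gaFn x' * gaFn c * (1 - gaFn x' * gaFn c) * v) * hx + gaFn x' * gaFn c * hv
  have hat : a = t₂ := gaFn_injective ((isUnit_gmFn z).mul_right_cancel (by
    rw [ha, ht₂]; linear_combination -gaFn x * hzval))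
  subst hat
  have hw : (a ≫ pp) * (s₂ ≫ pm) = w pp pm a s₂ * (nt ≫ pp) := by
    show _ = (a ≫ pp) * (s₂ ≫ pm) * (a ≫ pp) * (nt ≫ pp)
    rw [_root_.mul_assoc ((a ≫ pp) * (s₂ ≫ pm)), ← MonObj.mul_comp a nt pp,
      gaFn_injective (x := a * nt) (y := 1) (by rw [gaFn_mul, gaFn_one, hnt]; ring), MonObj.one_comp,
      _root_.mul_one]
  obtain ⟨z', hz'⟩ := exists_gmFn (S := S) hc
  have hzw := (H.w_smul hx hs2x z' (by rw [ht₂, hz']; ring)).1
  have hzz : (z ≫ av ≫ i) * (z' ≫ av ≫ i) = 1 := by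
    rw [← h_mul (z'' := 1) (by rw [gmFn_one, hz', hzval]), h_one gmFn_one]
  have hx'2 : (x' ≫ pm) = (s₁ ≫ pm) * (s₂ ≫ pm) := by
    rw [← MonObj.mul_comp s₁ s₂ pm, gaFn_injective (x := s₁ * s₂) (y := x') (by rw [gaFn_mul, hs₂]; ring)]
  have key : w pp pm x x' = (b ≫ pm) * w pp pm x x' * (d ≫ pp) := by
    calc w pp pm x x' = ((x ≫ pp) * (s₁ ≫ pm)) * (s₂ ≫ pm) * (x ≫ pp) := by
          simp only [w, hx'2, _root_.mul_assoc]
      _ = (b ≫ pm) * (z ≫ av ≫ i) * ((a ≫ pp) * (s₂ ≫ pm)) * (x ≫ pp) := by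
          rw [he]; simp only [_root_.mul_assoc]
      _ = (b ≫ pm) * ((z ≫ av ≫ i) * (z' ≫ av ≫ i)) * w pp pm x x' * ((nt ≫ pp) * (x ≫ pp)) := by
          rw [hw, hzw]; simp only [_root_.mul_assoc]
      _ = _ := by
          rw [hzz, _root_.mul_one, add_pp (a := nt) (b := x) (c := d) (by rw [hd]; ring)]
  have hcd : (d ≫ pp) * (c ≫ pp) = 1 := by
    rw [← MonObj.mul_comp d c pp, gaFn_injective (x := d * c) (y := 1) ?_, MonObj.one_comp]
    rw [gaFn_mul, gaFn_one, hd, hnt, ht₂]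
    linear_combination gaFn c * hx
  have hbc : b = c' := gaFn_injective ((isUnit_gmFn z).mul_right_cancel (by
    rw [hb, hc', hs₁]
    linear_combination gaFn x' ^ 2 * gaFn c * v * hzval - gaFn x' ^ 2 * gaFn c * gmFn z * hv))
  subst hbc
  calc w pp pm x x' * (c ≫ pp) = (b ≫ pm) * w pp pm x x' * ((d ≫ pp) * (c ≫ pp)) := by
        conv_lhs => rw [key]
        simp only [_root_.mul_assoc]
    _ = _ := by rw [hcd, _root_.mul_one]

/-- `w(x) pp(c) w(x)⁻¹ = pm(-c/x²)`. -/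
theorem w_conj_pp (H : SL2Rel i α pp pm av) {x x' c c' : X ⟶ Ga S} (hx : gaFn x' * gaFn x = -1)
    (hc' : gaFn c' = -gaFn c * gaFn x' ^ 2) :
    w pp pm x x' * (c ≫ pp) * (w pp pm x x')⁻¹ = c' ≫ pm := by
  rw [mul_inv_eq_iff_eq_mul]
  obtain ⟨X', p, t, hp, ht1, ht2⟩ := exists_cover (gaFn x' * gaFn c)
  haveI := hp
  rw [← cancel_epi p]
  simp only [w, MonObj.comp_mul, ← Category.assoc]
  show w pp pm (p ≫ x) (p ≫ x') * ((p ≫ c) ≫ pp) = ((p ≫ c') ≫ pm) * w pp pm (p ≫ x) (p ≫ x')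
  have hx₁ : gaFn (p ≫ x') * gaFn (p ≫ x) = -1 := by
    rw [gaFn_comp, gaFn_comp, ← map_mul, hx, map_neg, map_one]
  obtain ⟨c₁, hc₁⟩ := exists_gaFn (S := S) (-(gaFn (p ≫ x) * t))
  obtain ⟨c₂, hc₂⟩ := exists_gaFn (S := S) (gaFn (p ≫ c) - gaFn c₁)
  obtain ⟨d₁, hd₁⟩ := exists_gaFn (S := S) (-gaFn c₁ * gaFn (p ≫ x') ^ 2)
  obtain ⟨d₂, hd₂⟩ := exists_gaFn (S := S) (-gaFn c₂ * gaFn (p ≫ x') ^ 2)
  have e1 := H.w_conj_pp_aux (c := c₁) (c' := d₁) hx₁ (by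
    convert ht1 using 1
    rw [hc₁]; linear_combination t * hx₁) hd₁
  have e2 := H.w_conj_pp_aux (c := c₂) (c' := d₂) hx₁ (by
    convert ht2 using 1
    rw [hc₂, hc₁, map_mul, ← gaFn_comp, ← gaFn_comp]
    linear_combination -t * hx₁) hd₂
  have hd : gaFn (p ≫ c') = gaFn d₁ + gaFn d₂ := by
    rw [gaFn_comp p c', hc', map_mul, map_neg, map_pow, ← gaFn_comp, ← gaFn_comp, hd₁, hd₂, hc₂]
    ring
  rw [← add_pp (p := pp) (a := c₁) (b := c₂) (c := p ≫ c) (by rw [hc₂]; ring),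
    ← add_pp (p := pm) (a := d₁) (b := d₂) (c := p ≫ c') hd, ← _root_.mul_assoc, e1, _root_.mul_assoc, e2,
    _root_.mul_assoc]

theorem w_conj_self (H : SL2Rel i α pp pm av) {x x' : X ⟶ Ga S} (hx : gaFn x' * gaFn x = -1) :
    w pp pm x x' * (x ≫ pp) * (w pp pm x x')⁻¹ = x' ≫ pm :=
  H.w_conj_pp hx (by linear_combination gaFn x' * hx)

theorem w_sq (H : SL2Rel i α pp pm av) {x x' : X ⟶ Ga S} (hx : gaFn x' * gaFn x = -1) (n : X ⟶ Gm S)
    (hn : gmFn n = -1) : w pp pm x x' ^ 2 = n ≫ av ≫ i := by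
  rw [pow_two]
  exact H.w_mul_w hx hx n (by rw [hn]; ring)

theorem w_sq_comm (H : SL2Rel i α pp pm av) {x x' : X ⟶ Ga S} (hx : gaFn x' * gaFn x = -1) :
    w pp pm x x' ^ 2 * (x ≫ pp) = (x ≫ pp) * w pp pm x x' ^ 2 := by
  obtain ⟨n, hn⟩ := exists_gmFn (S := S) (X := X) (r := -1) isUnit_one.neg
  rw [H.w_sq hx n hn, ← mul_inv_eq_iff_eq_mul, H.conj_h_pp n (x' := x) (by rw [hn]; ring)]

/-- `w(x) = pm(x') pp(x) pm(x')`. -/
theorem w_eq_flip (H : SL2Rel i α pp pm av) {x x' : X ⟶ Ga S} (hx : gaFn x' * gaFn x = -1) :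
    w pp pm x x' = (x' ≫ pm) * (x ≫ pp) * (x' ≫ pm) := by
  have hb := H.w_conj_self hx
  have hs := H.w_sq_comm hx
  rw [pow_two] at hs
  have hdef : w pp pm x x' = (x ≫ pp) * (x' ≫ pm) * (x ≫ pp) := rfl
  generalize hW : w pp pm x x' = W at hb hs hdef ⊢
  generalize x ≫ pp = a at hb hs hdef ⊢
  generalize x' ≫ pm = b at hb hdef ⊢
  have h1 : W * b * W⁻¹ = a := by
    rw [← hb]
    calc W * (W * a * W⁻¹) * W⁻¹ = W * W * a * (W * W)⁻¹ := by group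
      _ = a := by rw [hs]; group
  calc W = W * W * W⁻¹ := by group
    _ = W * (a * b * a) * W⁻¹ := by rw [← hdef]
    _ = (W * a * W⁻¹) * (W * b * W⁻¹) * (W * a * W⁻¹) := by group
    _ = b * a * b := by rw [hb, h1]

/-- `(w(x) pp(x))³ = 1`. -/
theorem w_mul_pow_three (H : SL2Rel i α pp pm av) {x x' : X ⟶ Ga S} (hx : gaFn x' * gaFn x = -1) :
    (w pp pm x x' * (x ≫ pp)) ^ 3 = 1 := by
  obtain ⟨n, hn⟩ := exists_gmFn (S := S) (X := X) (r := -1) isUnit_one.neg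
  have hb := H.w_conj_self hx
  have hflip := H.w_eq_flip hx
  have hsq := H.w_sq hx n hn
  have hcm : (n ≫ av ≫ i) * (x' ≫ pm) = (x' ≫ pm) * (n ≫ av ≫ i) := by
    rw [← mul_inv_eq_iff_eq_mul, H.conj_h_pm n (x' := x') (by rw [hn]; ring)]
  have hnn : (n ≫ av ≫ i) * (n ≫ av ≫ i) = 1 := by
    rw [← h_mul (z'' := 1) (by rw [gmFn_one, hn]; ring), h_one gmFn_one]
  have hdef : w pp pm x x' = (x ≫ pp) * (x' ≫ pm) * (x ≫ pp) := rfl
  generalize hW : w pp pm x x' = W at hb hflip hsq hdef ⊢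
  generalize x ≫ pp = a at hb hflip hdef ⊢
  generalize x' ≫ pm = b at hb hflip hcm hdef ⊢
  generalize n ≫ av ≫ i = h at hsq hcm hnn ⊢
  have hwa : W * a = b * W := mul_inv_eq_iff_eq_mul.mp hb
  calc (W * a) ^ 3 = W * a * (W * a) * (W * a) := by rw [pow_three]; simp only [_root_.mul_assoc]
    _ = b * W * (W * a) * (b * W) := by rw [hwa]
    _ = b * W ^ 2 * a * b * W := by rw [pow_two]; simp only [_root_.mul_assoc]
    _ = h * b * a * b * W := by rw [hsq, ← hcm]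
    _ = h * (W * W) := by rw [hflip]; simp only [_root_.mul_assoc]
    _ = 1 := by rw [← pow_two, hsq, hnn]

end SL2Rel

end Groth.Agent.SGA3cLib
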