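import Groth.Agent.SGA3cLib.Centralizer

/-! Compatibility of a homomorphism of rank one systems with tori, coroots and root subgroups. -/

set_option linter.style.haveILetI false
set_option linter.unusedSectionVars false
set_option autoImplicit false

universe u

open CategoryTheory CategoryTheory.Limits MonoidalCategory CartesianMonoidalCategory MonObj AlgebraicGeometry
open Red

noncomputable section

namespace Groth.Agent.SGA3cLib

variable {S : Scheme.{u}} {G T G' T' : Over S} [GrpObj G] [GrpObj T] [GrpObj G'] [GrpObj T']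
  {i : T ⟶ G} [IsMonHom i] {α : T ⟶ Gm S} [IsMonHom α] {pp pm : Ga S ⟶ G} [IsMonHom pp] [IsMonHom pm]
  {av : Gm S ⟶ T} [IsMonHom av]
  {i' : T' ⟶ G'} [IsMonHom i'] {α' : T' ⟶ Gm S} [IsMonHom α'] {pp' pm' : Ga S ⟶ G'} [IsMonHom pp'] [IsMonHom pm']
  {av' : Gm S ⟶ T'} [IsMonHom av']

/-- If `f` is given by coefficients `ν`, `μ` on the root groups and by the `q`-th power on coroots, then `ν μ = 1`. -/
theorem coeff_mul_eq_one (H : SL2Rel i α pp pm av) (H' : SL2Rel i' α' pp' pm' av')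
    (hΩ' : IsOpenImmersion (cellHom i' pp' pm').left) {q : ℕ} (hq0 : 0 < q)
    (hq : ∀ (X : Over S) (a b : Γ(X.left, ⊤)), (a + b) ^ q = a ^ q + b ^ q) (f : G ⟶ G') [IsMonHom f]
    (hT : ∀ (X : Over S) (z : X ⟶ Gm S), (z ≫ av ≫ i) ≫ f = ((z ≫ av') ^ q) ≫ i')
    (ν μ₀ : 𝟙_ (Over S) ⟶ Ga S) (hν : IsUnit (gaFn ν))
    (hp : ∀ (X : Over S) (x y : X ⟶ Ga S), gaFn y = gaFn (toUnit X ≫ ν) * gaFn x ^ q → x ≫ pp ≫ f = y ≫ pp')
    (hm : ∀ (X : Over S) (x y : X ⟶ Ga S), gaFn y = gaFn (toUnit X ≫ μ₀) * gaFn x ^ q → x ≫ pm ≫ f = y ≫ pm') :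
    gaFn μ₀ * gaFn ν = 1 := by
  refine eq_one_of_trunc _ q hq0 fun X π y hy1 hy2 => ?_
  have hπν : π ≫ ν = toUnit X ≫ ν := by rw [toUnit_unique π (toUnit X)]
  have hπμ : π ≫ μ₀ = toUnit X ≫ μ₀ := by rw [toUnit_unique π (toUnit X)]
  have hνu : IsUnit (gaFn (toUnit X ≫ ν)) := by rw [gaFn_comp]; exact hν.map _
  rw [map_mul, ← gaFn_comp, ← gaFn_comp, hπν, hπμ] at hy2 ⊢
  obtain ⟨a, ha⟩ := exists_gaFn (S := S) (X := X) 1
  obtain ⟨b, hb⟩ := exists_gaFn (S := S) y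
  obtain ⟨a', b', z, hz, hza, hzb, he⟩ := H.hF X a b (by rw [ha, hb, _root_.one_mul]; exact hy1)
  obtain ⟨A, hA⟩ := exists_gaFn (S := S) (gaFn (toUnit X ≫ ν) * gaFn a ^ q)
  obtain ⟨A', hA'⟩ := exists_gaFn (S := S) (gaFn (toUnit X ≫ ν) * gaFn a' ^ q)
  obtain ⟨B, hB⟩ := exists_gaFn (S := S) (gaFn (toUnit X ≫ μ₀) * gaFn b ^ q)
  obtain ⟨B', hB'⟩ := exists_gaFn (S := S) (gaFn (toUnit X ≫ μ₀) * gaFn b' ^ q)
  obtain ⟨A₂, B₂, z₂, hz₂, hza₂, -, he₂⟩ := H'.hF X A B (by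
    convert hy2 using 1
    rw [hA, hB, ha, hb, one_pow]; ring)
  have he' := congrArg (· ≫ f) he
  simp only [MonObj.mul_comp, hT X z] at he'
  simp only [Category.assoc] at he'
  rw [hp X a A hA, hm X b B hB, hp X a' A' hA', hm X b' B' hB', he₂, ← Category.assoc z₂] at he'
  obtain ⟨-, -, hA2⟩ := cell_unique hΩ' he'
  rw [hA2, hA', hA, ha, one_pow, _root_.mul_one] at hza₂
  have h3 : gaFn a' ^ q * gmFn z ^ q = 1 := by rw [← mul_pow, hza, ha, one_pow]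
  have h4 : gmFn z₂ = gmFn z ^ q := by
    refine (hνu.mul (IsUnit.of_mul_eq_one _ h3)).mul_left_cancel ?_
    rw [hza₂, _root_.mul_assoc, h3, _root_.mul_one]
  rw [hz₂, hA, hB, hz, hq, ha, hb, one_pow, _root_.one_mul, _root_.mul_one, add_right_inj] at h4
  linear_combination h4

/-- Coefficient formulas on both root groups give the coroot formula. -/
theorem coroot_of_coeff (H : SL2Rel i α pp pm av) (H' : SL2Rel i' α' pp' pm' av') {q : ℕ}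
    (hq : ∀ (X : Over S) (a b : Γ(X.left, ⊤)), (a + b) ^ q = a ^ q + b ^ q) (f : G ⟶ G') [IsMonHom f]
    (c : 𝟙_ (Over S) ⟶ Gm S)
    (hp : ∀ (X : Over S) (x y : X ⟶ Ga S), gaFn y = gmFn (toUnit X ≫ c) * gaFn x ^ q → (x ≫ pp) ≫ f = y ≫ pp')
    (hm : ∀ (X : Over S) (x y : X ⟶ Ga S), gaFn y * gmFn (toUnit X ≫ c) = gaFn x ^ q → (x ≫ pm) ≫ f = y ≫ pm')
    (X : Over S) (z : X ⟶ Gm S) : (z ≫ av ≫ i) ≫ f = ((z ≫ av') ^ q) ≫ i' := by
  obtain ⟨a, ha⟩ := exists_gaFn (S := S) (X := X) 1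
  obtain ⟨b, hb⟩ := exists_gaFn (S := S) (gmFn z - 1)
  obtain ⟨a', b', z₁, hz₁, hza, hzb, he⟩ := H.hF X a b (by
    rw [ha, hb, _root_.one_mul, add_sub_cancel]; exact isUnit_gmFn z)
  have hz : z₁ = z := gmFn_injective (by rw [hz₁, ha, hb, _root_.one_mul, add_sub_cancel])
  subst hz
  obtain ⟨A, hA⟩ := exists_gaFn (S := S) (gmFn (toUnit X ≫ c) * gaFn a ^ q)
  obtain ⟨A', hA'⟩ := exists_gaFn (S := S) (gmFn (toUnit X ≫ c) * gaFn a' ^ q)
  obtain ⟨B, hB⟩ := exists_gaFn (S := S) (gmFn (toUnit X ≫ c)⁻¹ * gaFn b ^ q)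
  obtain ⟨B', hB'⟩ := exists_gaFn (S := S) (gmFn (toUnit X ≫ c)⁻¹ * gaFn b' ^ q)
  have hAB : gaFn A * gaFn B = gaFn b ^ q := by
    rw [hA, hB, ha, one_pow]; linear_combination gaFn b ^ q * gmFn_inv_mul (toUnit X ≫ c)
  have hval : 1 + gaFn A * gaFn B = gmFn z₁ ^ q := by
    rw [hAB, hz₁, ha, hq, one_pow, _root_.one_mul]
  obtain ⟨A₂, B₂, z₂, hz₂, hza₂, hzb₂, he₂⟩ := H'.hF X A B (hval ▸ (isUnit_gmFn z₁).pow q)
  have hz2 : z₂ = z₁ ^ q := gmFn_injective (by rw [hz₂, hval, gmFn_pow])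
  subst hz2
  rw [gmFn_pow] at hza₂ hzb₂
  have hA2 : A₂ = A' := gaFn_injective (((isUnit_gmFn z₁).pow q).mul_right_cancel (by
    rw [hza₂, hA, hA', _root_.mul_assoc, ← mul_pow, hza]))
  have hB2 : B₂ = B' := gaFn_injective (((isUnit_gmFn z₁).pow q).mul_right_cancel (by
    rw [hzb₂, hB, hB', _root_.mul_assoc, ← mul_pow, hzb]))
  subst hA2
  subst hB2
  have hinv : ∀ (d : Γ(X.left, ⊤)), gmFn (toUnit X ≫ c)⁻¹ * d * gmFn (toUnit X ≫ c) = d := fun d => by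
    linear_combination d * gmFn_inv_mul (toUnit X ≫ c)
  have he' := congrArg (· ≫ f) he
  simp only [MonObj.mul_comp] at he'
  rw [hp X a A hA, hm X b B (by rw [hB, hinv]), hp X a' A₂ hA', hm X b' B₂ (by rw [hB', hinv]), he₂] at he'
  rw [← mul_left_cancel (mul_right_cancel he'), ← MonObj.pow_comp z₁ q av', Category.assoc]

end Groth.Agent.SGA3cLib
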