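import Groth.Agent.SGA3cLib.CellRigidity
import Groth.Agent.SGA3cLib.SL2Rel

/-! Homomorphisms between rank one systems. -/

set_option linter.style.haveILetI false
set_option linter.unusedSectionVars false
set_option autoImplicit false

universe u

open CategoryTheory CategoryTheory.Limits MonoidalCategory CartesianMonoidalCategory MonObj AlgebraicGeometry
open Red

noncomputable section

namespace Groth.Agent.SGA3cLib

variable {S : Scheme.{u}}

/-- A faithfully flat cover on which a monic polynomial of positive degree has a root. -/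
theorem exists_root_cover {X : Over S} (P : Polynomial Γ(X.left, ⊤)) (hP : P.Monic) (hd : P.natDegree ≠ 0) :
    ∃ (X' : Over S) (p : X' ⟶ X) (t : Γ(X'.left, ⊤)), Surjective p.left ∧ Epi p ∧
      P.eval₂ p.left.appTop.hom t = 0 := by
  let R := Γ(X.left, ⊤)
  haveI := hP.free_adjoinRoot
  let φ : R ⟶ CommRingCat.of (AdjoinRoot P) := CommRingCat.ofHom (AdjoinRoot.of P)
  haveI : Flat (Spec.map φ) := by
    rw [Flat.SpecMap_iff]
    show (algebraMap R (AdjoinRoot P)).Flat
    exact RingHom.flat_algebraMap_iff.mpr inferInstance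
  haveI : Surjective (Spec.map φ) := by
    refine ⟨fun x => ?_⟩
    rcases subsingleton_or_nontrivial R with h | h
    · exact ((PrimeSpectrum.isEmpty_iff_subsingleton.mpr h).false x).elim
    haveI : Nontrivial (AdjoinRoot P) :=
      nontrivial_of_ne _ _ ((AdjoinRoot.powerBasis' hP).basis.ne_zero
        ⟨0, by rw [AdjoinRoot.powerBasis'_dim]; omega⟩)
    haveI : Module.FaithfullyFlat R (AdjoinRoot P) := inferInstance
    exact PrimeSpectrum.comap_surjective_of_faithfullyFlat (A := R) (B := AdjoinRoot P) x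
  let p := Limits.pullback.fst X.left.toSpecΓ (Spec.map φ)
  let ψ : AdjoinRoot P →+* Γ(Limits.pullback X.left.toSpecΓ (Spec.map φ), ⊤) :=
    ((Scheme.ΓSpecIso (CommRingCat.of (AdjoinRoot P))).inv ≫
      (Limits.pullback.snd X.left.toSpecΓ (Spec.map φ)).appTop).hom
  have hψ : ψ.comp (AdjoinRoot.of P) = p.appTop.hom := by
    ext r
    have h := congrArg (fun f : Limits.pullback X.left.toSpecΓ (Spec.map φ) ⟶ Spec R =>
        ((Scheme.ΓSpecIso R).inv ≫ f.appTop).hom r)
      (Limits.pullback.condition (f := X.left.toSpecΓ) (g := Spec.map φ))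
    simp only [Scheme.Hom.comp_appTop] at h
    rw [Scheme.toSpecΓ_appTop, Iso.inv_hom_id_assoc, ← Category.assoc, ← Scheme.ΓSpecIso_inv_naturality,
      Category.assoc] at h
    exact h.symm
  refine ⟨Over.mk (p ≫ X.hom), Over.homMk p rfl, ψ (AdjoinRoot.root P), ?_, ?_, ?_⟩
  · exact inferInstanceAs (Surjective p)
  · haveI : Flat p := inferInstance
    haveI : Surjective p := inferInstance
    haveI : Epi p := Flat.epi_of_flat_of_surjective p
    exact (Over.forget S).epi_of_epi_map (f := Over.homMk (U := Over.mk (p ≫ X.hom)) (V := X) p rfl) ‹_›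
  show P.eval₂ p.appTop.hom (ψ (AdjoinRoot.root P)) = 0
  rw [← hψ, ← Polynomial.hom_eval₂, AdjoinRoot.eval₂_root, map_zero]

/-- A square root of a unit on a faithfully flat cover. -/
theorem exists_sqrt {X : Over S} {r : Γ(X.left, ⊤)} (hr : IsUnit r) :
    ∃ (X' : Over S) (p : X' ⟶ X) (z : X' ⟶ Gm S), Surjective p.left ∧ Epi p ∧
      gmFn z ^ 2 = p.left.appTop r := by
  rcases subsingleton_or_nontrivial Γ(X.left, ⊤) with h | h
  · exact ⟨X, 𝟙 X, 1, inferInstanceAs (Surjective (𝟙 X.left)), inferInstance, Subsingleton.elim _ _⟩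
  obtain ⟨X', p, t, hs, he, ht⟩ := exists_root_cover (Polynomial.X ^ 2 - Polynomial.C r)
    (Polynomial.monic_X_pow_sub_C r two_ne_zero) (by rw [Polynomial.natDegree_X_pow_sub_C]; exact two_ne_zero)
  rw [Polynomial.eval₂_sub, Polynomial.eval₂_X_pow, Polynomial.eval₂_C, sub_eq_zero] at ht
  obtain ⟨z, hz⟩ := exists_gmFn (S := S) (X := X') (r := t)
    ((isUnit_pow_iff (two_ne_zero)).mp (ht ▸ hr.map p.left.appTop.hom))
  exact ⟨X', p, z, hs, he, by rw [hz]; exact ht⟩

variable {G T : Over S} [GrpObj G] [GrpObj T] {i : T ⟶ G} [IsMonHom i] {pp pm : Ga S ⟶ G}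
  [IsMonHom pp] [IsMonHom pm]

/-- The cell with the two unipotent factors exchanged is again an open immersion. -/
theorem isOpenImmersion_cellHom_swap (hΩ : IsOpenImmersion (cellHom i pp pm).left) :
    IsOpenImmersion (cellHom i pm pp).left := by
  let σ : (Ga S ⊗ T) ⊗ Ga S ⟶ (Ga S ⊗ T) ⊗ Ga S :=
    lift (lift (snd (Ga S ⊗ T) (Ga S))⁻¹ (fst (Ga S ⊗ T) (Ga S) ≫ snd _ _)⁻¹)
      (fst (Ga S ⊗ T) (Ga S) ≫ fst _ _)⁻¹
  have hσ : σ ≫ σ = 𝟙 _ := by
    apply CartesianMonoidalCategory.hom_ext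
    · apply CartesianMonoidalCategory.hom_ext
      · simp only [σ, Category.assoc, lift_fst, lift_snd, lift_fst_assoc, lift_snd_assoc, GrpObj.comp_inv, Category.comp_id, Category.id_comp, _root_.inv_inv]
        exact eq_inv_of_mul_eq_one_left (mul_inv_cancel _) |>.symm
      · simp only [σ, Category.assoc, lift_fst, lift_snd, lift_fst_assoc, lift_snd_assoc, GrpObj.comp_inv, Category.comp_id, Category.id_comp, _root_.inv_inv]
    · simp only [σ, Category.assoc, lift_fst, lift_snd, lift_fst_assoc, lift_snd_assoc, GrpObj.comp_inv, Category.comp_id, Category.id_comp, _root_.inv_inv]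
      exact eq_inv_of_mul_eq_one_left (mul_inv_cancel _) |>.symm
  haveI : IsIso σ := ⟨σ, hσ, hσ⟩
  haveI : IsIso σ.left := inferInstanceAs (IsIso ((Over.forget S).map σ))
  have hι : GrpObj.inv ≫ GrpObj.inv = 𝟙 G := by
    have h := inv_inv (𝟙 G)
    rw [Hom.inv_def, Hom.inv_def, Category.id_comp] at h
    exact h
  haveI : IsIso (GrpObj.inv : G ⟶ G) := ⟨GrpObj.inv, hι, hι⟩
  haveI : IsIso (GrpObj.inv : G ⟶ G).left := inferInstanceAs (IsIso ((Over.forget S).map _))
  have key : cellHom i pm pp = (σ ≫ cellHom i pp pm) ≫ GrpObj.inv := by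
    have e1 : σ ≫ fst _ _ ≫ fst _ _ = (snd (Ga S ⊗ T) (Ga S))⁻¹ := by simp [σ]
    have e2 : σ ≫ fst _ _ ≫ snd _ _ = (fst (Ga S ⊗ T) (Ga S) ≫ snd _ _)⁻¹ := by simp [σ]
    have e3 : σ ≫ snd _ _ = (fst (Ga S ⊗ T) (Ga S) ≫ fst _ _)⁻¹ := by simp [σ]
    rw [← Hom.inv_def]
    refine (Category.id_comp (cellHom i pm pp)).symm.trans ((eq_cell (𝟙 _)).trans ?_)
    rw [eq_cell σ, e1, e2, e3, GrpObj.inv_comp, GrpObj.inv_comp, GrpObj.inv_comp]
    simp only [Category.id_comp, _root_.mul_inv_rev, _root_.inv_inv, _root_.mul_assoc]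
  rw [key, Over.comp_left, Over.comp_left]
  infer_instance

/-- Comparing the rank one formula at `(1, T)` over `R[T]/(T^(q+1))` determines the product of the coefficients. -/
theorem eq_one_of_trunc {X : Over S} (a : Γ(X.left, ⊤)) (q : ℕ) (hq : 0 < q)
    (h : ∀ (X' : Over S) (π : X' ⟶ X) (y : Γ(X'.left, ⊤)), IsUnit (1 + y) → IsUnit (1 + π.left.appTop a * y ^ q) →
      π.left.appTop a * y ^ q = y ^ q) : a = 1 := by
  obtain ⟨x, hx⟩ := exists_gaFn (S := S) a
  obtain ⟨e, he⟩ := exists_gaFn (S := S) (X := X) 1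
  rw [← hx, ← he]
  refine congrArg gaFn (Over.OverMorphism.ext (Scheme.Cover.hom_ext X.left.affineCover _ _ fun k => ?_))
  let Y : Over S := Over.mk (X.left.affineCover.f k ≫ X.hom)
  let c : Y ⟶ X := Over.homMk (X.left.affineCover.f k) rfl
  suffices c ≫ x = c ≫ e from congrArg CommaMorphism.left this
  refine gaFn_injective ?_
  rw [gaFn_comp, gaFn_comp, hx, he, map_one]
  haveI : IsAffine Y.left := inferInstanceAs (IsAffine (X.left.affineCover.X k))
  let R := Γ(Y.left, ⊤)
  let P : Polynomial R := Polynomial.X ^ (q + 1)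
  let φ : R ⟶ CommRingCat.of (AdjoinRoot P) := CommRingCat.ofHom (AdjoinRoot.of P)
  let b : Spec (CommRingCat.of (AdjoinRoot P)) ⟶ Y.left := Spec.map φ ≫ Y.left.isoSpec.inv
  let X' : Over S := specOver b
  let π : X' ⟶ Y := Over.homMk b rfl
  let i₀ : AdjoinRoot P →+* Γ(X'.left, ⊤) := (Scheme.ΓSpecIso (CommRingCat.of (AdjoinRoot P))).inv.hom
  have hπ : ∀ r : R, π.left.appTop r = i₀ (AdjoinRoot.of P r) := by
    intro r
    show b.appTop r = _
    have h1 : Y.left.isoSpec.inv.appTop = (Scheme.ΓSpecIso Γ(Y.left, ⊤)).inv := by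
      have h := congrArg Scheme.Hom.appTop (Scheme.isoSpec_inv_toSpecΓ Y.left)
      rw [Scheme.Hom.comp_appTop, Scheme.toSpecΓ_appTop, Scheme.Hom.id_appTop] at h
      exact ((Iso.inv_comp_eq _).mpr (h.trans (by rfl)).symm).symm.trans (Category.comp_id _)
    rw [Scheme.Hom.comp_appTop, h1]
    exact (congrArg (fun q => q.hom r) (Scheme.ΓSpecIso_inv_naturality φ)).symm
  let y : AdjoinRoot P := AdjoinRoot.root P
  have hy : IsNilpotent y := ⟨q + 1, by
    have := AdjoinRoot.eval₂_root P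
    simpa [P] using this⟩
  have h1 := h X' (π ≫ c) (i₀ y) ((hy.map i₀).isUnit_one_add) (by
    refine IsNilpotent.isUnit_one_add ?_
    exact (Commute.all _ _).isNilpotent_mul_left ((hy.map i₀).pow_of_pos hq.ne'))
  have h2 : AdjoinRoot.of P (c.left.appTop a) * y ^ q = y ^ q := by
    apply (ConcreteCategory.bijective_of_isIso (Scheme.ΓSpecIso (CommRingCat.of (AdjoinRoot P))).inv).1
    show i₀ _ = i₀ _
    rw [map_mul, map_pow, ← hπ]
    exact h1
  have hP : P.Monic := Polynomial.monic_X_pow _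
  rcases subsingleton_or_nontrivial R with hs | hn
  · exact Subsingleton.elim _ _
  have h3 : AdjoinRoot.mk P (Polynomial.C (c.left.appTop a - 1) * Polynomial.X ^ q) = 0 := by
    rw [map_mul, map_pow, AdjoinRoot.mk_C, AdjoinRoot.mk_X, map_sub, map_one, sub_mul, _root_.one_mul]
    exact sub_eq_zero.mpr h2
  rw [AdjoinRoot.mk_eq_zero] at h3
  obtain ⟨g, hg⟩ := h3
  have h4 := congrArg (fun p => p.coeff q) hg
  simp only [Polynomial.coeff_C_mul_X_pow, if_true, P] at h4
  rw [Polynomial.coeff_X_pow_mul'] at h4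
  simpa [sub_eq_zero] using h4

end Groth.Agent.SGA3cLib
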