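import Groth.Agent.SGA3cLib.CellExtend
import Groth.Agent.SGA3cLib.RankOneCompat

/-! Existence of homomorphisms of rank one systems with prescribed restrictions to `T` and to the root groups. -/

set_option linter.style.haveILetI false
set_option linter.unusedSectionVars false
set_option autoImplicit false

universe u

open CategoryTheory CategoryTheory.Limits MonoidalCategory CartesianMonoidalCategory MonObj AlgebraicGeometry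
open Red

noncomputable section

namespace Groth.Agent.SGA3cLib

theorem isUnit_global_sections {X : Scheme.{u}} (a : Γ(X, ⊤))
    (h : ∀ z : X, (X.fromSpecResidueField z).appTop a ≠ 0) : IsUnit a := by
  refine X.toRingedSpace.isUnit_of_isUnit_germ ⊤ a fun z _ => ?_
  by_contra hz
  have hnot : z ∉ X.basicOpen a := fun hm => hz ((Scheme.mem_basicOpen X a z trivial).mp hm)
  apply hnot
  have hu : IsUnit ((X.fromSpecResidueField z).appTop a) := by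
    have : IsUnit ((Scheme.ΓSpecIso (X.residueField z)).hom ((X.fromSpecResidueField z).appTop a)) :=
      isUnit_iff_ne_zero.mpr fun h0 => h z ((ConcreteCategory.bijective_of_isIso
        (Scheme.ΓSpecIso (X.residueField z)).hom).1 (h0.trans (map_zero _).symm))
    exact (isUnit_map_iff _ _).mp this
  have h1 := Scheme.basicOpen_of_isUnit (Spec (X.residueField z)) hu
  have hm : (IsLocalRing.closedPoint (X.residueField z) : Spec (X.residueField z)) ∈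
      (X.fromSpecResidueField z) ⁻¹ᵁ X.basicOpen a := by
    rw [Scheme.preimage_basicOpen_top, h1]
    trivial
  have hm' : (X.fromSpecResidueField z).base (IsLocalRing.closedPoint (X.residueField z)) ∈ X.basicOpen a := hm
  rwa [Scheme.fromSpecResidueField_apply] at hm'


variable {S : Scheme.{u}} {G T : Over S} [GrpObj G] [GrpObj T] {i : T ⟶ G} [IsMonHom i]
  {α : T ⟶ Gm S} [IsMonHom α] {pp pm : Ga S ⟶ G} [IsMonHom pp] [IsMonHom pm]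
  {av : Gm S ⟶ T} [IsMonHom av]

/-- If `pp(x) pm(y)` lies in the big cell then `1 + xy` is invertible. -/
theorem isUnit_of_pp_mul_pm_mem [Mono i] (H : SL2Rel i α pp pm av) (hΩ : IsOpenImmersion (cellHom i pp pm).left)
    {X : Over S} (x y : X ⟶ Ga S)
    (h : Set.range ((x ≫ pp) * (y ≫ pm)).left.base ⊆ Set.range (cellHom i pp pm).left.base) :
    IsUnit (1 + gaFn x * gaFn y) := by
  refine isUnit_global_sections _ fun z h0 => ?_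
  let Ω := AlgebraicClosure (X.left.residueField z)
  let k₀ : Spec (CommRingCat.of Ω) ⟶ X.left :=
    Spec.map (CommRingCat.ofHom (algebraMap (X.left.residueField z) Ω)) ≫ X.left.fromSpecResidueField z
  let X₀ : Over S := Over.mk (k₀ ≫ X.hom)
  let k : X₀ ⟶ X := Over.homMk k₀ rfl
  have hxy : gaFn (k ≫ y) * gaFn (k ≫ x) = -1 := by
    have e : k₀.appTop (1 + gaFn x * gaFn y) = 0 := by
      rw [Scheme.Hom.comp_appTop, CommRingCat.comp_apply, h0, map_zero]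
    rw [map_add, map_one, map_mul] at e
    rw [gaFn_comp, gaFn_comp]
    show k₀.appTop (gaFn y) * k₀.appTop (gaFn x) = -1
    linear_combination e
  obtain ⟨a, t, b, hab⟩ := exists_cell hΩ (k ≫ ((x ≫ pp) * (y ≫ pm))) (by
    rintro _ ⟨w, rfl⟩; exact h ⟨_, rfl⟩)
  rw [MonObj.comp_mul, ← Category.assoc, ← Category.assoc] at hab
  obtain ⟨b', hb'⟩ : ∃ b' : X₀ ⟶ Ga S, (b ≫ pp) * ((k ≫ x) ≫ pp) = b' ≫ pp :=
    ⟨b * (k ≫ x), (MonObj.mul_comp b (k ≫ x) pp).symm⟩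
  have hw : SL2Rel.w pp pm (k ≫ x) (k ≫ y) = (a ≫ pm) * (t ≫ i) * (b' ≫ pp) := by
    show _ * _ * _ = _
    rw [hab, _root_.mul_assoc _ (b ≫ pp), hb']
  obtain ⟨r, hr, hr1⟩ := exists_unit_pow_ne_one Ω (m := 4) four_ne_zero
  obtain ⟨u, hu⟩ := exists_gmFn (S := S) (X := X₀) hr
  obtain ⟨a₁, ha₁, -⟩ := H.hpm X₀ (u ≫ av) a
  obtain ⟨b₁, hb₁, -⟩ := H.hpp X₀ (u ≫ av)⁻¹ b'
  have hsq : (u ≫ av) ≫ α ≫ av = (u ≫ av) * (u ≫ av) := by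
    rw [← MonObj.mul_comp u u av, ← Category.assoc]
    congr 1
    refine gmFn_injective ?_
    rw [H.gmFn_av_α, gmFn_mul, pow_two]
  have hgrp : ∀ v : X₀ ⟶ T, (v * v)⁻¹ * v = v⁻¹ := fun v => by group
  have hws := H.W_mul_T hxy (u ≫ av)
  rw [hsq, hgrp] at hws
  generalize SL2Rel.w pp pm (k ≫ x) (k ≫ y) = W at hw hws
  have h2 : (a₁ ≫ pm) * (((u ≫ av) * t * (u ≫ av)) ≫ i) * (b₁ ≫ pp) = (a ≫ pm) * (t ≫ i) * (b' ≫ pp) := by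
    rw [ha₁, hb₁, MonObj.mul_comp ((u ≫ av) * t) (u ≫ av) i, MonObj.mul_comp (u ≫ av) t i, GrpObj.inv_comp]
    calc _ = ((u ≫ av) ≫ i) * (((a ≫ pm) * (t ≫ i) * (b' ≫ pp)) * ((u ≫ av) ≫ i)) := by group
      _ = W := by rw [← hw, hws, GrpObj.inv_comp]; group
      _ = _ := hw
  obtain ⟨-, ht, -⟩ := cell_unique hΩ h2
  have hα := congrArg (fun q => gmFn (q ≫ α)) ht
  rw [show gmFn (((u ≫ av) * t * (u ≫ av)) ≫ α) = gmFn u ^ 2 * gmFn (t ≫ α) * gmFn u ^ 2 from by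
    refine (congrArg gmFn ((MonObj.mul_comp ((u ≫ av) * t) (u ≫ av) α).trans
      (congrArg (· * ((u ≫ av) ≫ α)) (MonObj.mul_comp (u ≫ av) t α)))).trans ?_
    rw [gmFn_mul, gmFn_mul, H.gmFn_av_α], hu] at hα
  apply hr1
  refine (isUnit_gmFn (t ≫ α)).mul_left_cancel ?_
  linear_combination hα

variable {G' T' : Over S} [GrpObj G'] [GrpObj T'] {i' : T' ⟶ G'} [IsMonHom i']
  {α' : T' ⟶ Gm S} [IsMonHom α'] {pp' pm' : Ga S ⟶ G'} [IsMonHom pp'] [IsMonHom pm']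
  {av' : Gm S ⟶ T'} [IsMonHom av']

variable (i') in
/-- The prescribed value on the cell element with coordinates `a`, `t`, `b`. -/
def cellVal (q : ℕ) (c : 𝟙_ (Over S) ⟶ Gm S) (fT : T ⟶ T') (pp' pm' : Ga S ⟶ G') {X : Over S}
    (a : X ⟶ Ga S) (t : X ⟶ T) (b : X ⟶ Ga S) : X ⟶ G' :=
  ((exists_gaFn (S := S) (gmFn (toUnit X ≫ c)⁻¹ * gaFn a ^ q)).choose ≫ pm') * ((t ≫ fT) ≫ i') *
    ((exists_gaFn (S := S) (gmFn (toUnit X ≫ c) * gaFn b ^ q)).choose ≫ pp')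

theorem cellVal_eq (q : ℕ) (c : 𝟙_ (Over S) ⟶ Gm S) (fT : T ⟶ T') {X : Over S}
    {a : X ⟶ Ga S} {t : X ⟶ T} {b : X ⟶ Ga S} {A B : X ⟶ Ga S}
    (hA : gaFn A * gmFn (toUnit X ≫ c) = gaFn a ^ q) (hB : gaFn B = gmFn (toUnit X ≫ c) * gaFn b ^ q) :
    cellVal i' q c fT pp' pm' a t b = (A ≫ pm') * ((t ≫ fT) ≫ i') * (B ≫ pp') := by
  unfold cellVal
  rw [gaFn_injective (x := (exists_gaFn (S := S) (gmFn (toUnit X ≫ c)⁻¹ * gaFn a ^ q)).choose) (y := A) ?_,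
    gaFn_injective (x := (exists_gaFn (S := S) (gmFn (toUnit X ≫ c) * gaFn b ^ q)).choose) (y := B) ?_]
  · rw [(exists_gaFn (S := S) _).choose_spec, hB]
  · rw [(exists_gaFn (S := S) _).choose_spec, ← hA]
    linear_combination gaFn A * gmFn_inv_mul (toUnit X ≫ c)

theorem cellVal_comp (q : ℕ) (c : 𝟙_ (Over S) ⟶ Gm S) (fT : T ⟶ T') {X X' : Over S} (f : X' ⟶ X)
    (a : X ⟶ Ga S) (t : X ⟶ T) (b : X ⟶ Ga S) :
    f ≫ cellVal i' q c fT pp' pm' a t b = cellVal i' q c fT pp' pm' (f ≫ a) (f ≫ t) (f ≫ b) := by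
  obtain ⟨A, hA⟩ := exists_gaFn (S := S) (gmFn (toUnit X ≫ c)⁻¹ * gaFn a ^ q)
  obtain ⟨B, hB⟩ := exists_gaFn (S := S) (gmFn (toUnit X ≫ c) * gaFn b ^ q)
  have hA' : gaFn A * gmFn (toUnit X ≫ c) = gaFn a ^ q := by
    rw [hA]; linear_combination gaFn a ^ q * gmFn_inv_mul (toUnit X ≫ c)
  have hc : gmFn (toUnit X' ≫ c) = f.left.appTop (gmFn (toUnit X ≫ c)) := by
    rw [← gmFn_comp, ← Category.assoc, toUnit_unique (f ≫ toUnit X) (toUnit X')]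
  rw [cellVal_eq q c fT hA' hB, cellVal_eq q c fT (A := f ≫ A) (B := f ≫ B)
    (by rw [gaFn_comp f A, gaFn_comp f a, hc, ← map_mul, hA', map_pow])
    (by rw [gaFn_comp f B, gaFn_comp f b, hc, hB, map_mul, map_pow])]
  simp only [MonObj.comp_mul, Category.assoc]

/-- The prescribed values are multiplicative on the cell. -/
theorem cellVal_mul [Mono i] (H : SL2Rel i α pp pm av) (H' : SL2Rel i' α' pp' pm' av')
    (hΩ : IsOpenImmersion (cellHom i pp pm).left) {q : ℕ} (hq0 : 0 < q)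
    (hq : ∀ (X : Over S) (a b : Γ(X.left, ⊤)), (a + b) ^ q = a ^ q + b ^ q)
    (c : 𝟙_ (Over S) ⟶ Gm S) (fT : T ⟶ T') [IsMonHom fT] (hfTα : fT ≫ α' = α ^ q) (hfTav : av ≫ fT = av' ^ q)
    {X : Over S} (a b a₂ b₂ a₃ b₃ : X ⟶ Ga S) (t t₂ t₃ : X ⟶ T)
    (h : ((a ≫ pm) * (t ≫ i) * (b ≫ pp)) * ((a₂ ≫ pm) * (t₂ ≫ i) * (b₂ ≫ pp)) =
      (a₃ ≫ pm) * (t₃ ≫ i) * (b₃ ≫ pp)) :
    cellVal i' q c fT pp' pm' a t b * cellVal i' q c fT pp' pm' a₂ t₂ b₂ =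
      cellVal i' q c fT pp' pm' a₃ t₃ b₃ := by
  let cX := gmFn (toUnit X ≫ c)
  have hcX : IsUnit cX := isUnit_gmFn _
  have hTq : ∀ s : X ⟶ T, gmFn ((s ≫ fT) ≫ α') = gmFn (s ≫ α) ^ q := fun s => by
    rw [Category.assoc, hfTα, MonObj.comp_pow, gmFn_pow]
  -- the middle factor lies in the cell
  obtain ⟨b₄, hb₄⟩ : ∃ b₄ : X ⟶ Ga S, (b₃ ≫ pp) * (b₂ ≫ pp)⁻¹ = b₄ ≫ pp :=
    ⟨b₃ * b₂⁻¹, by rw [MonObj.mul_comp b₃ (b₂⁻¹) pp, GrpObj.inv_comp]⟩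
  obtain ⟨a₄, ha₄, -⟩ := H.hpm X t⁻¹ (a⁻¹ * a₃)
  obtain ⟨b₅, hb₅, -⟩ := H.hpp X t₂ b₄
  have hmid : (b ≫ pp) * (a₂ ≫ pm) = (a₄ ≫ pm) * ((t⁻¹ * t₃ * t₂⁻¹) ≫ i) * (b₅ ≫ pp) := by
    rw [ha₄, hb₅, MonObj.mul_comp (t⁻¹ * t₃) (t₂⁻¹) i, MonObj.mul_comp (t⁻¹) t₃ i, MonObj.mul_comp (a⁻¹) a₃ pm,
      GrpObj.inv_comp, GrpObj.inv_comp, GrpObj.inv_comp, ← hb₄]
    calc _ = (t ≫ i)⁻¹ * (a ≫ pm)⁻¹ * (((a ≫ pm) * (t ≫ i) * (b ≫ pp)) * ((a₂ ≫ pm) * (t₂ ≫ i) * (b₂ ≫ pp))) *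
          (b₂ ≫ pp)⁻¹ * (t₂ ≫ i)⁻¹ := by group
      _ = _ := by rw [h]; group
  obtain ⟨x', y', z, hz, hx', hy', he⟩ := H.hF X b a₂
    (isUnit_of_pp_mul_pm_mem H hΩ b a₂ (hmid ▸ cell_range _ _ _))
  obtain ⟨y₁, hy₁, hy₁'⟩ := H.hpm X t y'
  obtain ⟨x₁, hx₁, hx₁'⟩ := H.hpp X t₂⁻¹ x'
  have hprod : ((a ≫ pm) * (t ≫ i) * (b ≫ pp)) * ((a₂ ≫ pm) * (t₂ ≫ i) * (b₂ ≫ pp)) =
      ((a * y₁) ≫ pm) * ((t * (z ≫ av) * t₂) ≫ i) * ((x₁ * b₂) ≫ pp) := by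
    rw [MonObj.mul_comp a y₁ pm, MonObj.mul_comp x₁ b₂ pp, MonObj.mul_comp (t * (z ≫ av)) t₂ i,
      MonObj.mul_comp t (z ≫ av) i, hy₁, hx₁, GrpObj.inv_comp, Category.assoc]
    calc _ = (a ≫ pm) * (t ≫ i) * ((b ≫ pp) * (a₂ ≫ pm)) * (t₂ ≫ i) * (b₂ ≫ pp) := by group
      _ = _ := by rw [he]; group
  obtain ⟨e1, e2, e3⟩ := cell_unique hΩ (h.symm.trans hprod)
  subst e1
  subst e2
  subst e3
  -- images of all the coordinates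
  obtain ⟨A, hA⟩ := exists_gaFn (S := S) (gmFn (toUnit X ≫ c)⁻¹ * gaFn a ^ q)
  obtain ⟨B, hB⟩ := exists_gaFn (S := S) (cX * gaFn b ^ q)
  obtain ⟨A₂, hA₂⟩ := exists_gaFn (S := S) (gmFn (toUnit X ≫ c)⁻¹ * gaFn a₂ ^ q)
  obtain ⟨B₂, hB₂⟩ := exists_gaFn (S := S) (cX * gaFn b₂ ^ q)
  obtain ⟨Y', hY'⟩ := exists_gaFn (S := S) (gmFn (toUnit X ≫ c)⁻¹ * gaFn y' ^ q)
  obtain ⟨X', hX'⟩ := exists_gaFn (S := S) (cX * gaFn x' ^ q)
  have hinv : ∀ d : Γ(X.left, ⊤), gmFn (toUnit X ≫ c)⁻¹ * d * cX = d := fun d => by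
    linear_combination d * gmFn_inv_mul (toUnit X ≫ c)
  have hAB : gaFn B * gaFn A₂ = (gaFn b * gaFn a₂) ^ q := by
    rw [hB, hA₂]; linear_combination gaFn b ^ q * gaFn a₂ ^ q * gmFn_inv_mul (toUnit X ≫ c)
  have hval : 1 + gaFn B * gaFn A₂ = gmFn z ^ q := by rw [hAB, hz, hq, one_pow]
  obtain ⟨X₂, Y₂, z₂, hz₂, hX₂, hY₂, he₂⟩ := H'.hF X B A₂ (hval ▸ (isUnit_gmFn z).pow q)
  have hz2 : z₂ = z ^ q := gmFn_injective (by rw [hz₂, hval, gmFn_pow])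
  subst hz2
  rw [gmFn_pow] at hX₂ hY₂
  have hX2 : X₂ = X' := gaFn_injective (((isUnit_gmFn z).pow q).mul_right_cancel (by
    rw [hX₂, hB, hX', _root_.mul_assoc, ← mul_pow, hx']))
  have hY2 : Y₂ = Y' := gaFn_injective (((isUnit_gmFn z).pow q).mul_right_cancel (by
    rw [hY₂, hA₂, hY', _root_.mul_assoc, ← mul_pow, hy']))
  subst hX2
  subst hY2
  obtain ⟨Y₁, hY₁, hY₁'⟩ := H'.hpm X (t ≫ fT) Y₂
  obtain ⟨X₁, hX₁, hX₁'⟩ := H'.hpp X (t₂⁻¹ ≫ fT) X₂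
  rw [hTq] at hY₁' hX₁'
  have hmap : ((t * (z ≫ av) * t₂) ≫ fT) ≫ i' =
      ((t ≫ fT) ≫ i') * ((z ^ q) ≫ av' ≫ i') * ((t₂ ≫ fT) ≫ i') := by
    rw [MonObj.mul_comp (t * (z ≫ av)) t₂ fT, MonObj.mul_comp t (z ≫ av) fT, Category.assoc z av fT, hfTav,
      MonObj.comp_pow, MonObj.mul_comp _ _ i', MonObj.mul_comp _ _ i', ← MonObj.pow_comp z q av', Category.assoc (z ^ q)]
  rw [cellVal_eq q c fT (A := A) (B := B) (hA.symm ▸ hinv _) hB,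
    cellVal_eq q c fT (A := A₂) (B := B₂) (hA₂.symm ▸ hinv _) hB₂,
    cellVal_eq q c fT (A := A * Y₁) (B := X₁ * B₂) ?_ ?_]
  · rw [MonObj.mul_comp A Y₁ pm', MonObj.mul_comp X₁ B₂ pp', hY₁, hX₁, GrpObj.inv_comp t₂ fT, GrpObj.inv_comp _ i',
      hmap]
    calc _ = (A ≫ pm') * ((t ≫ fT) ≫ i') * ((B ≫ pp') * (A₂ ≫ pm')) * ((t₂ ≫ fT) ≫ i') * (B₂ ≫ pp') := by group
      _ = _ := by rw [he₂]; group
  · rw [gaFn_mul, gaFn_mul, hq, add_mul, hA, hinv]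
    congr 1
    refine ((isUnit_gmFn (t ≫ α)).pow q).mul_right_cancel ?_
    rw [← mul_pow, hy₁', _root_.mul_assoc, _root_.mul_comm cX, ← _root_.mul_assoc, hY₁', hY', hinv]
  · rw [gaFn_mul, gaFn_mul, hq, mul_add, hB₂, hX₁', hX', hx₁', mul_pow]
    ring

/-- **Existence and uniqueness of homomorphisms of rank one systems.** -/
theorem existsUnique_rankOneHom [Mono i] (H : SL2Rel i α pp pm av) (H' : SL2Rel i' α' pp' pm' av')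
    (hG : Red.IsReductive G) (hΩ : IsOpenImmersion (cellHom i pp pm).left) {q : ℕ} (hq0 : 0 < q)
    (hq : ∀ (X : Over S) (a b : Γ(X.left, ⊤)), (a + b) ^ q = a ^ q + b ^ q)
    (c : 𝟙_ (Over S) ⟶ Gm S) (fT : T ⟶ T') [IsMonHom fT] (hfTα : fT ≫ α' = α ^ q) (hfTav : av ≫ fT = av' ^ q) :
    ∃! f : G ⟶ G', IsMonHom f ∧ ∀ (X : Over S) (a : X ⟶ Ga S) (t : X ⟶ T) (b : X ⟶ Ga S),
      ((a ≫ pm) * (t ≫ i) * (b ≫ pp)) ≫ f = cellVal i' q c fT pp' pm' a t b := by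
  let R : G.left.Opens := (cellHom i pp pm).left.opensRange
  have hR : ∀ X : Over S, Set.range (1 : X ⟶ G).left.base ⊆ (R : Set G.left) := fun X => by
    have h := cell_range (i := i) (pp := pp) (pm := pm) (1 : X ⟶ Ga S) 1 1
    rw [MonObj.one_comp, MonObj.one_comp, MonObj.one_comp, _root_.one_mul, _root_.one_mul] at h
    exact h
  have hRj : Set.range (opIncl R).left.base ⊆ Set.range (cellHom i pp pm).left.base := by
    rintro _ ⟨z, rfl⟩; exact z.2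
  obtain ⟨a₀, t₀, b₀, h₀⟩ := exists_cell hΩ (opIncl R) hRj
  let Φ : opOver R ⟶ G' := cellVal i' q c fT pp' pm' a₀ t₀ b₀
  have hcoord : ∀ {X : Over S} (v : X ⟶ opOver R) (a : X ⟶ Ga S) (t : X ⟶ T) (b : X ⟶ Ga S),
      v ≫ opIncl R = (a ≫ pm) * (t ≫ i) * (b ≫ pp) → v ≫ Φ = cellVal i' q c fT pp' pm' a t b := by
    intro X v a t b hv
    rw [h₀, MonObj.comp_mul, MonObj.comp_mul, ← Category.assoc, ← Category.assoc, ← Category.assoc] at hv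
    obtain ⟨e1, e2, e3⟩ := cell_unique hΩ hv
    rw [cellVal_comp, e1, e2, e3]
  obtain ⟨F, ⟨hF, hFΦ⟩, huniq⟩ := existsUnique_extension hG R hR Φ (fun X u v w huvw => by
    obtain ⟨a, t, b, hu⟩ := exists_cell hΩ (u ≫ opIncl R) (by rintro _ ⟨z, rfl⟩; exact hRj ⟨_, rfl⟩)
    obtain ⟨a₂, t₂, b₂, hv⟩ := exists_cell hΩ (v ≫ opIncl R) (by rintro _ ⟨z, rfl⟩; exact hRj ⟨_, rfl⟩)
    obtain ⟨a₃, t₃, b₃, hw⟩ := exists_cell hΩ (w ≫ opIncl R) (by rintro _ ⟨z, rfl⟩; exact hRj ⟨_, rfl⟩)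
    rw [hcoord u a t b hu, hcoord v a₂ t₂ b₂ hv, hcoord w a₃ t₃ b₃ hw]
    rw [hu, hv, hw] at huvw
    exact cellVal_mul H H' hΩ hq0 hq c fT hfTα hfTav a b a₂ b₂ a₃ b₃ t t₂ t₃ huvw)
  refine ⟨F, ⟨hF, fun X a t b => ?_⟩, fun F' ⟨hF', h'⟩ => huniq F' ⟨hF', ?_⟩⟩
  · obtain ⟨v, hv⟩ := exists_opPoint R ((a ≫ pm) * (t ≫ i) * (b ≫ pp)) (cell_range a t b)
    rw [← hv, Category.assoc, hFΦ, hcoord v a t b hv]
  · have h0 := h' _ a₀ t₀ b₀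
    rw [← h₀] at h0
    exact h0

end Groth.Agent.SGA3cLib
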