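import Groth.Agent.SGA3cLib.RankOneCompat
import Groth.Agent.SGA3cLib.TorusBasic
import Groth.Agent.AlgSpLib.FppfLocal
import Groth.Prelude.Def_AlgGrp

/-! A homomorphism of rank one systems is controlled by its restriction to the tori. -/

set_option linter.style.haveILetI false
set_option linter.unusedSectionVars false
set_option autoImplicit false

universe u

open CategoryTheory CategoryTheory.Limits MonoidalCategory CartesianMonoidalCategory MonObj AlgebraicGeometry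
open Red

noncomputable section

namespace Groth.Agent.SGA3cLib

variable {S : Scheme.{u}} {G T G' T' : Over S} [GrpObj G] [GrpObj T] [GrpObj G'] [GrpObj T']
  {i : T ⟶ G} [IsMonHom i] {α : T ⟶ Gm S} [IsMonHom α] {pp pm : Ga S ⟶ G} [IsMonHom pp] [IsMonHom pm]
  {av : Gm S ⟶ T} [IsMonHom av]
  {i' : T' ⟶ G'} [IsMonHom i'] {α' : T' ⟶ Gm S} [IsMonHom α'] {pp' pm' : Ga S ⟶ G'} [IsMonHom pp'] [IsMonHom pm']
  {av' : Gm S ⟶ T'} [IsMonHom av']

/-- A homomorphism `f` of rank one systems restricting to `fT` on tori and to a homothety by `c` on root groups. -/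
structure RankOneMap (i : T ⟶ G) (pp pm : Ga S ⟶ G) (i' : T' ⟶ G') (pp' pm' : Ga S ⟶ G')
    (fT : T ⟶ T') (c : 𝟙_ (Over S) ⟶ Gm S) (f : G ⟶ G') : Prop where
  hT : i ≫ f = fT ≫ i'
  hp : ∀ (X : Over S) (x y : X ⟶ Ga S), gaFn y = gmFn (toUnit X ≫ c) * gaFn x → (x ≫ pp) ≫ f = y ≫ pp'
  hm : ∀ (X : Over S) (x y : X ⟶ Ga S), gaFn y * gmFn (toUnit X ≫ c) = gaFn x → (x ≫ pm) ≫ f = y ≫ pm'

/-- Points of the target lift along a flat, quasi-compact, surjective morphism, on such a cover. -/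
theorem exists_lift_fpqc (fT : T ⟶ T') [Flat fT.left] [Surjective fT.left] [QuasiCompact fT.left]
    {X : Over S} (t' : X ⟶ T') :
    ∃ (X' : Over S) (π : X' ⟶ X) (t : X' ⟶ T), Et18.FPQC π.left ∧ t ≫ fT = π ≫ t' := by
  let X' : Over S := Over.mk (pullback.fst t'.left fT.left ≫ X.hom)
  let π : X' ⟶ X := Over.homMk (pullback.fst t'.left fT.left) rfl
  let t : X' ⟶ T := Over.homMk (pullback.snd t'.left fT.left) (by
    show pullback.snd t'.left fT.left ≫ T.hom = pullback.fst t'.left fT.left ≫ X.hom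
    rw [← Over.w t', pullback.condition_assoc, Over.w fT])
  refine ⟨X', π, t, ⟨⟨?_, ?_⟩, ?_⟩, Over.OverMorphism.ext pullback.condition.symm⟩
  · exact inferInstanceAs (Surjective (pullback.fst t'.left fT.left))
  · exact inferInstanceAs (Flat (pullback.fst t'.left fT.left))
  · exact inferInstanceAs (QuasiCompact (pullback.fst t'.left fT.left))

namespace RankOneMap

variable {fT : T ⟶ T'} {c : 𝟙_ (Over S) ⟶ Gm S} {f : G ⟶ G'} [IsMonHom fT] [IsMonHom f]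
  (M : RankOneMap i pp pm i' pp' pm' fT c f)
include M

theorem map_T {X : Over S} (t : X ⟶ T) : (t ≫ i) ≫ f = (t ≫ fT) ≫ i' := by
  rw [Category.assoc, M.hT, Category.assoc]

theorem map_cell {X : Over S} (a : X ⟶ Ga S) (t : X ⟶ T) (b : X ⟶ Ga S) :
    ∃ a' b' : X ⟶ Ga S, gaFn a' * gmFn (toUnit X ≫ c) = gaFn a ∧ gaFn b' = gmFn (toUnit X ≫ c) * gaFn b ∧
      ((a ≫ pm) * (t ≫ i) * (b ≫ pp)) ≫ f = (a' ≫ pm') * ((t ≫ fT) ≫ i') * (b' ≫ pp') := by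
  obtain ⟨a', ha'⟩ := exists_gaFn (S := S) (gmFn (toUnit X ≫ c)⁻¹ * gaFn a)
  obtain ⟨b', hb'⟩ := exists_gaFn (S := S) (gmFn (toUnit X ≫ c) * gaFn b)
  have h : gaFn a' * gmFn (toUnit X ≫ c) = gaFn a := by
    rw [ha']; linear_combination gaFn a * gmFn_inv_mul (toUnit X ≫ c)
  exact ⟨a', b', h, hb', by rw [MonObj.mul_comp, MonObj.mul_comp, M.hm X a a' h, M.map_T, M.hp X b b' hb']⟩

/-- The kernel of `f` is contained in `T`. -/
theorem exists_T_of_comp_eq_one (H : SL2Rel i α pp pm av) (H' : SL2Rel i' α' pp' pm' av')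
    (hG : Red.IsReductive G) (hΩ : IsOpenImmersion (cellHom i pp pm).left)
    (hΩ' : IsOpenImmersion (cellHom i' pp' pm').left) {X : Over S} (g : X ⟶ G) (hg : g ≫ f = 1) :
    ∃ t : X ⟶ T, t ≫ i = g ∧ t ≫ fT = 1 := by
  have hr : Set.range g.left.base ⊆ Set.range (cellHom i pp pm).left.base := by
    rintro _ ⟨w, rfl⟩
    let K := AlgebraicClosure (X.left.residueField w)
    let k₀ : Spec (CommRingCat.of K) ⟶ X.left :=
      Spec.map (CommRingCat.ofHom (algebraMap (X.left.residueField w) K)) ≫ X.left.fromSpecResidueField w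
    let X₀ : Over S := Over.mk (k₀ ≫ X.hom)
    let k : X₀ ⟶ X := Over.homMk k₀ rfl
    obtain ⟨o, ho⟩ := exists_gaFn (S := S) (X := X₀) 1
    obtain ⟨o', ho'⟩ := exists_gaFn (S := S) (X := X₀) (-1)
    have hk : Set.range (k ≫ g).left.base ⊆ Set.range (cellHom i pp pm).left.base := by
      have hkf : (k ≫ g) ≫ f = 1 := by rw [Category.assoc, hg, MonObj.comp_one]
      rcases bruhat H hG hΩ (k₀ ≫ X.hom) ho ho' (k ≫ g : X₀ ⟶ G) with ⟨b, t, hA⟩ | ⟨b, t, b', hB⟩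
      · obtain ⟨b', hb', -⟩ := H.hpp X₀ t⁻¹ b
        have e : (b ≫ pp) * (t ≫ i) = ((1 : X₀ ⟶ Ga S) ≫ pm) * (t ≫ i) * (b' ≫ pp) := by
          rw [MonObj.one_comp, _root_.one_mul, hb', GrpObj.inv_comp]
          group
        rw [hA, e]
        exact cell_range _ _ _
      · exfalso
        let cX := gmFn (toUnit X₀ ≫ c)
        obtain ⟨u, hu⟩ := exists_gaFn (S := S) cX
        obtain ⟨u', hu'⟩ := exists_gaFn (S := S) (-gmFn (toUnit X₀ ≫ c)⁻¹)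
        obtain ⟨B, hB1⟩ := exists_gaFn (S := S) (cX * gaFn b)
        obtain ⟨B', hB1'⟩ := exists_gaFn (S := S) (cX * gaFn b')
        have hu2 : gaFn u' * cX = gaFn o' := by
          rw [hu', ho']; linear_combination -gmFn_inv_mul (toUnit X₀ ≫ c)
        have e := congrArg (· ≫ f) hB
        simp only [hkf, SL2Rel.w, MonObj.mul_comp, M.hp _ o u (by rw [hu, ho, _root_.mul_one]), M.hm _ o' u' hu2,
          M.hp _ b B hB1, M.hp _ b' B' hB1', M.map_T] at e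
        -- solve for `pm'(u')`
        have h2 : (u' ≫ pm') * ((1 : X₀ ⟶ T') ≫ i') * ((1 : X₀ ⟶ Ga S) ≫ pp') =
            ((1 : X₀ ⟶ Ga S) ≫ pm') * ((t ≫ fT)⁻¹ ≫ i') *
              (((t ≫ fT) ≫ i') * (u ≫ pp')⁻¹ * ((t ≫ fT) ≫ i')⁻¹ * ((B ≫ pp')⁻¹ * (B' ≫ pp')⁻¹) * (u ≫ pp')⁻¹) := by
          rw [MonObj.one_comp, MonObj.one_comp, MonObj.one_comp, GrpObj.inv_comp, _root_.mul_one, _root_.mul_one,
            _root_.one_mul]
          have : u' ≫ pm' = (u ≫ pp')⁻¹ * ((B ≫ pp') * ((t ≫ fT) ≫ i'))⁻¹ * (B' ≫ pp')⁻¹ * (u ≫ pp')⁻¹ := by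
            calc u' ≫ pm' = (u ≫ pp')⁻¹ * ((B ≫ pp') * ((t ≫ fT) ≫ i'))⁻¹ *
                  ((B ≫ pp') * ((t ≫ fT) ≫ i') * ((u ≫ pp') * (u' ≫ pm') * (u ≫ pp')) * (B' ≫ pp')) *
                    (B' ≫ pp')⁻¹ * (u ≫ pp')⁻¹ := by group
              _ = _ := by rw [← e]; group
          rw [this]; group
        obtain ⟨s₁, hs₁, -⟩ := H'.hpp X₀ (t ≫ fT) u⁻¹
        obtain ⟨R, hR⟩ : ∃ R : X₀ ⟶ Ga S, R ≫ pp' =
            ((t ≫ fT) ≫ i') * (u ≫ pp')⁻¹ * ((t ≫ fT) ≫ i')⁻¹ * ((B ≫ pp')⁻¹ * (B' ≫ pp')⁻¹) * (u ≫ pp')⁻¹ :=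
          ⟨s₁ * (B⁻¹ * B'⁻¹) * u⁻¹, by
            rw [MonObj.mul_comp (s₁ * (B⁻¹ * B'⁻¹)) (u⁻¹) pp', MonObj.mul_comp s₁ (B⁻¹ * B'⁻¹) pp', hs₁,
              MonObj.mul_comp (B⁻¹) (B'⁻¹) pp', GrpObj.inv_comp, GrpObj.inv_comp, GrpObj.inv_comp]⟩
        rw [← hR] at h2
        obtain ⟨h3, -, -⟩ := cell_unique hΩ' h2
        rw [h3, gaFn_one, zero_mul, ho'] at hu2
        haveI : Nontrivial Γ(X₀.left, ⊤) :=
          (ConcreteCategory.bijective_of_isIso (Scheme.ΓSpecIso (CommRingCat.of K)).inv).1.nontrivial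
        exact neg_ne_zero.mpr one_ne_zero hu2.symm
    have hw : k.left.base (IsLocalRing.closedPoint K) = w := X.left.fromSpecResidueField_apply w _
    rw [← hw]
    exact hk ⟨IsLocalRing.closedPoint K, rfl⟩
  obtain ⟨a, t, b, hab⟩ := exists_cell hΩ g hr
  obtain ⟨a', b', ha', hb', hf⟩ := M.map_cell a t b
  have h1 : (a' ≫ pm') * ((t ≫ fT) ≫ i') * (b' ≫ pp') =
      ((1 : X ⟶ Ga S) ≫ pm') * ((1 : X ⟶ T') ≫ i') * ((1 : X ⟶ Ga S) ≫ pp') := by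
    rw [← hf, ← hab, hg, MonObj.one_comp, MonObj.one_comp, MonObj.one_comp, _root_.mul_one, _root_.mul_one]
  obtain ⟨e1, e2, e3⟩ := cell_unique hΩ' h1
  refine ⟨t, ?_, e2⟩
  rw [e1, gaFn_one, zero_mul] at ha'
  rw [e3, gaFn_one, eq_comm] at hb'
  rw [hab, gaFn_injective (x := a) (y := 1) (by rw [← ha', gaFn_one]),
    gaFn_injective (x := b) (y := 1) (by rw [gaFn_one]; exact (isUnit_gmFn _).mul_right_eq_zero.mp hb'),
    MonObj.one_comp, MonObj.one_comp, _root_.mul_one, _root_.one_mul]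

/-- Points of `G'` lift to `G` on a cover composed of an fppf and an fpqc morphism. -/
theorem exists_lift (hG' : Red.IsReductive G') (hΩ' : IsOpenImmersion (cellHom i' pp' pm').left)
    [Flat fT.left] [Surjective fT.left] [QuasiCompact fT.left] {X : Over S} (g' : X ⟶ G') :
    ∃ (X₁ X₂ : Over S) (π₁ : X₁ ⟶ X) (π₂ : X₂ ⟶ X₁) (h : X₂ ⟶ G),
      AlgSpLib.FPPF π₁.left ∧ Et18.FPQC π₂.left ∧ h ≫ f = π₂ ≫ π₁ ≫ g' := by
  obtain ⟨X₁, π₁, c₁, c₂, hsu, ⟨hfl, hfp⟩, he, hc₁, hc₂⟩ := exists_cell_cover_fppf hG' hΩ' g'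
  obtain ⟨a₁, t₁, b₁, e₁⟩ := exists_cell hΩ' c₁ hc₁
  obtain ⟨a₂, t₂, b₂, e₂⟩ := exists_cell hΩ' c₂ hc₂
  obtain ⟨Y, ρ, s₁, hρ, hs₁⟩ := exists_lift_fpqc fT t₁
  obtain ⟨X₂, σ, s₂, hσ, hs₂⟩ := exists_lift_fpqc fT (ρ ≫ t₂)
  obtain ⟨⟨hρ1, hρ2⟩, hρ3⟩ := hρ
  obtain ⟨⟨hσ1, hσ2⟩, hσ3⟩ := hσ
  haveI := hρ1
  haveI := hρ2
  haveI := hρ3
  haveI := hσ1
  haveI := hσ2
  haveI := hσ3
  have hlift : ∀ (a : X₁ ⟶ Ga S) (t : X₁ ⟶ T') (b : X₁ ⟶ Ga S) (s : X₂ ⟶ T), s ≫ fT = (σ ≫ ρ) ≫ t →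
      ∃ k : X₂ ⟶ G, k ≫ f = (σ ≫ ρ) ≫ ((a ≫ pm') * (t ≫ i') * (b ≫ pp')) := by
    intro a t b s hs
    obtain ⟨a', ha'⟩ := exists_gaFn (S := S) (gaFn ((σ ≫ ρ) ≫ a) * gmFn (toUnit X₂ ≫ c))
    obtain ⟨b', hb'⟩ := exists_gaFn (S := S) (gmFn (toUnit X₂ ≫ c)⁻¹ * gaFn ((σ ≫ ρ) ≫ b))
    refine ⟨(a' ≫ pm) * (s ≫ i) * (b' ≫ pp), ?_⟩
    rw [MonObj.mul_comp, MonObj.mul_comp, M.hm X₂ a' ((σ ≫ ρ) ≫ a) ha'.symm, M.map_T, hs,
      M.hp X₂ b' ((σ ≫ ρ) ≫ b) (by rw [hb']; linear_combination -gaFn ((σ ≫ ρ) ≫ b) * gmFn_inv_mul (toUnit X₂ ≫ c))]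
    simp only [MonObj.comp_mul, Category.assoc]
  obtain ⟨k₁, hk₁⟩ := hlift a₁ t₁ b₁ (σ ≫ s₁) (by rw [Category.assoc, hs₁, Category.assoc])
  obtain ⟨k₂, hk₂⟩ := hlift a₂ t₂ b₂ s₂ (by rw [hs₂, Category.assoc])
  refine ⟨X₁, X₂, π₁, σ ≫ ρ, k₂ * k₁⁻¹, ⟨⟨hsu, hfl⟩, hfp⟩, ?_, ?_⟩
  · rw [Over.comp_left]
    exact ⟨⟨inferInstance, inferInstance⟩, inferInstance⟩
  · rw [he, MonObj.mul_comp, GrpObj.inv_comp, hk₁, hk₂, ← e₁, ← e₂, MonObj.comp_mul, GrpObj.comp_inv]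

variable (H : SL2Rel i α pp pm av) (H' : SL2Rel i' α' pp' pm' av') (hG : Red.IsReductive G)
  (hΩ : IsOpenImmersion (cellHom i pp pm).left) (hΩ' : IsOpenImmersion (cellHom i' pp' pm').left)
  {Q : Over S} {k : Q ⟶ T} (hk : AlgGrp.IsKernel k fT)
include H H' hG hΩ hΩ' hk

theorem comp_eq_one {X : Over S} (q : X ⟶ Q) : (q ≫ k ≫ i) ≫ f = 1 := by
  have h : (q ≫ k) ≫ fT = 1 := by
    rw [Category.assoc, hk.w, ← Category.assoc, toUnit_unique (q ≫ toUnit Q) (toUnit X), Hom.one_def]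
  rw [Category.assoc, Category.assoc, M.hT, ← Category.assoc k, ← Category.assoc, ← Category.assoc, h,
    MonObj.one_comp]

/-- The kernel of `f` is the kernel of `fT`. -/
theorem exists_Q {X : Over S} (g : X ⟶ G) (hg : g ≫ f = 1) : ∃ q : X ⟶ Q, q ≫ k ≫ i = g := by
  obtain ⟨t, ht, ht'⟩ := M.exists_T_of_comp_eq_one H H' hG hΩ hΩ' g hg
  refine ⟨hk.lift t (toUnit X) (ht'.trans Hom.one_def.symm), ?_⟩
  rw [← Category.assoc, hk.lift_fst, ht]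

theorem isKernel [Mono i] : AlgGrp.IsKernel (k ≫ i) f := by
  haveI : Mono (η[T'] : 𝟙_ (Over S) ⟶ T') := ⟨fun a b _ => toUnit_unique a b⟩
  haveI : Mono k := hk.mono_fst_of_mono
  have hs : ∀ s : PullbackCone f η[G'], ∃ q : s.pt ⟶ Q, q ≫ k ≫ i = s.fst := fun s =>
    M.exists_Q H H' hG hΩ hΩ' hk s.fst (by
      rw [s.condition, toUnit_unique s.snd (toUnit s.pt), Hom.one_def])
  refine IsPullback.of_isLimit' ⟨?_⟩ (PullbackCone.IsLimit.mk _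
    (fun s => (hs s).choose) (fun s => (hs s).choose_spec)
    (fun s => toUnit_unique _ _) (fun s m h₁ _ => ?_))
  · have h := M.comp_eq_one H H' hG hΩ hΩ' hk (𝟙 Q)
    rw [Category.id_comp] at h
    rw [h, Hom.one_def]
  · rw [← cancel_mono (k ≫ i)]
    exact h₁.trans (hs s).choose_spec.symm

/-- The base change of `f` along a cover admitting a lift is the projection `X ⊗ Ker → X`. -/
theorem isPullback_lift [Mono i] {X : Over S} (π : X ⟶ G') (h : X ⟶ G) (hh : h ≫ f = π) :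
    IsPullback (fst X Q) ((snd X Q ≫ k ≫ i) * (fst X Q ≫ h)) π f := by
  haveI : Mono (η[T'] : 𝟙_ (Over S) ⟶ T') := ⟨fun a b _ => toUnit_unique a b⟩
  haveI : Mono k := hk.mono_fst_of_mono
  have hs : ∀ s : PullbackCone π f, ∃ q : s.pt ⟶ Q, q ≫ k ≫ i = s.snd * (s.fst ≫ h)⁻¹ := fun s =>
    M.exists_Q H H' hG hΩ hΩ' hk _ (by
      rw [MonObj.mul_comp, GrpObj.inv_comp, Category.assoc, hh, ← s.condition, mul_inv_cancel])
  refine IsPullback.of_isLimit' ⟨?_⟩ (PullbackCone.IsLimit.mk _ (fun s => lift s.fst (hs s).choose)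
    (fun s => lift_fst _ _) (fun s => ?_) (fun s m h₁ h₂ => ?_))
  · rw [MonObj.mul_comp, M.comp_eq_one H H' hG hΩ hΩ' hk, _root_.one_mul, Category.assoc, hh]
  · show lift _ _ ≫ ((snd X Q ≫ k ≫ i) * (fst X Q ≫ h)) = s.snd
    rw [MonObj.comp_mul, lift_snd_assoc, lift_fst_assoc, (hs s).choose_spec, inv_mul_cancel_right]
  · apply CartesianMonoidalCategory.hom_ext
    · rw [lift_fst]; exact h₁
    · rw [lift_snd, ← cancel_mono (k ≫ i), (hs s).choose_spec, ← h₁, ← h₂, MonObj.comp_mul, Category.assoc,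
        Category.assoc, mul_inv_cancel_right]

/-- A property descending along fppf and fpqc morphisms passes from the kernel to `f`. -/
theorem of_kernel [Mono i] (hG' : Red.IsReductive G') [Flat fT.left] [Surjective fT.left] [QuasiCompact fT.left]
    (P : MorphismProperty Scheme.{u}) [P.RespectsIso] [P.DescendsAlong AlgSpLib.FPPF.{u}]
    [P.DescendsAlong Et18.FPQC.{u}] (hP : ∀ X : Over S, P (fst X Q).left) : P f.left := by
  obtain ⟨X₁, X₂, π₁, π₂, h, h₁, h₂, hh⟩ := M.exists_lift hG' hΩ' (𝟙 G')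
  rw [Category.comp_id] at hh
  have hpb : IsPullback (fst X₂ Q).left ((snd X₂ Q ≫ k ≫ i) * (fst X₂ Q ≫ h)).left (π₂ ≫ π₁).left f.left :=
    (M.isPullback_lift H H' hG hΩ hΩ' hk (π₂ ≫ π₁) h hh).map (Over.forget S)
  rw [Over.comp_left] at hpb
  refine MorphismProperty.of_isPullback_of_descendsAlong (Q := AlgSpLib.FPPF.{u})
    (IsPullback.of_hasPullback π₁.left f.left) h₁ ?_
  refine MorphismProperty.of_isPullback_of_descendsAlong (Q := Et18.FPQC.{u})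
    (IsPullback.of_hasPullback π₂.left (pullback.fst π₁.left f.left)) h₂ ?_
  have e := (IsPullback.of_hasPullback π₂.left (pullback.fst π₁.left f.left)).paste_vert
    (IsPullback.of_hasPullback π₁.left f.left)
  rw [← e.isoIsPullback_hom_fst _ _ hpb]
  exact (P.cancel_left_of_respectsIso _ _).2 (hP X₂)

end RankOneMap

end Groth.Agent.SGA3cLib
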