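import Groth.Agent.SGA3cLib.RankOneExist
import Mathlib.RingTheory.Localization.Away.Basic
import Mathlib.RingTheory.Flat.Localization

/-! Homomorphisms out of a rank one group by generators and relations. -/

set_option linter.style.haveILetI false
set_option linter.unusedSectionVars false
set_option autoImplicit false

universe u

open CategoryTheory CategoryTheory.Limits MonoidalCategory CartesianMonoidalCategory MonObj AlgebraicGeometry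
open Red

noncomputable section

namespace Groth.Agent.SGA3cLib

variable {S : Scheme.{u}}

/-- A faithfully flat cover on which a fibrewise nonzero polynomial takes an invertible value. -/
theorem exists_unit_cover {X : Over S} (f : Polynomial Γ(X.left, ⊤))
    (hf : ∀ (K : Type u) [Field K] (φ : Γ(X.left, ⊤) →+* K), f.map φ ≠ 0) :
    ∃ (X' : Over S) (π : X' ⟶ X) (t : Γ(X'.left, ⊤)), Epi π ∧ IsUnit (f.eval₂ π.left.appTop.hom t) := by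
  let R := Γ(X.left, ⊤)
  let A := Localization.Away f
  let φ : R ⟶ CommRingCat.of A := CommRingCat.ofHom ((algebraMap (Polynomial R) A).comp Polynomial.C)
  haveI : Flat (Spec.map φ) := by
    rw [Flat.SpecMap_iff]
    refine RingHom.Flat.comp ?_ ?_
    · show (algebraMap R (Polynomial R)).Flat
      exact RingHom.flat_algebraMap_iff.mpr inferInstance
    · exact RingHom.flat_algebraMap_iff.mpr (IsLocalization.flat A (Submonoid.powers f))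
  haveI : Surjective (Spec.map φ) := by
    refine ⟨fun (x : PrimeSpectrum R) => ?_⟩
    let q : Ideal (Polynomial R) := x.asIdeal.map Polynomial.C
    haveI hq : q.IsPrime := Ideal.isPrime_map_C_of_isPrime
    have hfq : f ∉ q := fun h => hf (FractionRing (R ⧸ x.asIdeal))
        ((algebraMap (R ⧸ x.asIdeal) _).comp (Ideal.Quotient.mk x.asIdeal)) (by
      ext n
      rw [Polynomial.coeff_map, Polynomial.coeff_zero, RingHom.comp_apply,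
        Ideal.Quotient.eq_zero_iff_mem.mpr (Ideal.mem_map_C_iff.mp h n), map_zero])
    have hdisj : Disjoint (Submonoid.powers f : Set (Polynomial R)) q := by
      rw [Set.disjoint_left]
      rintro _ ⟨n, rfl⟩ h
      exact hfq (hq.mem_of_pow_mem n h)
    let Q : Ideal A := q.map (algebraMap (Polynomial R) A)
    haveI : Q.IsPrime := IsLocalization.isPrime_of_isPrime_disjoint (Submonoid.powers f) A q hq hdisj
    refine ⟨(⟨Q, inferInstance⟩ : PrimeSpectrum A), PrimeSpectrum.ext ?_⟩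
    show Q.comap ((algebraMap (Polynomial R) A).comp Polynomial.C) = x.asIdeal
    rw [← Ideal.comap_comap, show Ideal.comap (algebraMap (Polynomial R) A) Q = q from
      IsLocalization.comap_map_of_isPrime_disjoint (Submonoid.powers f) A hq hdisj]
    ext r
    rw [Ideal.mem_comap, Ideal.mem_map_C_iff]
    refine ⟨fun h => by simpa using h 0, fun hr n => ?_⟩
    rw [Polynomial.coeff_C]
    split
    · exact hr
    · exact zero_mem _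
  let p := Limits.pullback.fst X.left.toSpecΓ (Spec.map φ)
  let ψ : A →+* Γ(Limits.pullback X.left.toSpecΓ (Spec.map φ), ⊤) :=
    ((Scheme.ΓSpecIso (CommRingCat.of A)).inv ≫
      (Limits.pullback.snd X.left.toSpecΓ (Spec.map φ)).appTop).hom
  have hψ : ψ.comp ((algebraMap (Polynomial R) A).comp Polynomial.C) = p.appTop.hom := by
    ext r
    have h := congrArg (fun f : Limits.pullback X.left.toSpecΓ (Spec.map φ) ⟶ Spec R =>
        ((Scheme.ΓSpecIso R).inv ≫ f.appTop).hom r)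
      (Limits.pullback.condition (f := X.left.toSpecΓ) (g := Spec.map φ))
    simp only [Scheme.Hom.comp_appTop] at h
    rw [Scheme.toSpecΓ_appTop, Iso.inv_hom_id_assoc, ← Category.assoc, ← Scheme.ΓSpecIso_inv_naturality,
      Category.assoc] at h
    exact h.symm
  refine ⟨Over.mk (p ≫ X.hom), Over.homMk p rfl, ψ (algebraMap (Polynomial R) A Polynomial.X), ?_, ?_⟩
  · haveI : Flat p := inferInstance
    haveI : Surjective p := inferInstance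
    haveI : Epi p := Flat.epi_of_flat_of_surjective p
    exact (Over.forget S).epi_of_epi_map (f := Over.homMk (U := Over.mk (p ≫ X.hom)) (V := X) p rfl) ‹_›
  show IsUnit (f.eval₂ p.appTop.hom (ψ (algebraMap (Polynomial R) A Polynomial.X)))
  have h1 : f.eval₂ p.appTop.hom (ψ (algebraMap (Polynomial R) A Polynomial.X)) = ψ (algebraMap (Polynomial R) A f) := by
    rw [← hψ, show ψ (algebraMap (Polynomial R) A Polynomial.X) = (ψ.comp (algebraMap (Polynomial R) A)) Polynomial.X from rfl]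
    have e := Polynomial.hom_eval₂ f Polynomial.C (ψ.comp (algebraMap (Polynomial R) A)) Polynomial.X
    rw [Polynomial.eval₂_C_X] at e
    exact e.symm
  rw [h1]
  exact (IsLocalization.Away.algebraMap_isUnit f).map ψ

theorem isMonHom_of_map_mul {A B : Over S} [GrpObj A] [GrpObj B] (F : A ⟶ B)
    (hF : ∀ (X : Over S) (g g' : X ⟶ A), (g * g') ≫ F = (g ≫ F) * (g' ≫ F)) : IsMonHom F := by
  have h1 : (1 : 𝟙_ (Over S) ⟶ A) ≫ F = 1 := by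
    have h := hF _ (1 : 𝟙_ (Over S) ⟶ A) 1
    rw [_root_.one_mul] at h
    exact left_eq_mul.mp h
  exact
    { one_hom := by
        have e := h1
        simp only [Hom.one_def, toUnit_unique (toUnit (𝟙_ (Over S))) (𝟙 _), Category.id_comp] at e
        exact e
      mul_hom := by
        have h := hF _ (fst A A) (snd A A)
        rw [Hom.mul_def, Hom.mul_def, lift_fst_snd, Category.id_comp] at h
        rw [h]
        congr 1
        all_goals (apply CartesianMonoidalCategory.hom_ext <;> simp) }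

variable {G T H : Over S} [GrpObj G] [GrpObj T] [GrpObj H] {i : T ⟶ G} [IsMonHom i]
  {α : T ⟶ Gm S} [IsMonHom α] {pp pm : Ga S ⟶ G} [IsMonHom pp] [IsMonHom pm]
  {av : Gm S ⟶ T} [IsMonHom av]

/-- The defining relations, in a group `H`. -/
structure RankOneRelations (α : T ⟶ Gm S) (av : Gm S ⟶ T) (fT : T ⟶ H) (fp fm : Ga S ⟶ H) : Prop where
  conjp : ∀ (X : Over S) (t : X ⟶ T) (x x' : X ⟶ Ga S), gaFn x' = gmFn (t ≫ α) * gaFn x →
    (t ≫ fT) * (x ≫ fp) * (t ≫ fT)⁻¹ = x' ≫ fp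
  conjm : ∀ (X : Over S) (t : X ⟶ T) (y y' : X ⟶ Ga S), gaFn y' * gmFn (t ≫ α) = gaFn y →
    (t ≫ fT) * (y ≫ fm) * (t ≫ fT)⁻¹ = y' ≫ fm
  formula : ∀ (X : Over S) (x y x' y' : X ⟶ Ga S) (z : X ⟶ Gm S), gmFn z = 1 + gaFn x * gaFn y →
    gaFn x' * gmFn z = gaFn x → gaFn y' * gmFn z = gaFn y →
    (x ≫ fp) * (y ≫ fm) = (y' ≫ fm) * ((z ≫ av) ≫ fT) * (x' ≫ fp)

/-- Maps satisfying the relations extend uniquely to the group. -/
theorem existsUnique_hom_of_relations [Mono i] (Hr : SL2Rel i α pp pm av) (hG : Red.IsReductive G)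
    (hΩ : IsOpenImmersion (cellHom i pp pm).left) (fT : T ⟶ H) [IsMonHom fT] (fp fm : Ga S ⟶ H) [IsMonHom fp]
    [IsMonHom fm] (hR : RankOneRelations α av fT fp fm) :
    ∃! f : G ⟶ H, IsMonHom f ∧ ∀ (X : Over S) (a : X ⟶ Ga S) (t : X ⟶ T) (b : X ⟶ Ga S),
      ((a ≫ pm) * (t ≫ i) * (b ≫ pp)) ≫ f = (a ≫ fm) * (t ≫ fT) * (b ≫ fp) := by
  let R : G.left.Opens := (cellHom i pp pm).left.opensRange
  have hR1 : ∀ X : Over S, Set.range (1 : X ⟶ G).left.base ⊆ (R : Set G.left) := fun X => by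
    have h := cell_range (i := i) (pp := pp) (pm := pm) (1 : X ⟶ Ga S) 1 1
    rw [MonObj.one_comp, MonObj.one_comp, MonObj.one_comp, _root_.one_mul, _root_.one_mul] at h
    exact h
  have hRj : ∀ {X : Over S} (v : X ⟶ opOver R),
      Set.range (v ≫ opIncl R).left.base ⊆ Set.range (cellHom i pp pm).left.base := by
    intro X v
    rintro _ ⟨z, rfl⟩
    exact (v.left.base z).2
  obtain ⟨a₀, t₀, b₀, h₀⟩ := exists_cell hΩ (opIncl R) (by rintro _ ⟨z, rfl⟩; exact z.2)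
  let Φ : opOver R ⟶ H := (a₀ ≫ fm) * (t₀ ≫ fT) * (b₀ ≫ fp)
  have hcoord : ∀ {X : Over S} (v : X ⟶ opOver R) (a : X ⟶ Ga S) (t : X ⟶ T) (b : X ⟶ Ga S),
      v ≫ opIncl R = (a ≫ pm) * (t ≫ i) * (b ≫ pp) → v ≫ Φ = (a ≫ fm) * (t ≫ fT) * (b ≫ fp) := by
    intro X v a t b hv
    rw [h₀, MonObj.comp_mul, MonObj.comp_mul, ← Category.assoc, ← Category.assoc, ← Category.assoc] at hv
    obtain ⟨e1, e2, e3⟩ := cell_unique hΩ hv
    simp only [Φ, MonObj.comp_mul, ← Category.assoc, e1, e2, e3]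
  obtain ⟨F, ⟨hF, hFΦ⟩, huniq⟩ := existsUnique_extension hG R hR1 Φ (fun X u v w huvw => by
    obtain ⟨a, t, b, hu⟩ := exists_cell hΩ (u ≫ opIncl R) (hRj u)
    obtain ⟨a₂, t₂, b₂, hv⟩ := exists_cell hΩ (v ≫ opIncl R) (hRj v)
    obtain ⟨a₃, t₃, b₃, hw⟩ := exists_cell hΩ (w ≫ opIncl R) (hRj w)
    rw [hcoord u a t b hu, hcoord v a₂ t₂ b₂ hv, hcoord w a₃ t₃ b₃ hw]
    rw [hu, hv, hw] at huvw
    obtain ⟨b₄, hb₄⟩ : ∃ b₄ : X ⟶ Ga S, (b₃ ≫ pp) * (b₂ ≫ pp)⁻¹ = b₄ ≫ pp :=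
      ⟨b₃ * b₂⁻¹, by rw [MonObj.mul_comp b₃ (b₂⁻¹) pp, GrpObj.inv_comp]⟩
    obtain ⟨a₄, ha₄, -⟩ := Hr.hpm X t⁻¹ (a⁻¹ * a₃)
    obtain ⟨b₅, hb₅, -⟩ := Hr.hpp X t₂ b₄
    have hmid : (b ≫ pp) * (a₂ ≫ pm) = (a₄ ≫ pm) * ((t⁻¹ * t₃ * t₂⁻¹) ≫ i) * (b₅ ≫ pp) := by
      rw [ha₄, hb₅, MonObj.mul_comp (t⁻¹ * t₃) (t₂⁻¹) i, MonObj.mul_comp (t⁻¹) t₃ i, MonObj.mul_comp (a⁻¹) a₃ pm,
        GrpObj.inv_comp, GrpObj.inv_comp, GrpObj.inv_comp, ← hb₄]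
      calc _ = (t ≫ i)⁻¹ * (a ≫ pm)⁻¹ * (((a ≫ pm) * (t ≫ i) * (b ≫ pp)) * ((a₂ ≫ pm) * (t₂ ≫ i) * (b₂ ≫ pp))) *
            (b₂ ≫ pp)⁻¹ * (t₂ ≫ i)⁻¹ := by group
        _ = _ := by rw [huvw]; group
    obtain ⟨x', y', z, hz, hx', hy', he⟩ := Hr.hF X b a₂
      (isUnit_of_pp_mul_pm_mem Hr hΩ b a₂ (hmid ▸ cell_range _ _ _))
    obtain ⟨y₁, hy₁, hy₁'⟩ := Hr.hpm X t y'
    obtain ⟨x₁, hx₁, hx₁'⟩ := Hr.hpp X t₂⁻¹ x'
    have hprod : ((a ≫ pm) * (t ≫ i) * (b ≫ pp)) * ((a₂ ≫ pm) * (t₂ ≫ i) * (b₂ ≫ pp)) =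
        ((a * y₁) ≫ pm) * ((t * (z ≫ av) * t₂) ≫ i) * ((x₁ * b₂) ≫ pp) := by
      rw [MonObj.mul_comp a y₁ pm, MonObj.mul_comp x₁ b₂ pp, MonObj.mul_comp (t * (z ≫ av)) t₂ i,
        MonObj.mul_comp t (z ≫ av) i, hy₁, hx₁, GrpObj.inv_comp, Category.assoc]
      calc _ = (a ≫ pm) * (t ≫ i) * ((b ≫ pp) * (a₂ ≫ pm)) * (t₂ ≫ i) * (b₂ ≫ pp) := by group
        _ = _ := by rw [he]; group
    obtain ⟨e1, e2, e3⟩ := cell_unique hΩ (huvw.symm.trans hprod)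
    subst e1
    subst e2
    subst e3
    rw [MonObj.mul_comp a y₁ fm, MonObj.mul_comp x₁ b₂ fp, MonObj.mul_comp (t * (z ≫ av)) t₂ fT,
      MonObj.mul_comp t (z ≫ av) fT, ← hR.conjm X t y' y₁ hy₁', ← hR.conjp X t₂⁻¹ x' x₁ hx₁', GrpObj.inv_comp]
    calc _ = (a ≫ fm) * (t ≫ fT) * ((b ≫ fp) * (a₂ ≫ fm)) * (t₂ ≫ fT) * (b₂ ≫ fp) := by group
      _ = _ := by rw [hR.formula X b a₂ x' y' z hz hx' hy']; group)
  refine ⟨F, ⟨hF, fun X a t b => ?_⟩, fun F' ⟨hF', h'⟩ => huniq F' ⟨hF', ?_⟩⟩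
  · obtain ⟨v, hv⟩ := exists_opPoint R ((a ≫ pm) * (t ≫ i) * (b ≫ pp)) (cell_range a t b)
    rw [← hv, Category.assoc, hFΦ, hcoord v a t b hv]
  · have h0 := h' _ a₀ t₀ b₀
    rw [← h₀] at h0
    exact h0

/-- The hypotheses of the presentation: `h` is the image of the Weyl element, `fα` that of `pp`. -/
structure WeylRelations (α : T ⟶ Gm S) (av : Gm S ⟶ T) (fT : T ⟶ H) (fp : Ga S ⟶ H) (e₁ : 𝟙_ (Over S) ⟶ Ga S)
    (m : 𝟙_ (Over S) ⟶ Gm S) (h : 𝟙_ (Over S) ⟶ H) : Prop where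
  conjp : ∀ (X : Over S) (t : X ⟶ T) (x x' : X ⟶ Ga S), gaFn x' = gmFn (t ≫ α) * gaFn x →
    (t ≫ fT) * (x ≫ fp) * (t ≫ fT)⁻¹ = x' ≫ fp
  conjh : ∀ (X : Over S) (t : X ⟶ T),
    (toUnit X ≫ h) * (t ≫ fT) * (toUnit X ≫ h)⁻¹ = (t * (t ≫ α ≫ av)⁻¹) ≫ fT
  sq : h ^ 2 = m ≫ av ≫ fT
  cube : (h * (e₁ ≫ fp)) ^ 3 = 1

namespace WeylRelations

variable {fT : T ⟶ H} [IsMonHom fT] {fp : Ga S ⟶ H} [IsMonHom fp] {e₁ : 𝟙_ (Over S) ⟶ Ga S}
  {m : 𝟙_ (Over S) ⟶ Gm S} {h : 𝟙_ (Over S) ⟶ H}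

/-- The prescribed image of the negative root group. -/
def negRoot (fp : Ga S ⟶ H) (h : 𝟙_ (Over S) ⟶ H) : Ga S ⟶ H :=
  (toUnit _ ≫ h) * ((𝟙 (Ga S))⁻¹ ≫ fp) * (toUnit _ ≫ h)⁻¹

theorem comp_negRoot {X : Over S} (y : X ⟶ Ga S) :
    y ≫ negRoot fp h = (toUnit X ≫ h) * (y⁻¹ ≫ fp) * (toUnit X ≫ h)⁻¹ := by
  simp only [negRoot, MonObj.comp_mul, GrpObj.comp_inv, ← Category.assoc, Category.comp_id,
    toUnit_unique (y ≫ toUnit (Ga S)) (toUnit X)]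

instance : IsMonHom (negRoot fp h) := isMonHom_of_map_mul _ fun X a b => by
  have hab : (a * b)⁻¹ = a⁻¹ * b⁻¹ := gaFn_injective (by
    rw [gaFn_inv, gaFn_mul, gaFn_mul, gaFn_inv, gaFn_inv]; ring)
  rw [comp_negRoot, comp_negRoot, comp_negRoot, hab, MonObj.mul_comp (a⁻¹) (b⁻¹) fp]
  group

variable (hW : WeylRelations α av fT fp e₁ m h) (he₁ : gaFn e₁ = 1) (hm : gmFn m = -1)
  (hαav : av ≫ α = (𝟙 (Gm S)) ^ 2) (hcomm : ∀ (X : Over S) (t t' : X ⟶ T), t * t' = t' * t)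
include hW he₁ hm hαav hcomm

omit hW he₁ hm hcomm in
theorem gmFn_av_α' {X : Over S} (z : X ⟶ Gm S) : gmFn ((z ≫ av) ≫ α) = gmFn z ^ 2 := by
  rw [Category.assoc, hαav, MonObj.comp_pow, Category.comp_id, gmFn_pow]

omit hW he₁ hm hcomm in
theorem av_α_av {X : Over S} (z : X ⟶ Gm S) : (z ≫ av) ≫ α ≫ av = (z ≫ av) * (z ≫ av) := by
  rw [← MonObj.mul_comp z z av, ← Category.assoc]
  congr 1
  exact gmFn_injective (by rw [gmFn_av_α' hαav, gmFn_mul, pow_two])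

/-- `h t h⁻¹ = t'` is involutive. -/
theorem conjh' {X : Over S} (t : X ⟶ T) :
    (toUnit X ≫ h) * ((t * (t ≫ α ≫ av)⁻¹) ≫ fT) * (toUnit X ≫ h)⁻¹ = t ≫ fT := by
  rw [hW.conjh]
  congr 1
  have ha : (t ≫ α ≫ av) ≫ α ≫ av = (t ≫ α ≫ av) * (t ≫ α ≫ av) := by
    have := av_α_av hαav (t ≫ α)
    rwa [Category.assoc] at this
  rw [MonObj.mul_comp t _ (α ≫ av), GrpObj.inv_comp, ha]
  group

theorem conjm {X : Over S} (t : X ⟶ T) (y y' : X ⟶ Ga S) (hy : gaFn y' * gmFn (t ≫ α) = gaFn y) :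
    (t ≫ fT) * (y ≫ negRoot fp h) * (t ≫ fT)⁻¹ = y' ≫ negRoot fp h := by
  let t' : X ⟶ T := t * (t ≫ α ≫ av)⁻¹
  have hα : gmFn (t' ≫ α) * gmFn (t ≫ α) = 1 := by
    have : t' ≫ α = (t ≫ α)⁻¹ := by
      show (t * (t ≫ α ≫ av)⁻¹) ≫ α = _
      have e : ((t ≫ α) ≫ av) ≫ α = (t ≫ α) * (t ≫ α) := gmFn_injective (by
        rw [gmFn_av_α' hαav, gmFn_mul, pow_two])
      rw [MonObj.mul_comp t _ α, GrpObj.inv_comp (t ≫ α ≫ av) α, ← Category.assoc t α av, e]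
      refine gmFn_injective ((isUnit_gmFn (t ≫ α)).mul_right_cancel ?_)
      rw [gmFn_inv_mul, gmFn_mul]
      have h2 := gmFn_inv_mul ((t ≫ α) * (t ≫ α))
      rw [gmFn_mul] at h2
      linear_combination h2
    rw [this, gmFn_inv_mul]
  rw [comp_negRoot, comp_negRoot, ← hW.conjp X t' y⁻¹ y'⁻¹ (by
    rw [gaFn_inv, gaFn_inv]; linear_combination gmFn (t' ≫ α) * (-hy) + gaFn y' * hα)]
  have e := conjh' hW he₁ hm hαav hcomm t
  rw [show (t * (t ≫ α ≫ av)⁻¹) ≫ fT = t' ≫ fT from rfl] at e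
  rw [← e]
  group

omit he₁ hm hαav hcomm in
theorem h_mul_T {X : Over S} (t : X ⟶ T) :
    (toUnit X ≫ h) * (t ≫ fT) = ((t * (t ≫ α ≫ av)⁻¹) ≫ fT) * (toUnit X ≫ h) :=
  mul_inv_eq_iff_eq_mul.mp (hW.conjh X t)

theorem h_mul_K {X : Over S} (z : X ⟶ Gm S) :
    (toUnit X ≫ h) * ((z ≫ av) ≫ fT) = ((z ≫ av) ≫ fT)⁻¹ * (toUnit X ≫ h) := by
  rw [h_mul_T hW (z ≫ av), av_α_av hαav z, ← GrpObj.inv_comp (z ≫ av) fT]
  congr 2
  group

/-- `U(x) V(-1/x) U(x) = K(x) h` for invertible `x`. -/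
theorem w_formula {X : Over S} (x x' : X ⟶ Ga S) (hx : gaFn x' * gaFn x = -1) (z : X ⟶ Gm S)
    (hz : gmFn z = gaFn x) :
    (x ≫ fp) * (x' ≫ negRoot fp h) * (x ≫ fp) = ((z ≫ av) ≫ fT) * (toUnit X ≫ h) := by
  obtain ⟨X', π, s, -, hπ, hs⟩ := exists_sqrt (S := S) (r := gmFn z) (isUnit_gmFn z)
  haveI := hπ
  refine (cancel_epi π).mp ?_
  have hT : π ≫ toUnit X ≫ h = toUnit X' ≫ h := by
    rw [← Category.assoc, toUnit_unique (π ≫ toUnit X) (toUnit X')]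
  simp only [MonObj.comp_mul, hT]
  simp only [← Category.assoc]
  have hxz : gaFn (π ≫ x) = gmFn s ^ 2 := by rw [gaFn_comp, ← hz, hs]
  have hx'z : gaFn (π ≫ x') * gmFn s ^ 2 = -1 := by
    rw [← hxz, gaFn_comp, gaFn_comp, ← map_mul, hx, map_neg, map_one]
  have hzs : π ≫ z = s * s := gmFn_injective (by rw [gmFn_comp, gmFn_mul, ← pow_two, hs])
  rw [hzs, MonObj.mul_comp s s av, MonObj.mul_comp (s ≫ av) (s ≫ av) fT]
  -- the case `x = 1`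
  obtain ⟨o, ho⟩ : ∃ o : X' ⟶ Ga S, o = toUnit X' ≫ e₁ := ⟨_, rfl⟩
  have ho1 : gaFn o = 1 := by rw [ho, gaFn_comp, he₁, map_one]
  have hsq : (toUnit X' ≫ h) * (toUnit X' ≫ h) = ((toUnit X' ≫ m) ≫ av) ≫ fT := by
    rw [← MonObj.comp_mul, ← pow_two, hW.sq]
    simp only [Category.assoc]
  have hee : (((toUnit X' ≫ m) ≫ av) ≫ fT) * (((toUnit X' ≫ m) ≫ av) ≫ fT) = 1 := by
    rw [← MonObj.mul_comp _ _ fT, ← MonObj.mul_comp _ _ av, gmFn_injective (s := (toUnit X' ≫ m) * (toUnit X' ≫ m))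
      (t := 1) (by rw [gmFn_mul, gmFn_one, gmFn_comp, hm, map_neg, map_one]; ring)]
    exact (congrArg (· ≫ fT) (MonObj.one_comp (X := X') av)).trans (MonObj.one_comp fT)
  have hcub : (toUnit X' ≫ h) * (o ≫ fp) * ((toUnit X' ≫ h) * (o ≫ fp)) * ((toUnit X' ≫ h) * (o ≫ fp)) = 1 := by
    rw [ho, Category.assoc, ← MonObj.comp_mul, ← MonObj.comp_mul, ← MonObj.comp_mul,
      _root_.mul_assoc (h * (e₁ ≫ fp)), ← pow_three, hW.cube, MonObj.comp_one]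
  have heU : (((toUnit X' ≫ m) ≫ av) ≫ fT) * (o ≫ fp) * (((toUnit X' ≫ m) ≫ av) ≫ fT)⁻¹ = o ≫ fp :=
    hW.conjp X' ((toUnit X' ≫ m) ≫ av) o o (by
      rw [gmFn_av_α' hαav, gmFn_comp, hm, map_neg, map_one]; ring)
  obtain ⟨o', ho'⟩ := exists_gaFn (S := S) (X := X') (-1)
  have hv : o' ≫ negRoot fp h = (toUnit X' ≫ h) * (o ≫ fp) * (toUnit X' ≫ h)⁻¹ := by
    rw [comp_negRoot, gaFn_injective (x := o'⁻¹) (y := o) (by rw [gaFn_inv, ho', ho1, neg_neg])]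
  have base : (o ≫ fp) * (o' ≫ negRoot fp h) * (o ≫ fp) = toUnit X' ≫ h := by
    rw [hv]
    generalize toUnit X' ≫ h = W at hsq hcub ⊢
    generalize o ≫ fp = u at hcub heU ⊢
    generalize ((toUnit X' ≫ m) ≫ av) ≫ fT = e at hsq hee heU ⊢
    have he' : W⁻¹ = e * W := by
      calc W⁻¹ = e * e * W⁻¹ := by rw [hee, _root_.one_mul]
        _ = e * W := by rw [← hsq]; group
    have h1 : W * u * (W * u) = u⁻¹ * W⁻¹ := by
      calc W * u * (W * u) = W * u * (W * u) * (W * u) * (u⁻¹ * W⁻¹) := by group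
        _ = _ := by rw [hcub, _root_.one_mul]
    calc u * (W * u * W⁻¹) * u = u * (W * u * (e * W)) * u := by rw [he']
      _ = u * (W * (e * u * e⁻¹) * e * W) * u := by rw [heU]; group
      _ = u * (W * e) * u * W * u := by group
      _ = u * e * (W * u * (W * u)) := by
        have : W * e = e * W := by rw [← hsq]; group
        rw [this]; group
      _ = (e * u * e⁻¹) * e * (u⁻¹ * W⁻¹) := by rw [h1, heU]
      _ = e * W⁻¹ := by group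
      _ = W := by rw [← hsq]; group
  -- conjugate by `s`
  have e1 : ((s ≫ av) ≫ fT) * (o ≫ fp) * ((s ≫ av) ≫ fT)⁻¹ = (π ≫ x) ≫ fp :=
    hW.conjp X' (s ≫ av) o (π ≫ x) (by rw [gmFn_av_α' hαav, ho1, hxz, _root_.mul_one])
  have e2 : ((s ≫ av) ≫ fT) * (o' ≫ negRoot fp h) * ((s ≫ av) ≫ fT)⁻¹ = (π ≫ x') ≫ negRoot fp h :=
    conjm hW he₁ hm hαav hcomm (s ≫ av) o' (π ≫ x') (by rw [gmFn_av_α' hαav, hx'z, ho'])
  have hK := h_mul_K hW he₁ hm hαav hcomm s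
  rw [← e1, ← e2]
  calc _ = ((s ≫ av) ≫ fT) * ((o ≫ fp) * (o' ≫ negRoot fp h) * (o ≫ fp)) * ((s ≫ av) ≫ fT)⁻¹ := by group
    _ = _ := by
      rw [base]
      generalize toUnit X' ≫ h = W at hK ⊢
      generalize (s ≫ av) ≫ fT = k at hK ⊢
      calc k * W * k⁻¹ = k * (W * k⁻¹) := by group
        _ = k * (k * (k⁻¹ * W) * k⁻¹) := by group
        _ = _ := by rw [← hK]; group

/-- The rank one formula when the first argument is invertible. -/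
theorem formula_unit {X : Over S} (x y x' y' : X ⟶ Ga S) (z : X ⟶ Gm S) (hxu : IsUnit (gaFn x))
    (hz : gmFn z = 1 + gaFn x * gaFn y) (hx' : gaFn x' * gmFn z = gaFn x) (hy' : gaFn y' * gmFn z = gaFn y) :
    (x ≫ fp) * (y ≫ negRoot fp h) = (y' ≫ negRoot fp h) * ((z ≫ av) ≫ fT) * (x' ≫ fp) := by
  obtain ⟨ξ, hξ⟩ := exists_gmFn (S := S) hxu
  obtain ⟨nz, hnz⟩ := exists_gmFn (S := S) (X := X) (isUnit_gmFn z).neg
  obtain ⟨ρ, hρ⟩ : ∃ ρ : X ⟶ Gm S, gmFn ρ * gmFn nz = gaFn x :=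
    ⟨ξ * nz⁻¹, by rw [gmFn_mul, hξ]; linear_combination gaFn x * gmFn_inv_mul nz⟩
  obtain ⟨r, hr⟩ := exists_gaFn (S := S) (gmFn ρ)
  obtain ⟨x₀, hx₀⟩ := exists_gaFn (S := S) (-gmFn ξ⁻¹)
  obtain ⟨r₀, hr₀⟩ := exists_gaFn (S := S) (-gmFn ρ⁻¹)
  have hx0 : gaFn x₀ * gaFn x = -1 := by rw [hx₀, ← hξ]; linear_combination -gmFn_inv_mul ξ
  have hr0 : gaFn r₀ * gaFn r = -1 := by rw [hr₀, hr]; linear_combination -gmFn_inv_mul ρ
  have hrz : gaFn r * gmFn z = -gaFn x := by rw [hr, ← hρ, hnz]; ring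
  have w1 := w_formula hW he₁ hm hαav hcomm x x₀ hx0 ξ hξ
  have w2 := w_formula hW he₁ hm hαav hcomm r r₀ hr0 ρ hr.symm
  have hy2 : y ≫ negRoot fp h = (x₀ ≫ negRoot fp h) * (r₀ ≫ negRoot fp h) := by
    rw [← MonObj.mul_comp x₀ r₀ (negRoot fp h)]
    congr 1
    refine gaFn_injective ?_
    rw [gaFn_mul]
    refine (hxu.mul (SL2Rel.isUnit_of_pair hr0)).mul_left_cancel ?_
    linear_combination -gaFn r * hx0 - gaFn x * hr0 + (gaFn r * gaFn x * gaFn y) * 0 + hrz - gaFn r * hz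
  obtain ⟨d, hdd⟩ : ∃ d : X ⟶ Ga S, d = x⁻¹ * r⁻¹ := ⟨_, rfl⟩
  have hd : (x ≫ fp)⁻¹ * (r ≫ fp)⁻¹ = d ≫ fp := by
    rw [hdd, MonObj.mul_comp (x⁻¹) (r⁻¹) fp, GrpObj.inv_comp, GrpObj.inv_comp]
  have hd' : gaFn d = -(gaFn x + gaFn r) := by rw [hdd, gaFn_mul, gaFn_inv, gaFn_inv]; ring
  obtain ⟨v, hv⟩ := exists_gaFn (S := S) (gaFn y * gmFn z)
  have hρd : ((ρ ≫ av) ≫ fT) * (v⁻¹ ≫ fp) * ((ρ ≫ av) ≫ fT)⁻¹ = d ≫ fp :=
    hW.conjp X (ρ ≫ av) v⁻¹ d (by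
      rw [gmFn_av_α' hαav, hd', gaFn_inv, hv, ← hr]
      refine (isUnit_gmFn z).mul_right_cancel ?_
      linear_combination (gaFn y * gaFn r * gmFn z - gaFn x * gaFn y - 1) * hrz + gaFn x * (-hz))
  have hnzv : ((nz ≫ av) ≫ fT) * (v ≫ negRoot fp h) * ((nz ≫ av) ≫ fT)⁻¹ = y' ≫ negRoot fp h :=
    conjm hW he₁ hm hαav hcomm (nz ≫ av) v y' (by
      rw [gmFn_av_α' hαav, hnz, hv]; linear_combination gmFn z * hy')
  have hx'r : (r ≫ fp)⁻¹ = x' ≫ fp := by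
    rw [← GrpObj.inv_comp r fp]
    congr 1
    refine gaFn_injective ((isUnit_gmFn z).mul_right_cancel ?_)
    rw [gaFn_inv]
    linear_combination -hx' - hrz
  have hξ' : ξ = ρ * nz := gmFn_injective (by rw [gmFn_mul, hρ, hξ])
  have hKξ : (ξ ≫ av) ≫ fT = ((ρ ≫ av) ≫ fT) * ((nz ≫ av) ≫ fT) := by
    rw [hξ', MonObj.mul_comp ρ nz av, MonObj.mul_comp (ρ ≫ av) (nz ≫ av) fT]
  have hKK : ((ρ ≫ av) ≫ fT) * ((nz ≫ av) ≫ fT) = ((nz ≫ av) ≫ fT) * ((ρ ≫ av) ≫ fT) := by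
    rw [← MonObj.mul_comp (ρ ≫ av) (nz ≫ av) fT, ← MonObj.mul_comp (nz ≫ av) (ρ ≫ av) fT, hcomm]
  have hKz : ((nz ≫ av) ≫ fT) * (((toUnit X ≫ m) ≫ av) ≫ fT) = (z ≫ av) ≫ fT := by
    rw [← MonObj.mul_comp (nz ≫ av) _ fT, ← MonObj.mul_comp nz _ av,
      gmFn_injective (s := nz * (toUnit X ≫ m)) (t := z)
        (by rw [gmFn_mul, gmFn_comp, hm, map_neg, map_one, hnz]; ring)]
  have hWW : (toUnit X ≫ h) * (toUnit X ≫ h) = ((toUnit X ≫ m) ≫ av) ≫ fT := by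
    rw [← MonObj.comp_mul, ← pow_two, hW.sq]
    simp only [Category.assoc]
  have hWρ := h_mul_K hW he₁ hm hαav hcomm ρ
  have hnv : v ≫ negRoot fp h = (toUnit X ≫ h) * (v⁻¹ ≫ fp) * (toUnit X ≫ h)⁻¹ := comp_negRoot v
  rw [hy2, ← hnzv, hnv, ← hx'r, ← hKz]
  generalize x₀ ≫ negRoot fp h = V₀ at w1 ⊢
  generalize r₀ ≫ negRoot fp h = V₁ at w2 ⊢
  generalize x ≫ fp = Ux at w1 hd ⊢
  generalize r ≫ fp = Ur at w2 hd ⊢
  generalize d ≫ fp = Ud at hd hρd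
  generalize v⁻¹ ≫ fp = Uv at hρd ⊢
  generalize toUnit X ≫ h = W at w1 w2 hWW hWρ ⊢
  generalize (ξ ≫ av) ≫ fT = Kξ at w1 hKξ
  generalize (ρ ≫ av) ≫ fT = Kρ at w2 hKξ hKK hρd hWρ
  generalize (nz ≫ av) ≫ fT = Kn at hKξ hKK ⊢
  generalize ((toUnit X ≫ m) ≫ av) ≫ fT = Km at hWW ⊢
  calc Ux * (V₀ * V₁) = (Ux * V₀ * Ux) * (Ux⁻¹ * Ur⁻¹) * (Ur * V₁ * Ur) * Ur⁻¹ := by group
    _ = Kξ * W * (Kρ * Uv * Kρ⁻¹) * (Kρ * W) * Ur⁻¹ := by rw [w1, w2, hd, hρd]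
    _ = Kξ * (W * Kρ) * Uv * W * Ur⁻¹ := by group
    _ = Kn * Kρ * Kρ⁻¹ * W * Uv * W * Ur⁻¹ := by rw [hWρ, hKξ, hKK]; group
    _ = Kn * (W * Uv * W⁻¹) * (W * W) * Ur⁻¹ := by group
    _ = _ := by rw [hWW]; group

/-- The rank one formula. -/
theorem formula {X : Over S} (x y x' y' : X ⟶ Ga S) (z : X ⟶ Gm S)
    (hz : gmFn z = 1 + gaFn x * gaFn y) (hx' : gaFn x' * gmFn z = gaFn x) (hy' : gaFn y' * gmFn z = gaFn y) :
    (x ≫ fp) * (y ≫ negRoot fp h) = (y' ≫ negRoot fp h) * ((z ≫ av) ≫ fT) * (x' ≫ fp) := by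
  obtain ⟨X', π, t, hπ, ht⟩ := exists_unit_cover (X := X)
    (Polynomial.X * (Polynomial.X - Polynomial.C (gaFn x)) * (1 + Polynomial.C (gaFn y) * Polynomial.X))
    (fun K _ φ => by
      rw [Polynomial.map_mul, Polynomial.map_mul, Polynomial.map_sub, Polynomial.map_add, Polynomial.map_mul,
        Polynomial.map_one, Polynomial.map_X, Polynomial.map_C, Polynomial.map_C]
      refine mul_ne_zero (mul_ne_zero Polynomial.X_ne_zero (Polynomial.X_sub_C_ne_zero _)) fun h0 => ?_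
      have := congrArg (fun p => Polynomial.coeff p 0) h0
      simp at this)
  haveI := hπ
  refine (cancel_epi π).mp ?_
  simp only [MonObj.comp_mul, ← Category.assoc]
  simp only [Polynomial.eval₂_mul, Polynomial.eval₂_sub, Polynomial.eval₂_add, Polynomial.eval₂_one,
    Polynomial.eval₂_X, Polynomial.eval₂_C, ← gaFn_comp] at ht
  rw [IsUnit.mul_iff, IsUnit.mul_iff] at ht
  obtain ⟨⟨ht0, ht1⟩, ht2⟩ := ht
  have hz0 : gmFn (π ≫ z) = 1 + gaFn (π ≫ x) * gaFn (π ≫ y) := by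
    rw [gmFn_comp, hz, map_add, map_one, map_mul, gaFn_comp, gaFn_comp]
  have hx0 : gaFn (π ≫ x') * gmFn (π ≫ z) = gaFn (π ≫ x) := by
    rw [gaFn_comp, gmFn_comp, ← map_mul, hx', ← gaFn_comp]
  have hy0 : gaFn (π ≫ y') * gmFn (π ≫ z) = gaFn (π ≫ y) := by
    rw [gaFn_comp, gmFn_comp, ← map_mul, hy', ← gaFn_comp]
  generalize π ≫ x = x at ht1 hz0 hx0 ⊢
  generalize π ≫ y = y at ht2 hz0 hy0 ⊢
  generalize π ≫ x' = x' at hx0 ⊢
  generalize π ≫ y' = y' at hy0 ⊢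
  generalize π ≫ z = z at hz0 hx0 hy0 ⊢
  obtain ⟨x2, hx2⟩ := exists_gaFn (S := S) t
  obtain ⟨x1, hx1⟩ := exists_gaFn (S := S) (gaFn x - t)
  have hx1u : IsUnit (gaFn x1) := by rw [hx1, ← neg_sub]; exact ht1.neg
  obtain ⟨z2, hz2⟩ := exists_gmFn (S := S) (r := 1 + gaFn x2 * gaFn y) (by rw [hx2, _root_.mul_comm]; exact ht2)
  obtain ⟨x2', hx2'⟩ := exists_gaFn (S := S) (gaFn x2 * gmFn z2⁻¹)
  obtain ⟨y2', hy2'⟩ := exists_gaFn (S := S) (gaFn y * gmFn z2⁻¹)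
  have e2 := formula_unit hW he₁ hm hαav hcomm x2 y x2' y2' z2 (hx2.symm ▸ ht0) hz2
    (by rw [hx2']; linear_combination gaFn x2 * gmFn_inv_mul z2)
    (by rw [hy2']; linear_combination gaFn y * gmFn_inv_mul z2)
  obtain ⟨z1, hz1⟩ : ∃ z1 : X' ⟶ Gm S, z1 = z * z2⁻¹ := ⟨_, rfl⟩
  have hz1' : gmFn z1 * gmFn z2 = gmFn z := by
    rw [hz1, gmFn_mul]; linear_combination gmFn z * gmFn_inv_mul z2
  obtain ⟨x1', hx1'⟩ := exists_gaFn (S := S) (gaFn x1 * gmFn z1⁻¹)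
  have e1 := formula_unit hW he₁ hm hαav hcomm x1 y2' x1' y' z1 hx1u
    (by
      refine (isUnit_gmFn z2).mul_right_cancel ?_
      rw [hy2']
      linear_combination hz1' + hz0 - hz2 - gaFn x1 * gaFn y * gmFn_inv_mul z2
        - gaFn y * hx1 + gaFn y * (gaFn x1 * 0) - gaFn y * hx2)
    (by rw [hx1']; linear_combination gaFn x1 * gmFn_inv_mul z1)
    (by
      refine (isUnit_gmFn z2).mul_right_cancel ?_
      rw [hy2']
      linear_combination gaFn y' * hz1' + hy0 - gaFn y * gmFn_inv_mul z2)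
  obtain ⟨q, hq⟩ := exists_gaFn (S := S) (gmFn z2⁻¹ ^ 2 * gaFn x1')
  have hc : ((z2⁻¹ ≫ av) ≫ fT) * (x1' ≫ fp) * ((z2⁻¹ ≫ av) ≫ fT)⁻¹ = q ≫ fp :=
    hW.conjp X' (z2⁻¹ ≫ av) x1' q (by rw [gmFn_av_α' hαav, hq])
  have hsum : (q ≫ fp) * (x2' ≫ fp) = x' ≫ fp := by
    rw [← MonObj.mul_comp q x2' fp]
    congr 1
    refine gaFn_injective ((((isUnit_gmFn z).mul (isUnit_gmFn z2)).mul (isUnit_gmFn z2)).mul_right_cancel ?_)
    rw [gaFn_mul, hq, hx1', hx2']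
    linear_combination (gmFn z2⁻¹ ^ 2 * gaFn x1 * gmFn z1⁻¹ * gmFn z2 * gmFn z2) * (-hz1')
      + (gaFn x1 * gmFn z2⁻¹ ^ 2 * gmFn z2 ^ 3) * gmFn_inv_mul z1
      + (gaFn x1 * gmFn z2 * (gmFn z2⁻¹ * gmFn z2 + 1) + gaFn x2 * gmFn z * gmFn z2) * gmFn_inv_mul z2
      - gmFn z2 * gmFn z2 * hx0 + gmFn z2 * (hx1 + hx2) + gaFn x2 * gmFn z2 * hz0
      - gaFn x * gmFn z2 * hz2
  have hKs : ((z1 ≫ av) ≫ fT) * ((z2 ≫ av) ≫ fT) = (z ≫ av) ≫ fT := by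
    rw [← MonObj.mul_comp (z1 ≫ av) _ fT, ← MonObj.mul_comp z1 z2 av,
      gmFn_injective (s := z1 * z2) (t := z) (by rw [gmFn_mul, hz1'])]
  have hKi : (z2⁻¹ ≫ av) ≫ fT = ((z2 ≫ av) ≫ fT)⁻¹ := by rw [GrpObj.inv_comp, GrpObj.inv_comp]
  have hx12 : x ≫ fp = (x1 ≫ fp) * (x2 ≫ fp) := by
    rw [← MonObj.mul_comp x1 x2 fp]
    congr 1
    exact gaFn_injective (by rw [gaFn_mul, hx1, hx2]; ring)
  rw [hKi] at hc
  rw [hx12, _root_.mul_assoc, e2, ← _root_.mul_assoc, ← _root_.mul_assoc, e1, ← hsum, ← hc, ← hKs]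
  group

/-- Maps out of a rank one group prescribed on `T`, `pp` and the Weyl element satisfy the relations. -/
theorem rankOneRelations : RankOneRelations α av fT fp (negRoot fp h) where
  conjp := hW.conjp
  conjm X t y y' hy := conjm hW he₁ hm hαav hcomm t y y' hy
  formula X x y x' y' z hz hx' hy' := formula hW he₁ hm hαav hcomm x y x' y' z hz hx' hy'

end WeylRelations

end Groth.Agent.SGA3cLib
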