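import Groth.Agent.SGA3cLib.DiagPoints
import Mathlib.AlgebraicGeometry.AffineScheme
import Mathlib.RingTheory.Nilpotent.Basic

/-!
# Averaging over diagonalisable groups

Two homomorphisms from a diagonalisable group which agree modulo a square-zero ideal are conjugate by a
canonical point congruent to the unit: the invariant average of the cocycle `v(h) u(h)⁻¹`.
-/

set_option linter.style.haveILetI false
set_option autoImplicit false

universe u

open CategoryTheory CategoryTheory.Limits MonoidalCategory CartesianMonoidalCategory MonObj AlgebraicGeometry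

noncomputable section

namespace Groth.Agent.SGA3cLib.Averaging

/-! ### The ring `A + K E` -/

section Algebra

variable {A : Type u} [CommRing A] (K : Ideal A) (E : Type u) [CommRing E] [Algebra A E]

/-- The subalgebra of elements congruent to a constant modulo `K`. -/
def adj : Subalgebra A E where
  carrier := {e | ∃ a : A, e - algebraMap A E a ∈ K.map (algebraMap A E)}
  mul_mem' := fun {e e'} ⟨a, ha⟩ ⟨a', ha'⟩ => ⟨a * a', by
    have : e * e' - algebraMap A E (a * a') =
        e * (e' - algebraMap A E a') + algebraMap A E a' * (e - algebraMap A E a) := by rw [map_mul]; ring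
    rw [this]
    exact Ideal.add_mem _ (Ideal.mul_mem_left _ _ ha') (Ideal.mul_mem_left _ _ ha)⟩
  add_mem' := fun {e e'} ⟨a, ha⟩ ⟨a', ha'⟩ => ⟨a + a', by
    rw [map_add, add_sub_add_comm]; exact Ideal.add_mem _ ha ha'⟩
  algebraMap_mem' := fun a => ⟨a, by simp⟩

instance adjCommRing : CommRing (adj K E) := (adj K E).toCommRing

/-- The kernel of reduction. -/
def red : Ideal (adj K E) := (K.map (algebraMap A E)).comap (adj K E).val

variable {K E}

theorem mem_red {e : adj K E} : e ∈ red K E ↔ (e : E) ∈ K.map (algebraMap A E) := Iff.rfl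

theorem mul_eq_zero_of_mem (hK : K * K = ⊥) {x y : E} (hx : x ∈ K.map (algebraMap A E))
    (hy : y ∈ K.map (algebraMap A E)) : x * y = 0 := by
  have := Ideal.mul_mem_mul hx hy
  rwa [← Ideal.map_mul, hK, Ideal.map_bot, Ideal.mem_bot] at this

variable {M : Type} [CommGroup M]

theorem coeff_mem_of_mem {x : MonoidAlgebra A M} (hx : x ∈ K.map (algebraMap A (MonoidAlgebra A M))) (m : M) :
    x.coeff m ∈ K := by
  have hx' : x ∈ K • (⊤ : Submodule A (MonoidAlgebra A M)) := by rw [Ideal.smul_top_eq_map]; exact hx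
  refine Submodule.smul_induction_on hx' (fun r hr y _ => ?_) (fun x y hx hy => ?_)
  · rw [MonoidAlgebra.coeff_smul, Finsupp.smul_apply, smul_eq_mul]
    exact K.mul_mem_right _ hr
  · rw [MonoidAlgebra.coeff_add, Finsupp.add_apply]
    exact K.add_mem hx hy

/-- Taking the constant coefficient is multiplicative on `A + K A[M]`. -/
def coeffOne (hK : K * K = ⊥) : adj K (MonoidAlgebra A M) →ₐ[A] A where
  toFun e := (e : MonoidAlgebra A M).coeff 1
  map_one' := by simp [MonoidAlgebra.one_def]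
  map_zero' := by simp
  map_add' x y := by simp
  commutes' a := by simp [MonoidAlgebra.coe_algebraMap]
  map_mul' := by
    rintro ⟨e, a, ha⟩ ⟨e', a', ha'⟩
    show (e * e').coeff 1 = e.coeff 1 * e'.coeff 1
    obtain ⟨k, hk, rfl⟩ : ∃ k ∈ K.map (algebraMap A (MonoidAlgebra A M)), e = algebraMap A _ a + k :=
      ⟨_, ha, by ring⟩
    obtain ⟨k', hk', rfl⟩ : ∃ k ∈ K.map (algebraMap A (MonoidAlgebra A M)), e' = algebraMap A _ a' + k :=
      ⟨_, ha', by ring⟩
    have hkk : k * k' = 0 := mul_eq_zero_of_mem hK hk hk'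
    have h0 : k.coeff 1 * k'.coeff 1 = 0 := by
      have := Ideal.mul_mem_mul (coeff_mem_of_mem hk 1) (coeff_mem_of_mem hk' 1)
      rwa [hK, Ideal.mem_bot] at this
    have e1 : (algebraMap A (MonoidAlgebra A M) a + k) * (algebraMap A _ a' + k') =
        algebraMap A _ (a * a') + a • k' + a' • k := by
      rw [map_mul, Algebra.smul_def, Algebra.smul_def]; linear_combination hkk
    rw [e1]
    simp [MonoidAlgebra.coe_algebraMap]
    linear_combination -h0

theorem coeffOne_apply (hK : K * K = ⊥) (e : adj K (MonoidAlgebra A M)) :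
    coeffOne hK e = (e : MonoidAlgebra A M).coeff 1 := rfl

end Algebra

/-! ### Points -/

variable {R₀ : Type u} [CommRing R₀]

/-- `Spec A` over `Spec R₀`. -/
abbrev P (R₀ A : Type u) [CommRing R₀] [CommRing A] [Algebra R₀ A] : Over (Spec (CommRingCat.of R₀)) :=
  (Spec (CommRingCat.of A)).asOver (Spec (CommRingCat.of R₀))

/-- The map of points induced by an algebra map. -/
def sp {A A' : Type u} [CommRing A] [Algebra R₀ A] [CommRing A'] [Algebra R₀ A'] (v : A →ₐ[R₀] A') : P R₀ A' ⟶ P R₀ A :=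
  (Spec.map (CommRingCat.ofHom v.toRingHom)).asOver _

theorem sp_comp {A A' A'' : Type u} [CommRing A] [Algebra R₀ A] [CommRing A'] [Algebra R₀ A'] [CommRing A'']
    [Algebra R₀ A''] (v : A →ₐ[R₀] A') (w : A' →ₐ[R₀] A'') : sp w ≫ sp v = sp (w.comp v) := by
  ext1
  exact (Spec.map_comp _ _).symm

theorem sp_id (A : Type u) [CommRing A] [Algebra R₀ A] : sp (AlgHom.id R₀ A) = 𝟙 (P R₀ A) := by
  ext1
  exact Spec.map_id _

/-- A trivialisation of `H` over `R`, on points. -/
structure Split (H : Over (Spec (CommRingCat.of R₀))) [GrpObj H] (R : Type u) [CommRing R] [Algebra R₀ R]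
    (M : Type) [CommGroup M] where
  pt : ∀ (A : Type u) [CommRing A] [Algebra R₀ A] [Algebra R A] [IsScalarTower R₀ R A], (M →* A) → (P R₀ A ⟶ H)
  pt_mul : ∀ (A : Type u) [CommRing A] [Algebra R₀ A] [Algebra R A] [IsScalarTower R₀ R A] (χ ψ : M →* A),
    pt A (χ * ψ) = pt A χ * pt A ψ
  pt_nat : ∀ (A A' : Type u) [CommRing A] [Algebra R₀ A] [Algebra R A] [IsScalarTower R₀ R A]
    [CommRing A'] [Algebra R₀ A'] [Algebra R A'] [IsScalarTower R₀ R A'] (v : A →ₐ[R] A') (χ : M →* A),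
    sp (v.restrictScalars R₀) ≫ pt A χ = pt A' ((v : A →* A').comp χ)
  pt_inj : ∀ (A : Type u) [CommRing A] [Algebra R₀ A] [Algebra R A] [IsScalarTower R₀ R A], Function.Injective (pt A)
  pt_surj : ∀ (A : Type u) [CommRing A] [Algebra R₀ A] [Algebra R A] [IsScalarTower R₀ R A], Function.Surjective (pt A)

variable {H G : Over (Spec (CommRingCat.of R₀))} [GrpObj H] [GrpObj G]
variable {R : Type u} [CommRing R] [Algebra R₀ R] {M : Type} [CommGroup M]

theorem Split.pt_one (σ : Split H R M) (A : Type u) [CommRing A] [Algebra R₀ A] [Algebra R A] [IsScalarTower R₀ R A] :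
    σ.pt A 1 = 1 := by
  have h := σ.pt_mul A 1 1
  rw [_root_.one_mul] at h
  exact left_eq_mul.mp h

variable {B : Type u} [CommRing B] [Algebra R₀ B] (j : P R₀ B ⟶ G) [IsOpenImmersion j.left]

theorem chart_inj {A : Type u} [CommRing A] [Algebra R₀ A] {φ ψ : B →ₐ[R₀] A} (h : sp φ ≫ j = sp ψ ≫ j) : φ = ψ := by
  have h' := congrArg CommaMorphism.left h
  change (sp φ).left ≫ j.left = (sp ψ).left ≫ j.left at h'
  rw [cancel_mono] at h'
  exact AlgHom.coe_ringHom_injective (congrArg CommRingCat.Hom.hom (Spec.map_injective h'))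

theorem exists_chart {A : Type u} [CommRing A] [Algebra R₀ A] (x : P R₀ A ⟶ G)
    (h : Set.range x.left.base ⊆ Set.range j.left.base) : ∃ φ : B →ₐ[R₀] A, sp φ ≫ j = x := by
  haveI hi : IsOpenImmersion j.left := ‹_›
  let l := IsOpenImmersion.lift j.left x.left h
  have hl : l ≫ j.left = x.left := IsOpenImmersion.lift_fac _ _ _
  obtain ⟨φ, hφ⟩ := Spec.map_surjective (R := CommRingCat.of B) (S := CommRingCat.of A) l
  have hw := Over.w x
  rw [← hl, ← hφ, Category.assoc, Over.w j] at hw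
  change Spec.map φ ≫ Spec.map _ = Spec.map _ at hw
  rw [← Spec.map_comp] at hw
  refine ⟨⟨φ.hom, fun r => congr($(Spec.map_injective hw) r)⟩, ?_⟩
  ext1
  show Spec.map φ ≫ j.left = x.left
  rw [hφ]
  exact hl

omit [GrpObj H] [CommRing B] [Algebra R₀ B] [IsOpenImmersion j.left] in
/-- Points agreeing modulo a nilpotent ideal have the same image. -/
theorem range_subset {A : Type u} [CommRing A] [Algebra R₀ A] (N : Ideal A) (hN : ∀ a ∈ N, IsNilpotent a)
    (x y : P R₀ A ⟶ G) (h : sp (Ideal.Quotient.mkₐ R₀ N) ≫ x = sp (Ideal.Quotient.mkₐ R₀ N) ≫ y) :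
    Set.range x.left.base ⊆ Set.range y.left.base := by
  rintro _ ⟨(p : PrimeSpectrum A), rfl⟩
  obtain ⟨q, rfl⟩ : p ∈ Set.range (PrimeSpectrum.comap (Ideal.Quotient.mk N)) := by
    rw [range_comap_of_surjective _ _ Ideal.Quotient.mk_surjective]
    intro a ha
    exact nilpotent_iff_mem_prime.mp (hN a (Ideal.Quotient.eq_zero_iff_mem.mp ha)) _ p.2
  refine ⟨PrimeSpectrum.comap (Ideal.Quotient.mk N) q, ?_⟩
  exact (congr($(congrArg CommaMorphism.left h).base q)).symm

theorem red_nilpotent {A : Type u} [CommRing A] {K : Ideal A} (hK : K * K = ⊥) {E : Type u} [CommRing E] [Algebra A E] :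
    ∀ e ∈ red K E, IsNilpotent e := fun e he =>
  ⟨2, Subtype.ext (by rw [SubmonoidClass.coe_pow, pow_two]; exact mul_eq_zero_of_mem hK he he)⟩

variable (hR : Set.range (1 : P R₀ R ⟶ G).left.base ⊆ Set.range j.left.base)
include hR

theorem range_one (A : Type u) [CommRing A] [Algebra R₀ A] [Algebra R A] [IsScalarTower R₀ R A] :
    Set.range (1 : P R₀ A ⟶ G).left.base ⊆ Set.range j.left.base := by
  rw [← MonObj.comp_one (sp (IsScalarTower.toAlgHom R₀ R A)), Over.comp_left]
  rintro _ ⟨p, rfl⟩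
  exact hR ⟨_, rfl⟩

/-- Points of `A + K E` congruent to the unit are determined in `E`. -/
theorem eq_of_val {A : Type u} [CommRing A] [Algebra R₀ A] [Algebra R A] [IsScalarTower R₀ R A]
    {K : Ideal A} (hK : K * K = ⊥) {E : Type u} [CommRing E] [Algebra A E] [Algebra R₀ E] [IsScalarTower R₀ A E]
    [Algebra R E] [IsScalarTower R A E] [IsScalarTower R₀ R E]
    (z z' : P R₀ (adj K E) ⟶ G)
    (hz : sp (Ideal.Quotient.mkₐ R₀ (red K E)) ≫ z = 1) (hz' : sp (Ideal.Quotient.mkₐ R₀ (red K E)) ≫ z' = 1)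
    (h : sp ((adj K E).val.restrictScalars R₀) ≫ z = sp ((adj K E).val.restrictScalars R₀) ≫ z') : z = z' := by
  have h1 := range_one j hR (adj K E)
  obtain ⟨φ, hφ⟩ := exists_chart j z
    ((range_subset _ (red_nilpotent hK) z 1 (by rw [hz, MonObj.comp_one])).trans h1)
  obtain ⟨φ', hφ'⟩ := exists_chart j z'
    ((range_subset _ (red_nilpotent hK) z' 1 (by rw [hz', MonObj.comp_one])).trans h1)
  subst hφ hφ'
  rw [← Category.assoc, ← Category.assoc, sp_comp, sp_comp] at h
  have := chart_inj j h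
  congr 2
  exact AlgHom.ext fun b => Subtype.ext (AlgHom.congr_fun this b)

/-- A point congruent to the unit modulo `K` comes from `A + K E`. -/
theorem exists_extend {A : Type u} [CommRing A] [Algebra R₀ A] [Algebra R A] [IsScalarTower R₀ R A]
    {K : Ideal A} (hK : K * K = ⊥) {E : Type u} [CommRing E] [Algebra A E] [Algebra R₀ E] [IsScalarTower R₀ A E]
    [Algebra R E] [IsScalarTower R A E] [IsScalarTower R₀ R E]
    (x : P R₀ E ⟶ G) (hx : sp (Ideal.Quotient.mkₐ R₀ (K.map (algebraMap A E))) ≫ x = 1) :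
    ∃ z : P R₀ (adj K E) ⟶ G, sp ((adj K E).val.restrictScalars R₀) ≫ z = x ∧
      sp (Ideal.Quotient.mkₐ R₀ (red K E)) ≫ z = 1 := by
  obtain ⟨φ, hφ⟩ := exists_chart j x ((range_subset _ (fun a ha => ⟨2, by rw [pow_two]; exact mul_eq_zero_of_mem hK ha ha⟩)
    x 1 (by rw [hx, MonObj.comp_one])).trans (range_one j hR E))
  obtain ⟨ε, hε⟩ := exists_chart j (1 : P R₀ A ⟶ G) (range_one j hR A)
  have key : ∀ b, φ b - algebraMap A E (ε b) ∈ K.map (algebraMap A E) := by
    intro b
    have h1 : (Ideal.Quotient.mkₐ R₀ (K.map (algebraMap A E))).comp φ =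
        ((Ideal.Quotient.mkₐ R₀ (K.map (algebraMap A E))).comp (IsScalarTower.toAlgHom R₀ A E)).comp ε := by
      refine chart_inj j ?_
      rw [← sp_comp, ← sp_comp, Category.assoc, Category.assoc, hφ, hε, hx, MonObj.comp_one]
    exact Ideal.Quotient.eq.mp (AlgHom.congr_fun h1 b)
  let φ' : B →ₐ[R₀] adj K E := φ.codRestrict ((adj K E).restrictScalars R₀) fun b => ⟨ε b, key b⟩
  refine ⟨sp φ' ≫ j, ?_, ?_⟩
  · rw [← Category.assoc, sp_comp, show ((adj K E).val.restrictScalars R₀).comp φ' = φ from AlgHom.ext fun b => rfl, hφ]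
  · have h2 : (Ideal.Quotient.mkₐ R₀ (red K E)).comp φ' =
        ((Ideal.Quotient.mkₐ R₀ (red K E)).comp (IsScalarTower.toAlgHom R₀ A (adj K E))).comp ε :=
      AlgHom.ext fun b => Ideal.Quotient.eq.mpr (mem_red.mpr (key b))
    rw [← Category.assoc, sp_comp, h2, ← sp_comp, Category.assoc, hε, MonObj.comp_one]

omit hR

/-! ### The average -/

/-- The cocycle `v(h) u(h)⁻¹` at the universal point. -/
def cocycle [IsScalarTower R₀ R (MonoidAlgebra R M)] (σ : Split H R M) (u v : H ⟶ G) : P R₀ (MonoidAlgebra R M) ⟶ G :=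
  (σ.pt _ (MonoidAlgebra.of R M) ≫ v) * (σ.pt _ (MonoidAlgebra.of R M) ≫ u)⁻¹

/-- `c` is the average of the cocycle. -/
def IsAvg (σ : Split H R M) (u v : H ⟶ G) (K : Ideal R) (hK : K * K = ⊥) (c : P R₀ R ⟶ G) : Prop :=
  ∃ z : P R₀ (adj K (MonoidAlgebra R M)) ⟶ G,
    sp ((adj K (MonoidAlgebra R M)).val.restrictScalars R₀) ≫ z = cocycle σ u v ∧
    sp (Ideal.Quotient.mkₐ R₀ (red K (MonoidAlgebra R M))) ≫ z = 1 ∧ sp ((coeffOne hK).restrictScalars R₀) ≫ z = c

variable (u v : H ⟶ G) [IsMonHom u] [IsMonHom v] (J : Ideal R₀)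

include hR

theorem exists_avg (hJ : J * J = ⊥)
    (h0 : ∀ (A : Type u) [CommRing A] [Algebra R₀ A], J ≤ RingHom.ker (algebraMap R₀ A) →
      ∀ h : P R₀ A ⟶ H, h ≫ u = h ≫ v)
    (σ : Split H R M) :
    ∃ (hK : J.map (algebraMap R₀ R) * J.map (algebraMap R₀ R) = ⊥) (c : P R₀ R ⟶ G),
      IsAvg σ u v (J.map (algebraMap R₀ R)) hK c ∧
      sp (Ideal.Quotient.mkₐ R₀ (J.map (algebraMap R₀ R))) ≫ c = 1 ∧
      ∀ (A : Type u) [CommRing A] [Algebra R₀ A] [Algebra R A] [IsScalarTower R₀ R A] (χ : M →* A),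
        σ.pt A χ ≫ v = (sp (IsScalarTower.toAlgHom R₀ R A) ≫ c) * (σ.pt A χ ≫ u) *
          (sp (IsScalarTower.toAlgHom R₀ R A) ≫ c)⁻¹ := by
  classical
  let K := J.map (algebraMap R₀ R)
  have hK : K * K = ⊥ := by show J.map _ * J.map _ = ⊥; rw [← Ideal.map_mul, hJ, Ideal.map_bot]
  let A₁ : Type u := MonoidAlgebra R M
  let d := cocycle σ u v
  -- the cocycle is trivial over algebras killed by `J`
  have htriv : ∀ (A : Type u) [CommRing A] [Algebra R₀ A] (g : MonoidAlgebra R M →ₐ[R₀] A),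
      J ≤ RingHom.ker (algebraMap R₀ A) → sp g ≫ d = 1 := by
    intro A _ _ g hg
    show sp g ≫ ((σ.pt _ _ ≫ v) * (σ.pt _ _ ≫ u)⁻¹) = 1
    rw [MonObj.comp_mul, GrpObj.comp_inv, ← Category.assoc, ← Category.assoc, h0 A hg, mul_inv_cancel]
  have hker : ∀ {A : Type u} [CommRing A] [Algebra R₀ A] (I : Ideal A), J.map (algebraMap R₀ A) ≤ I →
      J ≤ RingHom.ker (algebraMap R₀ (A ⧸ I)) := fun {A} _ _ I hI r hr => by
    rw [RingHom.mem_ker, ← Ideal.Quotient.mk_algebraMap, Ideal.Quotient.eq_zero_iff_mem]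
    exact hI (Ideal.mem_map_of_mem _ hr)
  obtain ⟨z, hz, hz1⟩ := exists_extend j hR hK (E := MonoidAlgebra R M) d
    (htriv _ _ (hker _ (by rw [Ideal.map_map, ← IsScalarTower.algebraMap_eq])))
  let c : P R₀ R ⟶ G := sp ((coeffOne hK).restrictScalars R₀) ≫ z
  have hc : sp (Ideal.Quotient.mkₐ R₀ K) ≫ c = 1 := by
    let g : (adj K (MonoidAlgebra R M) ⧸ red K (MonoidAlgebra R M)) →ₐ[R₀] R ⧸ K :=
      Ideal.Quotient.liftₐ _ ((Ideal.Quotient.mkₐ R₀ K).comp ((coeffOne hK).restrictScalars R₀)) fun e he =>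
        Ideal.Quotient.eq_zero_iff_mem.mpr (coeff_mem_of_mem he 1)
    show _ ≫ _ ≫ z = 1
    rw [← Category.assoc, sp_comp, show (Ideal.Quotient.mkₐ R₀ K).comp ((coeffOne hK).restrictScalars R₀) =
        g.comp (Ideal.Quotient.mkₐ R₀ (red K (MonoidAlgebra R M))) from AlgHom.ext fun e => rfl,
      ← sp_comp (A' := adj K (MonoidAlgebra R M) ⧸ red K (MonoidAlgebra R M)), Category.assoc, hz1, MonObj.comp_one]
  refine ⟨hK, c, ⟨z, hz, hz1, rfl⟩, hc, ?_⟩
  -- the cocycle identity in two variables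
  let E := MonoidAlgebra (MonoidAlgebra R M) M
  let K₁ : Ideal (MonoidAlgebra R M) := K.map (algebraMap R (MonoidAlgebra R M))
  have hK₁ : K₁ * K₁ = ⊥ := by show K.map _ * K.map _ = ⊥; rw [← Ideal.map_mul, hK, Ideal.map_bot]
  let inn : MonoidAlgebra R M →ₐ[R] MonoidAlgebra (MonoidAlgebra R M) M :=
    IsScalarTower.toAlgHom R (MonoidAlgebra R M) _
  let out : MonoidAlgebra R M →ₐ[R] MonoidAlgebra (MonoidAlgebra R M) M :=
    MonoidAlgebra.mapAlgHom M (Algebra.ofId R (MonoidAlgebra R M))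
  let dia : MonoidAlgebra R M →ₐ[R] MonoidAlgebra (MonoidAlgebra R M) M :=
    MonoidAlgebra.lift R _ M ((inn : _ →* MonoidAlgebra (MonoidAlgebra R M) M).comp (MonoidAlgebra.of R M) *
      (out : _ →* MonoidAlgebra (MonoidAlgebra R M) M).comp (MonoidAlgebra.of R M))
  let a : P R₀ (MonoidAlgebra (MonoidAlgebra R M) M) ⟶ H := sp (inn.restrictScalars R₀) ≫ σ.pt _ (MonoidAlgebra.of R M)
  let b : P R₀ (MonoidAlgebra (MonoidAlgebra R M) M) ⟶ H := sp (out.restrictScalars R₀) ≫ σ.pt _ (MonoidAlgebra.of R M)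
  have hab : sp (dia.restrictScalars R₀) ≫ σ.pt _ (MonoidAlgebra.of R M) = a * b := by
    simp only [a, b, σ.pt_nat, ← σ.pt_mul]
    congr 1
    exact MonoidHom.ext fun m => by simp [dia]
  have hdia : sp (dia.restrictScalars R₀) ≫ d =
      (sp (inn.restrictScalars R₀) ≫ d) * (a ≫ u) * (sp (out.restrictScalars R₀) ≫ d) * (a ≫ u)⁻¹ := by
    show _ ≫ ((σ.pt _ _ ≫ v) * (σ.pt _ _ ≫ u)⁻¹) = (_ ≫ ((σ.pt _ _ ≫ v) * (σ.pt _ _ ≫ u)⁻¹)) * _ *
      (_ ≫ ((σ.pt _ _ ≫ v) * (σ.pt _ _ ≫ u)⁻¹)) * _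
    simp only [MonObj.comp_mul, GrpObj.comp_inv, ← Category.assoc, hab]
    rw [show (a * b) ≫ v = (a ≫ v) * (b ≫ v) from MonObj.mul_comp a b v,
      show (a * b) ≫ u = (a ≫ u) * (b ≫ u) from MonObj.mul_comp a b u]
    show _ = (a ≫ v) * (a ≫ u)⁻¹ * (a ≫ u) * ((b ≫ v) * (b ≫ u)⁻¹) * (a ≫ u)⁻¹
    group
  -- lifts to `A₁ + K₁ E`
  have hmapK : ∀ (f : MonoidAlgebra R M →ₐ[R] MonoidAlgebra (MonoidAlgebra R M) M) (e : MonoidAlgebra R M),
      e ∈ K.map (algebraMap R (MonoidAlgebra R M)) →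
      f e ∈ K₁.map (algebraMap (MonoidAlgebra R M) (MonoidAlgebra (MonoidAlgebra R M) M)) := fun f e he => by
    have := Ideal.mem_map_of_mem f.toRingHom he
    rw [Ideal.map_map, AlgHom.toRingHom_eq_coe, AlgHom.comp_algebraMap] at this
    rwa [Ideal.map_map, ← IsScalarTower.algebraMap_eq]
  have hlift : ∀ (f : MonoidAlgebra R M →ₐ[R] MonoidAlgebra (MonoidAlgebra R M) M),
      ∃ f' : adj K (MonoidAlgebra R M) →ₐ[R] adj K₁ (MonoidAlgebra (MonoidAlgebra R M) M),
        ((adj K₁ (MonoidAlgebra (MonoidAlgebra R M) M)).val.restrictScalars R).comp f' = f.comp (adj K (MonoidAlgebra R M)).val := by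
    intro f
    refine ⟨(f.comp (adj K (MonoidAlgebra R M)).val).codRestrict
      ((adj K₁ (MonoidAlgebra (MonoidAlgebra R M) M)).restrictScalars R) ?_, AlgHom.ext fun e => rfl⟩
    rintro ⟨e, r, hr⟩
    refine ⟨algebraMap R _ r, ?_⟩
    show f e - _ ∈ _
    rw [← IsScalarTower.algebraMap_apply, ← f.commutes r, ← map_sub]
    exact hmapK f _ hr
  obtain ⟨dia', hdia'⟩ := hlift dia
  obtain ⟨out', hout'⟩ := hlift out
  let inn' : MonoidAlgebra R M →ₐ[R] adj K₁ (MonoidAlgebra (MonoidAlgebra R M) M) :=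
    IsScalarTower.toAlgHom R (MonoidAlgebra R M) _
  let val' := (adj K₁ (MonoidAlgebra (MonoidAlgebra R M) M)).val.restrictScalars R₀
  let z₁ := sp (A' := adj K₁ (MonoidAlgebra (MonoidAlgebra R M) M)) (dia'.restrictScalars R₀) ≫ z
  let w := sp (A' := adj K₁ (MonoidAlgebra (MonoidAlgebra R M) M)) (inn'.restrictScalars R₀) ≫ σ.pt _ (MonoidAlgebra.of R M)
  let z₂ := (sp (A' := adj K₁ (MonoidAlgebra (MonoidAlgebra R M) M)) (inn'.restrictScalars R₀) ≫ d) * (w ≫ u) * (sp (A' := adj K₁ (MonoidAlgebra (MonoidAlgebra R M) M)) (out'.restrictScalars R₀) ≫ z) * (w ≫ u)⁻¹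
  have hred : ∀ f' : adj K (MonoidAlgebra R M) →ₐ[R] adj K₁ (MonoidAlgebra (MonoidAlgebra R M) M),
      (∀ f : MonoidAlgebra R M →ₐ[R] MonoidAlgebra (MonoidAlgebra R M) M,
        ((adj K₁ (MonoidAlgebra (MonoidAlgebra R M) M)).val.restrictScalars R).comp f' = f.comp (adj K (MonoidAlgebra R M)).val →
        sp (Ideal.Quotient.mkₐ R₀ (red K₁ (MonoidAlgebra (MonoidAlgebra R M) M))) ≫ sp (A' := adj K₁ (MonoidAlgebra (MonoidAlgebra R M) M)) (f'.restrictScalars R₀) ≫ z = 1) := by
    intro f' f hf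
    let g : (adj K (MonoidAlgebra R M) ⧸ red K (MonoidAlgebra R M)) →ₐ[R₀]
        (adj K₁ (MonoidAlgebra (MonoidAlgebra R M) M) ⧸ red K₁ (MonoidAlgebra (MonoidAlgebra R M) M)) :=
      Ideal.Quotient.liftₐ _ ((Ideal.Quotient.mkₐ R₀ _).comp (f'.restrictScalars R₀)) fun e he =>
        Ideal.Quotient.eq_zero_iff_mem.mpr (by
          rw [mem_red]
          have h1 : ((f' e : adj K₁ (MonoidAlgebra (MonoidAlgebra R M) M)) : MonoidAlgebra (MonoidAlgebra R M) M) = f e :=
            AlgHom.congr_fun hf e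
          show ((f' e : adj K₁ _) : MonoidAlgebra (MonoidAlgebra R M) M) ∈ _
          rw [h1]
          exact hmapK f _ he)
    rw [← Category.assoc, sp_comp, show (Ideal.Quotient.mkₐ R₀ _).comp (f'.restrictScalars R₀) =
      g.comp (Ideal.Quotient.mkₐ R₀ (red K (MonoidAlgebra R M))) from AlgHom.ext fun e => rfl, ← sp_comp (A' := adj K (MonoidAlgebra R M) ⧸ red K (MonoidAlgebra R M)), Category.assoc,
      hz1, MonObj.comp_one]
  have hjker : J ≤ RingHom.ker (algebraMap R₀
      (adj K₁ (MonoidAlgebra (MonoidAlgebra R M) M) ⧸ red K₁ (MonoidAlgebra (MonoidAlgebra R M) M))) := by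
    refine hker _ (Ideal.map_le_iff_le_comap.mpr fun r hr => mem_red.mpr ?_)
    show algebraMap R₀ (MonoidAlgebra (MonoidAlgebra R M) M) r ∈ _
    rw [IsScalarTower.algebraMap_apply R₀ (MonoidAlgebra R M) (MonoidAlgebra (MonoidAlgebra R M) M),
      IsScalarTower.algebraMap_apply R₀ R (MonoidAlgebra R M)]
    exact Ideal.mem_map_of_mem _ (Ideal.mem_map_of_mem _ (Ideal.mem_map_of_mem _ hr))
  have hz₁₂ : z₁ = z₂ := by
    refine eq_of_val j hR hK₁ z₁ z₂ (hred dia' dia hdia') ?_ ?_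
    · simp only [z₂, MonObj.comp_mul, GrpObj.comp_inv]
      rw [hred out' out hout', ← Category.assoc _ _ d, sp_comp, htriv _ _ hjker]
      simp
    · have e1 : ∀ (f : MonoidAlgebra R M →ₐ[R] MonoidAlgebra (MonoidAlgebra R M) M)
          (f' : adj K (MonoidAlgebra R M) →ₐ[R] adj K₁ (MonoidAlgebra (MonoidAlgebra R M) M)), ((adj K₁ (MonoidAlgebra (MonoidAlgebra R M) M)).val.restrictScalars R).comp f' =
          f.comp (adj K (MonoidAlgebra R M)).val →
          sp val' ≫ sp (A' := adj K₁ (MonoidAlgebra (MonoidAlgebra R M) M)) (f'.restrictScalars R₀) ≫ z = sp (f.restrictScalars R₀) ≫ d := fun f f' hf => by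
        rw [← Category.assoc, sp_comp, show val'.comp (f'.restrictScalars R₀) =
          (f.restrictScalars R₀).comp ((adj K (MonoidAlgebra R M)).val.restrictScalars R₀) from
          AlgHom.ext fun e => AlgHom.congr_fun hf e, ← sp_comp, Category.assoc, hz]
      have e2 : sp val' ≫ sp (A' := adj K₁ (MonoidAlgebra (MonoidAlgebra R M) M)) (inn'.restrictScalars R₀) = sp (inn.restrictScalars R₀) := by
        rw [sp_comp]; rfl
      show sp val' ≫ z₁ = sp val' ≫ z₂
      simp only [z₁, z₂, w, MonObj.comp_mul, GrpObj.comp_inv, e1 dia dia' hdia', e1 out out' hout', hdia]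
      simp only [← Category.assoc, e2]
      rfl
  -- average
  let π₁ := (coeffOne (M := M) hK₁).restrictScalars R₀
  let toA₁ := IsScalarTower.toAlgHom R₀ R (MonoidAlgebra R M)
  have p1 : π₁.comp (dia'.restrictScalars R₀) = toA₁.comp ((coeffOne hK).restrictScalars R₀) := AlgHom.ext fun e => by
    show ((dia' e : adj K₁ _) : MonoidAlgebra (MonoidAlgebra R M) M).coeff 1 = algebraMap R _ ((e : MonoidAlgebra R M).coeff 1)
    rw [show ((dia' e : adj K₁ _) : MonoidAlgebra (MonoidAlgebra R M) M) = dia e from AlgHom.congr_fun hdia' e]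
    generalize (e : MonoidAlgebra R M) = x
    induction x using MonoidAlgebra.induction_linear with
    | zero => simp
    | add x y hx hy => simp only [map_add, MonoidAlgebra.coeff_add, Finsupp.add_apply, hx, hy]
    | single m r =>
      simp [dia, inn, out, MonoidAlgebra.coe_algebraMap, MonoidAlgebra.single_mul_single, MonoidAlgebra.coeff_single,
        Finsupp.single_apply, MonoidAlgebra.smul_single]
      split_ifs <;> simp_all
  have p2 : π₁.comp (out'.restrictScalars R₀) = toA₁.comp ((coeffOne hK).restrictScalars R₀) := AlgHom.ext fun e => by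
    show ((out' e : adj K₁ _) : MonoidAlgebra (MonoidAlgebra R M) M).coeff 1 = algebraMap R _ ((e : MonoidAlgebra R M).coeff 1)
    rw [show ((out' e : adj K₁ _) : MonoidAlgebra (MonoidAlgebra R M) M) = out e from AlgHom.congr_fun hout' e]
    simp [out]
  have p3 : π₁.comp (inn'.restrictScalars R₀) = AlgHom.id R₀ _ := AlgHom.ext fun e =>
    (coeffOne (M := M) hK₁).commutes e
  have key := congrArg (sp π₁ ≫ ·) hz₁₂
  simp only [z₁, z₂, w, MonObj.comp_mul, GrpObj.comp_inv, ← Category.assoc, sp_comp, p1, p2, p3, sp_id,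
    Category.id_comp] at key
  rw [← sp_comp, Category.assoc] at key
  intro A _ _ _ _ χ
  let f : MonoidAlgebra R M →ₐ[R] A := MonoidAlgebra.lift R A M χ
  have hf : sp (f.restrictScalars R₀) ≫ σ.pt _ (MonoidAlgebra.of R M) = σ.pt A χ := by
    rw [σ.pt_nat]
    congr 1
    exact MonoidHom.ext fun m => by simp [f]
  have hfc : (f.restrictScalars R₀).comp toA₁ = IsScalarTower.toAlgHom R₀ R A := AlgHom.ext fun r => f.commutes r
  set c' := sp toA₁ ≫ c with hc'
  set U := σ.pt (MonoidAlgebra R M) (MonoidAlgebra.of R M) ≫ u with hU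
  have hd : σ.pt (MonoidAlgebra R M) (MonoidAlgebra.of R M) ≫ v = c' * U * c'⁻¹ := by
    have h2 : d * U = σ.pt (MonoidAlgebra R M) (MonoidAlgebra.of R M) ≫ v := inv_mul_cancel_right _ _
    have hk : c' = d * U * c' * U⁻¹ := key
    rw [← h2]
    calc d * U = (d * U * c' * U⁻¹) * U * c'⁻¹ := by group
      _ = c' * U * c'⁻¹ := by rw [← hk]
  have := congrArg (sp (f.restrictScalars R₀) ≫ ·) hd
  simp only [hc', hU, MonObj.comp_mul, GrpObj.comp_inv] at this
  simp only [← Category.assoc, hf, sp_comp, hfc] at this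
  exact this

omit hR

omit [IsMonHom u] [IsMonHom v] in
theorem IsAvg.unique {σ : Split H R M} {K : Ideal R} {hK : K * K = ⊥} {c c' : P R₀ R ⟶ G}
    (hR : Set.range (1 : P R₀ R ⟶ G).left.base ⊆ Set.range j.left.base)
    (h : IsAvg σ u v K hK c) (h' : IsAvg σ u v K hK c') : c = c' := by
  obtain ⟨z, hz, hz1, rfl⟩ := h
  obtain ⟨z', hz', hz1', rfl⟩ := h'
  rw [eq_of_val j hR hK z z' hz1 hz1' (hz.trans hz'.symm)]

omit [IsMonHom u] [IsMonHom v] in
/-- Averages are independent of the trivialisation and commute with base change. -/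
theorem IsAvg.transfer {σ : Split H R M} {K : Ideal R} {hK : K * K = ⊥} {c : P R₀ R ⟶ G} (h : IsAvg σ u v K hK c)
    {R' : Type u} [CommRing R'] [Algebra R₀ R'] [Algebra R R'] [IsScalarTower R₀ R R'] {N : Type} [CommGroup N]
    (τ : Split H R' N) {K' : Ideal R'} (hK' : K' * K' = ⊥) (hKK : K.map (algebraMap R R') ≤ K') :
    IsAvg τ u v K' hK' (sp (IsScalarTower.toAlgHom R₀ R R') ≫ c) := by
  classical
  obtain ⟨χ, hχ⟩ := σ.pt_surj (MonoidAlgebra R' N) (τ.pt _ (MonoidAlgebra.of R' N))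
  obtain ⟨χ', hχ'⟩ := τ.pt_surj (MonoidAlgebra R' M) (σ.pt _ (MonoidAlgebra.of R' M))
  -- `χ m` is group-like
  let i₁ : MonoidAlgebra R' N →ₐ[R'] MonoidAlgebra R' (N × N) := MonoidAlgebra.mapDomainAlgHom R' R' (MonoidHom.inl N N)
  let i₂ : MonoidAlgebra R' N →ₐ[R'] MonoidAlgebra R' (N × N) := MonoidAlgebra.mapDomainAlgHom R' R' (MonoidHom.inr N N)
  let d : MonoidAlgebra R' N →ₐ[R'] MonoidAlgebra R' (N × N) :=
    MonoidAlgebra.mapDomainAlgHom R' R' ((MonoidHom.id N).prod (MonoidHom.id N))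
  have hnat : ∀ (A : Type u) [CommRing A] [Algebra R₀ A] [Algebra R' A] [IsScalarTower R₀ R' A] [Algebra R A]
      [IsScalarTower R R' A] [IsScalarTower R₀ R A] (f : MonoidAlgebra R' N →ₐ[R'] A),
      σ.pt A ((f : _ →* A).comp χ) = τ.pt A ((f : _ →* A).comp (MonoidAlgebra.of R' N)) := fun A _ _ _ _ _ _ _ f => by
    rw [← τ.pt_nat, ← hχ]
    exact (σ.pt_nat _ _ (f.restrictScalars R) χ).symm
  have hgl : ∀ m, d (χ m) = i₁ (χ m) * i₂ (χ m) := fun m => by
    refine DFunLike.congr_fun (σ.pt_inj (MonoidAlgebra R' (N × N)) (a₁ := (d : _ →* MonoidAlgebra R' (N × N)).comp χ)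
      (a₂ := ((i₁ : _ →* MonoidAlgebra R' (N × N)).comp χ) * ((i₂ : _ →* MonoidAlgebra R' (N × N)).comp χ)) ?_) m
    rw [σ.pt_mul, hnat, hnat, hnat, ← τ.pt_mul]
    congr 1
    exact MonoidHom.ext fun n => by simp [i₁, i₂, d, MonoidAlgebra.single_mul_single]
  have horth : ∀ m a b, (χ m).coeff a * (χ m).coeff b = if a = b then (χ m).coeff a else 0 := fun m a b => by
    have h1 : ∀ (y z : MonoidAlgebra R' N), (i₁ y * i₂ z).coeff (a, b) = y.coeff a * z.coeff b := fun y z => by
      induction y using MonoidAlgebra.induction_linear with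
      | zero => simp
      | add x y hx hy => simp only [map_add, add_mul, MonoidAlgebra.coeff_add, Finsupp.add_apply, hx, hy]
      | single p r =>
        induction z using MonoidAlgebra.induction_linear with
        | zero => simp
        | add x y hx hy => simp only [map_add, mul_add, MonoidAlgebra.coeff_add, Finsupp.add_apply, hx, hy]
        | single p' r' =>
          simp [i₁, i₂, MonoidAlgebra.single_mul_single, MonoidAlgebra.coeff_single, Finsupp.single_apply, Prod.ext_iff]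
          split_ifs <;> simp_all
    have h2 : ∀ y : MonoidAlgebra R' N, (d y).coeff (a, b) = if a = b then y.coeff a else 0 := fun y => by
      induction y using MonoidAlgebra.induction_linear with
      | zero => simp
      | add x y hx hy =>
        simp only [map_add, MonoidAlgebra.coeff_add, Finsupp.add_apply, hx, hy]
        split_ifs <;> simp
      | single p r =>
        simp [d, MonoidAlgebra.coeff_single, Finsupp.single_apply, Prod.ext_iff]
        split_ifs <;> first | rfl | (rename_i hh hn; exact absurd (hh.1.symm.trans hh.2) hn) | simp_all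
    rw [← h1, ← hgl, h2]
  have hinv : ∀ m, MonoidAlgebra.lift R' (MonoidAlgebra R' M) N χ' (χ m) = MonoidAlgebra.single m 1 := fun m => by
    refine DFunLike.congr_fun (σ.pt_inj (MonoidAlgebra R' M) (a₁ := ((MonoidAlgebra.lift R' (MonoidAlgebra R' M) N χ' :
      MonoidAlgebra R' N →ₐ[R'] MonoidAlgebra R' M) : _ →* MonoidAlgebra R' M).comp χ) (a₂ := MonoidAlgebra.of R' M) ?_) m
    rw [hnat, ← hχ']
    congr 1
    exact MonoidHom.ext fun n => by simp
  have hcoeff : ∀ m, (χ m).coeff 1 = if m = 1 then 1 else 0 := fun m => by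
    by_cases hm : m = 1
    · subst hm
      rw [map_one χ, if_pos rfl, MonoidAlgebra.one_def, MonoidAlgebra.coeff_single, Finsupp.single_eq_same]
    · rw [if_neg hm]
      have e1 : (χ m).coeff 1 • χ m = (χ m).coeff 1 • (1 : MonoidAlgebra R' N) := MonoidAlgebra.ext (Finsupp.ext fun n => by
        simp only [MonoidAlgebra.coeff_smul, Finsupp.smul_apply, smul_eq_mul, horth, MonoidAlgebra.one_def,
          MonoidAlgebra.coeff_single, Finsupp.single_apply]
        split_ifs <;> simp_all)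
      have e2 := congrArg (MonoidAlgebra.lift R' (MonoidAlgebra R' M) N χ') e1
      rw [map_smul, map_smul, hinv, map_one (MonoidAlgebra.lift R' (MonoidAlgebra R' M) N χ')] at e2
      have e3 := congrArg (fun y => y.coeff m) e2
      simp only [MonoidAlgebra.coeff_smul, Finsupp.smul_apply, MonoidAlgebra.one_def, MonoidAlgebra.coeff_single, Finsupp.single_apply, if_pos, if_neg (Ne.symm hm), smul_eq_mul, _root_.mul_one, mul_zero] at e3
      exact e3
  let θ : MonoidAlgebra R M →ₐ[R] MonoidAlgebra R' N := MonoidAlgebra.lift R _ M χ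
  have hθd : sp (θ.restrictScalars R₀) ≫ cocycle σ u v = cocycle τ u v := by
    have e : sp (θ.restrictScalars R₀) ≫ σ.pt _ (MonoidAlgebra.of R M) = τ.pt _ (MonoidAlgebra.of R' N) := by
      rw [σ.pt_nat, ← hχ]
      congr 1
      exact MonoidHom.ext fun m => by simp [θ]
    show sp _ ≫ ((σ.pt _ _ ≫ v) * (σ.pt _ _ ≫ u)⁻¹) = (τ.pt _ _ ≫ v) * (τ.pt _ _ ≫ u)⁻¹
    simp only [MonObj.comp_mul, GrpObj.comp_inv, ← Category.assoc, e]
  obtain ⟨z, hz, hz1, rfl⟩ := h
  have hθK : ∀ e ∈ K.map (algebraMap R (MonoidAlgebra R M)), θ e ∈ K'.map (algebraMap R' (MonoidAlgebra R' N)) := by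
    intro e he
    have := Ideal.mem_map_of_mem θ.toRingHom he
    rw [Ideal.map_map, AlgHom.toRingHom_eq_coe, AlgHom.comp_algebraMap,
      IsScalarTower.algebraMap_eq R R' (MonoidAlgebra R' N), ← Ideal.map_map] at this
    exact Ideal.map_mono hKK this
  let θ' : adj K (MonoidAlgebra R M) →ₐ[R] adj K' (MonoidAlgebra R' N) :=
    (θ.comp (adj K (MonoidAlgebra R M)).val).codRestrict ((adj K' (MonoidAlgebra R' N)).restrictScalars R) (by
      rintro ⟨e, r, hr⟩
      refine ⟨algebraMap R R' r, ?_⟩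
      show θ e - _ ∈ _
      rw [← IsScalarTower.algebraMap_apply, ← θ.commutes r, ← map_sub]
      exact hθK _ hr)
  refine ⟨sp (θ'.restrictScalars R₀) ≫ z, ?_, ?_, ?_⟩
  · rw [← hθd, ← hz, ← Category.assoc, ← Category.assoc, sp_comp, sp_comp]
    rfl
  · let g : (adj K (MonoidAlgebra R M) ⧸ red K (MonoidAlgebra R M)) →ₐ[R₀]
        (adj K' (MonoidAlgebra R' N) ⧸ red K' (MonoidAlgebra R' N)) :=
      Ideal.Quotient.liftₐ _ ((Ideal.Quotient.mkₐ R₀ _).comp (θ'.restrictScalars R₀)) fun e he =>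
        Ideal.Quotient.eq_zero_iff_mem.mpr (mem_red.mpr (hθK _ he))
    rw [← Category.assoc, sp_comp, show (Ideal.Quotient.mkₐ R₀ _).comp (θ'.restrictScalars R₀) =
      g.comp (Ideal.Quotient.mkₐ R₀ (red K (MonoidAlgebra R M))) from AlgHom.ext fun e => rfl, ← sp_comp (A' := adj K (MonoidAlgebra R M) ⧸ red K (MonoidAlgebra R M)), Category.assoc,
      hz1, MonObj.comp_one]
  · rw [← Category.assoc, ← Category.assoc, sp_comp, sp_comp]
    congr 2
    refine AlgHom.ext fun e => ?_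
    show (θ (e : MonoidAlgebra R M)).coeff 1 = algebraMap R R' ((e : MonoidAlgebra R M).coeff 1)
    generalize (e : MonoidAlgebra R M) = x
    induction x using MonoidAlgebra.induction_linear with
    | zero => simp
    | add x y hx hy => simp only [map_add, MonoidAlgebra.coeff_add, Finsupp.add_apply, hx, hy]
    | single m r =>
      simp only [θ, MonoidAlgebra.lift_single, MonoidAlgebra.coeff_smul, Finsupp.smul_apply, hcoeff,
        MonoidAlgebra.coeff_single, Finsupp.single_apply]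
      split_ifs <;> simp [Algebra.smul_def]

end Groth.Agent.SGA3cLib.Averaging
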