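import Groth.Agent.SGA3cLib.AveragingDescent

/-!
# Averaging and lifting into subgroups

A homomorphism from a group of multiplicative type which factors through a subgroup `K'` modulo a square-zero
ideal is conjugate, by a point congruent to the unit, to one factoring through `K'`, as soon as the reduction
lifts to some morphism into `K'`.
-/

set_option linter.style.haveILetI false
set_option autoImplicit false

universe u

open CategoryTheory CategoryTheory.Limits MonoidalCategory CartesianMonoidalCategory MonObj AlgebraicGeometry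

noncomputable section

namespace Groth.Agent.SGA3cLib.AveragingLift

open Averaging

theorem inv_mul_conj {Γ : Type*} [Group Γ] (U W c q : Γ) (h : c = U * c * W⁻¹ * q) : q⁻¹ * W = c⁻¹ * U * c := by
  calc q⁻¹ * W = c⁻¹ * (U * c * W⁻¹ * q) * (q⁻¹ * W) := by rw [← h]; group
    _ = c⁻¹ * U * c := by group

variable {R₀ : Type u} [CommRing R₀] {H G K' : Over (Spec (CommRingCat.of R₀))} [GrpObj H] [GrpObj G] [GrpObj K']
variable {R : Type u} [CommRing R] [Algebra R₀ R] {M : Type} [CommGroup M]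
variable {B : Type u} [CommRing B] [Algebra R₀ B] (j : P R₀ B ⟶ G) [IsOpenImmersion j.left]
variable {B' : Type u} [CommRing B'] [Algebra R₀ B'] (jK : P R₀ B' ⟶ K') [IsOpenImmersion jK.left]
variable (hR : Set.range (1 : P R₀ R ⟶ G).left.base ⊆ Set.range j.left.base)
variable (hRK : Set.range (1 : P R₀ R ⟶ K').left.base ⊆ Set.range jK.left.base)
variable (u : H ⟶ G) [IsMonHom u] (k : K' ⟶ G) [IsMonHom k] [Mono k] (w : H ⟶ K') (J : Ideal R₀)
include hR hRK

set_option maxHeartbeats 2000000 in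
theorem exists_avg (hJ : J * J = ⊥)
    (h0 : ∀ (A : Type u) [CommRing A] [Algebra R₀ A], J ≤ RingHom.ker (algebraMap R₀ A) →
      ∀ h : P R₀ A ⟶ H, h ≫ w ≫ k = h ≫ u)
    (σ : Split H R M) :
    ∃ (hK : J.map (algebraMap R₀ R) * J.map (algebraMap R₀ R) = ⊥) (c : P R₀ R ⟶ G),
      IsAvg σ (w ≫ k) u (J.map (algebraMap R₀ R)) hK c ∧
      sp (Ideal.Quotient.mkₐ R₀ (J.map (algebraMap R₀ R))) ≫ c = 1 ∧
      ∀ (A : Type u) [CommRing A] [Algebra R₀ A] [Algebra R A] [IsScalarTower R₀ R A] (χ : M →* A),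
        ∃ x : P R₀ A ⟶ K', x ≫ k = (sp (IsScalarTower.toAlgHom R₀ R A) ≫ c)⁻¹ * (σ.pt A χ ≫ u) *
          (sp (IsScalarTower.toAlgHom R₀ R A) ≫ c) := by
  classical
  let K := J.map (algebraMap R₀ R)
  have hK : K * K = ⊥ := by show J.map _ * J.map _ = ⊥; rw [← Ideal.map_mul, hJ, Ideal.map_bot]
  let A₁ : Type u := MonoidAlgebra R M
  let d := cocycle σ (w ≫ k) u
  -- the cocycle is trivial over algebras killed by `J`
  have htriv : ∀ (A : Type u) [CommRing A] [Algebra R₀ A] (g : MonoidAlgebra R M →ₐ[R₀] A),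
      J ≤ RingHom.ker (algebraMap R₀ A) → sp g ≫ d = 1 := by
    intro A _ _ g hg
    show sp g ≫ ((σ.pt _ _ ≫ u) * (σ.pt _ _ ≫ w ≫ k)⁻¹) = 1
    rw [MonObj.comp_mul, GrpObj.comp_inv, ← Category.assoc, ← Category.assoc, h0 A hg, mul_inv_cancel]
  have hker : ∀ {A : Type u} [CommRing A] [Algebra R₀ A] (I : Ideal A), J.map (algebraMap R₀ A) ≤ I →
      J ≤ RingHom.ker (algebraMap R₀ (A ⧸ I)) := fun {A} _ _ I hI r hr => by
    rw [RingHom.mem_ker, ← Ideal.Quotient.mk_algebraMap, Ideal.Quotient.eq_zero_iff_mem]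
    exact hI (Ideal.mem_map_of_mem _ hr)
  have hkill : ∀ {X : Over (Spec (CommRingCat.of R₀))} (A : Type u) [CommRing A] [Algebra R₀ A] (g : P R₀ A ⟶ X),
      J ≤ RingHom.ker (algebraMap R₀ A) → ∀ x y : X ⟶ H,
        g ≫ ((x ≫ w ≫ k) * (y ≫ w ≫ k) * ((x * y) ≫ w ≫ k)⁻¹) = 1 := by
    intro X A _ _ g hA x y
    simp only [MonObj.comp_mul, GrpObj.comp_inv, ← Category.assoc g]
    rw [h0 A hA, h0 A hA, h0 A hA, show ((g ≫ x) * (g ≫ y)) ≫ u = ((g ≫ x) ≫ u) * ((g ≫ y) ≫ u) from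
      MonObj.mul_comp _ _ u]
    group
  obtain ⟨z, hz, hz1⟩ := exists_extend j hR hK (E := MonoidAlgebra R M) d
    (htriv _ _ (hker _ (by rw [Ideal.map_map, ← IsScalarTower.algebraMap_eq])))
  let c : P R₀ R ⟶ G := sp ((coeffOne hK).restrictScalars R₀) ≫ z
  have hc : sp (Ideal.Quotient.mkₐ R₀ K) ≫ c = 1 := by
    let g : (adj K (MonoidAlgebra R M) ⧸ red K (MonoidAlgebra R M)) →ₐ[R₀] R ⧸ K :=
      Ideal.Quotient.liftₐ _ ((Ideal.Quotient.mkₐ R₀ K).comp ((coeffOne hK).restrictScalars R₀)) fun e he =>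
        Ideal.Quotient.eq_zero_iff_mem.mpr (coeff_mem_of_mem he 1)
    show _ ≫ _ ≫ z = 1
    rw [← Category.assoc, sp_comp, show (Ideal.Quotient.mkₐ R₀ K).comp ((coeffOne hK).restrictScalars R₀) =
        g.comp (Ideal.Quotient.mkₐ R₀ (red K (MonoidAlgebra R M))) from AlgHom.ext fun e => rfl,
      ← sp_comp (A' := adj K (MonoidAlgebra R M) ⧸ red K (MonoidAlgebra R M)), Category.assoc, hz1, MonObj.comp_one]
  refine ⟨hK, c, ⟨z, hz, hz1, rfl⟩, hc, ?_⟩
  -- the cocycle identity in two variables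
  let E := MonoidAlgebra (MonoidAlgebra R M) M
  let K₁ : Ideal (MonoidAlgebra R M) := K.map (algebraMap R (MonoidAlgebra R M))
  have hK₁ : K₁ * K₁ = ⊥ := by show K.map _ * K.map _ = ⊥; rw [← Ideal.map_mul, hK, Ideal.map_bot]
  let inn : MonoidAlgebra R M →ₐ[R] MonoidAlgebra (MonoidAlgebra R M) M :=
    IsScalarTower.toAlgHom R (MonoidAlgebra R M) _
  let out : MonoidAlgebra R M →ₐ[R] MonoidAlgebra (MonoidAlgebra R M) M :=
    MonoidAlgebra.mapAlgHom M (Algebra.ofId R (MonoidAlgebra R M))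
  let dia : MonoidAlgebra R M →ₐ[R] MonoidAlgebra (MonoidAlgebra R M) M :=
    MonoidAlgebra.lift R _ M ((inn : _ →* MonoidAlgebra (MonoidAlgebra R M) M).comp (MonoidAlgebra.of R M) *
      (out : _ →* MonoidAlgebra (MonoidAlgebra R M) M).comp (MonoidAlgebra.of R M))
  let a : P R₀ (MonoidAlgebra (MonoidAlgebra R M) M) ⟶ H := sp (inn.restrictScalars R₀) ≫ σ.pt _ (MonoidAlgebra.of R M)
  let b : P R₀ (MonoidAlgebra (MonoidAlgebra R M) M) ⟶ H := sp (out.restrictScalars R₀) ≫ σ.pt _ (MonoidAlgebra.of R M)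
  have hab : sp (dia.restrictScalars R₀) ≫ σ.pt _ (MonoidAlgebra.of R M) = a * b := by
    simp only [a, b, σ.pt_nat, ← σ.pt_mul]
    congr 1
    exact MonoidHom.ext fun m => by simp [dia]
  let κ : P R₀ (MonoidAlgebra (MonoidAlgebra R M) M) ⟶ K' := (a ≫ w) * (b ≫ w) * ((a * b) ≫ w)⁻¹
  have hκk : κ ≫ k = (a ≫ w ≫ k) * (b ≫ w ≫ k) * ((a * b) ≫ w ≫ k)⁻¹ := by
    simp only [κ, MonObj.mul_comp, GrpObj.inv_comp, Category.assoc]
  have hdia : sp (dia.restrictScalars R₀) ≫ d =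
      (sp (inn.restrictScalars R₀) ≫ d) * (a ≫ w ≫ k) * (sp (out.restrictScalars R₀) ≫ d) * (a ≫ w ≫ k)⁻¹ *
        (κ ≫ k) := by
    show _ ≫ ((σ.pt _ _ ≫ u) * (σ.pt _ _ ≫ w ≫ k)⁻¹) = (_ ≫ ((σ.pt _ _ ≫ u) * (σ.pt _ _ ≫ w ≫ k)⁻¹)) * _ *
      (_ ≫ ((σ.pt _ _ ≫ u) * (σ.pt _ _ ≫ w ≫ k)⁻¹)) * _ * _
    simp only [MonObj.comp_mul, GrpObj.comp_inv, ← Category.assoc, hab]
    rw [show (a * b) ≫ u = (a ≫ u) * (b ≫ u) from MonObj.mul_comp a b u]
    simp only [Category.assoc]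
    rw [hκk]
    show _ = (a ≫ u) * (a ≫ w ≫ k)⁻¹ * (a ≫ w ≫ k) * ((b ≫ u) * (b ≫ w ≫ k)⁻¹) * (a ≫ w ≫ k)⁻¹ *
      ((a ≫ w ≫ k) * (b ≫ w ≫ k) * ((a * b) ≫ w ≫ k)⁻¹)
    group
  -- lifts to `A₁ + K₁ E`
  have hmapK : ∀ (f : MonoidAlgebra R M →ₐ[R] MonoidAlgebra (MonoidAlgebra R M) M) (e : MonoidAlgebra R M),
      e ∈ K.map (algebraMap R (MonoidAlgebra R M)) →
      f e ∈ K₁.map (algebraMap (MonoidAlgebra R M) (MonoidAlgebra (MonoidAlgebra R M) M)) := fun f e he => by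
    have := Ideal.mem_map_of_mem f.toRingHom he
    rw [Ideal.map_map, AlgHom.toRingHom_eq_coe, AlgHom.comp_algebraMap] at this
    rwa [Ideal.map_map, ← IsScalarTower.algebraMap_eq]
  have hlift : ∀ (f : MonoidAlgebra R M →ₐ[R] MonoidAlgebra (MonoidAlgebra R M) M),
      ∃ f' : adj K (MonoidAlgebra R M) →ₐ[R] adj K₁ (MonoidAlgebra (MonoidAlgebra R M) M),
        ((adj K₁ (MonoidAlgebra (MonoidAlgebra R M) M)).val.restrictScalars R).comp f' = f.comp (adj K (MonoidAlgebra R M)).val := by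
    intro f
    refine ⟨(f.comp (adj K (MonoidAlgebra R M)).val).codRestrict
      ((adj K₁ (MonoidAlgebra (MonoidAlgebra R M) M)).restrictScalars R) ?_, AlgHom.ext fun e => rfl⟩
    rintro ⟨e, r, hr⟩
    refine ⟨algebraMap R _ r, ?_⟩
    show f e - _ ∈ _
    rw [← IsScalarTower.algebraMap_apply, ← f.commutes r, ← map_sub]
    exact hmapK f _ hr
  obtain ⟨dia', hdia'⟩ := hlift dia
  obtain ⟨out', hout'⟩ := hlift out
  let inn' : MonoidAlgebra R M →ₐ[R] adj K₁ (MonoidAlgebra (MonoidAlgebra R M) M) :=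
    IsScalarTower.toAlgHom R (MonoidAlgebra R M) _
  let val' := (adj K₁ (MonoidAlgebra (MonoidAlgebra R M) M)).val.restrictScalars R₀
  let z₁ := sp (A' := adj K₁ (MonoidAlgebra (MonoidAlgebra R M) M)) (dia'.restrictScalars R₀) ≫ z
  let wp := sp (A' := adj K₁ (MonoidAlgebra (MonoidAlgebra R M) M)) (inn'.restrictScalars R₀) ≫ σ.pt _ (MonoidAlgebra.of R M)
  have hkerE : J ≤ RingHom.ker (algebraMap R₀ (MonoidAlgebra (MonoidAlgebra R M) M ⧸
      K₁.map (algebraMap (MonoidAlgebra R M) (MonoidAlgebra (MonoidAlgebra R M) M)))) := by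
    intro r hr
    rw [RingHom.mem_ker, IsScalarTower.algebraMap_apply R₀ (MonoidAlgebra (MonoidAlgebra R M) M),
      Ideal.Quotient.algebraMap_eq, Ideal.Quotient.eq_zero_iff_mem,
      IsScalarTower.algebraMap_apply R₀ (MonoidAlgebra R M) (MonoidAlgebra (MonoidAlgebra R M) M),
      IsScalarTower.algebraMap_apply R₀ R (MonoidAlgebra R M)]
    exact Ideal.mem_map_of_mem _ (Ideal.mem_map_of_mem _ (Ideal.mem_map_of_mem _ hr))
  have hkillE : sp (Ideal.Quotient.mkₐ R₀ (K₁.map (algebraMap (MonoidAlgebra R M) (MonoidAlgebra (MonoidAlgebra R M) M)))) ≫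
      ((a ≫ w ≫ k) * (b ≫ w ≫ k) * ((a * b) ≫ w ≫ k)⁻¹) = 1 :=
    hkill (MonoidAlgebra (MonoidAlgebra R M) M ⧸
      K₁.map (algebraMap (MonoidAlgebra R M) (MonoidAlgebra (MonoidAlgebra R M) M))) _ hkerE a b
  obtain ⟨zκ, hzκ, hzκ1⟩ := exists_extend jK hRK hK₁ (E := MonoidAlgebra (MonoidAlgebra R M) M) κ (by
    rw [← cancel_mono k, Category.assoc, hκk, MonObj.one_comp]
    exact hkillE)
  let z₂ := (sp (A' := adj K₁ (MonoidAlgebra (MonoidAlgebra R M) M)) (inn'.restrictScalars R₀) ≫ d) * (wp ≫ w ≫ k) * (sp (A' := adj K₁ (MonoidAlgebra (MonoidAlgebra R M) M)) (out'.restrictScalars R₀) ≫ z) * (wp ≫ w ≫ k)⁻¹ * (zκ ≫ k)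
  have hred : ∀ f' : adj K (MonoidAlgebra R M) →ₐ[R] adj K₁ (MonoidAlgebra (MonoidAlgebra R M) M),
      (∀ f : MonoidAlgebra R M →ₐ[R] MonoidAlgebra (MonoidAlgebra R M) M,
        ((adj K₁ (MonoidAlgebra (MonoidAlgebra R M) M)).val.restrictScalars R).comp f' = f.comp (adj K (MonoidAlgebra R M)).val →
        sp (Ideal.Quotient.mkₐ R₀ (red K₁ (MonoidAlgebra (MonoidAlgebra R M) M))) ≫ sp (A' := adj K₁ (MonoidAlgebra (MonoidAlgebra R M) M)) (f'.restrictScalars R₀) ≫ z = 1) := by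
    intro f' f hf
    let g : (adj K (MonoidAlgebra R M) ⧸ red K (MonoidAlgebra R M)) →ₐ[R₀]
        (adj K₁ (MonoidAlgebra (MonoidAlgebra R M) M) ⧸ red K₁ (MonoidAlgebra (MonoidAlgebra R M) M)) :=
      Ideal.Quotient.liftₐ _ ((Ideal.Quotient.mkₐ R₀ _).comp (f'.restrictScalars R₀)) fun e he =>
        Ideal.Quotient.eq_zero_iff_mem.mpr (by
          rw [mem_red]
          have h1 : ((f' e : adj K₁ (MonoidAlgebra (MonoidAlgebra R M) M)) : MonoidAlgebra (MonoidAlgebra R M) M) = f e :=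
            AlgHom.congr_fun hf e
          show ((f' e : adj K₁ _) : MonoidAlgebra (MonoidAlgebra R M) M) ∈ _
          rw [h1]
          exact hmapK f _ he)
    rw [← Category.assoc, sp_comp, show (Ideal.Quotient.mkₐ R₀ _).comp (f'.restrictScalars R₀) =
      g.comp (Ideal.Quotient.mkₐ R₀ (red K (MonoidAlgebra R M))) from AlgHom.ext fun e => rfl, ← sp_comp (A' := adj K (MonoidAlgebra R M) ⧸ red K (MonoidAlgebra R M)), Category.assoc,
      hz1, MonObj.comp_one]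
  have hjker : J ≤ RingHom.ker (algebraMap R₀
      (adj K₁ (MonoidAlgebra (MonoidAlgebra R M) M) ⧸ red K₁ (MonoidAlgebra (MonoidAlgebra R M) M))) := by
    refine hker _ (Ideal.map_le_iff_le_comap.mpr fun r hr => mem_red.mpr ?_)
    show algebraMap R₀ (MonoidAlgebra (MonoidAlgebra R M) M) r ∈ _
    rw [IsScalarTower.algebraMap_apply R₀ (MonoidAlgebra R M) (MonoidAlgebra (MonoidAlgebra R M) M),
      IsScalarTower.algebraMap_apply R₀ R (MonoidAlgebra R M)]
    exact Ideal.mem_map_of_mem _ (Ideal.mem_map_of_mem _ (Ideal.mem_map_of_mem _ hr))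
  have hz₁₂ : z₁ = z₂ := by
    refine eq_of_val j hR hK₁ z₁ z₂ (hred dia' dia hdia') ?_ ?_
    · simp only [z₂, MonObj.comp_mul, GrpObj.comp_inv]
      rw [hred out' out hout', ← Category.assoc _ _ d, sp_comp, htriv _ _ hjker, ← Category.assoc _ zκ, hzκ1,
        MonObj.one_comp]
      simp
    · have e1 : ∀ (f : MonoidAlgebra R M →ₐ[R] MonoidAlgebra (MonoidAlgebra R M) M)
          (f' : adj K (MonoidAlgebra R M) →ₐ[R] adj K₁ (MonoidAlgebra (MonoidAlgebra R M) M)), ((adj K₁ (MonoidAlgebra (MonoidAlgebra R M) M)).val.restrictScalars R).comp f' =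
          f.comp (adj K (MonoidAlgebra R M)).val →
          sp val' ≫ sp (A' := adj K₁ (MonoidAlgebra (MonoidAlgebra R M) M)) (f'.restrictScalars R₀) ≫ z = sp (f.restrictScalars R₀) ≫ d := fun f f' hf => by
        rw [← Category.assoc, sp_comp, show val'.comp (f'.restrictScalars R₀) =
          (f.restrictScalars R₀).comp ((adj K (MonoidAlgebra R M)).val.restrictScalars R₀) from
          AlgHom.ext fun e => AlgHom.congr_fun hf e, ← sp_comp, Category.assoc, hz]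
      have e2 : sp val' ≫ sp (A' := adj K₁ (MonoidAlgebra (MonoidAlgebra R M) M)) (inn'.restrictScalars R₀) = sp (inn.restrictScalars R₀) := by
        rw [sp_comp]; rfl
      show sp val' ≫ z₁ = sp val' ≫ z₂
      simp only [z₁, z₂, wp, MonObj.comp_mul, GrpObj.comp_inv, e1 dia dia' hdia', e1 out out' hout', hdia]
      simp only [← Category.assoc, e2]
      rw [show sp val' ≫ zκ = κ from hzκ]
  -- average
  let π₁ := (coeffOne (M := M) hK₁).restrictScalars R₀
  let toA₁ := IsScalarTower.toAlgHom R₀ R (MonoidAlgebra R M)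
  have p1 : π₁.comp (dia'.restrictScalars R₀) = toA₁.comp ((coeffOne hK).restrictScalars R₀) := AlgHom.ext fun e => by
    show ((dia' e : adj K₁ _) : MonoidAlgebra (MonoidAlgebra R M) M).coeff 1 = algebraMap R _ ((e : MonoidAlgebra R M).coeff 1)
    rw [show ((dia' e : adj K₁ _) : MonoidAlgebra (MonoidAlgebra R M) M) = dia e from AlgHom.congr_fun hdia' e]
    generalize (e : MonoidAlgebra R M) = x
    induction x using MonoidAlgebra.induction_linear with
    | zero => simp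
    | add x y hx hy => simp only [map_add, MonoidAlgebra.coeff_add, Finsupp.add_apply, hx, hy]
    | single m r =>
      simp [dia, inn, out, MonoidAlgebra.coe_algebraMap, MonoidAlgebra.single_mul_single, MonoidAlgebra.coeff_single,
        Finsupp.single_apply, MonoidAlgebra.smul_single]
      split_ifs with hm <;> first | rw [hm] | rw [MonoidAlgebra.single_zero]
  have p2 : π₁.comp (out'.restrictScalars R₀) = toA₁.comp ((coeffOne hK).restrictScalars R₀) := AlgHom.ext fun e => by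
    show ((out' e : adj K₁ _) : MonoidAlgebra (MonoidAlgebra R M) M).coeff 1 = algebraMap R _ ((e : MonoidAlgebra R M).coeff 1)
    rw [show ((out' e : adj K₁ _) : MonoidAlgebra (MonoidAlgebra R M) M) = out e from AlgHom.congr_fun hout' e]
    simp [out]
  have p3 : π₁.comp (inn'.restrictScalars R₀) = AlgHom.id R₀ _ := AlgHom.ext fun e =>
    (coeffOne (M := M) hK₁).commutes e
  let k₀ : P R₀ (MonoidAlgebra R M) ⟶ K' := sp π₁ ≫ zκ
  have key : sp toA₁ ≫ c = d * (σ.pt (MonoidAlgebra R M) (MonoidAlgebra.of R M) ≫ w ≫ k) * (sp toA₁ ≫ c) *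
      (σ.pt (MonoidAlgebra R M) (MonoidAlgebra.of R M) ≫ w ≫ k)⁻¹ * (k₀ ≫ k) := by
    have key := congrArg (sp π₁ ≫ ·) hz₁₂
    simp only [z₁, z₂, wp, MonObj.comp_mul, GrpObj.comp_inv, ← Category.assoc, sp_comp, p1, p2, p3, sp_id,
      Category.id_comp] at key
    simp only [← sp_comp, Category.assoc] at key
    exact key
  have hx : (k₀⁻¹ * (σ.pt (MonoidAlgebra R M) (MonoidAlgebra.of R M) ≫ w)) ≫ k =
      (sp toA₁ ≫ c)⁻¹ * (σ.pt (MonoidAlgebra R M) (MonoidAlgebra.of R M) ≫ u) * (sp toA₁ ≫ c) := by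
    rw [MonObj.mul_comp, GrpObj.inv_comp, Category.assoc]
    have hd : d * (σ.pt (MonoidAlgebra R M) (MonoidAlgebra.of R M) ≫ w ≫ k) =
        σ.pt (MonoidAlgebra R M) (MonoidAlgebra.of R M) ≫ u := inv_mul_cancel_right _ _
    rw [hd] at key
    exact inv_mul_conj _ _ _ _ (key.trans (by simp only [k₀, Category.assoc]))
  intro A _ _ _ _ χ
  let f : MonoidAlgebra R M →ₐ[R] A := MonoidAlgebra.lift R A M χ
  have hf : sp (f.restrictScalars R₀) ≫ σ.pt _ (MonoidAlgebra.of R M) = σ.pt A χ := by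
    rw [σ.pt_nat]
    congr 1
    exact MonoidHom.ext fun m => by simp [f]
  have hfc : (f.restrictScalars R₀).comp toA₁ = IsScalarTower.toAlgHom R₀ R A := AlgHom.ext fun r => f.commutes r
  refine ⟨sp (f.restrictScalars R₀) ≫ (k₀⁻¹ * (σ.pt (MonoidAlgebra R M) (MonoidAlgebra.of R M) ≫ w)), ?_⟩
  rw [Category.assoc, hx]
  simp only [MonObj.comp_mul, GrpObj.comp_inv, ← Category.assoc, hf, sp_comp, hfc]

end Groth.Agent.SGA3cLib.AveragingLift
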