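import Groth.Agent.SGA3cLib.RankOneHom
import Groth.Agent.SGA3cLib.Irreducible
import Mathlib.AlgebraicGeometry.AlgClosed.Basic

/-! Bruhat decomposition on geometric points of a rank one group; centralisers of the coroot. -/

set_option linter.style.haveILetI false
set_option linter.unusedSectionVars false
set_option autoImplicit false

universe u

open CategoryTheory CategoryTheory.Limits MonoidalCategory CartesianMonoidalCategory MonObj AlgebraicGeometry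
open Red

noncomputable section

namespace Groth.Agent.SGA3cLib

variable {S : Scheme.{u}} {G T : Over S} [GrpObj G] [GrpObj T] {i : T ⟶ G} [IsMonHom i]
  {α : T ⟶ Gm S} [IsMonHom α] {pp pm : Ga S ⟶ G} [IsMonHom pp] [IsMonHom pm]
  {av : Gm S ⟶ T} [IsMonHom av]

variable (i pp) in
/-- The two Bruhat cells, relative to a Weyl element `W`. -/
def Br {X : Over S} (W g : X ⟶ G) : Prop :=
  (∃ (b : X ⟶ Ga S) (t : X ⟶ T), g = (b ≫ pp) * (t ≫ i)) ∨
    ∃ (b : X ⟶ Ga S) (t : X ⟶ T) (b' : X ⟶ Ga S), g = (b ≫ pp) * (t ≫ i) * W * (b' ≫ pp)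

namespace SL2Rel

variable (H : SL2Rel i α pp pm av) {X : Over S}
include H

theorem T_mul_pp (t : X ⟶ T) (b : X ⟶ Ga S) :
    ∃ b' : X ⟶ Ga S, (t ≫ i) * (b ≫ pp) = (b' ≫ pp) * (t ≫ i) := by
  obtain ⟨b', hb', -⟩ := H.hpp X t b
  exact ⟨b', by rw [hb']; group⟩

theorem W_mul_T {o o' : X ⟶ Ga S} (ho : gaFn o' * gaFn o = -1) (t : X ⟶ T) :
    w pp pm o o' * (t ≫ i) = (((t ≫ α ≫ av)⁻¹ * t) ≫ i) * w pp pm o o' := by
  have h := H.w_conj_T ho t
  rw [mul_inv_eq_iff_eq_mul] at h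
  rw [h, MonObj.mul_comp ((t ≫ α ≫ av)⁻¹) t i, GrpObj.inv_comp, Category.assoc, Category.assoc]

theorem br_T_mul {o o' : X ⟶ Ga S} (t : X ⟶ T) {g : X ⟶ G} (hg : Br i pp (w pp pm o o') g) :
    Br i pp (w pp pm o o') ((t ≫ i) * g) := by
  rcases hg with ⟨b, t', rfl⟩ | ⟨b, t', b', rfl⟩
  · obtain ⟨b₁, hb⟩ := H.T_mul_pp t b
    exact Or.inl ⟨b₁, t * t', by rw [← _root_.mul_assoc, hb, _root_.mul_assoc, MonObj.mul_comp t t' i]⟩
  · obtain ⟨b₁, hb⟩ := H.T_mul_pp t b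
    refine Or.inr ⟨b₁, t * t', b', ?_⟩
    rw [MonObj.mul_comp t t' i, ← _root_.mul_assoc (b₁ ≫ pp), ← hb]
    group

theorem br_pp_mul {o o' : X ⟶ Ga S} (c : X ⟶ Ga S) {g : X ⟶ G} (hg : Br i pp (w pp pm o o') g) :
    Br i pp (w pp pm o o') ((c ≫ pp) * g) := by
  rcases hg with ⟨b, t', rfl⟩ | ⟨b, t', b', rfl⟩
  · exact Or.inl ⟨c * b, t', by rw [MonObj.mul_comp c b pp]; simp only [_root_.mul_assoc]⟩
  · exact Or.inr ⟨c * b, t', b', by rw [MonObj.mul_comp c b pp]; simp only [_root_.mul_assoc]⟩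

theorem br_W_mul {o o' : X ⟶ Ga S} (ho : gaFn o = 1) (ho' : gaFn o' = -1)
    (hX : ∀ r : Γ(X.left, ⊤), r = 0 ∨ IsUnit r) {g : X ⟶ G} (hg : Br i pp (w pp pm o o') g) :
    Br i pp (w pp pm o o') (w pp pm o o' * g) := by
  have hw : gaFn o' * gaFn o = -1 := by rw [ho, ho']; ring
  rcases hg with ⟨b, t, rfl⟩ | ⟨b, t, b', rfl⟩
  · obtain ⟨b₁, hb⟩ := H.T_mul_pp t⁻¹ b
    refine Or.inr ⟨1, (t ≫ α ≫ av)⁻¹ * t, b₁, ?_⟩
    rw [MonObj.one_comp, _root_.one_mul, ← H.W_mul_T hw t, _root_.mul_assoc (w pp pm o o')]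
    congr 1
    rw [GrpObj.inv_comp] at hb
    calc (b ≫ pp) * (t ≫ i) = (t ≫ i) * ((t ≫ i)⁻¹ * (b ≫ pp)) * (t ≫ i) := by group
      _ = _ := by rw [hb]; group
  · obtain ⟨n, hn⟩ := exists_gmFn (S := S) (X := X) (r := -1) isUnit_one.neg
    have hWW : w pp pm o o' * w pp pm o o' = (n ≫ av) ≫ i := by
      rw [Category.assoc, ← pow_two, H.w_sq hw n hn]
    -- move `t` to the right of `W`
    let t₁ : X ⟶ T := (t ≫ α ≫ av)⁻¹ * t
    have hstep : w pp pm o o' * ((b ≫ pp) * (t ≫ i) * w pp pm o o' * (b' ≫ pp)) =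
        (w pp pm o o' * (b ≫ pp) * (w pp pm o o')⁻¹) * ((t₁ ≫ i) * ((n ≫ av) ≫ i) * (b' ≫ pp)) := by
      rw [← hWW]
      calc w pp pm o o' * ((b ≫ pp) * (t ≫ i) * w pp pm o o' * (b' ≫ pp))
          = w pp pm o o' * (b ≫ pp) * (w pp pm o o')⁻¹ *
              ((w pp pm o o' * (t ≫ i)) * w pp pm o o' * (b' ≫ pp)) := by group
        _ = _ := by rw [H.W_mul_T hw t]; simp only [t₁, _root_.mul_assoc]
    rw [hstep, ← MonObj.mul_comp t₁ (n ≫ av) i]
    obtain ⟨nb, hnb⟩ := exists_gaFn (S := S) (-gaFn b)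
    rw [H.w_conj_pp (c := b) (c' := nb) hw (by rw [hnb, ho']; ring)]
    obtain ⟨b'', hb''⟩ := H.T_mul_pp (t₁ * (n ≫ av)) b'
    rw [hb'']
    rcases hX (gaFn b) with hb0 | hbu
    · rw [gaFn_injective (x := nb) (y := 1) (by rw [hnb, hb0, gaFn_one, neg_zero]), MonObj.one_comp, _root_.one_mul]
      exact Or.inl ⟨b'', t₁ * (n ≫ av), rfl⟩
    · obtain ⟨v, hv⟩ := hbu.exists_right_inv
      obtain ⟨z, hz⟩ := exists_gmFn (S := S) (IsUnit.of_mul_eq_one (gaFn b) (by rw [_root_.mul_comm]; exact hv) : IsUnit v)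
      obtain ⟨x, hx⟩ := exists_gaFn (S := S) v
      obtain ⟨nx, hnx⟩ := exists_gaFn (S := S) (-v)
      have hwx : gaFn nb * gaFn x = -1 := by rw [hnb, hx]; linear_combination -hv
      have hsm := (H.w_smul hw hwx z (by rw [hx, hz, ho, _root_.mul_one])).1
      have hinv : (x ≫ pp) * (nx ≫ pp) = 1 := by
        rw [← MonObj.mul_comp x nx pp, gaFn_injective (x := x * nx) (y := 1)
          (by rw [gaFn_mul, gaFn_one, hx, hnx, add_neg_cancel]), MonObj.one_comp]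
      have hinv' : (nx ≫ pp) * (x ≫ pp) = 1 := by
        rw [mul_eq_one_iff_eq_inv'] at hinv
        rw [hinv, inv_mul_cancel]
      have hpm : nb ≫ pm = (nx ≫ pp) * ((z ≫ av) ≫ i) * w pp pm o o' * (nx ≫ pp) := by
        calc nb ≫ pm = ((nx ≫ pp) * (x ≫ pp)) * (nb ≫ pm) * ((x ≫ pp) * (nx ≫ pp)) := by
              rw [hinv, hinv', _root_.one_mul, _root_.mul_one]
          _ = (nx ≫ pp) * w pp pm x nb * (nx ≫ pp) := by simp only [w, _root_.mul_assoc]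
          _ = _ := by rw [hsm, Category.assoc]; simp only [_root_.mul_assoc]
      obtain ⟨c, hc⟩ : ∃ c : X ⟶ Ga S, (nx ≫ pp) * (b'' ≫ pp) = c ≫ pp :=
        ⟨nx * b'', (MonObj.mul_comp nx b'' pp).symm⟩
      obtain ⟨c', hc'⟩ := H.T_mul_pp (t₁ * (n ≫ av))⁻¹ c
      rw [GrpObj.inv_comp] at hc'
      refine Or.inr ⟨nx, (z ≫ av) * ((((t₁ * (n ≫ av))) ≫ α ≫ av)⁻¹ * (t₁ * (n ≫ av))), c', ?_⟩
      rw [hpm, MonObj.mul_comp (z ≫ av) _ i]
      calc (nx ≫ pp) * ((z ≫ av) ≫ i) * w pp pm o o' * (nx ≫ pp) * ((b'' ≫ pp) * ((t₁ * (n ≫ av)) ≫ i))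
          = (nx ≫ pp) * ((z ≫ av) ≫ i) * (w pp pm o o' * ((t₁ * (n ≫ av)) ≫ i)) *
              ((((t₁ * (n ≫ av)) ≫ i)⁻¹) * (c ≫ pp) * ((t₁ * (n ≫ av)) ≫ i)) := by rw [← hc]; group
        _ = _ := by rw [H.W_mul_T hw, hc']; group

theorem br_cell_mul {o o' : X ⟶ Ga S} (ho : gaFn o = 1) (ho' : gaFn o' = -1)
    (hX : ∀ r : Γ(X.left, ⊤), r = 0 ∨ IsUnit r) (a : X ⟶ Ga S) (t : X ⟶ T) (b : X ⟶ Ga S)
    {g : X ⟶ G} (hg : Br i pp (w pp pm o o') g) :
    Br i pp (w pp pm o o') ((a ≫ pm) * (t ≫ i) * (b ≫ pp) * g) ∧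
      Br i pp (w pp pm o o') (((a ≫ pm) * (t ≫ i) * (b ≫ pp))⁻¹ * g) := by
  have hw : gaFn o' * gaFn o = -1 := by rw [ho, ho']; ring
  obtain ⟨n, hn⟩ := exists_gmFn (S := S) (X := X) (r := -1) isUnit_one.neg
  have hWinv : ∀ {k : X ⟶ G}, Br i pp (w pp pm o o') k → Br i pp (w pp pm o o') ((w pp pm o o')⁻¹ * k) := by
    intro k hk
    have : (w pp pm o o')⁻¹ = ((n ≫ av)⁻¹ ≫ i) * w pp pm o o' := by
      rw [GrpObj.inv_comp, Category.assoc, ← H.w_sq hw n hn, pow_two]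
      group
    rw [this, _root_.mul_assoc]
    exact H.br_T_mul _ (H.br_W_mul ho ho' hX hk)
  have hpm : ∀ (y : X ⟶ Ga S) {k : X ⟶ G}, Br i pp (w pp pm o o') k →
      Br i pp (w pp pm o o') ((y ≫ pm) * k) := by
    intro y k hk
    obtain ⟨ny, hny⟩ := exists_gaFn (S := S) (-gaFn y)
    rw [← H.w_conj_pp (c := ny) (c' := y) hw (by rw [hny, ho']; ring), _root_.mul_assoc, _root_.mul_assoc]
    exact H.br_W_mul ho ho' hX (H.br_pp_mul _ (hWinv hk))
  constructor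
  · rw [_root_.mul_assoc, _root_.mul_assoc]
    exact hpm a (H.br_T_mul t (H.br_pp_mul b hg))
  · rw [_root_.mul_inv_rev, _root_.mul_inv_rev, ← GrpObj.inv_comp b pp, ← GrpObj.inv_comp t i, ← GrpObj.inv_comp a pm,
      _root_.mul_assoc, _root_.mul_assoc]
    exact H.br_pp_mul _ (H.br_T_mul _ (hpm _ hg))

/-- The second Bruhat cell is not centralised by a coroot value `u` with `u⁴ ≠ 1`. -/
theorem exists_formA_of_commute [Mono i] (hΩ : IsOpenImmersion (cellHom i pp pm).left)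
    {o o' : X ⟶ Ga S} (ho : gaFn o = 1) (ho' : gaFn o' = -1) {g : X ⟶ G} (hg : Br i pp (w pp pm o o') g)
    (u : X ⟶ Gm S) (hu : gmFn u ^ 4 ≠ 1) (hcomm : g * (u ≫ av ≫ i) = (u ≫ av ≫ i) * g) :
    ∃ (b : X ⟶ Ga S) (t : X ⟶ T), g = (b ≫ pp) * (t ≫ i) := by
  have hw : gaFn o' * gaFn o = -1 := by rw [ho, ho']; ring
  rcases hg with hA | ⟨b, t, b', rfl⟩
  · exact hA
  exfalso
  obtain ⟨b₁, hb₁, -⟩ := H.hpp X (u ≫ av) b
  obtain ⟨b₁', hb₁', -⟩ := H.hpp X (u ≫ av) b'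
  simp only [Category.assoc] at hb₁ hb₁'
  have hWs : w pp pm o o' * (u ≫ av ≫ i)⁻¹ = (u ≫ av ≫ i) * w pp pm o o' := by
    have h := H.W_mul_T hw (u ≫ av)
    have he : ((u ≫ av) ≫ α ≫ av)⁻¹ * (u ≫ av) = (u ≫ av)⁻¹ := by
      have : (u ≫ av) ≫ α ≫ av = (u ≫ av) * (u ≫ av) := by
        rw [← MonObj.mul_comp u u av, ← Category.assoc]
        congr 1
        refine gmFn_injective ?_
        rw [gmFn_av_α H u, gmFn_mul, pow_two]
      rw [this]; group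
    rw [he, GrpObj.inv_comp] at h
    simp only [Category.assoc] at h
    calc w pp pm o o' * (u ≫ av ≫ i)⁻¹
        = (u ≫ av ≫ i) * ((u ≫ av ≫ i)⁻¹ * w pp pm o o') * (u ≫ av ≫ i)⁻¹ := by group
      _ = _ := by rw [← h]; group
  let t₂ : X ⟶ T := (u ≫ av) * t * (u ≫ av)
  have heq : (b₁ ≫ pp) * (t₂ ≫ i) * w pp pm o o' * (b₁' ≫ pp) =
      (b ≫ pp) * (t ≫ i) * w pp pm o o' * (b' ≫ pp) := by
    rw [hb₁, hb₁', MonObj.mul_comp ((u ≫ av) * t) (u ≫ av) i, MonObj.mul_comp (u ≫ av) t i, Category.assoc]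
    calc _ = (u ≫ av ≫ i) * ((b ≫ pp) * (t ≫ i) * ((u ≫ av ≫ i) * w pp pm o o') * (u ≫ av ≫ i) * (b' ≫ pp)) *
            (u ≫ av ≫ i)⁻¹ := by group
      _ = (u ≫ av ≫ i) * ((b ≫ pp) * (t ≫ i) * w pp pm o o' * (b' ≫ pp)) * (u ≫ av ≫ i)⁻¹ := by
          rw [← hWs]; group
      _ = _ := by rw [← hcomm]; group
  obtain ⟨d, hd⟩ : ∃ d : X ⟶ Ga S, (b₁ ≫ pp)⁻¹ * (b ≫ pp) = d ≫ pp :=
    ⟨b₁⁻¹ * b, by rw [MonObj.mul_comp (b₁⁻¹) b pp, GrpObj.inv_comp]⟩
  obtain ⟨e, he⟩ : ∃ e : X ⟶ Ga S, (b₁' ≫ pp) * (b' ≫ pp)⁻¹ = e ≫ pp :=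
    ⟨b₁' * b'⁻¹, by rw [MonObj.mul_comp b₁' (b'⁻¹) pp, GrpObj.inv_comp]⟩
  obtain ⟨d', hd', -⟩ := H.hpp X t⁻¹ d
  obtain ⟨y, hy⟩ := exists_gaFn (S := S) (-gaFn e)
  have hWe : w pp pm o o' * (e ≫ pp) * (w pp pm o o')⁻¹ = y ≫ pm :=
    H.w_conj_pp hw (by rw [hy, ho']; ring)
  have h3 : (y ≫ pm) * ((1 : X ⟶ T) ≫ i) * ((1 : X ⟶ Ga S) ≫ pp) =
      ((1 : X ⟶ Ga S) ≫ pm) * ((t₂⁻¹ * t) ≫ i) * (d' ≫ pp) := by
    rw [MonObj.one_comp, MonObj.one_comp, MonObj.one_comp, _root_.mul_one, _root_.mul_one, _root_.one_mul,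
      MonObj.mul_comp t₂⁻¹ t i, hd', GrpObj.inv_comp, GrpObj.inv_comp, ← hWe, ← he, ← hd]
    calc _ = (t₂ ≫ i)⁻¹ * (b₁ ≫ pp)⁻¹ * ((b₁ ≫ pp) * (t₂ ≫ i) * w pp pm o o' * (b₁' ≫ pp)) *
            (b' ≫ pp)⁻¹ * (w pp pm o o')⁻¹ := by group
      _ = _ := by rw [heq]; group
  obtain ⟨-, h4, -⟩ := cell_unique hΩ h3
  have h5 : t₂ ≫ i = t ≫ i := by
    have : t₂ = t := by
      have := congrArg (t₂ * ·) h4
      simpa [← _root_.mul_assoc] using this
    rw [this]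
  -- `av(u)` commutes with `t`, so `av(u)² = 1`
  obtain ⟨b₂, hb₂, -⟩ := H.hpp X (u ≫ av) 1
  have h6 : ((u ≫ av) * t) ≫ i * ((u ≫ av) ≫ i) = t ≫ i := by
    rw [← MonObj.mul_comp ((u ≫ av) * t) (u ≫ av) i]; exact h5
  have hα : gmFn (((u ≫ av) * t * (u ≫ av)) ≫ α) = gmFn (t ≫ α) := by
    rw [show (u ≫ av) * t * (u ≫ av) = t from (cancel_mono i).mp h5]
  rw [show gmFn (((u ≫ av) * t * (u ≫ av)) ≫ α) = gmFn u ^ 2 * gmFn (t ≫ α) * gmFn u ^ 2 from by
    refine (congrArg gmFn ((MonObj.mul_comp ((u ≫ av) * t) (u ≫ av) α).trans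
      (congrArg (· * ((u ≫ av) ≫ α)) (MonObj.mul_comp (u ≫ av) t α)))).trans ?_
    rw [gmFn_mul, gmFn_mul, gmFn_av_α H u]] at hα
  apply hu
  refine (isUnit_gmFn (t ≫ α)).mul_left_cancel ?_
  rw [_root_.mul_one]
  linear_combination hα

end SL2Rel

/-- Over an algebraically closed field, every point is a ratio of two points of the cell. -/
theorem exists_cell_ratio (hG : Red.IsReductive G) (hΩ : IsOpenImmersion (cellHom i pp pm).left)
    {K : Type u} [Field K] [IsAlgClosed K] (x : Spec (CommRingCat.of K) ⟶ S) (g : Over.mk x ⟶ G) :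
    ∃ h : Over.mk x ⟶ G, Set.range h.left.base ⊆ Set.range (cellHom i pp pm).left.base ∧
      Set.range (g * h).left.base ⊆ Set.range (cellHom i pp pm).left.base := by
  haveI := hG.2.1
  let R : G.left.Opens := (cellHom i pp pm).left.opensRange
  let X₀ : Over S := Over.mk x
  haveI := irreducibleSpace_geometric_fibre hG x
  haveI : IrreducibleSpace ↥(pullback G.hom x) := this
  let Y : Over S := Over.mk (pullback.snd G.hom x ≫ x)
  let f₁ : Y ⟶ G := Over.homMk (pullback.fst G.hom x) pullback.condition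
  let q : Y ⟶ X₀ := Over.homMk (pullback.snd G.hom x) rfl
  let φ : Y ⟶ G := (q ≫ g) * f₁
  let φ' : Y ⟶ G := (q ≫ g)⁻¹ * f₁
  let τ : Y ⟶ Y := Over.homMk (pullback.lift φ.left (pullback.snd G.hom x) (Over.w φ))
    (by show _ ≫ pullback.snd G.hom x ≫ x = _; rw [pullback.lift_snd_assoc]; rfl)
  let τ' : Y ⟶ Y := Over.homMk (pullback.lift φ'.left (pullback.snd G.hom x) (Over.w φ'))
    (by show _ ≫ pullback.snd G.hom x ≫ x = _; rw [pullback.lift_snd_assoc]; rfl)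
  have hτq : τ' ≫ q = q := Over.OverMorphism.ext (pullback.lift_snd _ _ _)
  have hτf : τ' ≫ f₁ = φ' := Over.OverMorphism.ext (pullback.lift_fst _ _ _)
  have hτφ : τ' ≫ φ = f₁ := by
    simp only [φ, MonObj.comp_mul, ← Category.assoc, hτq]
    simp only [Category.assoc, hτf, φ']
    group
  have hsτ : Function.Surjective τ.left.base := by
    intro y
    refine ⟨τ'.left.base y, ?_⟩
    have h1 : τ'.left ≫ τ.left = 𝟙 _ := by
      apply pullback.hom_ext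
      · rw [Category.assoc]
        erw [pullback.lift_fst, ← Over.comp_left, hτφ, Category.id_comp]
        rfl
      · rw [Category.assoc]
        erw [pullback.lift_snd, pullback.lift_snd, Category.id_comp]
    exact congrArg (fun f => f.base y) h1
  let V : Set Y.left := f₁.left.base ⁻¹' R
  have hV : IsOpen V := R.isOpen.preimage f₁.left.continuous
  have hVne : V.Nonempty := by
    let e : X₀ ⟶ Y := Over.homMk (pullback.lift (1 : X₀ ⟶ G).left (𝟙 _)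
      ((Over.w (1 : X₀ ⟶ G)).trans (Category.id_comp _).symm))
      (by show _ ≫ pullback.snd G.hom x ≫ x = _; rw [pullback.lift_snd_assoc, Category.id_comp]; rfl)
    have he : e ≫ f₁ = 1 := Over.OverMorphism.ext (pullback.lift_fst _ _ _)
    refine ⟨e.left.base (IsLocalRing.closedPoint K), ?_⟩
    show (e ≫ f₁).left.base _ ∈ R
    rw [he]
    have := cell_range (i := i) (pp := pp) (pm := pm) (1 : X₀ ⟶ Ga S) 1 1
    rw [MonObj.one_comp, MonObj.one_comp, MonObj.one_comp, _root_.one_mul, _root_.one_mul] at this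
    exact this ⟨_, rfl⟩
  have hVτ : (τ.left.base ⁻¹' V).Nonempty := hVne.preimage hsτ
  haveI : IrreducibleSpace ↥Y.left := ‹IrreducibleSpace ↥(pullback G.hom x)›
  have hne : (V ∩ τ.left.base ⁻¹' V).Nonempty :=
    nonempty_preirreducible_inter hV (hV.preimage τ.left.continuous) hVne hVτ
  haveI : LocallyOfFiniteType (pullback.snd G.hom x) := inferInstance
  haveI : JacobsonSpace ↥(pullback G.hom x) := LocallyOfFiniteType.jacobsonSpace (pullback.snd G.hom x)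
  obtain ⟨c, hc, hcc⟩ := nonempty_inter_closedPoints (X := ↥(pullback G.hom x)) hne
    ((hV.inter (hV.preimage τ.left.continuous)).isLocallyClosed)
  let p : X₀ ⟶ Y := Over.homMk (pointOfClosedPoint (pullback.snd G.hom x) c hcc) (by
    show _ ≫ pullback.snd G.hom x ≫ x = x
    rw [pointOfClosedPoint_comp_assoc])
  have hpq : p ≫ q = 𝟙 X₀ := Over.OverMorphism.ext (pointOfClosedPoint_comp _ _ _)
  have hpc : ∀ a, p.left.base a = c := fun a => pointOfClosedPoint_apply _ _ _ a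
  refine ⟨p ≫ f₁, ?_, ?_⟩
  · rintro _ ⟨a, rfl⟩
    show f₁.left.base (p.left.base a) ∈ _
    rw [hpc]
    exact hc.1
  · have : g * (p ≫ f₁) = p ≫ τ ≫ f₁ := by
      rw [show τ ≫ f₁ = φ from Over.OverMorphism.ext (pullback.lift_fst _ _ _), MonObj.comp_mul,
        reassoc_of% hpq]
    rintro _ ⟨a, rfl⟩
    rw [this]
    show f₁.left.base (τ.left.base (p.left.base a)) ∈ _
    rw [hpc]
    exact hc.2

/-- Every element is a ratio of two cell elements, on an fppf cover. -/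
theorem exists_cell_cover_fppf (hG : Red.IsReductive G) (hΩ : IsOpenImmersion (cellHom i pp pm).left)
    {X : Over S} (g : X ⟶ G) :
    ∃ (X' : Over S) (π : X' ⟶ X) (c₁ c₂ : X' ⟶ G), Surjective π.left ∧
      (Flat π.left ∧ LocallyOfFinitePresentation π.left) ∧ π ≫ g = c₂ * c₁⁻¹ ∧
      Set.range c₁.left.base ⊆ Set.range (cellHom i pp pm).left.base ∧
      Set.range c₂.left.base ⊆ Set.range (cellHom i pp pm).left.base := by
  haveI := hG.2.1
  let R : G.left.Opens := (cellHom i pp pm).left.opensRange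
  let W₀ : (X ⊗ G).left.Opens := (snd X G).left ⁻¹ᵁ R ⊓ ((fst X G ≫ g) * snd X G).left ⁻¹ᵁ R
  let X' : Over S := Over.mk (W₀.ι ≫ (X ⊗ G).hom)
  let j : X' ⟶ X ⊗ G := Over.homMk W₀.ι rfl
  have hj : ∀ z : X'.left, j.left.base z ∈ W₀ := fun z => z.2
  have hsu : Surjective (j ≫ fst X G).left := by
    refine ⟨fun w => ?_⟩
    let K := AlgebraicClosure (X.left.residueField w)
    let k₀ : Spec (CommRingCat.of K) ⟶ X.left :=
      Spec.map (CommRingCat.ofHom (algebraMap (X.left.residueField w) K)) ≫ X.left.fromSpecResidueField w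
    let X₀ : Over S := Over.mk (k₀ ≫ X.hom)
    let k : X₀ ⟶ X := Over.homMk k₀ rfl
    let x : Spec (CommRingCat.of K) ⟶ S := k₀ ≫ X.hom
    obtain ⟨h, hh₁, hh₂⟩ := exists_cell_ratio hG hΩ x (k ≫ g : X₀ ⟶ G)
    let L : X₀ ⟶ X ⊗ G := lift k h
    have hL : ∀ a, L.left.base a ∈ W₀ := by
      intro a
      constructor
      · show (L ≫ snd X G).left.base a ∈ R
        rw [lift_snd]
        exact hh₁ ⟨a, rfl⟩
      · show (L ≫ ((fst X G ≫ g) * snd X G)).left.base a ∈ R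
        rw [MonObj.comp_mul, lift_fst_assoc, lift_snd]
        exact hh₂ ⟨a, rfl⟩
    refine ⟨⟨L.left.base (IsLocalRing.closedPoint K), hL _⟩, ?_⟩
    show (fst X G).left.base (L.left.base (IsLocalRing.closedPoint K)) = w
    rw [← Scheme.Hom.comp_apply, ← Over.comp_left, lift_fst]
    exact X.left.fromSpecResidueField_apply w _
  refine ⟨X', j ≫ fst X G, j ≫ snd X G, j ≫ ((fst X G ≫ g) * snd X G), ?_, ?_, ?_, ?_, ?_⟩
  rotate_left 2
  · rw [MonObj.comp_mul, Category.assoc]; group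
  · rintro _ ⟨z, rfl⟩
    exact (hj z).1
  · rintro _ ⟨z, rfl⟩
    exact (hj z).2
  · exact hsu
  · have hfl : Flat (j ≫ fst X G).left := by
      haveI : Flat (fst X G).left := inferInstanceAs (Flat (pullback.fst X.hom G.hom))
      haveI : Flat j.left := inferInstanceAs (Flat W₀.ι)
      rw [Over.comp_left]
      infer_instance
    haveI := hfl
    haveI : LocallyOfFinitePresentation (j ≫ fst X G).left := by
      haveI : LocallyOfFinitePresentation (fst X G).left :=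
        inferInstanceAs (LocallyOfFinitePresentation (pullback.fst X.hom G.hom))
      haveI : LocallyOfFinitePresentation j.left := inferInstanceAs (LocallyOfFinitePresentation W₀.ι)
      rw [Over.comp_left]
      infer_instance
    exact ⟨hfl, ‹_›⟩

theorem exists_cell_cover (hG : Red.IsReductive G) (hΩ : IsOpenImmersion (cellHom i pp pm).left)
    {X : Over S} (g : X ⟶ G) :
    ∃ (X' : Over S) (π : X' ⟶ X) (c₁ c₂ : X' ⟶ G), Surjective π.left ∧ Epi π ∧ π ≫ g = c₂ * c₁⁻¹ ∧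
      Set.range c₁.left.base ⊆ Set.range (cellHom i pp pm).left.base ∧
      Set.range c₂.left.base ⊆ Set.range (cellHom i pp pm).left.base := by
  obtain ⟨X', π, c₁, c₂, hs, ⟨hf, -⟩, he, h₁, h₂⟩ := exists_cell_cover_fppf hG hΩ g
  haveI := hs
  haveI := hf
  haveI : Epi π.left := Flat.epi_of_flat_of_surjective _
  exact ⟨X', π, c₁, c₂, hs, (Over.forget S).epi_of_epi_map (f := π) ‹_›, he, h₁, h₂⟩

theorem eq_zero_or_isUnit_Spec (K : Type u) [Field K] (r : Γ(Spec (CommRingCat.of K), ⊤)) : r = 0 ∨ IsUnit r := by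
  rcases eq_or_ne ((Scheme.ΓSpecIso (CommRingCat.of K)).hom r) 0 with h | h
  · exact Or.inl ((ConcreteCategory.bijective_of_isIso (Scheme.ΓSpecIso (CommRingCat.of K)).hom).1
      (h.trans (map_zero _).symm))
  · exact Or.inr (Iso.hom_inv_id_apply (Scheme.ΓSpecIso (CommRingCat.of K)) r ▸
      (isUnit_iff_ne_zero.mpr h).map (Scheme.ΓSpecIso (CommRingCat.of K)).inv.hom)

/-- Bruhat decomposition for points with values in an algebraically closed field. -/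
theorem bruhat (H : SL2Rel i α pp pm av) (hG : Red.IsReductive G) (hΩ : IsOpenImmersion (cellHom i pp pm).left)
    {K : Type u} [Field K] [IsAlgClosed K] (x : Spec (CommRingCat.of K) ⟶ S)
    {o o' : Over.mk x ⟶ Ga S} (ho : gaFn o = 1) (ho' : gaFn o' = -1) (g : Over.mk x ⟶ G) :
    Br i pp (SL2Rel.w pp pm o o') g := by
  have hK : ∀ r : Γ((Over.mk x).left, ⊤), r = 0 ∨ IsUnit r := eq_zero_or_isUnit_Spec K
  obtain ⟨h, hh₁, hh₂⟩ := exists_cell_ratio hG hΩ x g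
  obtain ⟨a₁, t₁, b₁, e₁⟩ := exists_cell hΩ h hh₁
  obtain ⟨a₂, t₂, b₂, e₂⟩ := exists_cell hΩ (g * h) hh₂
  have h1 := (H.br_cell_mul ho ho' hK a₁ t₁ b₁
    (g := 1) (Or.inl ⟨1, 1, by rw [MonObj.one_comp, MonObj.one_comp, _root_.one_mul]⟩)).2
  have h2 := (H.br_cell_mul ho ho' hK a₂ t₂ b₂ h1).1
  rw [← e₁, ← e₂, _root_.mul_one, mul_inv_cancel_right] at h2
  exact h2

end Groth.Agent.SGA3cLib
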