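import Groth.Agent.SGA3cLib.Irreducible
import Mathlib.AlgebraicGeometry.AlgClosed.Basic
import Mathlib.AlgebraicGeometry.Sites.Fpqc
import Mathlib.AlgebraicGeometry.Morphisms.UniversallyOpen

/-! Extension of a partial homomorphism defined on an open neighbourhood of the unit section of a reductive group. -/

set_option linter.style.haveILetI false
set_option linter.unusedSectionVars false
set_option autoImplicit false

universe u

open CategoryTheory CategoryTheory.Limits MonoidalCategory CartesianMonoidalCategory MonObj AlgebraicGeometry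
open Red

noncomputable section

namespace Groth.Agent.SGA3cLib

variable {S : Scheme.{u}} {G H : Over S} [GrpObj G] [GrpObj H]

/-- The open subscheme `R`, over `S`. -/
abbrev opOver (R : G.left.Opens) : Over S := Over.mk (R.ι ≫ G.hom)

/-- Its inclusion. -/
abbrev opIncl (R : G.left.Opens) : opOver R ⟶ G := Over.homMk R.ι rfl

theorem exists_opPoint (R : G.left.Opens) {X : Over S} (g : X ⟶ G) (hg : Set.range g.left.base ⊆ (R : Set G.left)) :
    ∃ v : X ⟶ opOver R, v ≫ opIncl R = g := by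
  have h : Set.range g.left.base ⊆ Set.range R.ι.base := by rwa [Scheme.Opens.range_ι]
  refine ⟨Over.homMk (IsOpenImmersion.lift R.ι g.left h) ?_, Over.OverMorphism.ext (IsOpenImmersion.lift_fac _ _ _)⟩
  show IsOpenImmersion.lift R.ι g.left h ≫ R.ι ≫ G.hom = X.hom
  rw [IsOpenImmersion.lift_fac_assoc, Over.w g]

/-- Three translates of a neighbourhood of the unit section meet on every geometric fibre. -/
theorem exists_point_translates (hG : Red.IsReductive G) (R : G.left.Opens)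
    (hR : ∀ X : Over S, Set.range (1 : X ⟶ G).left.base ⊆ (R : Set G.left))
    {K : Type u} [Field K] [IsAlgClosed K] (x : Spec (CommRingCat.of K) ⟶ S) (g₁ g₂ g₃ : Over.mk x ⟶ G) :
    ∃ h : Over.mk x ⟶ G, Set.range h.left.base ⊆ (R : Set G.left) ∧
      Set.range (g₁ * h).left.base ⊆ (R : Set G.left) ∧ Set.range (g₂ * h).left.base ⊆ (R : Set G.left) ∧
      Set.range (g₃ * h).left.base ⊆ (R : Set G.left) := by
  haveI := hG.2.1
  haveI := irreducibleSpace_geometric_fibre hG x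
  let X₀ : Over S := Over.mk x
  let Y : Over S := Over.mk (pullback.snd G.hom x ≫ x)
  let f₁ : Y ⟶ G := Over.homMk (pullback.fst G.hom x) pullback.condition
  let q : Y ⟶ X₀ := Over.homMk (pullback.snd G.hom x) rfl
  haveI : IrreducibleSpace ↥Y.left := ‹IrreducibleSpace ↥(Red.bc x G).left›
  let V : Set Y.left := f₁.left.base ⁻¹' R
  have hV : IsOpen V := R.isOpen.preimage f₁.left.continuous
  let τ : (X₀ ⟶ G) → (Y ⟶ Y) := fun g => Over.homMk
    (pullback.lift ((q ≫ g) * f₁).left (pullback.snd G.hom x) (Over.w ((q ≫ g) * f₁)))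
    (by show _ ≫ pullback.snd G.hom x ≫ x = _; rw [pullback.lift_snd_assoc]; rfl)
  have hτq : ∀ g, τ g ≫ q = q := fun g => Over.OverMorphism.ext (pullback.lift_snd _ _ _)
  have hτf : ∀ g, τ g ≫ f₁ = (q ≫ g) * f₁ := fun g => Over.OverMorphism.ext (pullback.lift_fst _ _ _)
  have hsur : ∀ g, Function.Surjective (τ g).left.base := fun g y => by
    refine ⟨(τ g⁻¹).left.base y, ?_⟩
    have h1 : (τ g⁻¹ ≫ τ g).left = 𝟙 _ := by
      apply pullback.hom_ext
      · have h2 : (τ g⁻¹ ≫ τ g) ≫ f₁ = f₁ := by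
          rw [Category.assoc, hτf, MonObj.comp_mul, ← Category.assoc, hτq, hτf, GrpObj.comp_inv,
            mul_inv_cancel_left]
        exact (congrArg CommaMorphism.left h2).trans (Category.id_comp _).symm
      · have h2 : (τ g⁻¹ ≫ τ g) ≫ q = q := by rw [Category.assoc, hτq, hτq]
        exact (congrArg CommaMorphism.left h2).trans (Category.id_comp _).symm
    exact congrArg (fun f => f.base y) h1
  have hVne : V.Nonempty := by
    let e : X₀ ⟶ Y := Over.homMk (pullback.lift (1 : X₀ ⟶ G).left (𝟙 _)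
      ((Over.w (1 : X₀ ⟶ G)).trans (Category.id_comp _).symm))
      (by show _ ≫ pullback.snd G.hom x ≫ x = _; rw [pullback.lift_snd_assoc, Category.id_comp]; rfl)
    have he : e ≫ f₁ = 1 := Over.OverMorphism.ext (pullback.lift_fst _ _ _)
    refine ⟨e.left.base (IsLocalRing.closedPoint K), ?_⟩
    show (e ≫ f₁).left.base _ ∈ R
    rw [he]
    exact hR X₀ ⟨_, rfl⟩
  have hO : ∀ g, IsOpen ((τ g).left.base ⁻¹' V) ∧ ((τ g).left.base ⁻¹' V).Nonempty := fun g =>
    ⟨hV.preimage (τ g).left.continuous, hVne.preimage (hsur g)⟩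
  have n1 := nonempty_preirreducible_inter hV (hO g₁).1 hVne (hO g₁).2
  have o1 := hV.inter (hO g₁).1
  have n2 := nonempty_preirreducible_inter o1 (hO g₂).1 n1 (hO g₂).2
  have o2 := o1.inter (hO g₂).1
  have n3 := nonempty_preirreducible_inter o2 (hO g₃).1 n2 (hO g₃).2
  have o3 := o2.inter (hO g₃).1
  haveI : LocallyOfFiniteType (pullback.snd G.hom x) := inferInstance
  haveI : JacobsonSpace ↥(pullback G.hom x) := LocallyOfFiniteType.jacobsonSpace (pullback.snd G.hom x)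
  obtain ⟨c, ⟨⟨⟨hc, hc₁⟩, hc₂⟩, hc₃⟩, hcc⟩ :=
    nonempty_inter_closedPoints (X := ↥(pullback G.hom x)) n3 o3.isLocallyClosed
  let p : X₀ ⟶ Y := Over.homMk (pointOfClosedPoint (pullback.snd G.hom x) c hcc) (by
    show _ ≫ pullback.snd G.hom x ≫ x = x
    rw [pointOfClosedPoint_comp_assoc])
  have hpq : p ≫ q = 𝟙 X₀ := Over.OverMorphism.ext (pointOfClosedPoint_comp _ _ _)
  have hpc : ∀ a, p.left.base a = c := fun a => pointOfClosedPoint_apply _ _ _ a
  have hrange : ∀ g, c ∈ (τ g).left.base ⁻¹' V → Set.range (g * (p ≫ f₁)).left.base ⊆ (R : Set G.left) := by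
    intro g hg
    have : g * (p ≫ f₁) = p ≫ τ g ≫ f₁ := by rw [hτf, MonObj.comp_mul, reassoc_of% hpq]
    rintro _ ⟨a, rfl⟩
    rw [this]
    show f₁.left.base ((τ g).left.base (p.left.base a)) ∈ _
    rw [hpc]
    exact hg
  refine ⟨p ≫ f₁, ?_, hrange g₁ hc₁, hrange g₂ hc₂, hrange g₃ hc₃⟩
  rintro _ ⟨a, rfl⟩
  show f₁.left.base (p.left.base a) ∈ _
  rw [hpc]
  exact hc

/-- On an fppf cover, three translates of the neighbourhood meet. -/
theorem exists_cover_translates (hG : Red.IsReductive G) (R : G.left.Opens)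
    (hR : ∀ X : Over S, Set.range (1 : X ⟶ G).left.base ⊆ (R : Set G.left)) {X : Over S} (g₁ g₂ g₃ : X ⟶ G) :
    ∃ (X' : Over S) (π : X' ⟶ X) (d e₁ e₂ e₃ : X' ⟶ opOver R),
      (Surjective π.left ∧ Flat π.left ∧ LocallyOfFinitePresentation π.left) ∧
      (π ≫ g₁) * (d ≫ opIncl R) = e₁ ≫ opIncl R ∧ (π ≫ g₂) * (d ≫ opIncl R) = e₂ ≫ opIncl R ∧
      (π ≫ g₃) * (d ≫ opIncl R) = e₃ ≫ opIncl R := by
  haveI := hG.2.1
  let W₀ : (X ⊗ G).left.Opens := (snd X G).left ⁻¹ᵁ R ⊓ ((fst X G ≫ g₁) * snd X G).left ⁻¹ᵁ R ⊓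
    ((fst X G ≫ g₂) * snd X G).left ⁻¹ᵁ R ⊓ ((fst X G ≫ g₃) * snd X G).left ⁻¹ᵁ R
  let X' : Over S := Over.mk (W₀.ι ≫ (X ⊗ G).hom)
  let j : X' ⟶ X ⊗ G := Over.homMk W₀.ι rfl
  have hj : ∀ z : X'.left, j.left.base z ∈ W₀ := fun z => z.2
  have mem : ∀ g : X ⟶ G, (∀ z : X'.left, j.left.base z ∈ ((fst X G ≫ g) * snd X G).left ⁻¹ᵁ R) →
      Set.range (((j ≫ fst X G) ≫ g) * (j ≫ snd X G)).left.base ⊆ (R : Set G.left) := by
    intro g h
    rw [Category.assoc, ← MonObj.comp_mul]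
    rintro _ ⟨z, rfl⟩
    exact h z
  obtain ⟨d, hd⟩ := exists_opPoint R (j ≫ snd X G) (by rintro _ ⟨z, rfl⟩; exact (hj z).1.1.1)
  obtain ⟨e₁, he₁⟩ := exists_opPoint R _ (mem g₁ fun z => (hj z).1.1.2)
  obtain ⟨e₂, he₂⟩ := exists_opPoint R _ (mem g₂ fun z => (hj z).1.2)
  obtain ⟨e₃, he₃⟩ := exists_opPoint R _ (mem g₃ fun z => (hj z).2)
  refine ⟨X', j ≫ fst X G, d, e₁, e₂, e₃, ⟨⟨fun w => ?_⟩, ?_, ?_⟩, by rw [hd, he₁], by rw [hd, he₂], by rw [hd, he₃]⟩
  · let K := AlgebraicClosure (X.left.residueField w)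
    let k₀ : Spec (CommRingCat.of K) ⟶ X.left :=
      Spec.map (CommRingCat.ofHom (algebraMap (X.left.residueField w) K)) ≫ X.left.fromSpecResidueField w
    let X₀ : Over S := Over.mk (k₀ ≫ X.hom)
    let k : X₀ ⟶ X := Over.homMk k₀ rfl
    obtain ⟨h, h0, h1, h2, h3⟩ := exists_point_translates hG R hR (k₀ ≫ X.hom) (k ≫ g₁ : X₀ ⟶ G) (k ≫ g₂) (k ≫ g₃)
    let L : X₀ ⟶ X ⊗ G := lift k h
    have hL : ∀ a, L.left.base a ∈ W₀ := by
      intro a
      refine ⟨⟨⟨?_, ?_⟩, ?_⟩, ?_⟩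
      · show (L ≫ snd X G).left.base a ∈ R
        rw [lift_snd]
        exact h0 ⟨a, rfl⟩
      · show (L ≫ ((fst X G ≫ g₁) * snd X G)).left.base a ∈ R
        rw [MonObj.comp_mul, lift_fst_assoc, lift_snd]
        exact h1 ⟨a, rfl⟩
      · show (L ≫ ((fst X G ≫ g₂) * snd X G)).left.base a ∈ R
        rw [MonObj.comp_mul, lift_fst_assoc, lift_snd]
        exact h2 ⟨a, rfl⟩
      · show (L ≫ ((fst X G ≫ g₃) * snd X G)).left.base a ∈ R
        rw [MonObj.comp_mul, lift_fst_assoc, lift_snd]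
        exact h3 ⟨a, rfl⟩
    refine ⟨⟨L.left.base (IsLocalRing.closedPoint K), hL _⟩, ?_⟩
    show (fst X G).left.base (L.left.base (IsLocalRing.closedPoint K)) = w
    rw [← Scheme.Hom.comp_apply, ← Over.comp_left, lift_fst]
    exact X.left.fromSpecResidueField_apply w _
  · haveI : Flat (fst X G).left := inferInstanceAs (Flat (pullback.fst X.hom G.hom))
    haveI : Flat j.left := inferInstanceAs (Flat W₀.ι)
    rw [Over.comp_left]
    infer_instance
  · haveI : LocallyOfFinitePresentation (fst X G).left :=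
      inferInstanceAs (LocallyOfFinitePresentation (pullback.fst X.hom G.hom))
    haveI : LocallyOfFinitePresentation j.left := inferInstanceAs (LocallyOfFinitePresentation W₀.ι)
    rw [Over.comp_left]
    infer_instance

theorem epi_of_fppf {X X' : Over S} (π : X' ⟶ X)
    (h : Surjective π.left ∧ Flat π.left ∧ LocallyOfFinitePresentation π.left) : Epi π := by
  haveI := h.1
  haveI := h.2.1
  haveI : Epi π.left := Flat.epi_of_flat_of_surjective _
  exact (Over.forget S).epi_of_epi_map (f := π) ‹_›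

/-- A partial homomorphism on a neighbourhood of the unit section extends uniquely. -/
theorem existsUnique_extension (hG : Red.IsReductive G) (R : G.left.Opens)
    (hR : ∀ X : Over S, Set.range (1 : X ⟶ G).left.base ⊆ (R : Set G.left))
    (Φ : opOver R ⟶ H)
    (hmul : ∀ (X : Over S) (u v w : X ⟶ opOver R),
      (u ≫ opIncl R) * (v ≫ opIncl R) = w ≫ opIncl R → (u ≫ Φ) * (v ≫ Φ) = w ≫ Φ) :
    ∃! F : G ⟶ H, IsMonHom F ∧ opIncl R ≫ F = Φ := by
  -- ratios are well defined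
  have wd : ∀ {X : Over S} (a b a' b' : X ⟶ opOver R),
      (a ≫ opIncl R) * (b ≫ opIncl R)⁻¹ = (a' ≫ opIncl R) * (b' ≫ opIncl R)⁻¹ →
        (a ≫ Φ) * (b ≫ Φ)⁻¹ = (a' ≫ Φ) * (b' ≫ Φ)⁻¹ := by
    intro X a b a' b' h
    obtain ⟨X', π, d, e, e₁, e₂, hπ, he, he₁, he₂⟩ := exists_cover_translates hG R hR
      ((a ≫ opIncl R) * (b ≫ opIncl R)⁻¹) (b ≫ opIncl R)⁻¹ (b' ≫ opIncl R)⁻¹
    haveI := epi_of_fppf π hπ
    rw [GrpObj.comp_inv, ← Category.assoc] at he₁ he₂
    have k1 := hmul X' (π ≫ b) e₁ d (by rw [← he₁, mul_inv_cancel_left])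
    have k2 := hmul X' (π ≫ b') e₂ d (by rw [← he₂, mul_inv_cancel_left])
    have k3 := hmul X' (π ≫ a) e₁ e (by
      rw [← he₁, ← he, MonObj.comp_mul, GrpObj.comp_inv, Category.assoc, Category.assoc, _root_.mul_assoc])
    have k4 := hmul X' (π ≫ a') e₂ e (by
      rw [← he₂, ← he, h, MonObj.comp_mul, GrpObj.comp_inv, Category.assoc, Category.assoc, _root_.mul_assoc])
    refine (cancel_epi π).mp ?_
    simp only [MonObj.comp_mul, GrpObj.comp_inv]
    rw [← Category.assoc π a, ← Category.assoc π a', ← Category.assoc π b, ← Category.assoc π b']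
    calc ((π ≫ a) ≫ Φ) * ((π ≫ b) ≫ Φ)⁻¹
        = ((π ≫ a) ≫ Φ) * (e₁ ≫ Φ) * (((π ≫ b) ≫ Φ) * (e₁ ≫ Φ))⁻¹ := by group
      _ = (e ≫ Φ) * (d ≫ Φ)⁻¹ := by rw [k3, k1]
      _ = ((π ≫ a') ≫ Φ) * (e₂ ≫ Φ) * (((π ≫ b') ≫ Φ) * (e₂ ≫ Φ))⁻¹ := by rw [k4, k2]
      _ = ((π ≫ a') ≫ Φ) * ((π ≫ b') ≫ Φ)⁻¹ := by group
  obtain ⟨Y, ρ, dY, eY, -, -, hρ, hY, -, -⟩ := exists_cover_translates hG R hR (𝟙 G) (𝟙 G) (𝟙 G)
  rw [Category.comp_id] at hY
  have hρ' : ρ = (eY ≫ opIncl R) * (dY ≫ opIncl R)⁻¹ := by rw [← hY, mul_inv_cancel_right]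
  let F₀ : Y ⟶ H := (eY ≫ Φ) * (dY ≫ Φ)⁻¹
  haveI := hρ.1
  haveI := hρ.2.1
  haveI := hρ.2.2
  haveI : Epi ρ.left := Flat.epi_of_flat_of_surjective _
  have hwell : ∀ {Z : Scheme.{u}} (g₁ g₂ : Z ⟶ Y.left), g₁ ≫ ρ.left = g₂ ≫ ρ.left →
      g₁ ≫ F₀.left = g₂ ≫ F₀.left := by
    intro Z g₁ g₂ hg
    let Zo : Over S := Over.mk (g₁ ≫ Y.hom)
    let p₁ : Zo ⟶ Y := Over.homMk g₁ rfl
    let p₂ : Zo ⟶ Y := Over.homMk g₂ (by
      show g₂ ≫ Y.hom = g₁ ≫ Y.hom
      rw [← Over.w ρ, ← Category.assoc, ← Category.assoc, hg])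
    have hp : p₁ ≫ ρ = p₂ ≫ ρ := Over.OverMorphism.ext hg
    rw [hρ', MonObj.comp_mul, MonObj.comp_mul, GrpObj.comp_inv, GrpObj.comp_inv, ← Category.assoc p₁,
      ← Category.assoc p₁, ← Category.assoc p₂, ← Category.assoc p₂] at hp
    have h := wd _ _ _ _ hp
    have h' : p₁ ≫ F₀ = p₂ ≫ F₀ := by
      simp only [F₀, MonObj.comp_mul, GrpObj.comp_inv, ← Category.assoc]
      exact h
    exact congrArg CommaMorphism.left h'
  let F₁ : G.left ⟶ H.left := EffectiveEpi.desc ρ.left F₀.left hwell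
  have hF₁ : ρ.left ≫ F₁ = F₀.left := EffectiveEpi.fac _ _ _
  let F : G ⟶ H := Over.homMk F₁ ((cancel_epi ρ.left).mp (by rw [reassoc_of% hF₁, Over.w F₀, Over.w ρ]))
  have hρF : ρ ≫ F = F₀ := Over.OverMorphism.ext hF₁
  have hform : ∀ {X : Over S} (g : X ⟶ G) (a b : X ⟶ opOver R),
      g = (a ≫ opIncl R) * (b ≫ opIncl R)⁻¹ → g ≫ F = (a ≫ Φ) * (b ≫ Φ)⁻¹ := by
    intro X g a b hg
    let X' : Over S := Over.mk (pullback.fst g.left ρ.left ≫ X.hom)
    let q : X' ⟶ X := Over.homMk (pullback.fst g.left ρ.left) rfl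
    let p : X' ⟶ Y := Over.homMk (pullback.snd g.left ρ.left) (by
      show pullback.snd g.left ρ.left ≫ Y.hom = pullback.fst g.left ρ.left ≫ X.hom
      rw [← Over.w g, pullback.condition_assoc, Over.w ρ])
    haveI : Flat q.left := inferInstanceAs (Flat (pullback.fst g.left ρ.left))
    haveI : Surjective q.left := inferInstanceAs (Surjective (pullback.fst g.left ρ.left))
    haveI : Epi q.left := Flat.epi_of_flat_of_surjective _
    haveI : Epi q := (Over.forget S).epi_of_epi_map (f := q) ‹_›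
    have hqp : q ≫ g = p ≫ ρ := Over.OverMorphism.ext pullback.condition
    refine (cancel_epi q).mp ?_
    rw [← Category.assoc, hqp, Category.assoc, hρF]
    simp only [F₀, MonObj.comp_mul, GrpObj.comp_inv]
    rw [← Category.assoc p, ← Category.assoc p, ← Category.assoc q, ← Category.assoc q]
    refine wd _ _ _ _ ?_
    rw [hg, hρ', MonObj.comp_mul, MonObj.comp_mul, GrpObj.comp_inv, GrpObj.comp_inv, ← Category.assoc q,
      ← Category.assoc q, ← Category.assoc p, ← Category.assoc p] at hqp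
    exact hqp.symm
  have hF : ∀ {X : Over S} (g g' : X ⟶ G), (g * g') ≫ F = (g ≫ F) * (g' ≫ F) := by
    intro X g g'
    obtain ⟨X', π, d, e, k, -, hπ, he, hk, -⟩ := exists_cover_translates hG R hR g' (g * g') g'
    haveI := epi_of_fppf π hπ
    refine (cancel_epi π).mp ?_
    rw [MonObj.comp_mul] at hk
    have e1 := hform (π ≫ g') e d (by rw [← he, mul_inv_cancel_right])
    have e2 := hform (π ≫ (g * g')) k d (by rw [MonObj.comp_mul, ← hk, mul_inv_cancel_right])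
    have e3 := hform (π ≫ g) k e (by rw [← hk, ← he]; group)
    rw [← Category.assoc, e2, MonObj.comp_mul, ← Category.assoc, e3, ← Category.assoc, e1]
    group
  have h1 : (1 : 𝟙_ (Over S) ⟶ G) ≫ F = 1 := by
    have h := hF (1 : 𝟙_ (Over S) ⟶ G) 1
    rw [_root_.one_mul] at h
    exact left_eq_mul.mp h
  have hFm : IsMonHom F :=
    { one_hom := by
        have e := h1
        simp only [Hom.one_def, toUnit_unique (toUnit (𝟙_ (Over S))) (𝟙 _), Category.id_comp] at e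
        exact e
      mul_hom := by
        have h := hF (fst G G) (snd G G)
        rw [Hom.mul_def, Hom.mul_def, lift_fst_snd, Category.id_comp] at h
        rw [h]
        congr 1
        all_goals (apply CartesianMonoidalCategory.hom_ext <;> simp) }
  have hincl : opIncl R ≫ F = Φ := by
    obtain ⟨X', π, d, e, -, -, hπ, he, -, -⟩ := exists_cover_translates hG R hR (opIncl R) (opIncl R) (opIncl R)
    haveI := epi_of_fppf π hπ
    refine (cancel_epi π).mp ?_
    rw [← Category.assoc, hform (π ≫ opIncl R) e d (by rw [← he, mul_inv_cancel_right]), ← hmul X' π d e he,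
      mul_inv_cancel_right]
  refine ⟨F, ⟨hFm, hincl⟩, fun F' ⟨hm', hi'⟩ => ?_⟩
  haveI := hm'
  haveI : Epi ρ := (Over.forget S).epi_of_epi_map (f := ρ) ‹_›
  refine (cancel_epi ρ).mp ?_
  rw [hρF, hρ', MonObj.mul_comp, GrpObj.inv_comp, Category.assoc, Category.assoc, hi']

end Groth.Agent.SGA3cLib
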