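import Groth.Agent.SGA3cLib.CentralFirstOrder

/-!
# From infinitesimal commutation at the origin to centrality

The centralizer is closed; containing all infinitesimal neighbourhoods of the origin it contains an open neighbourhood
(Krull), and products of points of such a neighbourhood cover a connected group.
-/

set_option linter.style.haveILetI false
set_option autoImplicit false

universe u

open CategoryTheory CategoryTheory.Limits MonoidalCategory CartesianMonoidalCategory MonObj GrpObj AlgebraicGeometry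

noncomputable section

namespace Groth.Agent.SGA3cLib.CentralFirst

open Averaging (P sp)

variable {K : Type u} [Field K] {H G : Over (Spec (CommRingCat.of K))} [GrpObj H] [GrpObj G] (u : H ⟶ G) [IsMonHom u]

theorem krull {B : Type u} [CommRing B] [IsNoetherianRing B] (m : Ideal B) (hm : m ≠ ⊤) (J : Ideal B)
    (hJ : ∀ n, J ≤ m ^ (n + 1)) : ∃ f : B, f ∉ m ∧ ∀ a ∈ J, f * a = 0 := by
  have hJ' : J ≤ (⨅ i : ℕ, m ^ i • (⊤ : Submodule B B)) := le_iInf fun i => by
    rw [smul_eq_mul, Ideal.mul_top]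
    exact (hJ i).trans (Ideal.pow_le_pow_right (Nat.le_succ i))
  have hle : J ≤ m • J := by
    intro a ha
    obtain ⟨r, hr⟩ := (Ideal.mem_iInf_smul_pow_eq_bot_iff m (a : B)).mp (hJ' ha)
    rw [← hr]
    exact Submodule.smul_mem_smul r.2 ha
  obtain ⟨f, hf1, hf0⟩ := Submodule.exists_sub_one_mem_and_smul_eq_zero_of_fg_of_le_smul m J
    (IsNoetherian.noetherian J) hle
  exact ⟨f, fun hf => hm ((Ideal.eq_top_iff_one m).mpr (by simpa using sub_mem hf hf1)), hf0⟩

/-- Commutation with all infinitesimal neighbourhoods of the origin gives commutation with an open neighbourhood. -/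
theorem exists_open_comm [LocallyOfFiniteType G.hom] (hH : MTTransporter.IsMTS H) (h1 : First u) :
    ∃ V : G.left.Opens, η[G].left.base (default : PrimeSpectrum K) ∈ V ∧
      Comm u (Over.homMk V.ι rfl : Over.mk (V.ι ≫ G.hom) ⟶ G) := by
  haveI : IsSeparated G.hom := SGA3xLib.isSeparated_of_grpObj G
  obtain ⟨Z, jZ, hjZ, -, hZ⟩ := MTTransporter.exists_closed u u hH
  have hZ' : ∀ {X : Over (Spec (CommRingCat.of K))} (g : X ⟶ G), (∃ t : X ⟶ Z, t ≫ jZ = g) ↔ Comm u g := fun g =>
    (hZ _ g).trans (forall₃_congr fun X' x h => mul_inv_eq_iff_eq_mul)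
  let e := η[G].left.base (default : PrimeSpectrum K)
  obtain ⟨V, hV, heV, -⟩ := exists_isAffineOpen_mem_and_subset (U := ⊤) (x := e) trivial
  let B : CommRingCat.{u} := Γ(G.left, V)
  letI : Algebra K B := (Spec.preimage (hV.fromSpec ≫ G.hom)).hom.toAlgebra
  have hB : Spec.map (CommRingCat.ofHom (algebraMap K B)) = hV.fromSpec ≫ G.hom := Spec.map_preimage _
  let jB : P K B ⟶ G := Over.homMk hV.fromSpec hB.symm
  haveI : IsOpenImmersion jB.left := inferInstanceAs (IsOpenImmersion hV.fromSpec)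
  haveI : Algebra.FiniteType K B := by
    rw [← RingHom.finiteType_algebraMap, ← CommRingCat.hom_ofHom (algebraMap K B),
      ← HasRingHomProperty.Spec_iff (P := @LocallyOfFiniteType), hB]
    infer_instance
  haveI : IsNoetherianRing B := Algebra.FiniteType.isNoetherianRing K B
  obtain ⟨ε, hε⟩ := Averaging.exists_chart jB (1 : P K K ⟶ G) (by
    show _ ⊆ Set.range hV.fromSpec.base
    rw [hV.range_fromSpec]
    rintro _ ⟨a, rfl⟩
    have h1 : (1 : P K K ⟶ G).left.base a = η[G].left.base ((toUnit (P K K)).left.base a) := by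
      rw [Hom.one_def]; rfl
    rw [h1, Subsingleton.elim (α := PrimeSpectrum K) ((toUnit (P K K)).left.base a) default]
    exact heV)
  let m : Ideal B := RingHom.ker ε.toRingHom
  haveI : m.IsPrime := RingHom.ker_isPrime ε.toRingHom
  -- the closed subscheme in the chart
  let q : pullback jZ.left hV.fromSpec ⟶ Spec B := pullback.snd _ _
  haveI : IsClosedImmersion q := MorphismProperty.pullback_snd (P := @IsClosedImmersion) _ _ hjZ
  obtain ⟨J, e₀, he₀⟩ := (IsClosedImmersion.Spec_iff (R := B) (f := q)).mp inferInstance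
  have hJiff : ∀ (A : Type u) [CommRing A] [Algebra K A] (φ : B →ₐ[K] A),
      Comm u (sp φ ≫ jB) ↔ J ≤ RingHom.ker φ := by
    intro A _ _ φ
    rw [← hZ']
    constructor
    · rintro ⟨t, ht⟩
      let l : Spec (CommRingCat.of A) ⟶ pullback jZ.left hV.fromSpec :=
        pullback.lift t.left (Spec.map (CommRingCat.ofHom φ.toRingHom)) (congrArg CommaMorphism.left ht)
      obtain ⟨ψ, hψ⟩ := Spec.map_surjective (l ≫ e₀.hom)
      have h2 : Spec.map (CommRingCat.ofHom φ.toRingHom) = Spec.map (CommRingCat.ofHom (Ideal.Quotient.mk J) ≫ ψ) := by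
        rw [Spec.map_comp, hψ, Category.assoc, ← he₀]
        exact (pullback.lift_snd _ _ _).symm
      intro a ha
      have h3 := congr($(Spec.map_injective h2) a)
      change φ a = ψ (Ideal.Quotient.mk J a) at h3
      rw [RingHom.mem_ker, h3, Ideal.Quotient.eq_zero_iff_mem.mpr ha, map_zero]
    · intro hle
      let ψ : B ⧸ J →+* A := Ideal.Quotient.lift J φ.toRingHom fun a ha => hle ha
      let l : Spec (CommRingCat.of A) ⟶ pullback jZ.left hV.fromSpec :=
        Spec.map (CommRingCat.ofHom ψ) ≫ e₀.inv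
      have hl : l ≫ pullback.snd jZ.left hV.fromSpec = Spec.map (CommRingCat.ofHom φ.toRingHom) := by
        show (_ ≫ e₀.inv) ≫ q = _
        rw [he₀, Category.assoc, Iso.inv_hom_id_assoc, ← Spec.map_comp]
        rfl
      refine ⟨Over.homMk (l ≫ pullback.fst _ _) ?_, Over.OverMorphism.ext ?_⟩
      · show (l ≫ pullback.fst _ _) ≫ Z.hom = Spec.map _
        rw [← Over.w jZ, Category.assoc, pullback.condition_assoc, reassoc_of% hl, ← hB, ← Spec.map_comp]
        congr 1
        exact CommRingCat.hom_ext (RingHom.ext fun r => φ.commutes r)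
      · show (l ≫ pullback.fst _ _) ≫ jZ.left = Spec.map _ ≫ hV.fromSpec
        rw [Category.assoc, pullback.condition, reassoc_of% hl]
  -- it contains all infinitesimal neighbourhoods of the origin
  have hpow : ∀ n, J ≤ m ^ (n + 1) := by
    intro n
    have h2 := comm_nilpotent u hH h1 n (B ⧸ m ^ (n + 1)) (m.map (Ideal.Quotient.mk (m ^ (n + 1))))
      (by rw [← Ideal.map_pow]; exact Ideal.map_quotient_self _) (sp (Ideal.Quotient.mkₐ K (m ^ (n + 1))) ≫ jB) (by
        rw [← Category.assoc, Averaging.sp_comp]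
        have hfac : ((Ideal.Quotient.mkₐ K (m.map (Ideal.Quotient.mk (m ^ (n + 1))))).comp
            (Ideal.Quotient.mkₐ K (m ^ (n + 1)))) = (Algebra.ofId K _).comp ε := by
          refine AlgHom.ext fun b => ?_
          have hb : b - algebraMap K B (ε b) ∈ m := by
            show ε (b - algebraMap K B (ε b)) = 0
            rw [map_sub, AlgHom.commutes]
            exact sub_self _
          have := Ideal.Quotient.eq_zero_iff_mem.mpr (Ideal.mem_map_of_mem (Ideal.Quotient.mk (m ^ (n + 1))) hb)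
          rw [map_sub, map_sub, sub_eq_zero] at this
          exact this
        rw [hfac, ← Averaging.sp_comp, Category.assoc, hε, MonObj.comp_one])
    exact ((hJiff _ _).mp h2).trans (le_of_eq (Ideal.mk_ker))
  obtain ⟨f, hfm, hf⟩ := krull m (Ideal.IsPrime.ne_top ‹_›) J hpow
  let Bf := Localization.Away f
  let φf : B →ₐ[K] Bf := IsScalarTower.toAlgHom K B Bf
  have hJf : J ≤ RingHom.ker φf := fun a ha => by
    show algebraMap B Bf a = 0
    rw [IsLocalization.map_eq_zero_iff (Submonoid.powers f)]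
    exact ⟨⟨f, ⟨1, pow_one f⟩⟩, hf a ha⟩
  have hcomm := (hJiff Bf φf).mpr hJf
  let g₀ : P K Bf ⟶ G := sp φf ≫ jB
  haveI : IsOpenImmersion (Spec.map (CommRingCat.ofHom φf.toRingHom)) :=
    inferInstanceAs (IsOpenImmersion (Spec.map (CommRingCat.ofHom (algebraMap B Bf))))
  haveI : IsOpenImmersion g₀.left :=
    inferInstanceAs (IsOpenImmersion (Spec.map (CommRingCat.ofHom φf.toRingHom) ≫ hV.fromSpec))
  refine ⟨g₀.left.opensRange, ?_, ?_⟩
  · let εf : Bf →+* K := IsLocalization.Away.lift f (g := ε.toRingHom) (IsUnit.mk0 _ hfm)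
    refine ⟨(Spec.map (CommRingCat.ofHom εf)).base (default : PrimeSpectrum K), ?_⟩
    have h2 : Spec.map (CommRingCat.ofHom εf) ≫ g₀.left = η[G].left := by
      show Spec.map (CommRingCat.ofHom εf) ≫ Spec.map (CommRingCat.ofHom φf.toRingHom) ≫ hV.fromSpec = _
      rw [← Spec.map_comp_assoc]
      have h3 : CommRingCat.ofHom φf.toRingHom ≫ CommRingCat.ofHom εf = CommRingCat.ofHom ε.toRingHom :=
        CommRingCat.hom_ext (RingHom.ext fun b => IsLocalization.Away.lift_eq f (IsUnit.mk0 _ hfm) b)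
      rw [h3]
      refine (congrArg CommaMorphism.left hε).trans ?_
      rw [Hom.one_def]
      show (toUnit (P K K)).left ≫ η[G].left = η[G].left
      rw [show (toUnit (P K K)).left = 𝟙 _ from Spec.map_id _]
      exact Category.id_comp _
    exact congr($(h2).base (default : PrimeSpectrum K))
  · let em := g₀.left.isoOpensRange
    let p : Over.mk (g₀.left.opensRange.ι ≫ G.hom) ⟶ P K Bf := Over.homMk em.inv (by
      show em.inv ≫ Spec.map (CommRingCat.ofHom (algebraMap K Bf)) = g₀.left.opensRange.ι ≫ G.hom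
      rw [← Scheme.Hom.isoOpensRange_inv_comp g₀.left, Category.assoc]
      exact congrArg (em.inv ≫ ·) (Over.w g₀).symm)
    have hp : p ≫ g₀ = (Over.homMk g₀.left.opensRange.ι rfl : Over.mk (g₀.left.opensRange.ι ≫ G.hom) ⟶ G) :=
      Over.OverMorphism.ext (Scheme.Hom.isoOpensRange_inv_comp g₀.left)
    rw [← hp]
    exact hcomm.comp u p

/-- A point meets two nonempty open subsets after a field extension. -/
theorem exists_point_translate [LocallyOfFiniteType G.hom] [ConnectedSpace G.left] (V : G.left.Opens)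
    (heV : η[G].left.base (default : PrimeSpectrum K) ∈ V) {L : Type u} [Field L] [IsAlgClosed L]
    (x : Spec (CommRingCat.of L) ⟶ Spec (CommRingCat.of K)) (g : Over.mk x ⟶ G) :
    ∃ h : Over.mk x ⟶ G, Set.range h.left.base ⊆ (V : Set G.left) ∧
      Set.range (g * h).left.base ⊆ (V : Set G.left) := by
  let G₁ := Red.bc x G
  haveI : GeometricallyConnected G.hom := by
    have := geometricallyConnected_of_rational_point K G.hom (𝟙 _) η[G].left (Over.w η[G]) (fun y _ => ⟨y, rfl⟩)
    simpa using this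
  haveI : ConnectedSpace G₁.left := inferInstanceAs (ConnectedSpace ↥(pullback G.hom x))
  haveI : LocallyOfFiniteType G₁.hom := inferInstanceAs (LocallyOfFiniteType (pullback.snd G.hom x))
  haveI : IrreducibleSpace G₁.left := irreducibleSpace_of_connected G₁
  let X₀ : Over (Spec (CommRingCat.of K)) := Over.mk x
  let Y : Over (Spec (CommRingCat.of K)) := Over.mk (pullback.snd G.hom x ≫ x)
  let f₁ : Y ⟶ G := Over.homMk (pullback.fst G.hom x) pullback.condition
  let q : Y ⟶ X₀ := Over.homMk (pullback.snd G.hom x) rfl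
  let τ : (X₀ ⟶ G) → (Y ⟶ Y) := fun g => Over.homMk
    (pullback.lift ((q ≫ g) * f₁).left (pullback.snd G.hom x) (Over.w ((q ≫ g) * f₁)))
    (by show _ ≫ pullback.snd G.hom x ≫ x = _; rw [pullback.lift_snd_assoc]; rfl)
  have hτq : ∀ g, τ g ≫ q = q := fun g => Over.OverMorphism.ext (pullback.lift_snd _ _ _)
  have hτf : ∀ g, τ g ≫ f₁ = (q ≫ g) * f₁ := fun g => Over.OverMorphism.ext (pullback.lift_fst _ _ _)
  have hsur : ∀ g, Function.Surjective (τ g).left.base := fun g y => by
    refine ⟨(τ g⁻¹).left.base y, ?_⟩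
    have h1 : (τ g⁻¹ ≫ τ g).left = 𝟙 _ := by
      apply pullback.hom_ext
      · have h2 : (τ g⁻¹ ≫ τ g) ≫ f₁ = f₁ := by
          rw [Category.assoc, hτf, MonObj.comp_mul, ← Category.assoc, hτq, hτf, GrpObj.comp_inv,
            mul_inv_cancel_left]
        exact (congrArg CommaMorphism.left h2).trans (Category.id_comp _).symm
      · have h2 : (τ g⁻¹ ≫ τ g) ≫ q = q := by rw [Category.assoc, hτq, hτq]
        exact (congrArg CommaMorphism.left h2).trans (Category.id_comp _).symm
    exact congrArg (fun f => f.base y) h1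
  let W : Set Y.left := f₁.left.base ⁻¹' (V : Set G.left)
  have hW : IsOpen W := V.isOpen.preimage f₁.left.continuous
  have hWne : W.Nonempty := by
    let e : X₀ ⟶ Y := Over.homMk (pullback.lift (1 : X₀ ⟶ G).left (𝟙 _)
      ((Over.w (1 : X₀ ⟶ G)).trans (Category.id_comp _).symm))
      (by show _ ≫ pullback.snd G.hom x ≫ x = _; rw [pullback.lift_snd_assoc, Category.id_comp]; rfl)
    have he : e ≫ f₁ = 1 := Over.OverMorphism.ext (pullback.lift_fst _ _ _)
    refine ⟨e.left.base (IsLocalRing.closedPoint L), ?_⟩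
    show (e ≫ f₁).left.base _ ∈ V
    rw [he, Hom.one_def]
    show η[G].left.base ((toUnit X₀).left.base _) ∈ V
    rw [Subsingleton.elim (α := PrimeSpectrum K) ((toUnit X₀).left.base _) default]
    exact heV
  have hW' := hW.preimage (τ g).left.continuous
  haveI : IrreducibleSpace ↥Y.left := ‹IrreducibleSpace G₁.left›
  haveI : IrreducibleSpace ↥(pullback G.hom x) := ‹IrreducibleSpace G₁.left›
  haveI : JacobsonSpace ↥(pullback G.hom x) := LocallyOfFiniteType.jacobsonSpace (pullback.snd G.hom x)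
  obtain ⟨c, ⟨hc, hc'⟩, hcc⟩ := nonempty_inter_closedPoints (X := ↥(pullback G.hom x))
    (nonempty_preirreducible_inter hW hW' hWne (hWne.preimage (hsur g))) (hW.inter hW').isLocallyClosed
  let p : X₀ ⟶ Y := Over.homMk (pointOfClosedPoint (pullback.snd G.hom x) c hcc) (by
    show _ ≫ pullback.snd G.hom x ≫ x = x
    rw [pointOfClosedPoint_comp_assoc])
  have hpq : p ≫ q = 𝟙 X₀ := Over.OverMorphism.ext (pointOfClosedPoint_comp _ _ _)
  have hpc : ∀ a, p.left.base a = c := fun a => pointOfClosedPoint_apply _ _ _ a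
  refine ⟨p ≫ f₁, ?_, ?_⟩
  · rintro _ ⟨a, rfl⟩
    show f₁.left.base (p.left.base a) ∈ _
    rw [hpc]
    exact hc
  · have : g * (p ≫ f₁) = p ≫ τ g ≫ f₁ := by rw [hτf, MonObj.comp_mul, reassoc_of% hpq]
    rintro _ ⟨a, rfl⟩
    rw [this]
    show f₁.left.base ((τ g).left.base (p.left.base a)) ∈ _
    rw [hpc]
    exact hc'

/-- A homomorphism commuting with the first order deformations of the origin is central. -/
theorem central_of_first [LocallyOfFiniteType G.hom] [ConnectedSpace G.left] (hH : MTTransporter.IsMTS H)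
    (h1 : First u) {X : Over (Spec (CommRingCat.of K))} (g : X ⟶ G) : Comm u g := by
  obtain ⟨V, heV, hV⟩ := exists_open_comm u hH h1
  let d₀ : X ⊗ G ⟶ G := snd X G
  let e₀ : X ⊗ G ⟶ G := (fst X G ≫ g) * snd X G
  let W : (X ⊗ G).left.Opens := d₀.left ⁻¹ᵁ V ⊓ e₀.left ⁻¹ᵁ V
  let X' : Over (Spec (CommRingCat.of K)) := Over.mk (W.ι ≫ (X ⊗ G).hom)
  let j : X' ⟶ X ⊗ G := Over.homMk W.ι rfl
  let π : X' ⟶ X := j ≫ fst X G
  have mem : ∀ (a : X ⊗ G ⟶ G), W ≤ a.left ⁻¹ᵁ V → Comm u (j ≫ a) := fun a ha => by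
    let l : X' ⟶ Over.mk (V.ι ≫ G.hom) := Over.homMk (IsOpenImmersion.lift V.ι (W.ι ≫ a.left) (by
        rintro _ ⟨z, rfl⟩
        rw [Scheme.Opens.range_ι]
        exact ha z.2)) (by
      show IsOpenImmersion.lift V.ι _ _ ≫ V.ι ≫ G.hom = _
      rw [IsOpenImmersion.lift_fac_assoc, Category.assoc, Over.w a]
      rfl)
    have : l ≫ (Over.homMk V.ι rfl : Over.mk (V.ι ≫ G.hom) ⟶ G) = j ≫ a :=
      Over.OverMorphism.ext (IsOpenImmersion.lift_fac _ _ _)
    rw [← this]
    exact hV.comp u l
  haveI : Flat G.hom := by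
    obtain ⟨h, -⟩ := S5356.result.{u}
    exact h _ _ _ (S5356.result.{u}.2.2.1 K G.left G.hom)
  haveI : Flat π.left := by
    haveI : Flat (fst X G).left := inferInstanceAs (Flat (pullback.fst X.hom G.hom))
    haveI : Flat j.left := inferInstanceAs (Flat W.ι)
    rw [Over.comp_left]
    infer_instance
  haveI : Surjective π.left := ⟨fun w => by
    let L := AlgebraicClosure (X.left.residueField w)
    let k₀ : Spec (CommRingCat.of L) ⟶ X.left :=
      Spec.map (CommRingCat.ofHom (algebraMap (X.left.residueField w) L)) ≫ X.left.fromSpecResidueField w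
    let X₀ : Over (Spec (CommRingCat.of K)) := Over.mk (k₀ ≫ X.hom)
    let k : X₀ ⟶ X := Over.homMk k₀ rfl
    obtain ⟨h, h0, h1⟩ := exists_point_translate V heV (k₀ ≫ X.hom) (k ≫ g : X₀ ⟶ G)
    let l : X₀ ⟶ X ⊗ G := lift k h
    have hl : ∀ a, l.left.base a ∈ W := by
      intro a
      constructor
      · show (l ≫ snd X G).left.base a ∈ V
        rw [lift_snd]
        exact h0 ⟨a, rfl⟩
      · show (l ≫ ((fst X G ≫ g) * snd X G)).left.base a ∈ V
        rw [MonObj.comp_mul, lift_fst_assoc, lift_snd]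
        exact h1 ⟨a, rfl⟩
    refine ⟨⟨l.left.base (IsLocalRing.closedPoint L), hl _⟩, ?_⟩
    show (fst X G).left.base (l.left.base (IsLocalRing.closedPoint L)) = w
    rw [← Scheme.Hom.comp_apply, ← Over.comp_left, lift_fst]
    exact X.left.fromSpecResidueField_apply w _⟩
  refine Comm.of_epi u π ?_
  have h2 := (mem e₀ inf_le_right).mul u ((mem d₀ inf_le_left).inv u)
  have h3 : (j ≫ e₀) * (j ≫ d₀)⁻¹ = π ≫ g := by
    simp only [e₀, d₀, π, MonObj.comp_mul, Category.assoc]
    rw [mul_inv_cancel_right]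
  rwa [h3] at h2

end Groth.Agent.SGA3cLib.CentralFirst
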