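import Groth.Agent.SGA3cLib.MTTransporter
import Groth.Agent.SGA3cLib.SubgroupConj
import Groth.Agent.SGA3cLib.GeomConn
import Groth.Agent.SGA3cLib.Irreducible
import Groth.Agent.SGA3cLib.CellExtend
import Groth.Agent.SGA3xLib.SepFibre
import Mathlib.RingTheory.Filtration

/-!
# Centrality over a field is a first-order condition at the origin

Let `u : H ⟶ G` be a homomorphism over a field with `H` of multiplicative type and `G` connected.  If `u` commutes
with all first-order deformations of the origin, averaging shows that it commutes with all infinitesimal ones, hence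
with a neighbourhood of the origin, hence with everything.
-/

set_option linter.style.haveILetI false
set_option autoImplicit false

universe u

open CategoryTheory CategoryTheory.Limits MonoidalCategory CartesianMonoidalCategory MonObj GrpObj AlgebraicGeometry

noncomputable section

namespace Groth.Agent.SGA3cLib.CentralFirst

open Averaging (P sp)

variable {K : Type u} [CommRing K] {H G : Over (Spec (CommRingCat.of K))} [GrpObj H] [GrpObj G] (u : H ⟶ G)

/-- A point commutes with the image of `u`. -/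
def Comm {X : Over (Spec (CommRingCat.of K))} (g : X ⟶ G) : Prop :=
  ∀ (X' : Over (Spec (CommRingCat.of K))) (x : X' ⟶ X) (h : X' ⟶ H), (x ≫ g) * (h ≫ u) = (h ≫ u) * (x ≫ g)

theorem Comm.comp {X Y : Over (Spec (CommRingCat.of K))} {g : X ⟶ G} (hg : Comm u g) (y : Y ⟶ X) : Comm u (y ≫ g) :=
  fun X' x h => by simpa only [Category.assoc] using hg X' (x ≫ y) h

theorem Comm.mul {X : Over (Spec (CommRingCat.of K))} {g g' : X ⟶ G} (hg : Comm u g) (hg' : Comm u g') :
    Comm u (g * g') := fun X' x h => by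
  rw [MonObj.comp_mul]
  exact Commute.mul_left (hg X' x h) (hg' X' x h)

theorem Comm.inv {X : Over (Spec (CommRingCat.of K))} {g : X ⟶ G} (hg : Comm u g) : Comm u g⁻¹ := fun X' x h => by
  rw [GrpObj.comp_inv]
  exact Commute.inv_left (hg X' x h)

theorem Comm.of_epi {X Y : Over (Spec (CommRingCat.of K))} {g : X ⟶ G} (π : Y ⟶ X) [Flat π.left] [Surjective π.left]
    (hg : Comm u (π ≫ g)) : Comm u g := fun X' x h => by
  let q := pullback.snd π.left x.left
  let Z : Over (Spec (CommRingCat.of K)) := Over.mk (q ≫ X'.hom)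
  let qq : Z ⟶ X' := Over.homMk q rfl
  haveI : Epi q := Flat.epi_of_flat_of_surjective q
  haveI : Epi qq := (Over.forget _).epi_of_epi_map (f := qq) ‹_›
  let z : Z ⟶ Y := Over.homMk (pullback.fst π.left x.left) (by
    show pullback.fst π.left x.left ≫ Y.hom = q ≫ X'.hom
    rw [← Over.w π, ← Category.assoc, pullback.condition, Category.assoc, Over.w x])
  have hz : z ≫ π = qq ≫ x := Over.OverMorphism.ext pullback.condition
  have h1 := hg Z z (qq ≫ h)
  rw [← cancel_epi qq, MonObj.comp_mul, MonObj.comp_mul]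
  simpa only [← Category.assoc, ← hz] using h1

/-- Commutation with the first order deformations of the origin. -/
def First : Prop :=
  ∀ (A : Type u) [CommRing A] [Algebra K A] (I : Ideal A), I * I = ⊥ → ∀ g : P K A ⟶ G,
    sp (Ideal.Quotient.mkₐ K I) ≫ g = 1 → Comm u g

variable [IsMonHom u]

theorem comm_step (hH : MTTransporter.IsMTS H) (h1 : First u) (A : Type u) [CommRing A] [Algebra K A] (I : Ideal A)
    (hI : I * I = ⊥) (g : P K A ⟶ G) (hg : Comm u (sp (Ideal.Quotient.mkₐ K I) ≫ g)) : Comm u g := by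
  let b : Spec (CommRingCat.of A) ⟶ Spec (CommRingCat.of K) := Spec.map (CommRingCat.ofHom (algebraMap K A))
  let Sp : Over (Spec (CommRingCat.of A)) := 𝟙_ _
  let i : (Over.map b).obj Sp ⟶ P K A := Over.homMk (𝟙 _) rfl
  let i' : P K A ⟶ (Over.map b).obj Sp := Over.homMk (𝟙 _) (by
    show 𝟙 _ ≫ 𝟙 _ ≫ b = b
    rw [Category.id_comp, Category.id_comp])
  have hii : i' ≫ i = 𝟙 _ := Over.OverMorphism.ext (Category.id_comp _)
  let gA := BCPoints.pt b G Sp (i ≫ g)
  let uA := (Over.pullback b).map u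
  let w : Red.bc b H ⟶ Red.bc b G := (toUnit _ ≫ gA) * uA * (toUnit _ ≫ gA)⁻¹
  have hw : ∀ {Y : Over (Spec (CommRingCat.of A))} (h : Y ⟶ Red.bc b H),
      h ≫ w = (toUnit Y ≫ gA) * (h ≫ uA) * (toUnit Y ≫ gA)⁻¹ := fun {Y} h => by
    simp only [w, MonObj.comp_mul, GrpObj.comp_inv, ← Category.assoc, comp_toUnit]
  haveI : IsMonHom w := BCPoints.isMonHom_of_mul w fun Y x y => by
    rw [hw, hw, hw, MonObj.mul_comp]
    simp only [_root_.mul_assoc, inv_mul_cancel_left]
  obtain ⟨g', hg'1, hg'2⟩ := Averaging.exists_conj I hI (Red.bc b H) (Red.bc b G) (BCPoints.locally_bc b H hH) uA w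
    (fun B _ _ hB h => by
      obtain ⟨h', rfl⟩ := (BCPoints.pt b H _).surjective h
      let X' := (Over.map b).obj (P A B)
      let τ : X' ⟶ (Over.map b).obj Sp := (Over.map b).map (toUnit (P A B))
      let q : A ⧸ I →+* B := Ideal.Quotient.lift I (algebraMap A B) fun x hx => hB hx
      have hq : CommRingCat.ofHom (algebraMap A B) = CommRingCat.ofHom (Ideal.Quotient.mk I) ≫ CommRingCat.ofHom q :=
        CommRingCat.hom_ext (RingHom.ext fun x => rfl)
      let σ : X' ⟶ P K (A ⧸ I) := Over.homMk (Spec.map (CommRingCat.ofHom q)) (by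
        show Spec.map _ ≫ Spec.map (CommRingCat.ofHom (algebraMap K (A ⧸ I))) =
          Spec.map (CommRingCat.ofHom (algebraMap A B)) ≫ Spec.map _
        rw [← Spec.map_comp, ← Spec.map_comp]
        rfl)
      have hσ : σ ≫ sp (Ideal.Quotient.mkₐ K I) = τ ≫ i := by
        refine Over.OverMorphism.ext ?_
        show Spec.map (CommRingCat.ofHom q) ≫ Spec.map (CommRingCat.ofHom (Ideal.Quotient.mkₐ K I).toRingHom) =
          Spec.map (CommRingCat.ofHom (algebraMap A B)) ≫ 𝟙 _
        rw [Category.comp_id, hq, Spec.map_comp]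
        rfl
      have hc := (hg.comp u σ) X' (𝟙 _) h'
      rw [Category.id_comp, reassoc_of% hσ] at hc
      rw [hw, show toUnit (P A B) ≫ gA = BCPoints.pt b G _ (τ ≫ i ≫ g) from (BCPoints.pt_map_comp b _ _).symm,
        ← BCPoints.pt_comp, ← BCPoints.pt_mul, hc, BCPoints.pt_mul, mul_inv_cancel_right])
  obtain ⟨g₂, rfl⟩ := (BCPoints.pt b G Sp).surjective g'
  -- the correction is a first order point, hence central
  have hI0 : sp (Ideal.Quotient.mkₐ K I) ≫ i' ≫ g₂ = 1 := by
    let PI := P A (A ⧸ I)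
    let σ : (Over.map b).obj PI ⟶ P K (A ⧸ I) := Over.homMk (𝟙 _) (by
      show 𝟙 _ ≫ Spec.map _ = Spec.map _ ≫ Spec.map _
      rw [Category.id_comp, ← Spec.map_comp]
      rfl)
    let σ' : P K (A ⧸ I) ⟶ (Over.map b).obj PI := Over.homMk (𝟙 _) (by
      show 𝟙 _ ≫ Spec.map _ ≫ Spec.map _ = Spec.map _
      rw [Category.id_comp, ← Spec.map_comp]
      rfl)
    have h2 : (Over.map b).map (toUnit PI) ≫ g₂ = 1 := (BCPoints.pt b G PI).injective (by
      rw [BCPoints.pt_map_comp]
      exact hg'1.trans (SubgroupConj.pt_one b PI).symm)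
    have e : sp (Ideal.Quotient.mkₐ K I) ≫ i' = σ' ≫ (Over.map b).map (toUnit PI) := by
      refine Over.OverMorphism.ext ?_
      show Spec.map (CommRingCat.ofHom (Ideal.Quotient.mkₐ K I).toRingHom) ≫ 𝟙 _ =
        𝟙 _ ≫ Spec.map (CommRingCat.ofHom (algebraMap A (A ⧸ I)))
      rw [Category.comp_id, Category.id_comp]
      rfl
    rw [reassoc_of% e, h2, MonObj.comp_one]
  have hc' : Comm u (i' ≫ g₂) := h1 A I hI _ hI0
  intro X x h
  let Y : Over (Spec (CommRingCat.of A)) := Over.mk x.left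
  let κ : X ⟶ (Over.map b).obj Y := Over.homMk (𝟙 _) ((Category.id_comp _).trans (Over.w x))
  let κ' : (Over.map b).obj Y ⟶ X := Over.homMk (𝟙 _) ((Category.id_comp _).trans (Over.w x).symm)
  have hκ : κ ≫ κ' = 𝟙 X := Over.OverMorphism.ext (Category.id_comp _)
  have hx₁ : (Over.map b).map (toUnit Y) = (κ' ≫ x) ≫ i' := Over.OverMorphism.ext (by
    show x.left = (𝟙 _ ≫ x.left) ≫ 𝟙 _
    rw [Category.id_comp, Category.comp_id])
  have hx₂ : (Over.map b).map (toUnit Y) ≫ i = κ' ≫ x := by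
    rw [hx₁, Category.assoc, hii, Category.comp_id]
  have h2 := hg'2 Y (BCPoints.pt b H Y (κ' ≫ h))
  rw [hw, show toUnit Y ≫ gA = BCPoints.pt b G Y ((Over.map b).map (toUnit Y) ≫ i ≫ g) from
      (BCPoints.pt_map_comp b _ _).symm,
    show toUnit Y ≫ BCPoints.pt b G Sp g₂ = BCPoints.pt b G Y ((Over.map b).map (toUnit Y) ≫ g₂) from
      (BCPoints.pt_map_comp b _ _).symm,
    ← BCPoints.pt_comp, ← BCPoints.pt_inv, ← BCPoints.pt_inv, ← BCPoints.pt_mul, ← BCPoints.pt_mul,
    ← BCPoints.pt_mul, ← BCPoints.pt_mul, reassoc_of% hx₂, hx₁, Category.assoc (κ' ≫ x) i' g₂,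
    Category.assoc κ' x (i' ≫ g₂)] at h2
  have h3 := congrArg (κ ≫ ·) ((BCPoints.pt b G Y).injective h2)
  simp only [MonObj.comp_mul, GrpObj.comp_inv, ← Category.assoc, hκ, Category.id_comp] at h3
  rw [Category.assoc x i' g₂, hc' X x h, mul_inv_cancel_right] at h3
  exact mul_inv_eq_iff_eq_mul.mp h3

theorem comm_nilpotent (hH : MTTransporter.IsMTS H) (h1 : First u) : ∀ (n : ℕ) (A : Type u) [CommRing A] [Algebra K A]
    (N : Ideal A) (_ : N ^ (n + 1) = ⊥) (g : P K A ⟶ G) (_ : sp (Ideal.Quotient.mkₐ K N) ≫ g = 1), Comm u g := by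
  intro n
  induction n with
  | zero =>
    intro A _ _ N hN g hg
    exact h1 A N (by rw [zero_add, pow_one] at hN; rw [hN, Ideal.bot_mul]) g hg
  | succ n ih =>
    intro A _ _ N hN g hg
    let I := N ^ (n + 1)
    have hI : I * I = ⊥ := by
      rw [← pow_add]
      exact bot_unique ((Ideal.pow_le_pow_right (show n + 1 + 1 ≤ n + 1 + (n + 1) by omega)).trans hN.le)
    refine comm_step u hH h1 A I hI g (ih (A ⧸ I) (N.map (Ideal.Quotient.mk I)) ?_ _ ?_)
    · rw [← Ideal.map_pow]; exact Ideal.map_quotient_self _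
    · let χ : A ⧸ N →ₐ[K] (A ⧸ I) ⧸ N.map (Ideal.Quotient.mk I) :=
        Ideal.Quotient.liftₐ N ((Ideal.Quotient.mkₐ K _).comp (Ideal.Quotient.mkₐ K I)) fun a ha =>
          Ideal.Quotient.eq_zero_iff_mem.mpr (Ideal.mem_map_of_mem _ ha)
      have e : sp (Ideal.Quotient.mkₐ K (N.map (Ideal.Quotient.mk I))) ≫ sp (Ideal.Quotient.mkₐ K I) =
          sp χ ≫ sp (Ideal.Quotient.mkₐ K N) := by
        rw [Averaging.sp_comp, Averaging.sp_comp]
        congr 1
      rw [reassoc_of% e, hg, MonObj.comp_one]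

end Groth.Agent.SGA3cLib.CentralFirst
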