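import Mathlib.Algebra.MonoidAlgebra.Basic
import Mathlib.RingTheory.Nakayama
import Mathlib.RingTheory.FiniteType
import Mathlib.LinearAlgebra.Matrix.Charpoly.LinearMap

/-!
# Coactions on first order neighbourhoods

For a coaction on `R ⊕ ω` (an augmented algebra with square-zero augmentation ideal, of finite type) the pieces of
nonzero degree generate a finitely generated module, so their vanishing at a prime spreads out.
-/

set_option linter.style.haveILetI false
set_option autoImplicit false

universe u

noncomputable section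

namespace Groth.Agent.SGA3cLib.CentralOpen

variable {R B E : Type u} [CommRing R] [CommRing B] [Algebra R B] [CommRing E] [Algebra R E]

theorem fg_ker_augmentation [Algebra.FiniteType R B] (ε : B →ₐ[R] R) : (RingHom.ker ε).FG := by
  obtain ⟨t, ht⟩ := (Algebra.FiniteType.out : (⊤ : Subalgebra R B).FG)
  let J : Ideal B := Ideal.span ((fun x => x - algebraMap R B (ε x)) '' (t : Set B))
  have hle : J ≤ RingHom.ker ε := by
    rw [Ideal.span_le]
    rintro _ ⟨x, -, rfl⟩
    show ε (x - algebraMap R B (ε x)) = 0
    rw [map_sub, AlgHom.commutes]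
    exact sub_self _
  have h1 : ∀ b, b - algebraMap R B (ε b) ∈ J := by
    let A' : Subalgebra R B :=
      { carrier := {b | b - algebraMap R B (ε b) ∈ J}
        mul_mem' := fun {a b} ha hb => by
          show a * b - algebraMap R B (ε (a * b)) ∈ J
          rw [show a * b - algebraMap R B (ε (a * b)) =
            a * (b - algebraMap R B (ε b)) + algebraMap R B (ε b) * (a - algebraMap R B (ε a)) by
              rw [map_mul, map_mul]; ring]
          exact add_mem (J.mul_mem_left _ hb) (J.mul_mem_left _ ha)
        add_mem' := fun {a b} ha hb => by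
          show a + b - algebraMap R B (ε (a + b)) ∈ J
          rw [map_add, map_add, add_sub_add_comm]
          exact add_mem ha hb
        algebraMap_mem' := fun r => by
          show algebraMap R B r - algebraMap R B (ε (algebraMap R B r)) ∈ J
          rw [AlgHom.commutes]
          simp }
    have : (⊤ : Subalgebra R B) ≤ A' := by
      rw [← ht, Algebra.adjoin_le_iff]
      exact fun x hx => Ideal.subset_span ⟨x, hx, rfl⟩
    exact fun b => this trivial
  refine le_antisymm hle (fun b hb => ?_) ▸ Submodule.fg_span (t.finite_toSet.image _)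
  have := h1 b
  rwa [show ε b = 0 from hb, map_zero, sub_zero] at this

variable {M : Type} [CommGroup M]

theorem exists_away [DecidableEq M] [Algebra.FiniteType R E] (η : E →ₐ[R] R)
    (hη : ∀ x y : E, η x = 0 → η y = 0 → x * y = 0)
    (φ : E →ₐ[R] MonoidAlgebra E M) (hmod : ∀ e n, η ((φ e).coeff n) = if n = 1 then η e else 0)
    (hφ : ∀ m n b, (φ ((φ b).coeff n)).coeff m = if m = n then (φ b).coeff n else 0)
    (p : Ideal R) [p.IsPrime]
    (hfib : ∀ n, n ≠ 1 → ∀ b, ∃ r ∉ p, r • (φ b).coeff n ∈ p.map (algebraMap R E)) :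
    ∃ r ∉ p, ∀ n, n ≠ 1 → ∀ b, r • (φ b).coeff n = 0 := by
  classical
  obtain ⟨t, ht⟩ := (Algebra.FiniteType.out : (⊤ : Subalgebra R E).FG)
  let gens : Set E := ⋃ g ∈ (t : Set E), (φ g).coeff '' (((φ g).coeff.support.erase 1 : Finset M) : Set M)
  have hgens : gens.Finite :=
    t.finite_toSet.biUnion fun g _ => (((φ g).coeff.support.erase 1).finite_toSet).image _
  let N : Submodule R E := Submodule.span R gens
  have hN : N.FG := Submodule.fg_span hgens
  -- a coefficient of degree other than one acts on the augmentation ideal through `η`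
  have hsc : ∀ a x : E, η x = 0 → a * x = η a • x := fun a x hx => by
    have h1 := hη (a - algebraMap R E (η a)) x (by rw [map_sub, AlgHom.commutes]; exact sub_self _) hx
    rw [Algebra.smul_def]
    linear_combination h1
  have hall : ∀ b n, n ≠ 1 → (φ b).coeff n ∈ N := by
    let A' : Subalgebra R E :=
      { carrier := {b | ∀ n, n ≠ 1 → (φ b).coeff n ∈ N}
        mul_mem' := fun {a b} ha hb n hn => by
          have key : ∀ c : E, φ c = MonoidAlgebra.single 1 (algebraMap R E (η c)) +
              (φ c - MonoidAlgebra.single 1 (algebraMap R E (η c))) := fun c => by abel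
          have hz : ∀ c m, η ((φ c - MonoidAlgebra.single 1 (algebraMap R E (η c))).coeff m) = 0 := fun c m => by
            rw [MonoidAlgebra.coeff_sub, Finsupp.sub_apply, map_sub, hmod, MonoidAlgebra.coeff_single,
              Finsupp.single_apply]
            by_cases hm : m = 1
            · subst hm; simp
            · simp [hm, Ne.symm hm]
          have h2 : (φ a - MonoidAlgebra.single 1 (algebraMap R E (η a))) *
              (φ b - MonoidAlgebra.single 1 (algebraMap R E (η b))) = 0 := by
            rw [← MonoidAlgebra.sum_coeff_single (φ a - _), ← MonoidAlgebra.sum_coeff_single (φ b - _),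
              Finsupp.sum, Finsupp.sum, Finset.sum_mul_sum]
            refine Finset.sum_eq_zero fun i _ => Finset.sum_eq_zero fun j _ => ?_
            rw [MonoidAlgebra.single_mul_single, hη _ _ (hz a i) (hz b j), MonoidAlgebra.single_zero]
          have h3 : φ (a * b) = algebraMap R (MonoidAlgebra E M) (η a) * φ b +
              algebraMap R (MonoidAlgebra E M) (η b) * φ a - algebraMap R (MonoidAlgebra E M) (η a * η b) := by
            have e : ∀ r : R, algebraMap R (MonoidAlgebra E M) r = MonoidAlgebra.single 1 (algebraMap R E r) :=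
              fun r => by simp [MonoidAlgebra.coe_algebraMap]
            rw [map_mul, map_mul (algebraMap R (MonoidAlgebra E M)), e, e]
            linear_combination h2
          show (φ (a * b)).coeff n ∈ N
          rw [h3, ← Algebra.smul_def, ← Algebra.smul_def, MonoidAlgebra.coeff_sub, Finsupp.sub_apply,
            MonoidAlgebra.coeff_add, Finsupp.add_apply, MonoidAlgebra.coeff_smul, MonoidAlgebra.coeff_smul,
            Finsupp.smul_apply, Finsupp.smul_apply]
          refine sub_mem (add_mem (N.smul_mem _ (hb n hn)) (N.smul_mem _ (ha n hn))) ?_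
          simp [MonoidAlgebra.coe_algebraMap, Ne.symm hn]
        add_mem' := fun {a b} ha hb n hn => by
          rw [map_add, MonoidAlgebra.coeff_add, Finsupp.add_apply]
          exact add_mem (ha n hn) (hb n hn)
        algebraMap_mem' := fun r n hn => by
          rw [AlgHom.commutes]
          simp [MonoidAlgebra.coe_algebraMap, Ne.symm hn] }
    have : (⊤ : Subalgebra R E) ≤ A' := by
      rw [← ht, Algebra.adjoin_le_iff]
      intro g hg n hn
      by_cases h0 : (φ g).coeff n = 0
      · rw [h0]; exact N.zero_mem
      · exact Submodule.subset_span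
          (Set.mem_biUnion hg ⟨n, Finset.mem_erase.mpr ⟨hn, Finsupp.mem_support_iff.mpr h0⟩, rfl⟩)
    exact fun b => this (Algebra.mem_top (x := b))
  -- at `p` the module equals `p` times itself
  have hp : ∀ x ∈ gens, ∃ r ∉ p, r • x ∈ p • N := by
    intro x hx
    obtain ⟨g, hg, n, hn, rfl⟩ : ∃ g, g ∈ (t : Set E) ∧ ∃ n, n ∈ (φ g).coeff.support.erase 1 ∧ (φ g).coeff n = x := by
      obtain ⟨g, hg, n, hn, h⟩ := Set.mem_iUnion₂.mp hx
      exact ⟨g, hg, n, hn, h⟩
    have hn1 : n ≠ 1 := (Finset.mem_erase.mp hn).1
    obtain ⟨r, hr, hrx⟩ := hfib n hn1 g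
    refine ⟨r, hr, ?_⟩
    have hproj : ∀ z ∈ p.map (algebraMap R E), (φ z).coeff n ∈ p • N := by
      intro z hz
      have hz' : z ∈ p • (⊤ : Submodule R E) := by rw [Ideal.smul_top_eq_map]; exact hz
      refine Submodule.smul_induction_on hz' (fun a ha w _ => ?_) (fun a b ha hb => ?_)
      · rw [map_smul, MonoidAlgebra.coeff_smul, Finsupp.smul_apply]
        exact Submodule.smul_mem_smul ha (hall w n hn1)
      · rw [map_add, MonoidAlgebra.coeff_add, Finsupp.add_apply]
        exact add_mem ha hb
    have := hproj _ hrx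
    rwa [map_smul, MonoidAlgebra.coeff_smul, Finsupp.smul_apply, hφ, if_pos rfl] at this
  choose! r hr hrN using hp
  let r₀ := ∏ x ∈ hgens.toFinset, r x
  have hr₀ : r₀ ∉ p := fun h => by
    obtain ⟨x, hx, hxp⟩ := Ideal.IsPrime.prod_mem_iff.mp h
    exact hr x (hgens.mem_toFinset.mp hx) hxp
  have hr₀N : ∀ x ∈ N, r₀ • x ∈ p • N := by
    intro x hx
    induction hx using Submodule.span_induction with
    | mem x hx =>
      rw [show r₀ = (∏ y ∈ hgens.toFinset.erase x, r y) * r x from
        (Finset.prod_erase_mul _ _ (hgens.mem_toFinset.mpr hx)).symm, mul_smul]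
      exact Submodule.smul_mem _ _ (hrN x hx)
    | zero => rw [smul_zero]; exact zero_mem _
    | add x y _ _ hx hy => rw [smul_add]; exact add_mem hx hy
    | smul a x _ hx => rw [smul_comm]; exact Submodule.smul_mem _ _ hx
  haveI : Module.Finite R N := Module.Finite.iff_fg.mpr hN
  let f : Module.End R N := LinearMap.lsmul R N r₀
  have hf : LinearMap.range f ≤ p • (⊤ : Submodule R N) := by
    rintro _ ⟨x, rfl⟩
    have h1 : (p • (⊤ : Submodule R N)).map N.subtype = p • N := by
      rw [Submodule.map_smul'', Submodule.map_top, Submodule.range_subtype]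
    obtain ⟨y, hy, hyx⟩ : r₀ • (x : E) ∈ (p • (⊤ : Submodule R N)).map N.subtype := h1 ▸ hr₀N x x.2
    have : f x = y := Subtype.ext hyx.symm
    rw [this]
    exact hy
  obtain ⟨P, hP, -, hcoeff, hP0⟩ :=
    LinearMap.exists_monic_and_natDegree_eq_and_coeff_mem_pow_and_aeval_eq_zero R f p hf
  let c := P.eval r₀
  have hc : c ∉ p := by
    intro hmem
    refine hr₀ ((Ideal.IsPrime.pow_mem_iff_mem ‹p.IsPrime› (P.natDegree + 1) (Nat.succ_pos _)).mp ?_)
    have h1 : c = ∑ i ∈ Finset.range (P.natDegree + 1), P.coeff i * r₀ ^ i := Polynomial.eval_eq_sum_range r₀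
    rw [Finset.sum_range_succ, hP.coeff_natDegree, one_mul] at h1
    have h2 : r₀ ^ P.natDegree ∈ p := by
      rw [show r₀ ^ P.natDegree = c - ∑ i ∈ Finset.range P.natDegree, P.coeff i * r₀ ^ i by rw [h1]; ring]
      refine sub_mem hmem (sum_mem fun i hi => Ideal.mul_mem_right _ _ ?_)
      exact Ideal.pow_le_self (Nat.sub_ne_zero_of_lt (Finset.mem_range.mp hi)) (hcoeff i)
    rw [pow_succ]
    exact Ideal.mul_mem_right _ _ h2
  refine ⟨c, hc, fun n hn b => ?_⟩
  have h1 := LinearMap.congr_fun hP0 ⟨_, hall b n hn⟩
  have h2 : ∀ x : N, Polynomial.aeval f P x = c • x := fun x => by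
    have : f = algebraMap R (Module.End R N) r₀ := LinearMap.ext fun y => rfl
    rw [this, Polynomial.aeval_algebraMap_apply_eq_algebraMap_eval]
    rfl
  rw [h2] at h1
  exact congrArg Subtype.val h1

end Groth.Agent.SGA3cLib.CentralOpen
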