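import Mathlib

/-!
# The double shift on a group algebra and residue fields of localizations

Auxiliary algebra used in spreading out centrality.
-/

set_option autoImplicit false

universe u

open MonoidAlgebra

noncomputable section

namespace Groth.Agent.SGA3cLib.CentralOpen

open scoped Classical in
/-- The map `e m ↦ e m m` to the iterated group algebra. -/
theorem exists_double (R E : Type u) [CommRing R] [CommRing E] [Algebra R E] (M : Type) [CommGroup M] :
    ∃ u₂ : MonoidAlgebra E M →ₐ[R] MonoidAlgebra (MonoidAlgebra E M) M,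
      u₂.comp (IsScalarTower.toAlgHom R E (MonoidAlgebra E M)) =
        (IsScalarTower.toAlgHom R (MonoidAlgebra E M) (MonoidAlgebra (MonoidAlgebra E M) M)).comp
          (IsScalarTower.toAlgHom R E (MonoidAlgebra E M)) ∧
      (u₂ : MonoidAlgebra E M →* MonoidAlgebra (MonoidAlgebra E M) M).comp (MonoidAlgebra.of E M) =
        MonoidAlgebra.of (MonoidAlgebra E M) M *
          ((IsScalarTower.toAlgHom R (MonoidAlgebra E M) (MonoidAlgebra (MonoidAlgebra E M) M)) :
            MonoidAlgebra E M →* MonoidAlgebra (MonoidAlgebra E M) M).comp (MonoidAlgebra.of E M) ∧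
      ∀ (z : MonoidAlgebra E M) (m n : M), ((u₂ z).coeff n).coeff m = if m = n then z.coeff n else 0 := by
  let c := IsScalarTower.toAlgHom R (MonoidAlgebra E M) (MonoidAlgebra (MonoidAlgebra E M) M)
  let o : M →* MonoidAlgebra (MonoidAlgebra E M) M :=
    MonoidAlgebra.of (MonoidAlgebra E M) M *
      (c : MonoidAlgebra E M →* MonoidAlgebra (MonoidAlgebra E M) M).comp (MonoidAlgebra.of E M)
  let u₂ : MonoidAlgebra E M →ₐ[R] MonoidAlgebra (MonoidAlgebra E M) M :=
    MonoidAlgebra.liftNCAlgHom (c.comp (IsScalarTower.toAlgHom R E (MonoidAlgebra E M))) o (fun _ _ => Commute.all _ _)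
  have h0 : ∀ p r, u₂ (single p r) = single p (single p r) := by
    intro p r
    simp [u₂, o, c, MonoidAlgebra.liftNCAlgHom, MonoidAlgebra.liftNCRingHom, MonoidAlgebra.coe_algebraMap]
  refine ⟨u₂, AlgHom.ext fun b => ?_, MonoidHom.ext fun m => ?_, fun z m n => ?_⟩
  · simp [u₂, c, MonoidAlgebra.coe_algebraMap, MonoidAlgebra.liftNCAlgHom, MonoidAlgebra.liftNCRingHom,
      ← MonoidAlgebra.one_def]
  · simp [u₂, o, c, MonoidAlgebra.liftNCAlgHom, MonoidAlgebra.liftNCRingHom]
  · induction z using MonoidAlgebra.induction_linear with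
    | zero => simp
    | add x y hx hy =>
      simp only [map_add, MonoidAlgebra.coeff_add, Finsupp.add_apply, hx, hy]
      split_ifs <;> simp
    | single p r =>
      rw [h0]
      simp only [MonoidAlgebra.coeff_single, Finsupp.single_apply]
      by_cases hpn : p = n
      · subst hpn
        simp [Finsupp.single_apply, eq_comm]
      · simp [hpn]

/-- The residue field maps to a localization at the complement of the prime. -/
theorem exists_residueField_hom {R A : Type u} [CommRing R] [CommRing A] [Algebra R A] (p : Ideal R) [p.IsPrime]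
    (h : p ≤ RingHom.ker (algebraMap R A)) :
    ∃ ρ : p.ResidueField →+* Localization (p.primeCompl.map (algebraMap R A)),
      ρ.comp (algebraMap R p.ResidueField) = algebraMap R _ := by
  refine ⟨Ideal.ResidueField.lift p (algebraMap R _) (fun r hr => by
      rw [RingHom.mem_ker, IsScalarTower.algebraMap_apply R A, RingHom.mem_ker.mp (h hr), map_zero]) (fun r hr => by
      show IsUnit (algebraMap R _ r)
      rw [IsScalarTower.algebraMap_apply R A]
      exact IsLocalization.map_units _ (⟨_, Submonoid.mem_map_of_mem _ hr⟩ : p.primeCompl.map (algebraMap R A))),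
    RingHom.ext fun r => ?_⟩
  simp

end Groth.Agent.SGA3cLib.CentralOpen
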