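import Groth.Agent.SGA3cLib.CentralOpenAlg
import Groth.Agent.SGA3cLib.CentralOpenShift
import Groth.Agent.SGA3cLib.CentralField
import Groth.Agent.SGA3cLib.CentralFib
import Groth.Agent.SGA3cLib.NormalMultCentral
import Groth.Agent.S5279

/-!
# Central on a fibre implies central nearby

First order commutation spreads out on the base, and on connected fibres it implies centrality.
-/

set_option linter.style.haveILetI false
set_option autoImplicit false

universe u

open CategoryTheory CategoryTheory.Limits MonoidalCategory CartesianMonoidalCategory MonObj GrpObj AlgebraicGeometry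

noncomputable section

namespace Groth.Agent.SGA3cLib.CentralOpen

open MultTriv (Q q q_comp)

variable {S : Scheme.{u}} {H G : Over S} [GrpObj H] [GrpObj G] (u : H ⟶ G)

/-- Centrality above a point with values in a field. -/
def CentralAt {K : Type u} [Field K] (ω : Spec (CommRingCat.of K) ⟶ S) : Prop :=
  ∀ (Y : Over S) (_ : Y ⟶ Over.mk ω) (g : Y ⟶ G) (h : Y ⟶ H), g * (h ≫ u) = (h ≫ u) * g

/-- Centrality above a point does not depend on the field. -/
theorem centralAt_iff {K L : Type u} [Field K] [Field L] (ω : Spec (CommRingCat.of K) ⟶ S)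
    (θ : Spec (CommRingCat.of L) ⟶ Spec (CommRingCat.of K)) (ω' : Spec (CommRingCat.of L) ⟶ S) (h : θ ≫ ω = ω') :
    CentralAt u ω ↔ CentralAt u ω' := by
  subst h
  refine ⟨fun hc Y p g x => hc Y (p ≫ Over.homMk θ rfl) g x, fun hc Y p g x => ?_⟩
  haveI hh : Flat θ ∧ Surjective θ := by
    obtain ⟨φ, hφ⟩ := Spec.map_surjective θ
    rw [← hφ, flat_and_surjective_SpecMap_iff]
    letI := φ.hom.toAlgebra
    exact (inferInstanceAs (Module.FaithfullyFlat K L))
  haveI : Flat θ := hh.1
  haveI : Surjective θ := hh.2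
  let r := pullback.fst p.left θ
  let Z : Over S := Over.mk (r ≫ Y.hom)
  let rr : Z ⟶ Y := Over.homMk r rfl
  haveI : Epi r := Flat.epi_of_flat_of_surjective r
  haveI : Epi rr := (Over.forget S).epi_of_epi_map (f := rr) ‹_›
  let pz : Z ⟶ Over.mk (θ ≫ ω) := Over.homMk (pullback.snd p.left θ) (by
    show pullback.snd p.left θ ≫ θ ≫ ω = r ≫ Y.hom
    rw [← pullback.condition_assoc]
    congr 1
    exact Over.w p)
  rw [← cancel_epi rr, MonObj.comp_mul, MonObj.comp_mul, ← Category.assoc]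
  exact hc Z pz (rr ≫ g) (rr ≫ x)

/-- Morphisms over a field agree if they agree on points with values in algebras. -/
theorem hom_ext_points {K : Type u} [CommRing K] {X Y : Over (Spec (CommRingCat.of K))} (f g : X ⟶ Y)
    (h : ∀ (A : Type u) [CommRing A] [Algebra K A] (y : Averaging.P K A ⟶ X), y ≫ f = y ≫ g) : f = g := by
  refine Over.OverMorphism.ext (Scheme.Cover.hom_ext
    (X.left.openCoverOfIsOpenCover _ (iSup_affineOpens_eq_top X.left)) _ _ fun Z => ?_)
  have hZ : IsAffineOpen (Z : X.left.affineOpens).1 := (Z : X.left.affineOpens).2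
  let A : CommRingCat.{u} := X.left.presheaf.obj (Opposite.op (Z : X.left.affineOpens).1)
  letI : Algebra K A := (Spec.preimage (hZ.fromSpec ≫ X.hom)).hom.toAlgebra
  let y : Averaging.P K A ⟶ X := Over.homMk hZ.fromSpec
    (Spec.map_preimage (hZ.fromSpec ≫ X.hom)).symm
  have h1 : hZ.fromSpec ≫ f.left = hZ.fromSpec ≫ g.left := congrArg CommaMorphism.left (h _ y)
  rw [← IsAffineOpen.isoSpec_inv_ι, Category.assoc, Category.assoc, cancel_epi] at h1
  exact h1

theorem exists_sp {K A A' : Type u} [CommRing K] [CommRing A] [Algebra K A] [CommRing A'] [Algebra K A']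
    (y : Averaging.P K A' ⟶ Averaging.P K A) : ∃ ψ : A →ₐ[K] A', y = Averaging.sp ψ := by
  obtain ⟨φ, hφ⟩ := Spec.map_surjective (R := CommRingCat.of A) (S := CommRingCat.of A') y.left
  have hw := Over.w y
  rw [← hφ] at hw
  change Spec.map φ ≫ Spec.map _ = Spec.map _ at hw
  rw [← Spec.map_comp] at hw
  exact ⟨⟨φ.hom, fun r => congr($(Spec.map_injective hw) r)⟩, Over.OverMorphism.ext hφ.symm⟩

/-- The ring maps of a chart. -/
theorem exists_unit_chart {R : Type u} [CommRing R] (s : Spec (CommRingCat.of R) ⟶ S)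
    {U₀ : S.Opens} (hU₀ : IsAffineOpen U₀) {V : G.left.Opens} (hV : IsAffineOpen V) (hVU : V ≤ G.hom ⁻¹ᵁ U₀)
    (hs : Set.range s.base ⊆ (U₀ : Set S)) (he : Set.range (s ≫ η[G].left).base ⊆ (V : Set G.left)) :
    ∃ W : (pullback G.hom s).Opens, IsAffineOpen W ∧ ∀ z : ↥(pullback G.hom s),
      (pullback.fst G.hom s).base z ∈ V → z ∈ W := by
  haveI : IsAffine (U₀ : Scheme.{u}) := hU₀
  haveI : IsAffine (V : Scheme.{u}) := hV
  let s₀ : Spec (CommRingCat.of R) ⟶ U₀ := IsOpenImmersion.lift U₀.ι s (by rw [Scheme.Opens.range_ι]; exact hs)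
  let j := pullback.map (G.hom.resLE U₀ V hVU) s₀ G.hom s V.ι (𝟙 _) U₀.ι
    (Scheme.Hom.resLE_comp_ι _ _) (by rw [IsOpenImmersion.lift_fac, Category.id_comp])
  refine ⟨j.opensRange, isAffineOpen_opensRange j, fun z hz => ?_⟩
  show z ∈ Set.range j.base
  rw [Scheme.Pullback.range_map]
  exact ⟨by rw [Set.mem_preimage, Scheme.Opens.range_ι]; exact hz, ⟨(pullback.snd G.hom s).base z, rfl⟩⟩

variable [LocallyOfFiniteType G.hom] [IsMonHom u]

set_option backward.isDefEq.respectTransparency false in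
/-- The local statement. -/
theorem exists_away_central
    (hconn : ∀ t : S, ConnectedSpace ↥(pullback G.hom (S.fromSpecResidueField t))) (hH : MTTransporter.IsMTS H)
    {R : Type u} [CommRing R] (s : Spec (CommRingCat.of R) ⟶ S) {M : Type} [CommGroup M]
    (pt : ∀ (A : Type u) [CommRing A] [Algebra R A], (M →* A) → (Q s A ⟶ H))
    (pt_mul : ∀ (A : Type u) [CommRing A] [Algebra R A] (χ ψ : M →* A), pt A (χ * ψ) = pt A χ * pt A ψ)
    (pt_nat : ∀ (A A' : Type u) [CommRing A] [Algebra R A] [CommRing A'] [Algebra R A'] (v : A →ₐ[R] A') (χ : M →* A),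
      q s v ≫ pt A χ = pt A' ((v : A →* A').comp χ))
    (pt_surj : ∀ (A : Type u) [CommRing A] [Algebra R A] (h : Q s A ⟶ H), ∃ χ, pt A χ = h)
    {W : (pullback G.hom s).Opens} (hW : IsAffineOpen W)
    (hunit : ∀ z : ↥(pullback G.hom s), (pullback.fst G.hom s).base z ∈ Set.range (s ≫ η[G].left).base →
      z ∈ W)
    (p : Ideal R) [p.IsPrime]
    (hp : CentralAt u (Spec.map (CommRingCat.ofHom (algebraMap R p.ResidueField)) ≫ s)) :
    ∃ r ∉ p, ∀ (K : Type u) [Field K] (κ : R →+* K), κ r ≠ 0 → CentralAt u (Spec.map (CommRingCat.ofHom κ) ≫ s) := by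
  classical
  let B : CommRingCat.{u} := Γ(pullback G.hom s, W)
  letI : Algebra R B := (Spec.preimage (hW.fromSpec ≫ pullback.snd G.hom s)).hom.toAlgebra
  have hB : Spec.map (CommRingCat.ofHom (algebraMap R B)) = hW.fromSpec ≫ pullback.snd G.hom s :=
    Spec.map_preimage _
  haveI : Algebra.FiniteType R B := by
    rw [← RingHom.finiteType_algebraMap, ← CommRingCat.hom_ofHom (algebraMap R B),
      ← HasRingHomProperty.Spec_iff (P := @LocallyOfFiniteType), hB]
    infer_instance
  let j : Q s B ⟶ G := Over.homMk (hW.fromSpec ≫ pullback.fst G.hom s) (by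
    show (hW.fromSpec ≫ pullback.fst G.hom s) ≫ G.hom = Spec.map _ ≫ s
    rw [hB, Category.assoc, Category.assoc, pullback.condition])
  have hlift : ∀ (A : Type u) [CommRing A] [Algebra R A] (v : B →ₐ[R] A),
      Spec.map (CommRingCat.ofHom v.toRingHom) ≫ hW.fromSpec ≫ pullback.snd G.hom s =
        Spec.map (CommRingCat.ofHom (algebraMap R A)) := fun A _ _ v => by
    rw [← hB, ← Spec.map_comp, ← CommRingCat.ofHom_comp, AlgHom.toRingHom_eq_coe, v.comp_algebraMap]
  have inj : ∀ (A : Type u) [CommRing A] [Algebra R A] (v w : B →ₐ[R] A), q s v ≫ j = q s w ≫ j → v = w := by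
    intro A _ _ v w h
    have h' : Spec.map (CommRingCat.ofHom v.toRingHom) ≫ hW.fromSpec = Spec.map (CommRingCat.ofHom w.toRingHom) ≫ hW.fromSpec := by
      refine pullback.hom_ext ?_ ?_
      · simp only [Category.assoc]
        exact congrArg CommaMorphism.left h
      · simp only [Category.assoc, hlift]
    rw [cancel_mono] at h'
    exact AlgHom.coe_ringHom_injective (congrArg CommRingCat.Hom.hom (Spec.map_injective h'))
  -- a point congruent to the unit modulo a nilpotent ideal is in the chart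
  have hchart : ∀ (A : Type u) [CommRing A] [Algebra R A] (N : Ideal A), (∀ a ∈ N, IsNilpotent a) →
      ∀ y : Q s A ⟶ G, q s (Ideal.Quotient.mkₐ R N) ≫ y = 1 → ∃ v : B →ₐ[R] A, q s v ≫ j = y := by
    intro A _ _ N hN y hy
    let l : Spec (CommRingCat.of A) ⟶ pullback G.hom s :=
      pullback.lift y.left (Spec.map (CommRingCat.ofHom (algebraMap R A))) (Over.w y)
    have hlW : Set.range l.base ⊆ (W : Set ↥(pullback G.hom s)) := by
      rintro _ ⟨(z : PrimeSpectrum A), rfl⟩
      obtain ⟨z', hz'⟩ : z ∈ Set.range (PrimeSpectrum.comap (Ideal.Quotient.mk N)) := by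
        rw [range_comap_of_surjective _ _ Ideal.Quotient.mk_surjective, Ideal.mk_ker]
        exact fun a ha => nilpotent_iff_mem_prime.mp (hN a ha) _ z.2
      refine hunit _ ?_
      rw [← Scheme.Hom.comp_apply, pullback.lift_fst, ← hz']
      change (Spec.map (CommRingCat.ofHom (Ideal.Quotient.mkₐ R N).toRingHom) ≫ y.left).base z' ∈ _
      rw [show Spec.map (CommRingCat.ofHom (Ideal.Quotient.mkₐ R N).toRingHom) ≫ y.left =
          (q s (Ideal.Quotient.mkₐ R N) ≫ y).left from rfl, hy, Hom.one_def]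
      refine ⟨(Spec.map (CommRingCat.ofHom (algebraMap R (A ⧸ N)))).base z', ?_⟩
      rfl
    obtain ⟨v, hv⟩ := Spec.map_surjective (IsOpenImmersion.lift hW.fromSpec l (by rw [hW.range_fromSpec]; exact hlW))
    have hv' : Spec.map v ≫ hW.fromSpec = l := by rw [hv]; exact IsOpenImmersion.lift_fac _ _ _
    have hcomm : CommRingCat.ofHom (algebraMap R B) ≫ v = CommRingCat.ofHom (algebraMap R A) := by
      apply Spec.map_injective
      rw [Spec.map_comp, hB, ← Category.assoc, hv', pullback.lift_snd]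
    refine ⟨⟨v.hom, fun r => congr($hcomm r)⟩, ?_⟩
    ext1
    show Spec.map v ≫ hW.fromSpec ≫ pullback.fst G.hom s = y.left
    rw [← Category.assoc, hv', pullback.lift_fst]
  obtain ⟨ε, hε⟩ := hchart R ⊥ (fun a ha => by rw [Ideal.mem_bot.mp ha]; exact IsNilpotent.zero) 1
    (MonObj.comp_one _)
  let I : Ideal B := RingHom.ker ε
  have hIfg : I.FG := fg_ker_augmentation ε
  let η₁ : B ⧸ I * I →ₐ[R] R := Ideal.Quotient.liftₐ (I * I) ε fun a ha => Ideal.mul_le_left ha
  let mk : B →ₐ[R] B ⧸ I * I := Ideal.Quotient.mkₐ R (I * I)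
  haveI : Algebra.FiniteType R (B ⧸ I * I) := Algebra.FiniteType.of_surjective mk Ideal.Quotient.mk_surjective
  have hη : ∀ x y : B ⧸ I * I, η₁ x = 0 → η₁ y = 0 → x * y = 0 := by
    intro x y hx hy
    obtain ⟨x, rfl⟩ := Ideal.Quotient.mk_surjective x
    obtain ⟨y, rfl⟩ := Ideal.Quotient.mk_surjective y
    rw [← map_mul, Ideal.Quotient.eq_zero_iff_mem]
    exact Ideal.mul_mem_mul hx hy
  -- the universal conjugate
  let E := B ⧸ I * I
  let incl : E →ₐ[R] MonoidAlgebra E M := IsScalarTower.toAlgHom R E (MonoidAlgebra E M)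
  let gE : Q s E ⟶ G := q s mk ≫ j
  let pu : ∀ (A : Type u) [CommRing A] [Algebra R A], (M →* A) → (Q s A ⟶ G) := fun A _ _ χ => pt A χ ≫ u
  have pu_mul : ∀ (A : Type u) [CommRing A] [Algebra R A] (χ ψ : M →* A), pu A (χ * ψ) = pu A χ * pu A ψ :=
    fun A _ _ χ ψ => by simp only [pu, pt_mul, MonObj.mul_comp]
  have pu_nat : ∀ (A A' : Type u) [CommRing A] [Algebra R A] [CommRing A'] [Algebra R A'] (v : A →ₐ[R] A') (χ : M →* A),
      q s v ≫ pu A χ = pu A' ((v : A →* A').comp χ) := fun A A' _ _ _ _ v χ => by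
    simp only [pu, ← Category.assoc, pt_nat]
  let cG : Q s (MonoidAlgebra E M) ⟶ G :=
    pu _ (MonoidAlgebra.of E M) * (q s incl ≫ gE) * (pu _ (MonoidAlgebra.of E M))⁻¹
  have hcG : ∀ (A : Type u) [CommRing A] [Algebra R A] (w : MonoidAlgebra E M →ₐ[R] A),
      q s w ≫ cG = pu A ((w : MonoidAlgebra E M →* A).comp (MonoidAlgebra.of E M)) * (q s (w.comp incl) ≫ gE) *
        (pu A ((w : MonoidAlgebra E M →* A).comp (MonoidAlgebra.of E M)))⁻¹ := fun A _ _ w => by
    simp only [cG, MonObj.comp_mul, GrpObj.comp_inv, pu_nat, ← Category.assoc, q_comp]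
  let ηM : MonoidAlgebra E M →ₐ[R] MonoidAlgebra R M := MonoidAlgebra.mapAlgHom M η₁
  have hηmk : η₁.comp mk = ε := AlgHom.ext fun b => rfl
  have hηincl : ηM.comp incl = (Algebra.ofId R (MonoidAlgebra R M)).comp η₁ := AlgHom.ext fun e => by
    simp [ηM, incl, MonoidAlgebra.coe_algebraMap]
  let Nil : @Ideal (MonoidAlgebra E M) CommRing.toCommSemiring.toSemiring := RingHom.ker ηM
  have hNil : ∀ a ∈ Nil, IsNilpotent a := by
    intro z hz
    rw [← MonoidAlgebra.sum_coeff_single z]
    refine isNilpotent_sum fun m _ => ⟨2, ?_⟩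
    have hm : η₁ (z.coeff m) = 0 := by
      have := congrArg (fun y => y.coeff m) (show ηM z = 0 from hz)
      simpa [ηM] using this
    rw [MonoidAlgebra.single_pow, pow_two (z.coeff m), hη _ _ hm hm, MonoidAlgebra.single_zero]
  have hηsurj : Function.Surjective ηM := fun y => by
    induction y using MonoidAlgebra.induction_linear with
    | zero => exact ⟨0, map_zero _⟩
    | add x y hx hy =>
      obtain ⟨a, ha⟩ := hx
      obtain ⟨b, hb⟩ := hy
      exact ⟨a + b, by rw [map_add, ha, hb]⟩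
    | single m r => exact ⟨MonoidAlgebra.single m (algebraMap R E r), by simp [ηM]⟩
  have hcG1 : q s (Ideal.Quotient.mkₐ R Nil) ≫ cG = 1 := by
    let e := Ideal.quotientKerAlgEquivOfSurjective (f := ηM) hηsurj
    have he : Ideal.Quotient.mkₐ R Nil = e.symm.toAlgHom.comp ηM := AlgHom.ext fun z =>
      (e.symm_apply_eq.mpr (show ηM z = e (Ideal.Quotient.mk _ z) from rfl)).symm
    have h1 : q s ηM ≫ cG = 1 := by
      rw [hcG, hηincl, ← q_comp, Category.assoc]
      have h2 : q s η₁ ≫ gE = 1 := by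
        simp only [gE, ← Category.assoc, q_comp, hηmk]
        exact hε
      rw [h2, MonObj.comp_one, _root_.mul_one, mul_inv_cancel]
    rw [he, ← q_comp, Category.assoc, h1, MonObj.comp_one]
  obtain ⟨φ₀, hφ₀⟩ := hchart _ Nil hNil cG hcG1
  have hφη : ηM.comp φ₀ = (Algebra.ofId R (MonoidAlgebra R M)).comp ε := inj _ _ _ (by
    rw [← q_comp, Category.assoc, hφ₀, ← q_comp, Category.assoc, hε, MonObj.comp_one]
    rw [hcG, hηincl, ← q_comp, Category.assoc]
    have h2 : q s η₁ ≫ gE = 1 := by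
      simp only [gE, ← Category.assoc, q_comp, hηmk]
      exact hε
    rw [h2, MonObj.comp_one, _root_.mul_one, mul_inv_cancel])
  have hφ₀I : ∀ b ∈ I, ∀ m, η₁ ((φ₀ b).coeff m) = 0 := by
    intro b hb m
    have := congrArg (fun y => y.coeff m) (AlgHom.congr_fun hφη b)
    simpa [ηM, show ε b = 0 from hb] using this
  let φ : E →ₐ[R] MonoidAlgebra E M := Ideal.Quotient.liftₐ (I * I) φ₀ fun a ha => by
    refine Submodule.mul_induction_on ha (fun x hx y hy => ?_) (fun x y hx hy => by rw [map_add, hx, hy, add_zero])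
    rw [map_mul, ← MonoidAlgebra.sum_coeff_single (φ₀ x), ← MonoidAlgebra.sum_coeff_single (φ₀ y),
      Finsupp.sum, Finsupp.sum, Finset.sum_mul_sum]
    refine Finset.sum_eq_zero fun i _ => Finset.sum_eq_zero fun k _ => ?_
    rw [MonoidAlgebra.single_mul_single, hη _ _ (hφ₀I x hx i) (hφ₀I y hy k), MonoidAlgebra.single_zero]
  have hφmk : φ.comp mk = φ₀ := AlgHom.ext fun b => rfl
  have hφj : q s φ ≫ gE = cG := by simp only [gE, ← Category.assoc, q_comp, hφmk, hφ₀]
  have injE : ∀ (A : Type u) [CommRing A] [Algebra R A] (v w : E →ₐ[R] A), q s v ≫ gE = q s w ≫ gE → v = w := by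
    intro A _ _ v w h
    simp only [gE, ← Category.assoc, q_comp] at h
    have := inj _ _ _ h
    exact AlgHom.ext fun e => by
      obtain ⟨b, rfl⟩ := Ideal.Quotient.mk_surjective e
      exact AlgHom.congr_fun this b
  have hmod : ∀ e n, η₁ ((φ e).coeff n) = if n = 1 then η₁ e else 0 := by
    intro e n
    obtain ⟨b, rfl⟩ := Ideal.Quotient.mk_surjective e
    have := congrArg (fun y => y.coeff n) (AlgHom.congr_fun hφη b)
    show η₁ ((φ₀ b).coeff n) = if n = 1 then ε b else 0
    simpa [ηM, MonoidAlgebra.coe_algebraMap, Finsupp.single_apply, eq_comm] using this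
  -- associativity
  let c : (MonoidAlgebra E M) →ₐ[R] (MonoidAlgebra (MonoidAlgebra E M) M) := IsScalarTower.toAlgHom R (MonoidAlgebra E M) (MonoidAlgebra (MonoidAlgebra E M) M)
  let u₁ : (MonoidAlgebra E M) →ₐ[R] (MonoidAlgebra (MonoidAlgebra E M) M) := MonoidAlgebra.mapAlgHom M φ
  obtain ⟨u₂, hu₂i, hu₂o, hu₂c⟩ := exists_double R E M
  have hu₁i : u₁.comp incl = c.comp φ := AlgHom.ext fun b => by simp [u₁, c, incl, MonoidAlgebra.coe_algebraMap]
  have hu₁o : (u₁ : (MonoidAlgebra E M) →* (MonoidAlgebra (MonoidAlgebra E M) M)).comp (MonoidAlgebra.of E M) = MonoidAlgebra.of (MonoidAlgebra E M) M := MonoidHom.ext fun m => by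
    simp [u₁]
  have hassoc : u₁.comp φ = u₂.comp φ := by
    refine injE (MonoidAlgebra (MonoidAlgebra E M) M) _ _ ?_
    rw [← q_comp, ← q_comp, Category.assoc, Category.assoc, hφj, hcG, hcG, hu₁i, hu₂i, hu₁o, hu₂o, ← q_comp,
      Category.assoc, hφj, hcG]
    erw [pu_mul]
    dsimp only [c, incl]
    group
  have hcoact : ∀ m n b, (φ ((φ b).coeff n)).coeff m = if m = n then (φ b).coeff n else 0 := by
    intro m n b
    have h := congrArg (fun y => (y.coeff n).coeff m) (AlgHom.congr_fun hassoc b)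
    simp only [AlgHom.comp_apply] at h
    have h1 : ((u₁ (φ b)).coeff n).coeff m = (φ ((φ b).coeff n)).coeff m := by simp [u₁]
    rw [← h1, h]
    exact hu₂c (φ b) m n
  -- the fibre at `p`
  have hfib : ∀ n, n ≠ 1 → ∀ b : E, ∃ r ∉ p, r • (φ b).coeff n ∈ p.map (algebraMap R E) := by
    intro n hn b
    let π : MonoidAlgebra E M →ₐ[R] MonoidAlgebra (Localization (p.primeCompl.map (algebraMap R (E ⧸ p.map (algebraMap R E))))) M := MonoidAlgebra.mapAlgHom M
      ((IsScalarTower.toAlgHom R (E ⧸ p.map (algebraMap R E)) (Localization (p.primeCompl.map (algebraMap R (E ⧸ p.map (algebraMap R E)))))).comp (Ideal.Quotient.mkₐ R _))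
    obtain ⟨ρ, hρ0⟩ := exists_residueField_hom (A := E ⧸ p.map (algebraMap R E)) p fun r hr => by
      rw [RingHom.mem_ker, IsScalarTower.algebraMap_apply R E (E ⧸ p.map (algebraMap R E))]
      exact Ideal.Quotient.eq_zero_iff_mem.mpr (Ideal.mem_map_of_mem _ hr)
    have hρ : (MonoidAlgebra.singleOneRingHom.comp ρ).comp (algebraMap R p.ResidueField) =
        algebraMap R (MonoidAlgebra (Localization (p.primeCompl.map (algebraMap R (E ⧸ p.map (algebraMap R E))))) M) := by
      rw [RingHom.comp_assoc, hρ0]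
      ext r
      simp [MonoidAlgebra.coe_algebraMap]
    let pr : Q s (MonoidAlgebra (Localization (p.primeCompl.map (algebraMap R (E ⧸ p.map (algebraMap R E))))) M) ⟶ Over.mk (Spec.map (CommRingCat.ofHom (algebraMap R p.ResidueField)) ≫ s) :=
      Over.homMk (Spec.map (CommRingCat.ofHom (MonoidAlgebra.singleOneRingHom.comp ρ))) (by
        show Spec.map _ ≫ Spec.map _ ≫ s = Spec.map _ ≫ s
        rw [← Spec.map_comp_assoc, ← CommRingCat.ofHom_comp, hρ])
    have hc := hp _ pr (q s (π.comp incl) ≫ gE)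
      (pt _ ((π : MonoidAlgebra E M →* MonoidAlgebra (Localization (p.primeCompl.map (algebraMap R (E ⧸ p.map (algebraMap R E))))) M).comp (MonoidAlgebra.of E M)))
    have h1 : q s (π.comp φ) ≫ gE = q s (π.comp incl) ≫ gE := by
      rw [← q_comp, Category.assoc, hφj, hcG, mul_inv_eq_iff_eq_mul]
      exact hc.symm
    have h2 := congrArg (fun y => y.coeff n) (AlgHom.congr_fun (injE _ _ _ h1) b)
    simp [π, incl, MonoidAlgebra.coe_algebraMap, Finsupp.single_apply, Ne.symm hn] at h2
    obtain ⟨⟨_, r, hr, rfl⟩, h3⟩ := (IsLocalization.map_eq_zero_iff (p.primeCompl.map (algebraMap R (E ⧸ p.map (algebraMap R E)))) (Localization (p.primeCompl.map (algebraMap R (E ⧸ p.map (algebraMap R E))))) _).mp h2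
    refine ⟨r, hr, ?_⟩
    rw [← Ideal.Quotient.eq_zero_iff_mem, ← Ideal.Quotient.mkₐ_eq_mk R, map_smul]
    exact (Algebra.smul_def r _).trans h3
  obtain ⟨r, hr, hr0⟩ := exists_away η₁ hη φ hmod hcoact p hfib
  refine ⟨r, hr, fun K _ κ hκ => ?_⟩
  -- where `r` is invertible the first order points commute with the points of `H`
  have key : ∀ (A : Type u) [CommRing A] [Algebra R A], IsUnit (algebraMap R A r) → ∀ (N : Ideal A), N * N = ⊥ →
      ∀ (g : Q s A ⟶ G), q s (Ideal.Quotient.mkₐ R N) ≫ g = 1 → ∀ h : Q s A ⟶ H,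
        g * (h ≫ u) = (h ≫ u) * g := by
    intro A _ _ hru N hN g hg h
    obtain ⟨v₀, hv₀⟩ := hchart A N (fun a ha => ⟨2, by
      rw [pow_two, ← Ideal.mem_bot, ← hN]; exact Ideal.mul_mem_mul ha ha⟩) g hg
    have hv₀N : ∀ b ∈ I, v₀ b ∈ N := by
      have h1 : (Ideal.Quotient.mkₐ R N).comp v₀ = (Algebra.ofId R (A ⧸ N)).comp ε := inj _ _ _ (by
        rw [← q_comp, Category.assoc, hv₀, hg, ← q_comp, Category.assoc, hε, MonObj.comp_one])
      intro b hb
      rw [← Ideal.Quotient.eq_zero_iff_mem]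
      have := AlgHom.congr_fun h1 b
      simpa [show ε b = 0 from hb] using this
    let v : E →ₐ[R] A := Ideal.Quotient.liftₐ (I * I) v₀ fun a ha => by
      refine Submodule.mul_induction_on ha (fun x hx y hy => ?_) (fun x y hx hy => by rw [map_add, hx, hy, add_zero])
      rw [map_mul, ← Ideal.mem_bot, ← hN]
      exact Ideal.mul_mem_mul (hv₀N x hx) (hv₀N y hy)
    have hvg : q s v ≫ gE = g := by
      simp only [gE, ← Category.assoc, q_comp]
      exact hv₀
    obtain ⟨χ, rfl⟩ := pt_surj A h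
    let w : MonoidAlgebra E M →ₐ[R] A := MonoidAlgebra.liftNCAlgHom v χ (fun _ _ => Commute.all _ _)
    have hwi : w.comp incl = v := AlgHom.ext fun b => by
      simp [w, incl, MonoidAlgebra.coe_algebraMap, MonoidAlgebra.liftNCAlgHom, MonoidAlgebra.liftNCRingHom]
    have hwo : (w : MonoidAlgebra E M →* A).comp (MonoidAlgebra.of E M) = χ := MonoidHom.ext fun m => by
      simp [w, MonoidAlgebra.liftNCAlgHom, MonoidAlgebra.liftNCRingHom]
    let wε : MonoidAlgebra E M →ₐ[R] E :=
      MonoidAlgebra.liftNCAlgHom (AlgHom.id R E) 1 (fun _ _ => Commute.all _ _)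
    have hwε : wε.comp φ = AlgHom.id R E := injE _ _ _ (by
      have h3 : pu E (1 : M →* E) = 1 :=
        left_eq_mul.mp (show pu E (1 : M →* E) = pu E 1 * pu E 1 by rw [← pu_mul, _root_.mul_one])
      have e1 : wε.comp incl = AlgHom.id R E := AlgHom.ext fun b => by
        simp [wε, incl, MonoidAlgebra.coe_algebraMap, MonoidAlgebra.liftNCAlgHom, MonoidAlgebra.liftNCRingHom]
      have e2 : (wε : MonoidAlgebra E M →* E).comp (MonoidAlgebra.of E M) = 1 := MonoidHom.ext fun m => by
        simp [wε, MonoidAlgebra.liftNCAlgHom, MonoidAlgebra.liftNCRingHom]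
      rw [← q_comp, Category.assoc, hφj, hcG, e1, e2, h3]
      group)
    have hwφ : w.comp φ = v := by
      refine AlgHom.ext fun e => ?_
      have hz : ∀ n, n ≠ 1 → v ((φ e).coeff n) = 0 := fun n hn => by
        have := congrArg v (hr0 n hn e)
        rw [map_smul, map_zero, Algebra.smul_def] at this
        exact hru.mul_right_eq_zero.mp this
      have h1 : ∀ z : MonoidAlgebra E M, (∀ n, n ≠ 1 → v (z.coeff n) = 0) → w z = v (z.coeff 1) := by
        intro z hz
        conv_lhs => rw [← MonoidAlgebra.sum_coeff_single z]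
        rw [Finsupp.sum, map_sum, Finset.sum_eq_single (1 : M)]
        · simp [w, MonoidAlgebra.liftNCAlgHom, MonoidAlgebra.liftNCRingHom]
        · intro n _ hn
          simp [w, MonoidAlgebra.liftNCAlgHom, MonoidAlgebra.liftNCRingHom, hz n hn]
        · intro h1
          rw [Finsupp.notMem_support_iff.mp h1, MonoidAlgebra.single_zero, map_zero]
      have h4 : v (wε (φ e)) = v ((φ e).coeff 1) := by
        conv_lhs => rw [← MonoidAlgebra.sum_coeff_single (φ e)]
        rw [Finsupp.sum, map_sum, map_sum, Finset.sum_eq_single (1 : M)]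
        · simp [wε, MonoidAlgebra.liftNCAlgHom, MonoidAlgebra.liftNCRingHom]
        · intro n _ hn
          simp [wε, MonoidAlgebra.liftNCAlgHom, MonoidAlgebra.liftNCRingHom, hz n hn]
        · intro h1
          rw [Finsupp.notMem_support_iff.mp h1, MonoidAlgebra.single_zero, map_zero, map_zero]
      show w (φ e) = v e
      rw [h1 _ hz, ← h4, show wε (φ e) = e from AlgHom.congr_fun hwε e]
    have h5 : q s w ≫ cG = g := by rw [← hφj, ← Category.assoc, q_comp, hwφ, hvg]
    rw [hcG, hwi, hvg, hwo, mul_inv_eq_iff_eq_mul] at h5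
    exact h5.symm
  -- centrality on the fibre
  let ω : Spec (CommRingCat.of K) ⟶ S := Spec.map (CommRingCat.ofHom κ) ≫ s
  let uK := (Over.pullback ω).map u
  haveI : ConnectedSpace (Red.bc ω G).left := NormalMultCentral.connectedSpace_bc G hconn ω
  haveI : LocallyOfFiniteType (Red.bc ω G).hom := inferInstanceAs (LocallyOfFiniteType (pullback.snd G.hom ω))
  have hfirst : CentralFirst.First uK := by
    intro A _ _ N hN g hg X' x h
    obtain ⟨g₀, rfl⟩ := (BCPoints.pt ω G _).surjective g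
    refine hom_ext_points _ _ fun A' _ _ y => ?_
    obtain ⟨ψ, hψ⟩ := exists_sp (y ≫ x)
    obtain ⟨h₀, hh₀⟩ := (BCPoints.pt ω H _).surjective (y ≫ h)
    letI : Algebra R A' := ((algebraMap K A').comp κ).toAlgebra
    let i : Q s A' ⟶ (Over.map ω).obj (Averaging.P K A') := Over.homMk (𝟙 _) (by
      show 𝟙 _ ≫ Spec.map _ ≫ Spec.map (CommRingCat.ofHom κ) ≫ s = Spec.map _ ≫ s
      rw [Category.id_comp, ← Spec.map_comp_assoc]
      rfl)
    let i' : (Over.map ω).obj (Averaging.P K A') ⟶ Q s A' := Over.homMk (𝟙 _) (by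
      show 𝟙 _ ≫ Spec.map _ ≫ s = Spec.map _ ≫ Spec.map (CommRingCat.ofHom κ) ≫ s
      rw [Category.id_comp, ← Spec.map_comp_assoc]
      rfl)
    have hii : i' ≫ i = 𝟙 _ := Over.OverMorphism.ext (Category.id_comp _)
    let N' : Ideal A' := N.map ψ
    have hru : IsUnit (algebraMap R A' r) := (IsUnit.mk0 _ hκ).map (algebraMap K A')
    let χ : A ⧸ N →ₐ[K] A' ⧸ N' := Ideal.Quotient.liftₐ N ((Ideal.Quotient.mkₐ K N').comp ψ) fun a ha =>
      Ideal.Quotient.eq_zero_iff_mem.mpr (Ideal.mem_map_of_mem _ ha)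
    have hg0 : (Over.map ω).map (Averaging.sp (Ideal.Quotient.mkₐ K N)) ≫ g₀ = 1 := by
      apply (BCPoints.pt ω G _).injective
      rw [BCPoints.pt_map_comp, hg, SubgroupConj.pt_one]
    let i'' : Q s (A' ⧸ N') ⟶ (Over.map ω).obj (Averaging.P K (A' ⧸ N')) := Over.homMk (𝟙 _) (by
      show 𝟙 _ ≫ Spec.map _ ≫ Spec.map (CommRingCat.ofHom κ) ≫ s = Spec.map _ ≫ s
      rw [Category.id_comp, ← Spec.map_comp_assoc]
      rfl)
    have hz : q s (Ideal.Quotient.mkₐ R N') ≫ i ≫ (Over.map ω).map (Averaging.sp ψ) ≫ g₀ = 1 := by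
      have e : q s (Ideal.Quotient.mkₐ R N') ≫ i ≫ (Over.map ω).map (Averaging.sp ψ) =
          i'' ≫ (Over.map ω).map (Averaging.sp χ) ≫ (Over.map ω).map (Averaging.sp (Ideal.Quotient.mkₐ K N)) := by
        refine Over.OverMorphism.ext ?_
        show Spec.map (CommRingCat.ofHom (Ideal.Quotient.mkₐ R N').toRingHom) ≫ 𝟙 _ ≫
            Spec.map (CommRingCat.ofHom ψ.toRingHom) =
          𝟙 _ ≫ Spec.map (CommRingCat.ofHom χ.toRingHom) ≫ Spec.map (CommRingCat.ofHom (Ideal.Quotient.mkₐ K N).toRingHom)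
        rw [Category.id_comp, Category.id_comp, ← Spec.map_comp, ← Spec.map_comp]
        rfl
      rw [reassoc_of% e, hg0, MonObj.comp_one, MonObj.comp_one]
    have hk := key A' hru N' (by rw [← Ideal.map_mul, hN, Ideal.map_bot]) _ hz (i ≫ h₀)
    have hk' := congrArg (i' ≫ ·) hk
    simp only [MonObj.comp_mul, ← Category.assoc, hii, Category.id_comp] at hk'
    rw [MonObj.comp_mul, MonObj.comp_mul, ← Category.assoc, ← Category.assoc, hψ, ← hh₀, ← BCPoints.pt_map_comp,
      ← BCPoints.pt_comp, ← BCPoints.pt_mul, ← BCPoints.pt_mul, hk']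
  intro Y p g h
  refine CentralFib.commute_of_bc u ω (fun X g h => ?_) (𝟙 _) (Category.id_comp _) Y p g h
  have := CentralFirst.central_of_first uK (BCPoints.locally_bc ω H hH) hfirst g X (𝟙 _) h
  simpa using this

end Groth.Agent.SGA3cLib.CentralOpen
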