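import Groth.Agent.SGA3cLib.HomSheaf
import Groth.Agent.AlgSpLib.SheafDescent
import Groth.Agent.AlgSpLib.PointsTop
import Groth.Agent.Misc15.OverGlue

/-! # Etale descent of schemes of homomorphisms with separated locally quasi-finite local models -/

set_option linter.style.haveILetI false
set_option autoImplicit false
set_option backward.isDefEq.respectTransparency.types false
universe u

open CategoryTheory CategoryTheory.Limits MonoidalCategory CartesianMonoidalCategory MonObj AlgebraicGeometry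
open Opposite

noncomputable section

namespace Groth.Agent.SGA3cLib.EtaleHom

variable {S : Scheme.{u}} (H G : Over S) [GrpObj H] [GrpObj G]

/-- `(A, υ)` is universal for families over test schemes lying in `Z`. -/
def UnivFamOn (Z : S.Opens) (A : Over S) (υ : H ⊗ A ⟶ G) : Prop :=
  HomScheme.LiesIn Z A ∧ AutFam.IsHomFamily H G υ ∧ ∀ T : Over S, HomScheme.LiesIn Z T →
    ∀ φ : H ⊗ T ⟶ G, AutFam.IsHomFamily H G φ → ∃! v : T ⟶ A, (H ◁ v) ≫ υ = φ

/-- the hypothesis: etale-locally there are separated, locally quasi-finite representing schemes -/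
def EtaleLocalRep : Prop :=
  ∀ s : S, ∃ (U : Scheme.{u}) (q : U ⟶ S), Etale q ∧ s ∈ Set.range q ∧
    ∃ (A : Over U) (υ : Red.bc q H ⊗ A ⟶ Red.bc q G),
      AutFam.RepresentsHom (Red.bc q H) (Red.bc q G) A υ ∧
      IsSeparated A.hom ∧ LocallyQuasiFinite A.hom ∧ LocallyOfFiniteType A.hom

variable {H G}

theorem exists_piece (h : EtaleLocalRep H G) (s : S) :
    ∃ (Z : S.Opens) (A : Over S) (υ : H ⊗ A ⟶ G), s ∈ Z ∧ UnivFamOn H G Z A υ := by
  obtain ⟨U, q, hq, ⟨u, hu⟩, A₁, υ₁, hrep, hsep, hlqf, hlft⟩ := h s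
  obtain ⟨φA, hφA, -, huniv⟩ := HomSheaf.exists_univ_map q hrep
  obtain ⟨Z₀, hZ₀, hsZ₀, -⟩ := exists_isAffineOpen_mem_and_subset (U := (⊤ : S.Opens)) (x := s) trivial
  obtain ⟨V₀, hV₀, huV₀, hVZ⟩ := exists_isAffineOpen_mem_and_subset (U := q ⁻¹ᵁ Z₀) (x := u)
    (show q u ∈ Z₀ by rw [hu]; exact hsZ₀)
  obtain ⟨g, hgle, hsg⟩ := hZ₀.exists_basicOpen_le
    (V := ⟨q.base '' (V₀ : Set U), q.isOpenMap _ V₀.isOpen⟩) ⟨s, u, huV₀, hu⟩ hsZ₀
  let Z := S.basicOpen g
  haveI : IsAffine (Z : Scheme.{u}) := hZ₀.basicOpen g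
  haveI : IsAffine (Z₀ : Scheme.{u}) := hZ₀
  haveI : IsAffine (V₀ : Scheme.{u}) := hV₀
  let q₀ : (V₀ : Scheme.{u}) ⟶ Z₀ := IsOpenImmersion.lift Z₀.ι (V₀.ι ≫ q) (by
    rw [Scheme.Opens.range_ι]; rintro _ ⟨v, rfl⟩; exact hVZ v.2)
  have hq₀ : q₀ ≫ Z₀.ι = V₀.ι ≫ q := IsOpenImmersion.lift_fac _ _ _
  let i : (Z : Scheme.{u}) ⟶ Z₀ := S.homOfLE (S.basicOpen_le g)
  let V := pullback q₀ i
  let j : V ⟶ U := pullback.fst q₀ i ≫ V₀.ι
  let c₀ : V ⟶ Z := pullback.snd q₀ i
  have hj : j ≫ q = c₀ ≫ Z.ι := by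
    simp only [j, c₀, Category.assoc, ← hq₀, pullback.condition_assoc, i, Scheme.homOfLE_ι]
  haveI : Etale q₀ := by
    haveI : Etale (q₀ ≫ Z₀.ι) := hq₀ ▸ (inferInstance : Etale (V₀.ι ≫ q))
    exact Etale.of_comp q₀ Z₀.ι
  haveI : Etale c₀ := MorphismProperty.pullback_snd (P := @Etale) _ _ ‹_›
  haveI : Surjective c₀ := ⟨fun z => by
    obtain ⟨v, hv, hvz⟩ := hgle z.2
    obtain ⟨a, -, ha⟩ := Scheme.Pullback.exists_preimage_pullback (f := q₀) (g := i) ⟨v, hv⟩ z
      (Z₀.ι.isOpenEmbedding.injective (by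
        rw [← Scheme.Hom.comp_apply, ← Scheme.Hom.comp_apply, hq₀, Scheme.homOfLE_ι]
        exact hvz))
    exact ⟨a, ha⟩⟩
  let Zo : Over S := Over.mk Z.ι
  let Vo : Over S := Over.mk (c₀ ≫ Z.ι)
  haveI : IsAffine Zo.left := ‹IsAffine (Z : Scheme.{u})›
  haveI : IsAffine Vo.left := inferInstanceAs (IsAffine (pullback q₀ i))
  let c : Vo ⟶ Zo := Over.homMk c₀ rfl
  haveI : Flat c.left := inferInstanceAs (Flat c₀)
  haveI : LocallyOfFinitePresentation c.left := inferInstanceAs (LocallyOfFinitePresentation c₀)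
  haveI : Surjective c.left := ‹Surjective c₀›
  let W : Over S := Over.mk (pullback.snd A₁.hom j ≫ c₀ ≫ Z.ι)
  let w : W ⟶ Vo := Over.homMk (pullback.snd A₁.hom j) rfl
  let aW : W ⟶ (Over.map q).obj A₁ := Over.homMk (pullback.fst A₁.hom j) (by
    show pullback.fst A₁.hom j ≫ A₁.hom ≫ q = pullback.snd A₁.hom j ≫ c₀ ≫ Z.ι
    rw [pullback.condition_assoc, hj])
  haveI : IsSeparated w.left := MorphismProperty.pullback_snd (P := @IsSeparated) _ _ hsep
  haveI : LocallyQuasiFinite w.left := MorphismProperty.pullback_snd (P := @LocallyQuasiFinite) _ _ hlqf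
  haveI : LocallyOfFiniteType w.left := MorphismProperty.pullback_snd (P := @LocallyOfFiniteType) _ _ hlft
  let X : AlgSp.Sp S := HomSheaf.famSp H G ⨯ (AlgSp.yon S).obj Zo
  let πX : (AlgSp.yon S).obj W ⟶ X := prod.lift
    ((HomSheaf.famEquiv H G W).symm ⟨(H ◁ aW) ≫ φA, HomSheaf.isHomFamily_whisker H G aW hφA⟩)
    ((AlgSp.yon S).map (w ≫ c))
  have sq : IsPullback πX ((AlgSp.yon S).map w) prod.snd ((AlgSp.yon S).map c) := by
    refine AlgSpLib.isPullback_of_yon (by rw [prod.lift_snd, Functor.map_comp]) fun T x y hxy => ?_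
    obtain ⟨y₀, rfl⟩ := (AlgSp.yon S).map_surjective y
    let φ := HomSheaf.famEquiv H G T (x ≫ prod.fst)
    obtain ⟨a, ⟨ha₁, ha₂⟩, hau⟩ := huniv T (y₀.left ≫ j) (by
      rw [Category.assoc, hj]
      exact Over.w y₀) φ.1 φ.2
    let l₀ : T ⟶ W := Over.homMk (pullback.lift a.left y₀.left ha₁) (by
      show pullback.lift _ _ _ ≫ pullback.snd A₁.hom j ≫ c₀ ≫ Z.ι = T.hom
      rw [pullback.lift_snd_assoc]
      exact Over.w y₀)
    have hl₁ : l₀ ≫ aW = a := Over.OverMorphism.ext (pullback.lift_fst _ _ _)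
    have hl₂ : l₀ ≫ w = y₀ := Over.OverMorphism.ext (pullback.lift_snd _ _ _)
    have hfst : ∀ l : T ⟶ W, (HomSheaf.famEquiv H G T (((AlgSp.yon S).map l ≫ πX) ≫ prod.fst)).1 =
        (H ◁ (l ≫ aW)) ≫ φA := fun l => by
      rw [Category.assoc, prod.lift_fst, HomSheaf.famEquiv_comp, Equiv.apply_symm_apply,
        MonoidalCategory.whiskerLeft_comp_assoc]
    refine ⟨(AlgSp.yon S).map l₀, ⟨?_, by rw [← Functor.map_comp, hl₂]⟩, fun l ⟨hl, hl'⟩ => ?_⟩
    · apply prod.hom_ext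
      · apply (HomSheaf.famEquiv H G T).injective
        exact Subtype.ext (by rw [hfst, hl₁, ha₂])
      · rw [hxy]
        simp only [πX, Category.assoc, prod.lift_snd, ← Functor.map_comp, reassoc_of% hl₂]
    · obtain ⟨l', rfl⟩ := (AlgSp.yon S).map_surjective l
      congr 1
      have h2 : l' ≫ w = y₀ := (AlgSp.yon S).map_injective (by rw [Functor.map_comp]; exact hl')
      have h1 : (H ◁ (l' ≫ aW)) ≫ φA = φ.1 := by rw [← hfst, hl]
      have h3 : l' ≫ aW = a := hau _ ⟨by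
        show (l'.left ≫ pullback.fst A₁.hom j) ≫ A₁.hom = y₀.left ≫ j
        rw [Category.assoc, pullback.condition, ← Category.assoc]
        exact congrArg (fun q : T ⟶ Vo => q.left ≫ j) h2, h1⟩
      apply Over.OverMorphism.ext
      apply pullback.hom_ext
      · exact (congrArg CommaMorphism.left h3).trans (pullback.lift_fst _ _ _).symm
      · exact (congrArg CommaMorphism.left h2).trans (pullback.lift_snd _ _ _).symm
  obtain ⟨A, ⟨e⟩⟩ := AlgSpLib.exists_iso_yon_of_fppf_descent c w sq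
  obtain ⟨π, hπ⟩ := (AlgSp.yon S).map_surjective (e.hom ≫ prod.snd)
  let υ := HomSheaf.famEquiv H G A (e.hom ≫ prod.fst)
  refine ⟨Z, A, υ.1, hsg, fun a => ?_, υ.2, fun T hT φ hφ => ?_⟩
  · rw [← Over.w π, Scheme.Hom.comp_apply]
    exact (π.left a).2
  · let t : T ⟶ Zo := Over.homMk (IsOpenImmersion.lift Z.ι T.hom (by
      rw [Scheme.Opens.range_ι]; rintro _ ⟨a, rfl⟩; exact hT a)) (IsOpenImmersion.lift_fac _ _ _)
    let x : (AlgSp.yon S).obj T ⟶ X :=
      prod.lift ((HomSheaf.famEquiv H G T).symm ⟨φ, hφ⟩) ((AlgSp.yon S).map t)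
    obtain ⟨v, hv⟩ := (AlgSp.yon S).map_surjective (x ≫ e.inv)
    have key : ∀ v' : T ⟶ A, (H ◁ v') ≫ υ.1 = φ ↔ (AlgSp.yon S).map v' ≫ e.hom = x := by
      intro v'
      constructor
      · intro hv'
        apply prod.hom_ext
        · apply (HomSheaf.famEquiv H G T).injective
          apply Subtype.ext
          rw [Category.assoc, HomSheaf.famEquiv_comp, prod.lift_fst, Equiv.apply_symm_apply]
          exact hv'
        · rw [Category.assoc, ← hπ, ← Functor.map_comp, prod.lift_snd]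
          congr 1
          exact Over.OverMorphism.ext ((cancel_mono Z.ι).1 ((Over.w (v' ≫ π)).trans (Over.w t).symm))
      · intro hv'
        have := congrArg (fun r => (HomSheaf.famEquiv H G T (r ≫ prod.fst)).1) hv'
        simp only [Category.assoc, HomSheaf.famEquiv_comp, x, prod.lift_fst, Equiv.apply_symm_apply] at this
        exact this
    refine ⟨v, (key v).2 (by rw [hv, Category.assoc, e.inv_hom_id, Category.comp_id]), fun v' hv' => ?_⟩
    apply (AlgSp.yon S).map_injective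
    rw [hv, ← (key v').1 hv', Category.assoc, e.hom_inv_id, Category.comp_id]

/-- Etale descent for schemes of homomorphisms. -/
theorem exists_representsHom (h : EtaleLocalRep H G) :
    ∃ (A : Over S) (υ : H ⊗ A ⟶ G), AutFam.RepresentsHom H G A υ := by
  choose Z A υ hmem hlies hfam huniv using exists_piece h
  let F := HomSheaf.famPsh H G
  let p : F ⟶ yoneda.obj (Over.mk (𝟙 S)) :=
    { app := fun T => TypeCat.ofHom fun _ => Over.homMk (unop T).hom (Category.comp_id _)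
      naturality := fun T T' t => ConcreteCategory.hom_ext _ _ fun _ =>
        Over.OverMorphism.ext (Over.w t.unop).symm }
  let j : ∀ s : S, (yoneda.obj (A s) : (Over S)ᵒᵖ ⥤ Type u) ⟶ F := fun s =>
    { app := fun T => TypeCat.ofHom fun z => ⟨(H ◁ z) ≫ υ s, HomSheaf.isHomFamily_whisker H G z (hfam s)⟩
      naturality := fun T T' t => ConcreteCategory.hom_ext _ _ fun z => Subtype.ext (by
        show (H ◁ (t.unop ≫ _)) ≫ υ s = (H ◁ t.unop) ≫ (H ◁ _) ≫ υ s
        rw [MonoidalCategory.whiskerLeft_comp, Category.assoc]) }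
  have lies : ∀ (s : S) (T : Over S) (z : T ⟶ A s), HomScheme.LiesIn (Z s) T := fun s T z t => by
    rw [← Over.w z, Scheme.Hom.comp_apply]; exact hlies s _
  have hcov : (⨆ s : S, Z s) = ⊤ :=
    top_le_iff.1 fun s _ => TopologicalSpace.Opens.mem_iSup.2 ⟨s, hmem s⟩
  obtain ⟨M, ⟨rep⟩⟩ := Misc15.OverGlue.exists_representableBy F p Z
    (fun T φ => by
      show ⨆ s : S, T.hom ⁻¹ᵁ Z s = ⊤
      rw [← Scheme.Hom.preimage_iSup, hcov, Scheme.Hom.preimage_top])
    A j (fun s T z z' h => (huniv s T (lies s T z) _ (HomSheaf.isHomFamily_whisker H G z (hfam s))).unique rfl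
      (congrArg Subtype.val h).symm)
    (fun s T z => by rintro _ ⟨t, rfl⟩; exact lies s T z t)
    (fun s T φ hT => by
      obtain ⟨z, hz⟩ := (huniv s T (fun t => hT ⟨t, rfl⟩) φ.1 φ.2).exists
      exact ⟨z, Subtype.ext hz⟩)
    (HomSheaf.isSheaf_famPsh_zariski H G)
  let υM : {φ : H ⊗ M ⟶ G // AutFam.IsHomFamily H G φ} := rep.homEquiv (𝟙 M)
  have hev : ∀ {T : Over S} (v : T ⟶ M), (H ◁ v) ≫ υM.1 = (rep.homEquiv v).1 := fun v =>
    congrArg Subtype.val ((rep.homEquiv_comp v (𝟙 M)).symm.trans (congrArg rep.homEquiv (Category.comp_id v)))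
  refine ⟨M, υM.1, υM.2, fun T φ hφ => ?_⟩
  refine ⟨rep.homEquiv.symm ⟨φ, hφ⟩, ?_, fun v hv => ?_⟩
  · show (H ◁ _) ≫ υM.1 = φ
    rw [hev, Equiv.apply_symm_apply]
  · apply rep.homEquiv.injective
    rw [Equiv.apply_symm_apply]
    exact Subtype.ext ((hev v).symm.trans hv)

end Groth.Agent.SGA3cLib.EtaleHom
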