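import Groth.Agent.SGA3cLib.FreeGraphAlg
import Groth.Agent.SGA3cLib.AveragingDescent
import Groth.Agent.SGA3cLib.BCPoints
import Groth.Agent.Et18.Descent

/-! The graph of a free action of a group of multiplicative type on an affine scheme is a closed immersion. -/

set_option linter.style.haveILetI false
set_option autoImplicit false

universe u

open CategoryTheory CategoryTheory.Limits MonoidalCategory CartesianMonoidalCategory MonObj AlgebraicGeometry

noncomputable section

namespace Groth.Agent.SGA3cLib.FreeGraph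

open Averaging TensorProduct

variable {R : Type u} [CommRing R]

/-- An affine scheme over `Spec R` is the spectrum of an algebra. -/
theorem exists_iso_P (X : Over (Spec (CommRingCat.of R))) [IsAffine X.left] :
    ∃ (A : Type u) (_ : CommRing A) (_ : Algebra R A), Nonempty (P R A ≅ X) := by
  obtain ⟨θ, hθ⟩ := Spec.map_surjective (R := CommRingCat.of R) (X.left.isoSpec.inv ≫ X.hom)
  letI : Algebra R Γ(X.left, ⊤) := θ.hom.toAlgebra
  exact ⟨Γ(X.left, ⊤), inferInstance, inferInstance, ⟨Over.isoMk X.left.isoSpec.symm hθ.symm⟩⟩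

theorem sp_inj {A B : Type u} [CommRing A] [Algebra R A] [CommRing B] [Algebra R B] {v w : A →ₐ[R] B}
    (h : sp v = sp w) : v = w :=
  AlgHom.coe_ringHom_injective (congrArg CommRingCat.Hom.hom (Spec.map_injective (congrArg CommaMorphism.left h)))

theorem sp_surj {A B : Type u} [CommRing A] [Algebra R A] [CommRing B] [Algebra R B] (y : P R B ⟶ P R A) :
    ∃ v : A →ₐ[R] B, sp v = y := by
  obtain ⟨θ, hθ⟩ := Spec.map_surjective (R := CommRingCat.of A) (S := CommRingCat.of B) y.left
  have hw := Over.w y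
  rw [← hθ] at hw
  change Spec.map θ ≫ Spec.map _ = Spec.map _ at hw
  rw [← Spec.map_comp] at hw
  exact ⟨⟨θ.hom, fun r => congr($(Spec.map_injective hw) r)⟩, Over.OverMorphism.ext hθ⟩

/-- A map from an affine scheme to an affine scheme is an isomorphism if it is bijective on affine points. -/
theorem isIso_of_points {C : Type u} [CommRing C] [Algebra R C] {X : Over (Spec (CommRingCat.of R))} [IsAffine X.left]
    (f : P R C ⟶ X)
    (hinj : ∀ (B : Type u) [CommRing B] [Algebra R B] (v w : C →ₐ[R] B), sp v ≫ f = sp w ≫ f → v = w)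
    (hsurj : ∀ (B : Type u) [CommRing B] [Algebra R B] (y : P R B ⟶ X), ∃ v : C →ₐ[R] B, sp v ≫ f = y) :
    IsIso f := by
  obtain ⟨A, _, _, ⟨e⟩⟩ := exists_iso_P X
  obtain ⟨v, hv⟩ := hsurj A e.hom
  refine ⟨e.inv ≫ sp v, ?_, ?_⟩
  · obtain ⟨w, hw⟩ := sp_surj (f ≫ e.inv ≫ sp v)
    rw [← hw, ← sp_id, hinj C w (AlgHom.id R C) ?_]
    rw [hw, sp_id, Category.id_comp, Category.assoc, Category.assoc, hv, Iso.inv_hom_id, Category.comp_id]
  · rw [Category.assoc, hv, Iso.inv_hom_id]

variable {G X : Over (Spec (CommRingCat.of R))} [GrpObj G] {M : Type} [CommGroup M]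

/-- The graph of a free action of a split group on an affine scheme over an affine base. -/
theorem isClosedImmersion_graph_split [IsAffine G.left] [IsAffine X.left] (σ : Split G R M) (act : G ⊗ X ⟶ X)
    (hone : ∀ (Y : Over (Spec (CommRingCat.of R))) (x : Y ⟶ X), lift (1 : Y ⟶ G) x ≫ act = x)
    (hmul : ∀ (Y : Over (Spec (CommRingCat.of R))) (g h : Y ⟶ G) (x : Y ⟶ X),
      lift (g * h) x ≫ act = lift g (lift h x ≫ act) ≫ act)
    (hfree : ∀ (Y : Over (Spec (CommRingCat.of R))) (g : Y ⟶ G) (x : Y ⟶ X), lift g x ≫ act = x → g = 1) :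
    IsClosedImmersion (lift act (snd G X)).left := by
  classical
  obtain ⟨A, _, _, ⟨e⟩⟩ := exists_iso_P X
  let x₀ : P R A ⟶ X := e.hom
  have hx : ∀ (B : Type u) [CommRing B] [Algebra R B] (v w : A →ₐ[R] B), sp v ≫ x₀ = sp w ≫ x₀ → v = w :=
    fun B _ _ v w h => sp_inj ((cancel_mono e.hom).mp h)
  have hx' : ∀ (B : Type u) [CommRing B] [Algebra R B] (y : P R B ⟶ X), ∃ v : A →ₐ[R] B, sp v ≫ x₀ = y :=
    fun B _ _ y => by
      obtain ⟨v, hv⟩ := sp_surj (y ≫ e.inv)
      exact ⟨v, by rw [hv]; simp [x₀]⟩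
  let incl : A →ₐ[R] (MonoidAlgebra A M) := IsScalarTower.toAlgHom R A (MonoidAlgebra A M)
  let z : P R (MonoidAlgebra A M) ⟶ G ⊗ X := lift (σ.pt (MonoidAlgebra A M) (MonoidAlgebra.of A M)) (sp incl ≫ x₀)
  have hz : ∀ (B : Type u) [CommRing B] [Algebra R B] (v : (MonoidAlgebra A M) →ₐ[R] B), sp v ≫ z =
      lift (σ.pt B ((v : (MonoidAlgebra A M) →* B).comp (MonoidAlgebra.of A M))) (sp (v.comp incl) ≫ x₀) := by
    intro B _ _ v
    rw [comp_lift, ← Category.assoc, sp_comp]
    congr 1
    exact σ.pt_nat (MonoidAlgebra A M) B v _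
  let extend : ∀ (B : Type u) [CommRing B] [Algebra R B] (a : A →ₐ[R] B) (χ : M →* B), (MonoidAlgebra A M) →ₐ[R] B := fun B _ _ a χ =>
    MonoidAlgebra.liftNCAlgHom a χ (fun _ _ => Commute.all _ _)
  have hext : ∀ (B : Type u) [CommRing B] [Algebra R B] (a : A →ₐ[R] B) (χ : M →* B),
      (extend B a χ).comp incl = a ∧ ((extend B a χ : (MonoidAlgebra A M) →* B)).comp (MonoidAlgebra.of A M) = χ := by
    intro B _ _ a χ
    refine ⟨AlgHom.ext fun b => ?_, MonoidHom.ext fun m => ?_⟩
    · simp [extend, incl, MonoidAlgebra.coe_algebraMap, MonoidAlgebra.liftNCAlgHom, MonoidAlgebra.liftNCRingHom]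
    · simp [extend, MonoidAlgebra.liftNCAlgHom, MonoidAlgebra.liftNCRingHom]
  haveI : IsAffineHom G.hom := inferInstance
  haveI : IsAffineHom X.hom := inferInstance
  haveI : IsAffine (G ⊗ X).left := by
    show IsAffine (pullback G.hom X.hom)
    exact isAffine_of_isAffineHom (pullback.snd G.hom X.hom)
  haveI : IsAffine (X ⊗ X).left := by
    show IsAffine (pullback X.hom X.hom)
    exact isAffine_of_isAffineHom (pullback.snd X.hom X.hom)
  haveI : IsIso z := by
    refine isIso_of_points z (fun B _ _ v w h => ?_) (fun B _ _ y => ?_)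
    · rw [hz, hz] at h
      have h1 := σ.pt_inj B (by simpa using congrArg (· ≫ fst G X) h)
      have h2 := hx B _ _ (by simpa using congrArg (· ≫ snd G X) h)
      refine AlgHom.ext fun y => ?_
      induction y using MonoidAlgebra.induction_linear with
      | zero => simp
      | add a b ha hb => rw [map_add, map_add, ha, hb]
      | single m r =>
        rw [show MonoidAlgebra.single m r = incl r * MonoidAlgebra.of A M m by
          simp [incl, MonoidAlgebra.coe_algebraMap, MonoidAlgebra.single_mul_single], map_mul, map_mul]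
        exact congrArg₂ (· * ·) (AlgHom.congr_fun h2 r) (DFunLike.congr_fun h1 m)
    · obtain ⟨χ, hχ⟩ := σ.pt_surj B (y ≫ fst G X)
      obtain ⟨a, ha⟩ := hx' B (y ≫ snd G X)
      refine ⟨extend B a χ, ?_⟩
      rw [hz, (hext B a χ).1, (hext B a χ).2, hχ, ha, ← comp_lift, lift_fst_snd, Category.comp_id]
  obtain ⟨φ, hφ⟩ := hx' (MonoidAlgebra A M) (z ≫ act)
  -- the action on affine points
  have hact : ∀ (B : Type u) [CommRing B] [Algebra R B] (a : A →ₐ[R] B) (χ : M →* B),
      lift (σ.pt B χ) (sp a ≫ x₀) ≫ act = sp ((extend B a χ).comp φ) ≫ x₀ := by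
    intro B _ _ a χ
    rw [← sp_comp, Category.assoc, hφ, ← Category.assoc, hz, (hext B a χ).1, (hext B a χ).2]
  -- the axioms of the coaction
  have hε : ∀ a, MonoidAlgebra.liftNCAlgHom (AlgHom.id R A) (1 : M →* A) (fun _ _ => Commute.all _ _) (φ a) = a := by
    have h := hact A (AlgHom.id R A) 1
    rw [σ.pt_one, hone] at h
    intro a
    exact (AlgHom.congr_fun (hx A _ _ h) a).symm
  let c : (MonoidAlgebra A M) →ₐ[R] MonoidAlgebra (MonoidAlgebra A M) M := IsScalarTower.toAlgHom R (MonoidAlgebra A M) (MonoidAlgebra (MonoidAlgebra A M) M)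
  let χ₁ : M →* MonoidAlgebra (MonoidAlgebra A M) M := MonoidAlgebra.of (MonoidAlgebra A M) M
  let χ₂ : M →* MonoidAlgebra (MonoidAlgebra A M) M := (c : (MonoidAlgebra A M) →* MonoidAlgebra (MonoidAlgebra A M) M).comp (MonoidAlgebra.of A M)
  let a₀ : A →ₐ[R] MonoidAlgebra (MonoidAlgebra A M) M := c.comp incl
  have hco : ∀ a n, φ ((φ a).coeff n) = MonoidAlgebra.single n ((φ a).coeff n) := by
    have h := hmul _ (σ.pt _ χ₁) (σ.pt _ χ₂) (sp a₀ ≫ x₀)
    rw [← σ.pt_mul, hact, hact, hact] at h
    have h' := hx _ _ _ h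
    intro a n
    refine MonoidAlgebra.ext (Finsupp.ext fun p => ?_)
    have h1 := congrArg (fun y => (y.coeff n).coeff p) (AlgHom.congr_fun h' a)
    -- left side
    have hl : ∀ w : (MonoidAlgebra A M), ((extend _ a₀ (χ₁ * χ₂) w).coeff n).coeff p = if n = p then w.coeff p else 0 := by
      intro w
      induction w using MonoidAlgebra.induction_linear with
      | zero => simp
      | add x y hx hy =>
        simp only [map_add, MonoidAlgebra.coeff_add, Finsupp.add_apply, hx, hy]
        split_ifs <;> simp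
      | single q r =>
        simp only [extend, χ₁, χ₂, a₀, c, incl, MonoidAlgebra.liftNCAlgHom, MonoidAlgebra.liftNCRingHom]
        simp [MonoidAlgebra.coe_algebraMap, MonoidAlgebra.single_mul_single, MonoidAlgebra.coeff_single, Finsupp.single_apply]
        split_ifs <;> simp_all
    have hr : ∀ w : (MonoidAlgebra A M), ((extend _ ((extend _ a₀ χ₂).comp φ) χ₁ w).coeff n).coeff p = (φ (w.coeff n)).coeff p := by
      intro w
      have he : extend _ a₀ χ₂ = c := AlgHom.ext fun y => by
        induction y using MonoidAlgebra.induction_linear with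
        | zero => simp
        | add x y hx hy => rw [map_add, map_add, hx, hy]
        | single q r =>
          simp only [extend, χ₂, a₀, c, incl, MonoidAlgebra.liftNCAlgHom, MonoidAlgebra.liftNCRingHom]
          simp [MonoidAlgebra.coe_algebraMap, MonoidAlgebra.single_mul_single]
      rw [he]
      induction w using MonoidAlgebra.induction_linear with
      | zero => simp
      | add x y hx hy => simp only [map_add, MonoidAlgebra.coeff_add, Finsupp.add_apply, hx, hy]
      | single q r =>
        simp only [extend, χ₁, c, MonoidAlgebra.liftNCAlgHom, MonoidAlgebra.liftNCRingHom]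
        simp [MonoidAlgebra.coe_algebraMap, MonoidAlgebra.single_mul_single, MonoidAlgebra.coeff_single, Finsupp.single_apply]
        split_ifs <;> simp
    have h2 : (if n = p then (φ a).coeff p else 0) = (φ ((φ a).coeff n)).coeff p :=
      (hl (φ a)).symm.trans (h1.trans (hr (φ a)))
    rw [← h2, MonoidAlgebra.coeff_single, Finsupp.single_apply]
    by_cases hnp : n = p
    · subst hnp; simp
    · rw [if_neg hnp, if_neg hnp]
  -- freeness on affine points
  have hfreeA : ∀ (B : Type u) [CommRing B] [Algebra R B] (v : A →ₐ[R] B) (χ : M →* B),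
      (∀ a, MonoidAlgebra.liftNCAlgHom v χ (fun _ _ => Commute.all _ _) (φ a) = v a) → χ = 1 := by
    intro B _ _ v χ h
    refine σ.pt_inj B ((hfree _ _ (sp v ≫ x₀) ?_).trans (σ.pt_one B).symm)
    rw [hact, show (extend B v χ).comp φ = v from AlgHom.ext h]
  -- the graph in coordinates
  let w : P R (A ⊗[R] A) ⟶ X ⊗ X := lift (sp (Algebra.TensorProduct.includeLeft : A →ₐ[R] A ⊗[R] A) ≫ x₀)
    (sp (Algebra.TensorProduct.includeRight : A →ₐ[R] A ⊗[R] A) ≫ x₀)
  haveI : IsIso w := by
    refine isIso_of_points w (fun B _ _ v v' h => ?_) (fun B _ _ y => ?_)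
    · have h1 := hx B _ _ (by simpa [w, ← Category.assoc, sp_comp] using congrArg (· ≫ fst X X) h)
      have h2 := hx B _ _ (by simpa [w, ← Category.assoc, sp_comp] using congrArg (· ≫ snd X X) h)
      exact Algebra.TensorProduct.ext h1 h2
    · obtain ⟨a, ha⟩ := hx' B (y ≫ fst X X)
      obtain ⟨b, hb⟩ := hx' B (y ≫ snd X X)
      refine ⟨Algebra.TensorProduct.productMap a b, ?_⟩
      rw [comp_lift, ← Category.assoc, ← Category.assoc, sp_comp, sp_comp,
        Algebra.TensorProduct.productMap_left, Algebra.TensorProduct.productMap_right, ha, hb, ← comp_lift, lift_fst_snd,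
        Category.comp_id]
  let Φ := Algebra.TensorProduct.productMap φ incl
  have hgraph : z ≫ lift act (snd G X) = sp Φ ≫ w := by
    rw [comp_lift, comp_lift, ← Category.assoc, ← Category.assoc, sp_comp, sp_comp, lift_snd, ← hφ]
    simp only [Φ, Algebra.TensorProduct.productMap_left, Algebra.TensorProduct.productMap_right]
  haveI : IsClosedImmersion (sp Φ).left :=
    IsClosedImmersion.spec_of_surjective _ (surjective_graph φ hco (span_component_eq_top φ hco hfreeA hε))
  rw [show lift act (snd G X) = inv z ≫ sp Φ ≫ w by rw [IsIso.eq_inv_comp, hgraph]]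
  haveI : IsIso (inv z).left := inferInstanceAs (IsIso ((Over.forget _).map (inv z)))
  haveI : IsIso w.left := inferInstanceAs (IsIso ((Over.forget _).map w))
  show IsClosedImmersion ((inv z).left ≫ (sp Φ).left ≫ w.left)
  infer_instance

end Groth.Agent.SGA3cLib.FreeGraph
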