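import Groth.Agent.SGA3cLib.MultTrivialAction
import Mathlib.RingTheory.Ideal.Quotient.Operations
import Mathlib.RingTheory.Ideal.Maximal
import Mathlib.RingTheory.TensorProduct.Maps
import Mathlib.GroupTheory.QuotientGroup.Basic

/-!
# Free gradings

A grading of `A` by a group `M`, given by a coaction `φ : A → A[M]`, such that no point is fixed by a nontrivial
character has every homogeneous piece generating the unit ideal; hence `A ⊗ A → A[M]` is surjective.
-/

set_option autoImplicit false

universe u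

open TensorProduct

namespace Groth.Agent.SGA3cLib.FreeGraph

variable {R A : Type u} [CommRing R] [CommRing A] [Algebra R A] {M : Type} [CommGroup M]

/-- An ideal stable under taking components. -/
def Stable (φ : A →ₐ[R] MonoidAlgebra A M) (I : Ideal A) : Prop := ∀ x ∈ I, ∀ m, (φ x).coeff m ∈ I

theorem stable_span (φ : A →ₐ[R] MonoidAlgebra A M) {s : Set A}
    (hs : ∀ a ∈ s, ∃ n, φ a = MonoidAlgebra.single n a) : Stable φ (Ideal.span s) := by
  intro x hx
  refine Submodule.span_induction (fun a ha m => ?_) (fun m => by simp) (fun a b _ _ h h' m => ?_) (fun c a _ h m => ?_) hx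
  · classical
    obtain ⟨n, hn⟩ := hs a ha
    rw [hn, MonoidAlgebra.coeff_single, Finsupp.single_apply]
    split_ifs
    · exact Ideal.subset_span ha
    · exact zero_mem _
  · rw [map_add, MonoidAlgebra.coeff_add, Finsupp.add_apply]
    exact add_mem (h m) (h' m)
  · rw [smul_eq_mul, map_mul]
    have key : ∀ z : MonoidAlgebra A M, (z * φ a).coeff m ∈ Ideal.span s := by
      intro z
      induction z using MonoidAlgebra.induction_linear with
      | zero => simp
      | add z z' hz hz' =>
        rw [add_mul, MonoidAlgebra.coeff_add, Finsupp.add_apply]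
        exact add_mem hz hz'
      | single p r =>
        have : (MonoidAlgebra.single p r * φ a).coeff m = r * (φ a).coeff (p⁻¹ * m) := by
          exact MonoidAlgebra.coeff_single_mul_apply _ _ _ _
        rw [this]
        exact Ideal.mul_mem_left _ _ (h _)
    exact key _

/-- Components generate the unit ideal if the stabilisers are trivial. -/
theorem span_component_eq_top (φ : A →ₐ[R] MonoidAlgebra A M)
    (hφ : ∀ a n, φ ((φ a).coeff n) = MonoidAlgebra.single n ((φ a).coeff n))
    (hfree : ∀ (B : Type u) [CommRing B] [Algebra R B] (v : A →ₐ[R] B) (χ : M →* B),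
      (∀ a, MonoidAlgebra.liftNCAlgHom v χ (fun _ _ => Commute.all _ _) (φ a) = v a) → χ = 1)
    (hε : ∀ a, MonoidAlgebra.liftNCAlgHom (AlgHom.id R A) (1 : M →* A) (fun _ _ => Commute.all _ _) (φ a) = a)
    (m : M) : Ideal.span (Set.range fun a => (φ a).coeff m) = ⊤ := by
  classical
  by_contra hne
  obtain ⟨I, hle, ⟨hIne, hIst⟩, hmax⟩ := zorn_le_nonempty₀ {I : Ideal A | I ≠ ⊤ ∧ Stable φ I}
    (fun c hc hchain J hJ => by
      refine ⟨sSup c, ⟨?_, ?_⟩, fun K hK => le_sSup hK⟩
      · rw [Ideal.ne_top_iff_one, Submodule.mem_sSup_of_directed ⟨J, hJ⟩ hchain.directedOn]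
        rintro ⟨K, hK, h1⟩
        exact (hc hK).1 ((Ideal.eq_top_iff_one _).mpr h1)
      · intro x hx n
        rw [Submodule.mem_sSup_of_directed ⟨J, hJ⟩ hchain.directedOn] at hx ⊢
        obtain ⟨K, hK, hxK⟩ := hx
        exact ⟨K, hK, (hc hK).2 x hxK n⟩)
    (Ideal.span (Set.range fun a => (φ a).coeff m))
    ⟨hne, stable_span φ (by rintro _ ⟨a, rfl⟩; exact ⟨m, hφ a m⟩)⟩
  let B := A ⧸ I
  let mk : A →ₐ[R] B := Ideal.Quotient.mkₐ R I
  have hmk : ∀ a, mk a = 0 ↔ a ∈ I := fun a => Ideal.Quotient.eq_zero_iff_mem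
  let N : Set M := {n | ∃ a, (φ a).coeff n ∉ I}
  -- homogeneous elements outside `I` are invertible modulo `I`
  have hinv : ∀ n a, (φ a).coeff n ∉ I → ∃ b, (φ b).coeff n⁻¹ * (φ a).coeff n - 1 ∈ I := by
    intro n a ha
    let x := (φ a).coeff n
    have htop : I ⊔ Ideal.span {x} = ⊤ := by
      by_contra hne'
      refine ha (hmax ⟨hne', fun y hy k => ?_⟩ le_sup_left (Ideal.mem_sup_right (Ideal.mem_span_singleton_self x)))
      obtain ⟨i, hi, z, hz, rfl⟩ := Submodule.mem_sup.mp hy
      rw [map_add, MonoidAlgebra.coeff_add, Finsupp.add_apply]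
      refine add_mem (Ideal.mem_sup_left (hIst i hi k)) (Ideal.mem_sup_right ?_)
      exact stable_span φ (by rintro _ rfl; exact ⟨n, hφ a n⟩) z hz k
    obtain ⟨i, hi, z, hz, hiz⟩ := Submodule.mem_sup.mp (htop.ge (Submodule.mem_top (x := (1 : A))))
    obtain ⟨c, rfl⟩ := Ideal.mem_span_singleton'.mp hz
    refine ⟨c, ?_⟩
    have h1 := congrArg (fun y => (φ y).coeff 1) hiz
    simp only [map_add, map_one, MonoidAlgebra.coeff_add, Finsupp.add_apply, map_mul, x, hφ a n,
      MonoidAlgebra.coeff_mul_single_apply, MonoidAlgebra.one_def, MonoidAlgebra.coeff_single, Finsupp.single_eq_same,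
      _root_.one_mul] at h1
    rw [show (φ c).coeff n⁻¹ * (φ a).coeff n - 1 = -(φ i).coeff 1 by linear_combination h1]
    exact I.neg_mem (hIst i hi 1)
  -- the subgroup of degrees
  let N' : Subgroup M :=
    { carrier := N
      one_mem' := ⟨1, by
        show (φ 1).coeff 1 ∉ I
        rw [map_one φ, MonoidAlgebra.one_def, MonoidAlgebra.coeff_single, Finsupp.single_eq_same]
        exact fun h => hIne ((Ideal.eq_top_iff_one _).mpr h)⟩
      mul_mem' := by
        rintro n n' ⟨a, ha⟩ ⟨a', ha'⟩
        refine ⟨(φ a).coeff n * (φ a').coeff n', ?_⟩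
        show (φ ((φ a).coeff n * (φ a').coeff n')).coeff (n * n') ∉ I
        rw [map_mul φ, hφ, hφ, MonoidAlgebra.single_mul_single, MonoidAlgebra.coeff_single, Finsupp.single_eq_same]
        intro h
        obtain ⟨b, hb⟩ := hinv n a ha
        refine ha' ?_
        rw [show (φ a').coeff n' = (φ b).coeff n⁻¹ * ((φ a).coeff n * (φ a').coeff n') -
          ((φ b).coeff n⁻¹ * (φ a).coeff n - 1) * (φ a').coeff n' by ring]
        exact sub_mem (I.mul_mem_left _ h) (I.mul_mem_right _ hb)
      inv_mem' := by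
        rintro n ⟨a, ha⟩
        obtain ⟨b, hb⟩ := hinv n a ha
        refine ⟨b, fun h => hIne ((Ideal.eq_top_iff_one _).mpr ?_)⟩
        simpa using sub_mem (I.mul_mem_right ((φ a).coeff n) h) hb }
  -- the fixed point
  let q : M →* M ⧸ N' := QuotientGroup.mk' N'
  let v : A →ₐ[R] MonoidAlgebra B (M ⧸ N') := (IsScalarTower.toAlgHom R B (MonoidAlgebra B (M ⧸ N'))).comp mk
  let χ : M →* MonoidAlgebra B (M ⧸ N') := (MonoidAlgebra.of B (M ⧸ N')).comp q
  have hfix : ∀ a, MonoidAlgebra.liftNCAlgHom v χ (fun _ _ => Commute.all _ _) (φ a) = v a := by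
    intro a
    have h0 := congrArg v (hε a)
    rw [← h0, ← MonoidAlgebra.sum_coeff_single (φ a)]
    simp only [Finsupp.sum, map_sum]
    refine Finset.sum_congr rfl fun n _ => ?_
    simp only [MonoidAlgebra.liftNCAlgHom, MonoidAlgebra.liftNCRingHom, AlgHom.coe_mk, RingHom.coe_mk, MonoidHom.coe_mk,
      OneHom.coe_mk, ZeroHom.coe_mk, AddMonoidHom.toFun_eq_coe, MonoidAlgebra.liftNC_single, MonoidHom.one_apply,
      AddMonoidHom.coe_coe, AlgHom.id_apply, _root_.mul_one, RingHom.coe_coe]
    by_cases hn : n ∈ N'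
    · rw [show χ n = 1 by
        show MonoidAlgebra.of B _ (q n) = 1
        rw [show q n = 1 from (QuotientGroup.eq_one_iff n).mpr hn, map_one], _root_.mul_one]
    · have : mk ((φ a).coeff n) = 0 := (hmk _).mpr (by_contra fun h => hn ⟨a, h⟩)
      simp [v, this]
  haveI : Nontrivial B := Ideal.Quotient.nontrivial_iff.mpr hIne
  have hm : q m = 1 := MonoidAlgebra.of_injective ((DFunLike.congr_fun (hfree _ v χ hfix) m).trans (map_one _).symm)
  obtain ⟨a, ha⟩ := (QuotientGroup.eq_one_iff m).mp hm
  exact ha (hle (Ideal.subset_span ⟨a, rfl⟩))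

/-- The graph of a free coaction is surjective. -/
theorem surjective_graph (φ : A →ₐ[R] MonoidAlgebra A M)
    (hφ : ∀ a n, φ ((φ a).coeff n) = MonoidAlgebra.single n ((φ a).coeff n))
    (htop : ∀ m, Ideal.span (Set.range fun a => (φ a).coeff m) = ⊤) :
    Function.Surjective (Algebra.TensorProduct.productMap φ (IsScalarTower.toAlgHom R A (MonoidAlgebra A M))) := by
  let Φ := Algebra.TensorProduct.productMap φ (IsScalarTower.toAlgHom R A (MonoidAlgebra A M))
  have hA : ∀ a : A, MonoidAlgebra.single 1 a ∈ Φ.range := fun a =>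
    ⟨1 ⊗ₜ a, by simp [Φ, MonoidAlgebra.coe_algebraMap]⟩
  have h1 : ∀ m, MonoidAlgebra.single m (1 : A) ∈ Φ.range := by
    intro m
    suffices ∀ x ∈ Ideal.span (Set.range fun a => (φ a).coeff m), MonoidAlgebra.single m x ∈ Φ.range from
      this 1 (by rw [htop m]; trivial)
    intro x hx
    refine Submodule.span_induction ?_ ?_ (fun x y _ _ h h' => ?_) (fun c x _ h => ?_) hx
    · rintro _ ⟨a, rfl⟩
      exact ⟨(φ a).coeff m ⊗ₜ 1, by simp [Φ, hφ]⟩
    · rw [MonoidAlgebra.single_zero]; exact zero_mem _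
    · rw [MonoidAlgebra.single_add]; exact add_mem h h'
    · rw [smul_eq_mul, show MonoidAlgebra.single m (c * x) = MonoidAlgebra.single 1 c * MonoidAlgebra.single m x by
        rw [MonoidAlgebra.single_mul_single, _root_.one_mul]]
      exact mul_mem (hA c) h
  intro y
  suffices y ∈ Φ.range from this
  induction y using MonoidAlgebra.induction_linear with
  | zero => exact zero_mem _
  | add x y hx hy => exact add_mem hx hy
  | single m r =>
    rw [show MonoidAlgebra.single m r = MonoidAlgebra.single 1 r * MonoidAlgebra.single m (1 : A) by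
      rw [MonoidAlgebra.single_mul_single, _root_.one_mul, _root_.mul_one]]
    exact mul_mem (hA r) (h1 m)

end Groth.Agent.SGA3cLib.FreeGraph
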