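import Groth.Agent.SGA3cLib.InvariantDeriv
import Mathlib.Algebra.CharP.Lemmas
import Mathlib.Algebra.CharP.Algebra
import Mathlib.FieldTheory.Perfect
import Mathlib.RingTheory.Flat.Basic
import Mathlib.LinearAlgebra.Dimension.Free

/-!
# The dimension of a finite connected (co)augmented algebra is a power of the characteristic
-/

set_option autoImplicit false

universe u v

open TensorProduct MvPolynomial

namespace Groth.Agent.SGA3cLib

variable {k : Type u} {F : Type v} [Field k] [CommRing F] [Algebra k F] (c : CounitalMul k F)

namespace CounitalMul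

include c

/-- Monomials span over `p`-th powers and are independent over them. -/
theorem exists_subalgebra_step (p : ℕ) [Fact p.Prime] [CharP k p] [PerfectRing k p] [Module.Finite k F] :
    ∃ (r : ℕ) (B : Subalgebra k F) (_ : CounitalMul k B),
      Module.finrank k F = p ^ r * Module.finrank k B ∧ (r = 0 → Module.finrank k F = 1) := by
  classical
  haveI : Nontrivial F := RingHom.domain_nontrivial c.ε.toRingHom
  haveI : CharP F p := charP_of_injective_algebraMap (algebraMap k F).injective p
  haveI : Nontrivial (F ⊗[k] F) :=
    RingHom.domain_nontrivial ((Algebra.TensorProduct.lift c.ε c.ε fun _ _ => .all _ _).toRingHom)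
  haveI : CharP (F ⊗[k] F) p := charP_of_injective_algebraMap (algebraMap k (F ⊗[k] F)).injective p
  obtain ⟨r, x, d, hx, hd, hdx, hspan⟩ := c.exists_coords
  let B : Subalgebra k F :=
    { carrier := Set.range fun y : F => y ^ p
      mul_mem' := by rintro _ _ ⟨a, rfl⟩ ⟨b, rfl⟩; exact ⟨a * b, mul_pow a b p⟩
      one_mem' := ⟨1, one_pow p⟩
      add_mem' := by rintro _ _ ⟨a, rfl⟩ ⟨b, rfl⟩; exact ⟨a + b, add_pow_char a b p⟩
      zero_mem' := ⟨0, zero_pow (Fact.out : p.Prime).ne_zero⟩
      algebraMap_mem' := fun t => by
        obtain ⟨s, rfl⟩ := surjective_frobenius k p t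
        exact ⟨algebraMap k F s, by rw [frobenius_def, map_pow]⟩ }
  have hm : Function.Injective (Algebra.TensorProduct.map B.val B.val) := by
    have h1 := Module.Flat.rTensor_preserves_injective_linearMap (M := B) B.val.toLinearMap Subtype.val_injective
    have h2 := Module.Flat.lTensor_preserves_injective_linearMap (M := F) B.val.toLinearMap Subtype.val_injective
    have e : ∀ z, Algebra.TensorProduct.map B.val B.val z =
        B.val.toLinearMap.lTensor F (B.val.toLinearMap.rTensor B z) := by
      intro z
      induction z using TensorProduct.induction_on with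
      | zero => simp
      | tmul a b => simp
      | add a b ha hb => simp only [map_add, ha, hb]
    intro a b h
    rw [e, e] at h
    exact h1 (h2 h)
  have hΔ : ∀ b : B, c.Δ (b : F) ∈ (Algebra.TensorProduct.map B.val B.val).range := by
    rintro ⟨_, y, rfl⟩
    change c.Δ (y ^ p) ∈ _
    rw [map_pow]
    induction c.Δ y using TensorProduct.induction_on with
    | zero => rw [zero_pow (Fact.out : p.Prime).ne_zero]; exact zero_mem _
    | tmul a b =>
      exact ⟨(⟨a ^ p, a, rfl⟩ : B) ⊗ₜ (⟨b ^ p, b, rfl⟩ : B), by simp⟩
    | add a b ha hb => rw [add_pow_char]; exact add_mem ha hb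
  let e := AlgEquiv.ofInjective _ hm
  let ΔB : B →ₐ[k] B ⊗[k] B := e.symm.toAlgHom.comp ((c.Δ.comp B.val).codRestrict _ hΔ)
  have hΔB : ∀ b : B, Algebra.TensorProduct.map B.val B.val (ΔB b) = c.Δ (b : F) := fun b =>
    congrArg Subtype.val (e.apply_symm_apply ⟨_, hΔ b⟩)
  have cB : CounitalMul k B :=
    { ε := c.ε.comp B.val
      Δ := ΔB
      counit_left := fun b => by
        apply Subtype.val_injective
        conv_rhs => rw [← c.counit_left (b : F), ← hΔB b]
        induction ΔB b using TensorProduct.induction_on with
        | zero => simp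
        | tmul a b => simp
        | add a b ha hb => simp only [map_add, AddMemClass.coe_add, ha, hb]
      counit_right := fun b => by
        apply Subtype.val_injective
        conv_rhs => rw [← c.counit_right (b : F), ← hΔB b]
        induction ΔB b using TensorProduct.induction_on with
        | zero => simp
        | tmul a b => simp
        | add a b ha hb => simp only [map_add, AddMemClass.coe_add, ha, hb]
      nilpotent := by
        obtain ⟨N, hN⟩ := c.nilpotent
        refine ⟨N, le_antisymm (fun b hb => ?_) bot_le⟩
        have h := Ideal.le_comap_pow B.val N (K := RingHom.ker c.ε) hb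
        rw [Ideal.mem_comap, hN] at h
        exact Subtype.ext h }
  refine ⟨r, B, cB, ?_, fun hr => ?_⟩
  · let ι : (Fin r → Fin p) → (Fin r →₀ ℕ) := fun a => Finsupp.equivFunOnFinite.symm fun i => (a i : ℕ)
    have hι : Function.Injective ι := fun a b h => funext fun i => Fin.ext (by
      simpa [ι] using DFunLike.congr_fun h i)
    let Ψ : ((Fin r → Fin p) → B) →ₗ[k] F :=
      ∑ a, (LinearMap.mulRight k (aeval x (monomial (ι a) (1 : k)))) ∘ₗ B.val.toLinearMap ∘ₗ LinearMap.proj a
    have hΨ : ∀ g, Ψ g = ∑ a, (g a : F) * aeval x (monomial (ι a) (1 : k)) := fun g => by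
      simp [Ψ, LinearMap.sum_apply]
    have hinj : Function.Injective Ψ := by
      rw [← LinearMap.ker_eq_bot, LinearMap.ker_eq_bot']
      intro g hg
      rw [hΨ] at hg
      let co : (Fin r →₀ ℕ) → F := fun b => ∑ a, if ι a = b then (g a : F) else 0
      have hcoι : ∀ a, co (ι a) = g a := fun a => by
        simp only [co]
        rw [Finset.sum_eq_single a (fun t _ ht => if_neg (hι.ne ht)) (by simp), if_pos rfl]
      have key := c.linearIndependent_monomials x d hx hd hdx (Finset.univ.image ι) ?_ co ?_ ?_
      · funext a
        apply Subtype.ext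
        rw [← hcoι]
        exact key _ (Finset.mem_image_of_mem _ (Finset.mem_univ a))
      · intro b hb i n hn hnb
        obtain ⟨a, -, rfl⟩ := Finset.mem_image.mp hb
        rw [Ne, CharP.cast_eq_zero_iff k p]
        exact fun h => by
          have := Nat.le_of_dvd hn h
          have := (a i).2
          simp [ι] at hnb
          omega
      · intro b hb i
        obtain ⟨a, -, rfl⟩ := Finset.mem_image.mp hb
        rw [hcoι]
        obtain ⟨y, hy⟩ := (g a).2
        rw [← hy, Derivation.leibniz_pow, nsmul_eq_mul, CharP.cast_eq_zero F p, zero_mul]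
      · rw [Finset.sum_image hι.injOn]
        simpa only [hcoι] using hg
    have hsurj : Function.Surjective Ψ := by
      intro y
      obtain ⟨f, rfl⟩ := c.aeval_surjective x d hx hspan y
      change aeval x f ∈ LinearMap.range Ψ
      induction f using MvPolynomial.induction_on' with
      | add a b ha hb => rw [map_add]; exact add_mem ha hb
      | monomial b t =>
        rw [show monomial b t = t • monomial b (1 : k) by simp [smul_monomial], map_smul]
        refine Submodule.smul_mem _ _ ?_
        let a : Fin r → Fin p := fun i => ⟨b i % p, Nat.mod_lt _ (Fact.out : p.Prime).pos⟩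
        refine ⟨Pi.single a ⟨(∏ i, x i ^ (b i / p)) ^ p, _, rfl⟩, ?_⟩
        rw [hΨ, Finset.sum_eq_single a]
        · simp only [Pi.single_eq_same, aeval_monomial, map_one, one_mul]
          rw [Finsupp.prod_fintype _ _ (fun _ => pow_zero _), Finsupp.prod_fintype _ _ (fun _ => pow_zero _),
            ← Finset.prod_pow, ← Finset.prod_mul_distrib]
          refine Finset.prod_congr rfl fun i _ => ?_
          simp only [ι, a, Finsupp.coe_equivFunOnFinite_symm, ← pow_mul, ← pow_add]
          rw [Nat.mul_comm, Nat.div_add_mod]
        · intro t _ ht; simp [Pi.single_eq_of_ne ht]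
        · simp
    rw [← (LinearEquiv.ofBijective Ψ ⟨hinj, hsurj⟩).finrank_eq, Module.finrank_pi_fintype]
    simp
  · subst hr
    have h0 : ∀ y, ∃ t : k, algebraMap k F t = y := fun y => by
      obtain ⟨f, rfl⟩ := c.aeval_surjective x d hx hspan y
      obtain ⟨t, rfl⟩ := MvPolynomial.C_surjective (Fin 0) f
      exact ⟨t, (aeval_C _ _).symm⟩
    exact (LinearEquiv.ofBijective (Algebra.linearMap k F) ⟨(algebraMap k F).injective, h0⟩).finrank_eq.symm.trans
      (Module.finrank_self k)

/-- In characteristic `p`, over a perfect field, the dimension is a power of `p`. -/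
theorem exists_finrank_eq_pow (p : ℕ) [Fact p.Prime] [CharP k p] [PerfectRing k p] [Module.Finite k F] :
    ∃ r, Module.finrank k F = p ^ r := by
  induction hn : Module.finrank k F using Nat.strong_induction_on generalizing F with
  | _ n ih =>
    obtain ⟨r, B, cB, hrk, hr0⟩ := c.exists_subalgebra_step p
    rcases Nat.eq_zero_or_pos r with hr | hr
    · exact ⟨0, by rw [← hn, hr0 hr, pow_zero]⟩
    haveI : Nontrivial B := RingHom.domain_nontrivial cB.ε.toRingHom
    have hB : 0 < Module.finrank k B := Module.finrank_pos
    have hlt : Module.finrank k B < n := by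
      rw [← hn, hrk]
      exact lt_mul_left hB (Nat.one_lt_pow hr.ne' (Fact.out : p.Prime).one_lt)
    obtain ⟨s, hs⟩ := ih _ hlt cB rfl
    exact ⟨r + s, by rw [← hn, hrk, hs, pow_add]⟩

/-- In characteristic zero, the algebra is trivial. -/
theorem finrank_eq_one_of_charZero [CharZero k] [Module.Finite k F] : Module.finrank k F = 1 := by
  classical
  obtain ⟨r, x, d, hx, hd, hdx, hspan⟩ := c.exists_coords
  haveI : Nontrivial F := RingHom.domain_nontrivial c.ε.toRingHom
  have hr : r = 0 := by
    by_contra h
    let i : Fin r := ⟨0, Nat.pos_of_ne_zero h⟩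
    obtain ⟨N, hN⟩ := c.nilpotent
    have hxN : x i ^ N = 0 := by
      have := Ideal.pow_mem_pow (hx i) N
      rwa [hN] at this
    have := c.linearIndependent_monomials x d hx hd hdx {Finsupp.single i N}
      (fun b _ j n hn _ => by exact_mod_cast hn.ne') (fun _ => 1) (fun b _ j => Derivation.map_one_eq_zero _)
      (by rw [Finset.sum_singleton, one_mul, aeval_monomial, Finsupp.prod_single_index (by simp), hxN, mul_zero]) _ (Finset.mem_singleton_self _)
    exact one_ne_zero this
  subst hr
  have h0 : ∀ y, ∃ t : k, algebraMap k F t = y := fun y => by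
    obtain ⟨f, rfl⟩ := c.aeval_surjective x d hx hspan y
    obtain ⟨t, rfl⟩ := MvPolynomial.C_surjective (Fin 0) f
    exact ⟨t, (aeval_C _ _).symm⟩
  exact (LinearEquiv.ofBijective (Algebra.linearMap k F) ⟨(algebraMap k F).injective, h0⟩).finrank_eq.symm.trans
    (Module.finrank_self k)

end CounitalMul

end Groth.Agent.SGA3cLib
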