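import Mathlib.Algebra.MonoidAlgebra.Basic
import Mathlib.RingTheory.Idempotents
import Mathlib.Algebra.MonoidAlgebra.MapDomain

/-! Group-like elements of group algebras and their unique lifting along nilpotent thickenings. -/

set_option autoImplicit false

universe u v

noncomputable section

namespace Groth.Agent.SGA3cLib.GroupLike

variable {A : Type u} [CommRing A] {M : Type v} [CommGroup M]

/-- The counit. -/
def ε : MonoidAlgebra A M →ₐ[A] A := MonoidAlgebra.lift A A M 1

/-- The first coprojection. -/
def i₁ : MonoidAlgebra A M →ₐ[A] MonoidAlgebra A (M × M) :=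
  MonoidAlgebra.mapDomainAlgHom A A (MonoidHom.inl M M)

/-- The second coprojection. -/
def i₂ : MonoidAlgebra A M →ₐ[A] MonoidAlgebra A (M × M) :=
  MonoidAlgebra.mapDomainAlgHom A A (MonoidHom.inr M M)

/-- The comultiplication. -/
def dg : MonoidAlgebra A M →ₐ[A] MonoidAlgebra A (M × M) :=
  MonoidAlgebra.mapDomainAlgHom A A ((MonoidHom.id M).prod (MonoidHom.id M))

/-- Group-like elements. -/
structure IsGL (x : MonoidAlgebra A M) : Prop where
  one : ε x = 1
  comul : dg x = i₁ x * i₂ x

theorem IsGL.one' : IsGL (1 : MonoidAlgebra A M) := ⟨map_one _, by simp⟩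

theorem IsGL.mul {x y : MonoidAlgebra A M} (hx : IsGL x) (hy : IsGL y) : IsGL (x * y) :=
  ⟨by rw [map_mul, hx.one, hy.one, one_mul], by rw [map_mul, map_mul, map_mul, hx.comul, hy.comul]; ring⟩

theorem isGL_single (m : M) : IsGL (MonoidAlgebra.single m (1 : A)) :=
  ⟨by simp [ε], by simp [dg, i₁, i₂, MonoidAlgebra.single_mul_single]⟩

theorem IsGL.lift_mul {x : MonoidAlgebra A M} (hx : IsGL x) {B : Type*} [CommRing B] [Algebra A B] (ξ ξ' : M →* B) :
    MonoidAlgebra.lift A B M (ξ * ξ') x = MonoidAlgebra.lift A B M ξ x * MonoidAlgebra.lift A B M ξ' x := by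
  let l := MonoidAlgebra.lift A B (M × M) (ξ.coprod ξ')
  have h0 : MonoidAlgebra.lift A B M (ξ * ξ') = l.comp dg :=
    by ext m; simp [l, dg]
  have h1 : MonoidAlgebra.lift A B M ξ = l.comp i₁ :=
    by ext m; simp [l, i₁]
  have h2 : MonoidAlgebra.lift A B M ξ' = l.comp i₂ :=
    by ext m; simp [l, i₂]
  rw [h0, h1, h2, AlgHom.comp_apply, hx.comul, map_mul, AlgHom.comp_apply, AlgHom.comp_apply]

theorem IsGL.coeff_mul {x : MonoidAlgebra A M} (hx : IsGL x) (a b : M) [Decidable (a = b)] :
    x.coeff a * x.coeff b = if a = b then x.coeff a else 0 := by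
  classical
  have h1 : ∀ y z : MonoidAlgebra A M, (i₁ y * i₂ z).coeff (a, b) = y.coeff a * z.coeff b := fun y z => by
    induction y using MonoidAlgebra.induction_linear with
    | zero => simp
    | add x y hx hy => simp only [map_add, add_mul, MonoidAlgebra.coeff_add, Finsupp.add_apply, hx, hy]
    | single p r =>
      induction z using MonoidAlgebra.induction_linear with
      | zero => simp
      | add x y hx hy => simp only [map_add, mul_add, MonoidAlgebra.coeff_add, Finsupp.add_apply, hx, hy]
      | single p' r' =>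
        simp [i₁, i₂, MonoidAlgebra.single_mul_single, MonoidAlgebra.coeff_single, Finsupp.single_apply, Prod.ext_iff]
        split_ifs <;> simp_all
  have h2 : ∀ y : MonoidAlgebra A M, (dg y).coeff (a, b) = if a = b then y.coeff a else 0 := fun y => by
    induction y using MonoidAlgebra.induction_linear with
    | zero => simp
    | add x y hx hy =>
      simp only [map_add, MonoidAlgebra.coeff_add, Finsupp.add_apply, hx, hy]
      split_ifs <;> simp
    | single p r =>
      simp [dg, MonoidAlgebra.coeff_single, Finsupp.single_apply, Prod.ext_iff]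
      split_ifs <;> first | rfl | (rename_i hh hn; exact absurd (hh.1.symm.trans hh.2) hn) | simp_all
  rw [← h1, ← hx.comul, h2]

theorem IsGL.isIdempotentElem_coeff {x : MonoidAlgebra A M} (hx : IsGL x) (a : M) :
    IsIdempotentElem (x.coeff a) := by
  classical
  show x.coeff a * x.coeff a = x.coeff a
  rw [hx.coeff_mul, if_pos rfl]

theorem isGL_sum {ι : Type*} [Fintype ι] (a : ι → M) {e : ι → A} (he : CompleteOrthogonalIdempotents e) :
    IsGL (∑ i, MonoidAlgebra.single (a i) (e i)) := by
  classical
  refine ⟨?_, ?_⟩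
  · simp [ε, he.complete]
  · simp only [map_sum, dg, i₁, i₂, MonoidAlgebra.mapDomainAlgHom_apply, MonoidAlgebra.mapDomain_single,
      Finset.sum_mul_sum, MonoidAlgebra.single_mul_single]
    refine Finset.sum_congr rfl fun i _ => ?_
    rw [Finset.sum_eq_single i]
    · simp [(he.idem i).eq]
    · intro j _ hj
      rw [he.ortho (Ne.symm hj), MonoidAlgebra.single_zero]
    · simp

variable {B : Type*} [CommRing B] (f : A →+* B)

theorem IsGL.map {x : MonoidAlgebra A M} (hx : IsGL x) : IsGL (MonoidAlgebra.mapRingHom M f x) := by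
  have hd : ∀ (φ : M →* M × M) (y : MonoidAlgebra A M), MonoidAlgebra.mapDomainAlgHom B B φ (MonoidAlgebra.mapRingHom M f y) =
      MonoidAlgebra.mapRingHom (M × M) f (MonoidAlgebra.mapDomainAlgHom A A φ y) := fun φ y => by
    induction y using MonoidAlgebra.induction_linear with
    | zero => simp
    | add x y hx hy => simp only [map_add, hx, hy]
    | single m r => simp
  refine ⟨?_, ?_⟩
  · rw [← map_one f, ← hx.one]
    clear hx
    induction x using MonoidAlgebra.induction_linear with
    | zero => simp
    | add x y hx hy => simp only [map_add, hx, hy]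
    | single m r => simp [ε]
  · show MonoidAlgebra.mapDomainAlgHom B B _ _ = MonoidAlgebra.mapDomainAlgHom B B _ _ * MonoidAlgebra.mapDomainAlgHom B B _ _
    rw [hd, hd, hd, ← map_mul]
    exact congrArg _ hx.comul

variable (hf : ∀ a ∈ RingHom.ker f, IsNilpotent a)
include hf

theorem IsGL.ext_of_map {x y : MonoidAlgebra A M} (hx : IsGL x) (hy : IsGL y)
    (h : MonoidAlgebra.mapRingHom M f x = MonoidAlgebra.mapRingHom M f y) : x = y := by
  refine MonoidAlgebra.ext (Finsupp.ext fun a => ?_)
  refine eq_of_isNilpotent_sub_of_isIdempotentElem (hx.isIdempotentElem_coeff a) (hy.isIdempotentElem_coeff a)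
    (hf _ ?_)
  have := congrArg (fun z => z.coeff a) h
  simp only [MonoidAlgebra.coeff_mapRingHom, Finsupp.mapRange_apply] at this
  rw [RingHom.mem_ker, map_sub, this, sub_self]

theorem exists_isGL_lift (hfs : Function.Surjective f) {x₀ : MonoidAlgebra B M} (hx : IsGL x₀) :
    ∃ x, IsGL x ∧ MonoidAlgebra.mapRingHom M f x = x₀ := by
  classical
  have h0 : ε x₀ = ∑ a ∈ x₀.coeff.support, x₀.coeff a := by
    simp [ε, MonoidAlgebra.lift_apply, Finsupp.sum]
  have he : CompleteOrthogonalIdempotents (fun a : x₀.coeff.support => x₀.coeff a) :=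
    { idem := fun a => hx.isIdempotentElem_coeff a.1
      ortho := fun a b hab => by
        show x₀.coeff a.1 * x₀.coeff b.1 = 0
        rw [hx.coeff_mul, if_neg fun h => hab (Subtype.ext h)]
      complete := by rw [Finset.sum_coe_sort x₀.coeff.support fun a => x₀.coeff a, ← h0, hx.one] }
  obtain ⟨e, he', hef⟩ := CompleteOrthogonalIdempotents.lift_of_isNilpotent_ker f hf he fun a => hfs _
  refine ⟨∑ a, MonoidAlgebra.single a.1 (e a), isGL_sum (fun a => a.1) he', ?_⟩
  rw [map_sum]
  simp only [MonoidAlgebra.mapRingHom_single, show ∀ a, f (e a) = x₀.coeff a.1 from fun a => congrFun hef a]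
  rw [Finset.sum_coe_sort x₀.coeff.support fun a => MonoidAlgebra.single a (x₀.coeff a)]
  exact MonoidAlgebra.sum_coeff_single x₀

omit hf

end Groth.Agent.SGA3cLib.GroupLike
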