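import Groth.Agent.SGA3cLib.HomSheaf
import Groth.Agent.Desc19b.EffAffine

/-! # Fpqc descent of schemes of homomorphisms with affine local models -/

set_option linter.style.haveILetI false
set_option autoImplicit false
set_option backward.isDefEq.respectTransparency.types false
universe u

open CategoryTheory CategoryTheory.Limits MonoidalCategory CartesianMonoidalCategory MonObj AlgebraicGeometry
open Opposite Desc

noncomputable section

namespace Groth.Agent.SGA3cLib.HomFpqc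

/-- a local representing datum -/
structure Local {S U : Scheme.{u}} (H G : Over S) [GrpObj H] [GrpObj G] (q : U ⟶ S) where
  /-- the representing scheme over `U` -/
  A : Over U
  /-- the universal family -/
  fam : H ⊗ (Over.map q).obj A ⟶ G
  isFam : AutFam.IsHomFamily H G fam
  univ : ∀ (T : Over S) (t : T.left ⟶ U), t ≫ q = T.hom → ∀ φ : H ⊗ T ⟶ G, AutFam.IsHomFamily H G φ →
    ∃! a : T ⟶ (Over.map q).obj A, a.left ≫ A.hom = t ∧ (H ◁ a) ≫ fam = φ

variable {S : Scheme.{u}} {H G : Over S} [GrpObj H] [GrpObj G]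

theorem nonempty_local {U : Scheme.{u}} (q : U ⟶ S) {A : Over U} {υ : Red.bc q H ⊗ A ⟶ Red.bc q G}
    (h : AutFam.RepresentsHom (Red.bc q H) (Red.bc q G) A υ) : ∃ L : Local H G q, L.A = A := by
  obtain ⟨φA, h1, -, h2⟩ := HomSheaf.exists_univ_map q h
  exact ⟨⟨A, φA, h1, h2⟩, rfl⟩

section Family

variable {Idx : Type u} {X : Idx → Scheme.{u}} {f : ∀ i, X i ⟶ S} (L : ∀ i, Local H G (f i))

/-- Points of the local model are families. -/
theorem exists_equiv {i : Idx} (T : Over S) (x : T.left ⟶ X i) (hx : x ≫ f i = T.hom) :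
    ∃ e : Lifts (L i).A x ≃ {φ : H ⊗ T ⟶ G // AutFam.IsHomFamily H G φ},
      ∀ (v : Lifts (L i).A x) (a : T ⟶ (Over.map (f i)).obj (L i).A), a.left = v.1 →
        (e v).1 = (H ◁ a) ≫ (L i).fam := by
  let toHom : Lifts (L i).A x → (T ⟶ (Over.map (f i)).obj (L i).A) := fun v => Over.homMk v.1 (by
    show v.1 ≫ (L i).A.hom ≫ f i = T.hom
    rw [← Category.assoc, v.2, hx])
  refine ⟨Equiv.ofBijective (fun v => ⟨(H ◁ toHom v) ≫ (L i).fam, HomSheaf.isHomFamily_whisker H G _ (L i).isFam⟩)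
    ⟨fun v v' e => ?_, fun φ => ?_⟩, fun v a ha => ?_⟩
  · have := ((L i).univ T x hx _ (HomSheaf.isHomFamily_whisker H G _ (L i).isFam)).unique
      (y₁ := toHom v) (y₂ := toHom v') ⟨v.2, congrArg Subtype.val e⟩ ⟨v'.2, rfl⟩
    exact Subtype.ext (congrArg (fun a : T ⟶ (Over.map (f i)).obj (L i).A => a.left) this)
  · obtain ⟨a, ⟨ha, haφ⟩, -⟩ := (L i).univ T x hx φ.1 φ.2
    refine ⟨⟨a.left, ha⟩, Subtype.ext ?_⟩
    have : toHom ⟨a.left, ha⟩ = a := Over.OverMorphism.ext rfl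
    show (H ◁ toHom ⟨a.left, ha⟩) ≫ _ = _
    rw [this, haφ]
  · have : toHom v = a := Over.OverMorphism.ext ha.symm
    show (H ◁ toHom v) ≫ _ = _
    rw [this]

/-- Points of the local model are families. -/
def equivFam {i : Idx} (T : Over S) (x : T.left ⟶ X i) (hx : x ≫ f i = T.hom) :
    Lifts (L i).A x ≃ {φ : H ⊗ T ⟶ G // AutFam.IsHomFamily H G φ} :=
  (exists_equiv L T x hx).choose

theorem equivFam_natural {i : Idx} {T T' : Over S} (k : T' ⟶ T) (x : T.left ⟶ X i) (hx : x ≫ f i = T.hom)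
    (y : T'.left ⟶ X i) (hy : y ≫ f i = T'.hom) (v : Lifts (L i).A x) (w : Lifts (L i).A y)
    (hvw : w.1 = k.left ≫ v.1) :
    (equivFam L T' y hy w).1 = (H ◁ k) ≫ (equivFam L T x hx v).1 := by
  have hv := (exists_equiv L T x hx).choose_spec v (Over.homMk v.1 (by
    show v.1 ≫ (L i).A.hom ≫ f i = T.hom
    rw [← Category.assoc, v.2, hx])) rfl
  have hw := (exists_equiv L T' y hy).choose_spec w (k ≫ Over.homMk v.1 (by
    show v.1 ≫ (L i).A.hom ≫ f i = T.hom
    rw [← Category.assoc, v.2, hx])) hvw.symm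
  rw [show equivFam L T x hx = (exists_equiv L T x hx).choose from rfl,
    show equivFam L T' y hy = (exists_equiv L T' y hy).choose from rfl, hv, hw,
    MonoidalCategory.whiskerLeft_comp, Category.assoc]

/-- The descent datum of the local models. -/
def datum : SchDDFam f where
  obj i := (L i).A
  φ T i j x₀ x₁ h :=
    (equivFam L (Over.mk (x₀ ≫ f i)) x₀ rfl).trans (equivFam L (Over.mk (x₀ ≫ f i)) x₁ h.symm).symm
  φ_natural T T' g i j x₀ x₁ h y₀ y₁ hy₀ hy₁ h' v v' hv' := by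
    let k : Over.mk (y₀ ≫ f i) ⟶ Over.mk (x₀ ≫ f i) :=
      Over.homMk g (show g ≫ x₀ ≫ f i = y₀ ≫ f i by rw [← Category.assoc, hy₀])
    set a := (equivFam L (Over.mk (x₀ ≫ f i)) x₁ h.symm).symm (equivFam L (Over.mk (x₀ ≫ f i)) x₀ rfl v)
    let b : Lifts (L j).A y₁ := ⟨g ≫ a.1, by rw [Category.assoc, a.2, hy₁]⟩
    have e : (equivFam L (Over.mk (y₀ ≫ f i)) y₁ h'.symm).symm (equivFam L (Over.mk (y₀ ≫ f i)) y₀ rfl v') = b := by
      rw [Equiv.symm_apply_eq]
      refine Subtype.ext ?_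
      rw [equivFam_natural L k x₀ rfl y₀ rfl v v' hv', equivFam_natural L k x₁ h.symm y₁ h'.symm a b rfl]
      simp [a]
    exact congrArg Subtype.val e
  φ_self T i x v := by simp
  φ_comp T i j k x₀ x₁ x₂ h₀₁ h₁₂ v := by
    simp only [Equiv.trans_apply]
    rw [Equiv.eq_symm_apply]
    set w₁ := (equivFam L (Over.mk (x₀ ≫ f i)) x₁ h₀₁.symm).symm (equivFam L (Over.mk (x₀ ≫ f i)) x₀ rfl v) with hw₁
    set w₂ := (equivFam L (Over.mk (x₁ ≫ f j)) x₂ h₁₂.symm).symm (equivFam L (Over.mk (x₁ ≫ f j)) x₁ rfl w₁) with hw₂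
    let κ : Over.mk (x₀ ≫ f i) ⟶ Over.mk (x₁ ≫ f j) :=
      Over.homMk (𝟙 T) (show 𝟙 T ≫ x₁ ≫ f j = x₀ ≫ f i by rw [Category.id_comp, h₀₁])
    apply Subtype.ext
    rw [equivFam_natural L κ x₂ h₁₂.symm x₂ (h₀₁.trans h₁₂).symm w₂ w₂ (Category.id_comp _).symm, hw₂,
      Equiv.apply_symm_apply, ← equivFam_natural L κ x₁ rfl x₁ h₀₁.symm w₁ w₁ (Category.id_comp _).symm, hw₁,
      Equiv.apply_symm_apply]

theorem datum_φ {T : Over S} {i j : Idx} (x₀ : T.left ⟶ X i) (x₁ : T.left ⟶ X j) (h₀ : x₀ ≫ f i = T.hom)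
    (h₁ : x₁ ≫ f j = T.hom) (v : Lifts (L i).A x₀) :
    equivFam L T x₁ h₁ ((datum L).φ x₀ x₁ (h₀.trans h₁.symm) v) = equivFam L T x₀ h₀ v := by
  let κ : T ⟶ Over.mk (x₀ ≫ f i) :=
    Over.homMk (𝟙 T.left) (show 𝟙 T.left ≫ x₀ ≫ f i = T.hom by rw [Category.id_comp, h₀])
  apply Subtype.ext
  rw [equivFam_natural L κ x₁ (h₀.trans h₁.symm).symm x₁ h₁ _ _ (Category.id_comp _).symm,
    equivFam_natural L κ x₀ rfl x₀ h₀ v v (Category.id_comp _).symm]
  show (H ◁ κ) ≫ (equivFam L (Over.mk (x₀ ≫ f i)) x₁ (h₀.trans h₁.symm).symm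
    ((equivFam L (Over.mk (x₀ ≫ f i)) x₁ (h₀.trans h₁.symm).symm).symm
      (equivFam L (Over.mk (x₀ ≫ f i)) x₀ rfl v))).1 = _
  rw [Equiv.apply_symm_apply]

variable (hf : Presieve.ofArrows X f ∈ Scheme.fpqcPrecoverage S)

/-- Test schemes lying over some member. -/
def sieve (T : Over S) : Sieve T where
  arrows K _ := ∃ (i : Idx) (x : K.left ⟶ X i), x ≫ f i = K.hom
  downward_closed := by
    rintro K K' g ⟨i, x, hx⟩ k
    exact ⟨i, k.left ≫ x, by rw [Category.assoc, hx, Over.w]⟩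

include hf in
theorem sieve_mem (T : Over S) : sieve (f := f) T ∈ Scheme.fpqcTopology.over S T := by
  rw [GrothendieckTopology.mem_over_iff]
  let P : Idx → Scheme.{u} := fun i => pullback T.hom (f i)
  have h : Presieve.ofArrows P (fun i => pullback.fst T.hom (f i)) ∈ Scheme.fpqcPrecoverage T.left :=
    Precoverage.mem_coverings_of_isPullback f hf T.hom _ (fun i => pullback.snd T.hom (f i))
      fun i => IsPullback.of_hasPullback _ _
  refine GrothendieckTopology.superset_covering _ ?_ (Precoverage.generate_mem_toGrothendieck h)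
  rw [Sieve.generate_le_iff]
  intro Y g hg
  obtain ⟨i⟩ := hg
  rw [Sieve.overEquiv_iff]
  exact ⟨i, pullback.snd T.hom (f i), pullback.condition.symm⟩

include L hf in
theorem exists_representsHom (hA : ∀ i, IsAffineHom (L i).A.hom) :
    ∃ (E : Over S) (υ : H ⊗ E ⟶ G), AutFam.RepresentsHom H G E υ := by
  obtain ⟨E, ⟨e⟩⟩ := Desc19b.isEffective_of_isAffineHom hf (datum L) hA
  let lh : ∀ i, pullback (f i) E.hom ⟶ (L i).A.left := fun i => (e.hom.hom i).left
  let li : ∀ i, (L i).A.left ⟶ pullback (f i) E.hom := fun i => (e.inv.hom i).left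
  have hlh : ∀ i, lh i ≫ (L i).A.hom = pullback.fst (f i) E.hom := fun i => Over.w (e.hom.hom i)
  have hli : ∀ i, li i ≫ pullback.fst (f i) E.hom = (L i).A.hom := fun i => Over.w (e.inv.hom i)
  have hl : ∀ i, lh i ≫ li i = 𝟙 _ := fun i => by
    show (e.hom.hom i).left ≫ (e.inv.hom i).left = _
    rw [← Over.comp_left, ← SchDDFam.comp_hom, e.hom_inv_id]; rfl
  have hr : ∀ i, li i ≫ lh i = 𝟙 _ := fun i => by
    show (e.inv.hom i).left ≫ (e.hom.hom i).left = _
    rw [← Over.comp_left, ← SchDDFam.comp_hom, e.inv_hom_id]; rfl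
  let can : ∀ {K : Over S} {i : Idx} (x : K.left ⟶ X i), x ≫ f i = K.hom → (K ⟶ E) → Lifts (L i).A x :=
    fun {K i} x hx a => ⟨pullback.lift x a.left (hx.trans (Over.w a).symm) ≫ lh i, by
      rw [Category.assoc, hlh, pullback.lift_fst]⟩
  have can_bij : ∀ {K : Over S} {i : Idx} (x : K.left ⟶ X i) (hx : x ≫ f i = K.hom),
      Function.Bijective (can x hx) := by
    intro K i x hx
    constructor
    · intro a a' h
      have h1 := congrArg (fun v : Lifts (L i).A x => v.1 ≫ li i ≫ pullback.snd (f i) E.hom) h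
      simp only [can, Category.assoc, reassoc_of% hl, pullback.lift_snd] at h1
      exact Over.OverMorphism.ext h1
    · intro v
      have hw : (v.1 ≫ li i) ≫ pullback.fst (f i) E.hom = x := by rw [Category.assoc, hli, v.2]
      refine ⟨Over.homMk ((v.1 ≫ li i) ≫ pullback.snd (f i) E.hom) (by
        rw [Category.assoc, ← pullback.condition, ← Category.assoc, hw, hx]), Subtype.ext ?_⟩
      show pullback.lift x ((v.1 ≫ li i) ≫ pullback.snd (f i) E.hom) _ ≫ lh i = v.1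
      rw [show pullback.lift x ((v.1 ≫ li i) ≫ pullback.snd (f i) E.hom) _ = v.1 ≫ li i from
        pullback.hom_ext (by rw [pullback.lift_fst, hw]) (pullback.lift_snd _ _ _), Category.assoc, hr, Category.comp_id]
  let ψ : ∀ {K : Over S} {i : Idx} (x : K.left ⟶ X i), x ≫ f i = K.hom → (K ⟶ E) →
      {φ : H ⊗ K ⟶ G // AutFam.IsHomFamily H G φ} := fun {K i} x hx a => equivFam L K x hx (can x hx a)
  have ψ_indep : ∀ {K : Over S} {i j : Idx} (x : K.left ⟶ X i) (hx : x ≫ f i = K.hom) (y : K.left ⟶ X j)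
      (hy : y ≫ f j = K.hom) (a : K ⟶ E), ψ x hx a = ψ y hy a := by
    intro K i j x hx y hy a
    let v : Lifts (Over.mk (pullback.fst (f i) E.hom)) x :=
      ⟨pullback.lift x a.left (hx.trans (Over.w a).symm), pullback.lift_fst _ _ _⟩
    have hcomm := e.hom.comm x y (hx.trans hy.symm) v (can x hx a) rfl
    have hlift : (canMapFam f E x y (hx.trans hy.symm) v).1 = pullback.lift y a.left (hy.trans (Over.w a).symm) := by
      rw [canMapFam_val]
      apply pullback.hom_ext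
      · exact (pullback.lift_fst _ _ _).trans (pullback.lift_fst _ _ _).symm
      · exact ((pullback.lift_snd _ _ _).trans (pullback.lift_snd _ _ _)).trans (pullback.lift_snd _ _ _).symm
    have hc : (datum L).φ x y (hx.trans hy.symm) (can x hx a) = can y hy a := by
      refine Subtype.ext (hcomm.trans ?_)
      exact congrArg (fun m => m ≫ lh j) hlift
    show equivFam L K x hx (can x hx a) = equivFam L K y hy (can y hy a)
    rw [← hc, datum_φ L x y hx hy]
  have ψ_nat : ∀ {K K' : Over S} {i : Idx} (k : K' ⟶ K) (x : K.left ⟶ X i) (hx : x ≫ f i = K.hom) (a : K ⟶ E),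
      (ψ (k.left ≫ x) (by rw [Category.assoc, hx, Over.w]) (k ≫ a)).1 = (H ◁ k) ≫ (ψ x hx a).1 := by
    intro K K' i k x hx a
    refine equivFam_natural L k x hx _ _ _ _ ?_
    show pullback.lift _ _ _ ≫ lh i = k.left ≫ pullback.lift _ _ _ ≫ lh i
    refine (congrArg (· ≫ lh i) ?_).trans (Category.assoc _ _ _)
    apply pullback.hom_ext
    · exact (pullback.lift_fst _ _ _).trans ((congrArg (k.left ≫ ·) (pullback.lift_fst _ _ _)).symm.trans (Category.assoc _ _ _).symm)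
    · exact (pullback.lift_snd _ _ _).trans (((congrArg (k.left ≫ ·) (pullback.lift_snd _ _ _)).symm.trans (Category.assoc _ _ _).symm))
  -- the universal family
  have hfam := (isSheaf_iff_isSheaf_of_type _ _).1 (HomSheaf.isSheaf_famPsh_fpqc H G)
  let xE : Presieve.FamilyOfElements (HomSheaf.famPsh H G) (sieve (f := f) E).arrows := fun K a hK =>
    ψ hK.choose_spec.choose hK.choose_spec.choose_spec a
  have hxE : xE.Compatible := by
    intro K₁ K₂ K g₁ g₂ a₁ a₂ h₁ h₂ hg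
    apply Subtype.ext
    show (H ◁ g₁) ≫ (ψ _ _ a₁).1 = (H ◁ g₂) ≫ (ψ _ _ a₂).1
    rw [← ψ_nat, ← ψ_nat]
    simp only [hg]
    exact congrArg Subtype.val (ψ_indep _ _ _ _ _)
  obtain ⟨υ₀, hυ, -⟩ := hfam _ (sieve_mem hf E) xE hxE
  let υ : {φ : H ⊗ E ⟶ G // AutFam.IsHomFamily H G φ} := υ₀
  have loc : ∀ {K : Over S} {i : Idx} (x : K.left ⟶ X i) (hx : x ≫ f i = K.hom) (a : K ⟶ E),
      (H ◁ a) ≫ υ.1 = (ψ x hx a).1 := by
    intro K i x hx a
    have hK : (sieve (f := f) E).arrows a := ⟨i, x, hx⟩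
    exact (congrArg Subtype.val (hυ a hK)).trans (congrArg Subtype.val (ψ_indep _ _ _ _ _))
  have bij : ∀ {K : Over S} {i : Idx} (x : K.left ⟶ X i) (_ : x ≫ f i = K.hom) (φ : H ⊗ K ⟶ G),
      AutFam.IsHomFamily H G φ → ∃! a : K ⟶ E, (H ◁ a) ≫ υ.1 = φ := by
    intro K i x hx φ hφ
    obtain ⟨a, ha⟩ := ((equivFam L K x hx).bijective.comp (can_bij x hx)).surjective ⟨φ, hφ⟩
    refine ⟨a, (loc x hx a).trans (congrArg Subtype.val ha), fun b hb => ?_⟩
    apply ((equivFam L K x hx).bijective.comp (can_bij x hx)).injective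
    rw [ha]
    exact Subtype.ext ((loc x hx b).symm.trans hb)
  refine ⟨E, υ.1, υ.2, fun T φ hφ => ?_⟩
  have hE : Presieve.IsSheaf (Scheme.fpqcTopology.over S) (yoneda.obj E) :=
    GrothendieckTopology.Subcanonical.isSheaf_of_isRepresentable _
  have hb : ∀ {K : Over S} (g : K ⟶ T), (sieve (f := f) T).arrows g →
      ∃! a : K ⟶ E, (H ◁ a) ≫ υ.1 = (H ◁ g) ≫ φ := fun {K} g hg =>
    bij hg.choose_spec.choose hg.choose_spec.choose_spec _ (HomSheaf.isHomFamily_whisker H G g hφ)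
  let xT : Presieve.FamilyOfElements (yoneda.obj E) (sieve (f := f) T).arrows := fun K g hg => (hb g hg).choose
  have hxTs : ∀ {K : Over S} (g : K ⟶ T) (hg : (sieve (f := f) T).arrows g),
      (H ◁ xT g hg) ≫ υ.1 = (H ◁ g) ≫ φ := fun g hg => (hb g hg).choose_spec.1
  have hxT : xT.Compatible := by
    intro K₁ K₂ K g₁ g₂ a₁ a₂ h₁ h₂ hg
    show g₁ ≫ xT a₁ h₁ = g₂ ≫ xT a₂ h₂
    have hK : (sieve (f := f) T).arrows (g₁ ≫ a₁) := (sieve (f := f) T).downward_closed h₁ g₁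
    refine (hb _ hK).unique ?_ ?_
    · rw [MonoidalCategory.whiskerLeft_comp_assoc, hxTs a₁ h₁, MonoidalCategory.whiskerLeft_comp_assoc]
    · rw [MonoidalCategory.whiskerLeft_comp_assoc, hxTs a₂ h₂, hg, MonoidalCategory.whiskerLeft_comp_assoc]
  obtain ⟨a, ha, hau⟩ := hE _ (sieve_mem hf T) xT hxT
  refine ⟨a, ?_, fun b hb' => hau b fun K g hg => ?_⟩
  · refine congrArg Subtype.val ((hfam _ (sieve_mem hf T)).isSeparatedFor.ext
      (t₁ := ⟨(H ◁ a) ≫ υ.1, HomSheaf.isHomFamily_whisker H G a υ.2⟩) (t₂ := ⟨φ, hφ⟩) fun K g hg => Subtype.ext ?_)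
    show (H ◁ g) ≫ (H ◁ a) ≫ υ.1 = (H ◁ g) ≫ φ
    rw [← MonoidalCategory.whiskerLeft_comp_assoc, show g ≫ a = xT g hg from ha g hg, hxTs g hg]
  · show g ≫ b = xT g hg
    refine (hb g hg).unique ?_ (hxTs g hg)
    rw [MonoidalCategory.whiskerLeft_comp_assoc]
    exact congrArg _ hb'

end Family

/-- Zariski pieces of an fpqc covering form an fpqc covering family. -/
theorem ofArrows_mem {S' : Scheme.{u}} (p : S' ⟶ S) [Flat p] [Surjective p]
    (hp : ∀ V : S.Opens, IsAffineOpen V → ∃ W : S'.Opens, IsCompact (W : Set S') ∧ p.base '' (W : Set S') = (V : Set S))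
    {Idx : Type u} (U : Idx → S'.Opens) (hU : ∀ x, ∃ i, x ∈ U i) :
    Presieve.ofArrows (fun i => (U i : Scheme.{u})) (fun i => (U i).ι ≫ p) ∈ Scheme.fpqcPrecoverage S := by
  refine ⟨?_, ?_⟩
  · show (PreZeroHypercover.mk Idx (fun i => (U i : Scheme.{u})) fun i => (U i).ι ≫ p).presieve₀ ∈ _
    rw [Scheme.presieve₀_mem_qcPrecoverage_iff]
    refine ⟨fun {V} hV => ?_⟩
    obtain ⟨W, hW, hWV⟩ := hp V hV
    choose i hi using hU
    have hA : ∀ x : (W : Set S'), ∃ A : S'.Opens, IsAffineOpen A ∧ x.1 ∈ A ∧ A ≤ W ⊓ U (i x.1) := fun x =>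
      exists_isAffineOpen_mem_and_subset (U := W ⊓ U (i x.1)) ⟨x.2, hi _⟩
    choose A hA hxA hAW using hA
    obtain ⟨t, ht⟩ := hW.elim_finite_subcover (fun x => (A x : Set S')) (fun x => (A x).isOpen)
      fun x hx => Set.mem_iUnion.2 ⟨⟨x, hx⟩, hxA _⟩
    refine IsCompactOpenCovered.of_finite (κ := t) (fun x => i x.1.1) (fun x => (U (i x.1.1)).ι ⁻¹ᵁ A x.1)
      (fun x => ?_) ?_
    · exact ((U (i x.1.1)).ι.isOpenEmbedding.isEmbedding.isCompact_preimage_iff (by
        rw [Scheme.Opens.range_ι]; exact fun z hz => (hAW x.1 hz).2)).2 (hA x.1).isCompact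
    · ext s
      simp only [Set.mem_iUnion, Set.mem_image]
      constructor
      · rintro ⟨x, z, hz, rfl⟩
        rw [← hWV]
        exact ⟨z.1, (hAW x.1 hz).1, rfl⟩
      · intro hs
        rw [← hWV] at hs
        obtain ⟨y, hy, rfl⟩ := hs
        obtain ⟨x, hxt, hyA⟩ := Set.mem_iUnion₂.1 (ht hy)
        exact ⟨⟨x, hxt⟩, ⟨y, (hAW x hyA).2⟩, hyA, rfl⟩
  · show (PreZeroHypercover.mk Idx (fun i => (U i : Scheme.{u})) fun i => (U i).ι ≫ p).presieve₀ ∈ _
    rw [Scheme.presieve₀_mem_precoverage_iff]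
    refine ⟨fun s => ?_, fun i => inferInstanceAs (Flat ((U i).ι ≫ p))⟩
    obtain ⟨y, rfl⟩ := p.surjective s
    obtain ⟨i, hi⟩ := hU y
    exact ⟨i, ⟨y, hi⟩, rfl⟩

end Groth.Agent.SGA3cLib.HomFpqc
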