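import Mathlib

/-! # The algebra of morphisms out of a finite projective algebra -/

set_option autoImplicit false
universe u

open scoped TensorProduct

namespace Groth.Agent.SGA3cLib.HomSchemeAlg

variable {R : Type u} [CommRing R] {B : Type u} [CommRing B] [Algebra R B]

/-- a coordinate system of a direct summand of a finite free module -/
structure Coords (R B : Type u) [CommRing R] [CommRing B] [Algebra R B] where
  n : ℕ
  e : Fin n → B
  s : Fin n → B →ₗ[R] R
  eq : ∀ b, ∑ i, s i b • e i = b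

theorem exists_coords [Module.Finite R B] [Module.Projective R B] : Nonempty (Coords R B) := by
  obtain ⟨n, π, σ, -, -, h⟩ := Module.Finite.exists_comp_eq_id_of_projective R B
  classical
  refine ⟨⟨n, fun i => π (Pi.single i 1), fun i => LinearMap.proj i ∘ₗ σ, fun b => ?_⟩⟩
  have := DFunLike.congr_fun h b
  simp only [LinearMap.comp_apply, LinearMap.id_apply] at this
  conv_rhs => rw [← this, pi_eq_sum_univ' (σ b), map_sum]
  simp

/-- the coordinates in `B ⊗ T` -/
noncomputable def coord (c : Coords R B) (T : Type u) [CommRing T] [Algebra R T] (i : Fin c.n) : B ⊗[R] T →ₗ[R] T :=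
  (TensorProduct.lid R T).toLinearMap ∘ₗ LinearMap.rTensor T (c.s i)

@[simp] theorem coord_tmul (c : Coords R B) (T : Type u) [CommRing T] [Algebra R T] (i : Fin c.n) (b : B) (t : T) :
    coord c T i (b ⊗ₜ t) = c.s i b • t := by simp [coord]

theorem coord_sum (c : Coords R B) {T : Type u} [CommRing T] [Algebra R T] (x : B ⊗[R] T) :
    ∑ i, c.e i ⊗ₜ coord c T i x = x := by
  induction x with
  | zero => simp
  | tmul b t =>
    simp only [coord_tmul, TensorProduct.tmul_smul, TensorProduct.smul_tmul']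
    rw [← TensorProduct.sum_tmul, c.eq]
  | add x y hx hy => simp [TensorProduct.tmul_add, Finset.sum_add_distrib, hx, hy]

theorem coord_map (c : Coords R B) {T T' : Type u} [CommRing T] [Algebra R T] [CommRing T'] [Algebra R T']
    (q : T →ₐ[R] T') (i : Fin c.n) (x : B ⊗[R] T) :
    coord c T' i (Algebra.TensorProduct.map (AlgHom.id R B) q x) = q (coord c T i x) := by
  induction x with
  | zero => simp
  | tmul b t => simp
  | add x y hx hy => simp [hx, hy]

theorem exists_univ_poly (c : Coords R B) (σ : Type u) (G : Set (MvPolynomial σ R)) :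
    ∃ (Q : Type u) (_ : CommRing Q) (_ : Algebra R Q) (w : MvPolynomial σ R →ₐ[R] B ⊗[R] Q),
      (∀ g ∈ G, w g = 0) ∧
      (∀ (T : Type u) [CommRing T] [Algebra R T] (φ : MvPolynomial σ R →ₐ[R] B ⊗[R] T),
        (∀ g ∈ G, φ g = 0) → ∃! q : Q →ₐ[R] T, (Algebra.TensorProduct.map (AlgHom.id R B) q).comp w = φ) ∧
      (Finite σ → Algebra.FiniteType R Q) ∧
      (Finite σ → G.Finite → Algebra.FinitePresentation R Q) := by
  let w₀ : MvPolynomial σ R →ₐ[R] B ⊗[R] (MvPolynomial (σ × Fin c.n) R) :=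
    MvPolynomial.aeval fun l => ∑ i, c.e i ⊗ₜ MvPolynomial.X (l, i)
  let rel₁ : σ × Fin c.n → (MvPolynomial (σ × Fin c.n) R) := fun p =>
    MvPolynomial.X p - coord c (MvPolynomial (σ × Fin c.n) R) p.2 (w₀ (MvPolynomial.X p.1))
  let rel₂ : G × Fin c.n → (MvPolynomial (σ × Fin c.n) R) := fun p => coord c (MvPolynomial (σ × Fin c.n) R) p.2 (w₀ p.1)
  let K : Ideal (MvPolynomial (σ × Fin c.n) R) := Ideal.span (Set.range rel₁ ∪ Set.range rel₂)
  let mk : (MvPolynomial (σ × Fin c.n) R) →ₐ[R] (MvPolynomial (σ × Fin c.n) R) ⧸ K := Ideal.Quotient.mkₐ R K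
  refine ⟨(MvPolynomial (σ × Fin c.n) R) ⧸ K, inferInstance, inferInstance, (Algebra.TensorProduct.map (AlgHom.id R B) mk).comp w₀, ?_, ?_, ?_, ?_⟩
  · intro g hg
    refine (coord_sum c _).symm.trans (Finset.sum_eq_zero fun i _ => ?_)
    rw [AlgHom.comp_apply, coord_map, show mk (coord c (MvPolynomial (σ × Fin c.n) R) i (w₀ g)) = 0 from Ideal.Quotient.eq_zero_iff_mem.2
      (Ideal.subset_span (Or.inr ⟨(⟨g, hg⟩, i), rfl⟩)), TensorProduct.tmul_zero]
  · intro T _ _ φ hφ
    let t : (MvPolynomial (σ × Fin c.n) R) →ₐ[R] T := MvPolynomial.aeval fun p => coord c T p.2 (φ (MvPolynomial.X p.1))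
    have ht : (Algebra.TensorProduct.map (AlgHom.id R B) t).comp w₀ = φ := by
      apply MvPolynomial.algHom_ext
      intro l
      simp [w₀, t, coord_sum]
    have hK : K ≤ RingHom.ker t.toRingHom := by
      refine Ideal.span_le.2 ?_
      rintro _ (⟨p, rfl⟩ | ⟨⟨g, i⟩, rfl⟩)
      · show t (rel₁ p) = 0
        simp only [rel₁, map_sub, ← coord_map, ← AlgHom.comp_apply (Algebra.TensorProduct.map _ _) w₀, ht]
        simp [t]
      · show t (coord c (MvPolynomial (σ × Fin c.n) R) i (w₀ g.1)) = 0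
        rw [← coord_map, ← AlgHom.comp_apply (Algebra.TensorProduct.map _ _) w₀, ht, hφ g.1 g.2, map_zero]
    let q : (MvPolynomial (σ × Fin c.n) R) ⧸ K →ₐ[R] T := Ideal.Quotient.liftₐ K t fun a ha => hK ha
    have hqt : q.comp mk = t := AlgHom.ext fun a => rfl
    have hcomp : ∀ q' : (MvPolynomial (σ × Fin c.n) R) ⧸ K →ₐ[R] T,
        (Algebra.TensorProduct.map (AlgHom.id R B) q').comp ((Algebra.TensorProduct.map (AlgHom.id R B) mk).comp w₀) =
          (Algebra.TensorProduct.map (AlgHom.id R B) (q'.comp mk)).comp w₀ := fun q' => by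
      rw [← AlgHom.comp_assoc, ← Algebra.TensorProduct.map_comp, AlgHom.id_comp]
    refine ⟨q, by simp only [hcomp, hqt, ht], fun q' hq' => ?_⟩
    simp only [hcomp] at hq'
    apply Ideal.Quotient.algHom_ext
    show q'.comp mk = q.comp mk
    rw [hqt]
    apply MvPolynomial.algHom_ext
    rintro ⟨l, i⟩
    have h1 : mk (MvPolynomial.X (l, i)) = mk (coord c (MvPolynomial (σ × Fin c.n) R) i (w₀ (MvPolynomial.X l))) :=
      Ideal.Quotient.eq.2 (Ideal.subset_span (Or.inl ⟨(l, i), rfl⟩))
    show q' (mk _) = t _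
    rw [h1, ← AlgHom.comp_apply q' mk, ← coord_map, ← AlgHom.comp_apply (Algebra.TensorProduct.map _ _) w₀, hq']
    simp [t]
  · intro h
    exact Algebra.FiniteType.of_surjective mk Ideal.Quotient.mk_surjective
  · intro h hG
    have : Finite ↥G := hG
    refine Algebra.FinitePresentation.of_surjective (f := mk) Ideal.Quotient.mk_surjective ?_
    have : RingHom.ker (mk : (MvPolynomial (σ × Fin c.n) R) →+* (MvPolynomial (σ × Fin c.n) R) ⧸ K) = K := Ideal.mk_ker
    refine this.symm ▸ Submodule.fg_span (Set.Finite.union (Set.finite_range _) (Set.finite_range _))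

/-- The universal algebra for maps `A → B ⊗ -`. -/
theorem exists_univ [Module.Finite R B] [Module.Projective R B] (A : Type u) [CommRing A] [Algebra R A] :
    ∃ (Q : Type u) (_ : CommRing Q) (_ : Algebra R Q) (w : A →ₐ[R] B ⊗[R] Q),
      (∀ (T : Type u) [CommRing T] [Algebra R T] (φ : A →ₐ[R] B ⊗[R] T),
        ∃! q : Q →ₐ[R] T, (Algebra.TensorProduct.map (AlgHom.id R B) q).comp w = φ) ∧
      (Algebra.FiniteType R A → Algebra.FiniteType R Q) ∧
      (Algebra.FinitePresentation R A → Algebra.FinitePresentation R Q) := by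
  classical
  obtain ⟨c⟩ := exists_coords (R := R) (B := B)
  -- choose a presentation as small as possible
  obtain ⟨σ, π, hπ, G, hG, hft, hfp⟩ :
      ∃ (σ : Type u) (π : MvPolynomial σ R →ₐ[R] A) (_ : Function.Surjective π) (G : Set (MvPolynomial σ R))
        (_ : Ideal.span G = RingHom.ker π.toRingHom), (Algebra.FiniteType R A → Finite σ) ∧
        (Algebra.FinitePresentation R A → Finite σ ∧ G.Finite) := by
    by_cases hfp : Algebra.FinitePresentation R A
    · obtain ⟨n, f, hf, hk⟩ := hfp.out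
      obtain ⟨G, hG⟩ := hk
      let e : MvPolynomial (ULift.{u} (Fin n)) R ≃ₐ[R] MvPolynomial (Fin n) R :=
        MvPolynomial.renameEquiv R Equiv.ulift
      refine ⟨ULift.{u} (Fin n), f.comp e.toAlgHom, hf.comp e.surjective, e.symm '' ↑G, ?_,
        fun _ => inferInstance, fun _ => ⟨inferInstance, G.finite_toSet.image _⟩⟩
      show Ideal.span (e.symm.toRingEquiv.toRingHom '' ↑G) = _
      rw [← Ideal.map_span]
      ext x
      rw [Ideal.mem_map_iff_of_surjective e.symm.toRingEquiv.toRingHom e.symm.surjective]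
      constructor
      · rintro ⟨y, hy, rfl⟩
        show f (e (e.symm y)) = 0
        rw [e.apply_symm_apply]
        rw [hG] at hy
        exact hy
      · intro hx
        exact ⟨e x, by rw [hG]; exact hx, e.symm_apply_apply x⟩
    by_cases hft : Algebra.FiniteType R A
    · obtain ⟨n, f, hf⟩ := Algebra.FiniteType.iff_quotient_mvPolynomial''.1 hft
      let e : MvPolynomial (ULift.{u} (Fin n)) R ≃ₐ[R] MvPolynomial (Fin n) R :=
        MvPolynomial.renameEquiv R Equiv.ulift
      exact ⟨ULift.{u} (Fin n), f.comp e.toAlgHom, hf.comp e.surjective, _, Ideal.span_eq _,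
        fun _ => inferInstance, fun h => absurd h hfp⟩
    · exact ⟨A, MvPolynomial.aeval id, fun a => ⟨MvPolynomial.X a, by simp⟩, _, Ideal.span_eq _,
        fun h => absurd h hft, fun h => absurd h hfp⟩
  obtain ⟨Q, _, _, w, hw0, huniv, hQft, hQfp⟩ := exists_univ_poly c σ G
  have hle : ∀ (T : Type u) [CommRing T] [Algebra R T] (φ : MvPolynomial σ R →ₐ[R] B ⊗[R] T),
      (∀ g ∈ G, φ g = 0) → RingHom.ker π.toRingHom ≤ RingHom.ker φ.toRingHom := by
    intro T _ _ φ hφ
    rw [← hG, Ideal.span_le]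
    exact hφ
  let e := Ideal.quotientKerAlgEquivOfSurjective hπ
  let w' : A →ₐ[R] B ⊗[R] Q := (Ideal.Quotient.liftₐ (RingHom.ker π) w fun a ha => hle Q w hw0 ha).comp e.symm.toAlgHom
  have hw' : w'.comp π = w := by
    ext1 l
    show Ideal.Quotient.liftₐ (RingHom.ker π) w (fun a ha => hle Q w hw0 ha) (e.symm (π (MvPolynomial.X l))) = _
    rw [← Ideal.quotientKerAlgEquivOfSurjective_mk hπ, AlgEquiv.symm_apply_apply]
    rfl
  refine ⟨Q, inferInstance, inferInstance, w', fun T _ _ φ => ?_, fun h => hQft (hft h),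
    fun h => hQfp (hfp h).1 (hfp h).2⟩
  obtain ⟨q, hq, hu⟩ := huniv T (φ.comp π) fun g hg => by
    have : π g = 0 := by
      have : g ∈ RingHom.ker π.toRingHom := hG ▸ Ideal.subset_span hg
      exact this
    rw [AlgHom.comp_apply, this, map_zero]
  refine ⟨q, ?_, fun q' hq' => hu q' ?_⟩
  · apply AlgHom.ext
    intro a
    obtain ⟨p, rfl⟩ := hπ a
    rw [AlgHom.comp_apply, ← AlgHom.comp_apply w' π, hw']
    exact DFunLike.congr_fun hq p
  · show (Algebra.TensorProduct.map (AlgHom.id R B) q').comp w = φ.comp π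
    rw [← hw', ← AlgHom.comp_assoc, hq']

end Groth.Agent.SGA3cLib.HomSchemeAlg
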