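import Groth.Agent.SGA3cLib.HomScheme
import Groth.Agent.SGA3cLib.BCPoints
import Groth.Prelude.Def_AutFam
import Groth.Prelude.Def_AlgSp

/-! # The sheaf of families of homomorphisms -/

set_option linter.style.haveILetI false
set_option autoImplicit false
set_option backward.isDefEq.respectTransparency.types false
universe u

open CategoryTheory CategoryTheory.Limits MonoidalCategory CartesianMonoidalCategory MonObj AlgebraicGeometry
open Opposite

noncomputable section

namespace Groth.Agent.SGA3cLib.HomSheaf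

variable {S : Scheme.{u}} (H G : Over S) [GrpObj H] [GrpObj G]

theorem isHomFamily_whisker {T T' : Over S} (t : T' ⟶ T) {φ : H ⊗ T ⟶ G}
    (hφ : AutFam.IsHomFamily H G φ) : AutFam.IsHomFamily H G ((H ◁ t) ≫ φ) := by
  intro X g₁ g₂ s
  simpa only [lift_whiskerLeft_assoc] using hφ X g₁ g₂ (s ≫ t)

/-- `T ↦ Hom_{T-gr}(H_T, G_T)` -/
def famPsh : (Over S)ᵒᵖ ⥤ Type u where
  obj T := {φ : H ⊗ unop T ⟶ G // AutFam.IsHomFamily H G φ}
  map t := TypeCat.ofHom fun φ => ⟨(H ◁ t.unop) ≫ φ.1, isHomFamily_whisker H G t.unop φ.2⟩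
  map_id T := ConcreteCategory.hom_ext _ _ fun φ => Subtype.ext (by
    show (H ◁ 𝟙 (unop T)) ≫ φ.1 = φ.1
    simp)
  map_comp t t' := ConcreteCategory.hom_ext _ _ fun φ => Subtype.ext (by
    show (H ◁ (t'.unop ≫ t.unop)) ≫ φ.1 = (H ◁ t'.unop) ≫ (H ◁ t.unop) ≫ φ.1
    simp)

/-- `tensorLeft` is pullback followed by composition. -/
def tensorLeftIso (X : Over S) : Over.pullback X.hom ⋙ Over.map X.hom ≅ tensorLeft X :=
  NatIso.ofComponents (fun T => Over.isoMk (pullbackSymmetry T.hom X.hom) (by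
    show (pullbackSymmetry T.hom X.hom).hom ≫ pullback.fst X.hom T.hom ≫ X.hom = pullback.snd T.hom X.hom ≫ X.hom
    simp)) fun {T T'} t => Over.OverMorphism.ext (by
    apply pullback.hom_ext <;> simp <;> first | exact pullback.lift_fst _ _ _ | exact pullback.lift_snd _ _ _)

theorem isSheaf_homPsh_over (K : GrothendieckTopology Scheme.{u}) [K.Subcanonical] (X Y : Over S) :
    Presheaf.IsSheaf (K.over S) (HomScheme.homPsh X Y) := by
  let h : Presheaf.IsSheaf (K.over S) (yoneda.obj Y) :=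
    (isSheaf_iff_isSheaf_of_type _ _).2 (GrothendieckTopology.Subcanonical.isSheaf_of_isRepresentable _)
  have h1 : Presheaf.IsSheaf (K.over X.left) ((Over.map X.hom).op ⋙ yoneda.obj Y) :=
    Functor.op_comp_isSheaf (Over.map X.hom) (K.over X.left) (K.over S) ⟨_, h⟩
  have h2 : Presheaf.IsSheaf (K.over S) ((Over.pullback X.hom).op ⋙ (Over.map X.hom).op ⋙ yoneda.obj Y) :=
    Functor.op_comp_isSheaf (Over.pullback X.hom) (K.over S) (K.over X.left) ⟨_, h1⟩
  exact (Presheaf.isSheaf_of_iso_iff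
    (Functor.isoWhiskerRight (NatIso.op (tensorLeftIso X).symm) (yoneda.obj Y))).1 h2

theorem isSheaf_homPsh_fppf (X Y : Over S) : Presheaf.IsSheaf (AlgSp.J S) (HomScheme.homPsh X Y) :=
  isSheaf_homPsh_over Scheme.fppfTopology X Y

theorem isSheaf_famPsh (K : GrothendieckTopology (Over S)) (h₁ : Presheaf.IsSheaf K (HomScheme.homPsh H G))
    (h₂ : Presheaf.IsSheaf K (yoneda.obj G)) : Presheaf.IsSheaf K (famPsh H G) := by
  rw [isSheaf_iff_isSheaf_of_type] at h₁ h₂ ⊢
  intro T R hR x hx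
  let x' : Presieve.FamilyOfElements (HomScheme.homPsh H G) R.arrows := fun _ f hf => (x f hf).1
  have hx' : x'.Compatible := fun Y₁ Y₂ Z g₁ g₂ f₁ f₂ hf₁ hf₂ e => congrArg Subtype.val (hx g₁ g₂ hf₁ hf₂ e)
  obtain ⟨ψ, hψ, hu⟩ := h₁ R hR x' hx'
  have hψ' : ∀ ⦃Y : Over S⦄ (f : Y ⟶ T) (hf : R f), (H ◁ f) ≫ ψ = (x f hf).1 := hψ
  refine ⟨⟨ψ, fun X g₁ g₂ t => ?_⟩, fun Y f hf => Subtype.ext (hψ' f hf), fun χ hχ => Subtype.ext
    (hu χ.1 fun Y f hf => congrArg Subtype.val (hχ f hf))⟩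
  refine (h₂ _ (K.pullback_stable t hR)).isSeparatedFor.ext fun Y f hf => ?_
  show f ≫ _ = f ≫ _
  simp only [MonObj.comp_mul, comp_lift_assoc]
  have e : ∀ a : Y ⟶ H, lift a (f ≫ t) ≫ ψ = lift a (𝟙 Y) ≫ (x (f ≫ t) hf).1 := fun a => by
    rw [← hψ' (f ≫ t) hf, lift_whiskerLeft_assoc, Category.id_comp]
  rw [e, e, e]
  exact (x (f ≫ t) hf).2 Y _ _ _

theorem isSheaf_famPsh_zariski : Presheaf.IsSheaf (Scheme.zariskiTopology.over S) (famPsh H G) := by
  haveI : (Scheme.zariskiTopology.over S).Subcanonical := inferInstance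
  exact isSheaf_famPsh H G _ (HomScheme.isSheaf_homPsh H G)
    ((isSheaf_iff_isSheaf_of_type _ _).2 (GrothendieckTopology.Subcanonical.isSheaf_of_isRepresentable _))

theorem isSheaf_famPsh_fppf : Presheaf.IsSheaf (AlgSp.J S) (famPsh H G) := by
  haveI : (AlgSp.J S).Subcanonical := inferInstanceAs (Scheme.fppfTopology.over S).Subcanonical
  exact isSheaf_famPsh H G _ (isSheaf_homPsh_fppf H G)
    ((isSheaf_iff_isSheaf_of_type _ _).2 (GrothendieckTopology.Subcanonical.isSheaf_of_isRepresentable _))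

theorem isSheaf_famPsh_fpqc : Presheaf.IsSheaf (Scheme.fpqcTopology.over S) (famPsh H G) :=
  isSheaf_famPsh H G _ (isSheaf_homPsh_over _ H G)
    ((isSheaf_iff_isSheaf_of_type _ _).2 (GrothendieckTopology.Subcanonical.isSheaf_of_isRepresentable _))

/-- the fppf sheaf of families of homomorphisms -/
def famSp : AlgSp.Sp S :=
  ⟨famPsh H G ⋙ uliftFunctor.{u + 1, u},
    GrothendieckTopology.HasSheafCompose.isSheaf _ (isSheaf_famPsh_fppf H G)⟩

/-- points of the sheaf of families -/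
def famEquiv (T : Over S) : ((AlgSp.yon S).obj T ⟶ famSp H G) ≃ {φ : H ⊗ T ⟶ G // AutFam.IsHomFamily H G φ} :=
  (AlgSp.J S).uliftYonedaEquiv.trans Equiv.ulift

theorem famEquiv_comp {T T' : Over S} (t : T' ⟶ T) (a : (AlgSp.yon S).obj T ⟶ famSp H G) :
    (famEquiv H G T' ((AlgSp.yon S).map t ≫ a)).1 = (H ◁ t) ≫ (famEquiv H G T a).1 := by
  have := (AlgSp.J S).uliftYonedaEquiv_naturality a t
  exact (congrArg (fun q => (Equiv.ulift q).1) this).symm

section BC

variable {U : Scheme.{u}} (q : U ⟶ S)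

variable {H G}

/-- A representing scheme over `U` gives a universal family for test schemes over `U`. -/
theorem exists_univ_map {A : Over U} {υ : Red.bc q H ⊗ A ⟶ Red.bc q G}
    (h : AutFam.RepresentsHom (Red.bc q H) (Red.bc q G) A υ) :
    ∃ φA : H ⊗ (Over.map q).obj A ⟶ G, AutFam.IsHomFamily H G φA ∧
      (∀ (X' : Over U) (g : (Over.map q).obj X' ⟶ H) (t : X' ⟶ A),
        BCPoints.pt q G X' (lift g ((Over.map q).map t) ≫ φA) = lift (BCPoints.pt q H X' g) t ≫ υ) ∧
      ∀ (T : Over S) (t : T.left ⟶ U), t ≫ q = T.hom → ∀ φ : H ⊗ T ⟶ G, AutFam.IsHomFamily H G φ →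
        ∃! a : T ⟶ (Over.map q).obj A, a.left ≫ A.hom = t ∧ (H ◁ a) ≫ φA = φ := by
  let adj := Over.mapPullbackAdj q
  let F := Over.map q
  haveI : ∀ T, IsIso (HomScheme.proj q H T) := fun T => HomScheme.isIso_proj q H T
  let φA : H ⊗ F.obj A ⟶ G := inv (HomScheme.proj q H A) ≫ (adj.homEquiv _ G).symm υ
  have val : ∀ {X' T : Over U} (g : F.obj X' ⟶ H) (t : X' ⟶ T),
      F.map (lift (BCPoints.pt q H X' g) t) ≫ HomScheme.proj q H T = lift g (F.map t) := by
    intro X' T g t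
    apply CartesianMonoidalCategory.hom_ext
    · simp only [HomScheme.proj, Category.assoc, lift_fst]
      show F.map _ ≫ F.map (fst _ _) ≫ _ = _
      rw [← Functor.map_comp_assoc, lift_fst]
      exact (((adj.homEquiv_counit (g := BCPoints.pt q H X' g)).symm).trans ((adj.homEquiv X' H).symm_apply_apply g)).trans (lift_fst _ _).symm
    · simp only [HomScheme.proj, Category.assoc, lift_snd]
      show F.map _ ≫ F.map (snd _ _) = _
      rw [← Functor.map_comp, lift_snd]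
  let tof : ∀ T : Over U, (H ⊗ F.obj T ⟶ G) → (Red.bc q H ⊗ T ⟶ Red.bc q G) :=
    fun T φ => adj.homEquiv _ G (HomScheme.proj q H T ≫ φ)
  have htof : ∀ {X' T : Over U} (φ : H ⊗ F.obj T ⟶ G) (g : F.obj X' ⟶ H) (t : X' ⟶ T),
      lift (BCPoints.pt q H X' g) t ≫ tof T φ = BCPoints.pt q G X' (lift g (F.map t) ≫ φ) := by
    intro X' T φ g t
    rw [← val g t, Category.assoc]
    exact (adj.homEquiv_naturality_left _ _).symm
  have hom_iff : ∀ (T : Over U) (φ : H ⊗ F.obj T ⟶ G),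
      AutFam.IsHomFamily H G φ ↔ AutFam.IsHomFamily (Red.bc q H) (Red.bc q G) (tof T φ) := by
    intro T φ
    constructor
    · intro hφ X' g₁ g₂ t
      obtain ⟨a, rfl⟩ := (BCPoints.pt q H X').surjective g₁
      obtain ⟨b, rfl⟩ := (BCPoints.pt q H X').surjective g₂
      rw [← BCPoints.pt_mul, htof, htof, htof, hφ, BCPoints.pt_mul]
    · intro hψ X g₁ g₂ t
      let X' : Over U := Over.mk (t.left ≫ T.hom)
      let κ : F.obj X' ⟶ X := Over.homMk (𝟙 _) (by
        show 𝟙 _ ≫ X.hom = (t.left ≫ T.hom) ≫ q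
        rw [Category.id_comp, ← Over.w t, Category.assoc]
        rfl)
      haveI : IsIso κ := by
        haveI : IsIso ((Over.forget S).map κ) := inferInstanceAs (IsIso (𝟙 X.left))
        exact isIso_of_reflects_iso κ (Over.forget S)
      let t' : X' ⟶ T := Over.homMk t.left rfl
      have ht : κ ≫ t = F.map t' := Over.OverMorphism.ext (Category.id_comp _)
      rw [← cancel_epi κ]
      simp only [MonObj.comp_mul, ← Category.assoc, comp_lift, ht]
      apply (BCPoints.pt q G X').injective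
      rw [BCPoints.pt_mul, ← htof, ← htof, ← htof, BCPoints.pt_mul]
      exact hψ X' _ _ t'
  have hAA : tof A φA = υ := by simp [tof, φA]
  refine ⟨φA, (hom_iff A φA).2 (hAA ▸ h.1), fun X' g t => by rw [← htof, hAA], fun T t ht φ hφ => ?_⟩
  let T₀ : Over U := Over.mk t
  let e : F.obj T₀ ≅ T := Over.isoMk (Iso.refl _) (by simp [F, T₀, ht])
  have key : ∀ a₀ : T₀ ⟶ A, (H ◁ (e.inv ≫ F.map a₀)) ≫ φA = φ ↔
      ((Red.bc q H) ◁ a₀) ≫ υ = tof T₀ ((H ◁ e.hom) ≫ φ) := by
    intro a₀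
    rw [← cancel_epi (H ◁ e.hom), ← cancel_epi (HomScheme.proj q H T₀), ← MonoidalCategory.whiskerLeft_comp_assoc,
      Iso.hom_inv_id_assoc, ← Category.assoc (HomScheme.proj q H T₀) (H ◁ F.map a₀), HomScheme.proj_natural,
      Category.assoc]
    simp only [φA, IsIso.hom_inv_id_assoc, tof]
    rw [← Adjunction.homEquiv_naturality_left_symm, Equiv.symm_apply_eq]
  obtain ⟨a₀, ha₀, hu⟩ := h.2 T₀ _ ((hom_iff T₀ _).1 (isHomFamily_whisker H G e.hom hφ))
  refine ⟨e.inv ≫ F.map a₀, ⟨(Category.assoc _ _ _).trans ((Category.id_comp _).trans (Over.w a₀)), (key a₀).2 ha₀⟩,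
    fun a ⟨ha, haφ⟩ => ?_⟩
  let a' : T₀ ⟶ A := Over.homMk a.left ha
  have ha' : a = e.inv ≫ F.map a' := Over.OverMorphism.ext (Category.id_comp _).symm
  rw [ha', hu a' ((key a').1 (ha' ▸ haφ))]

omit [GrpObj H] [GrpObj G] in
/-- morphisms out of `H ⊗ ι_* A` are determined by their values on points over `U` -/
theorem ext_map {A : Over U} {φ ψ : H ⊗ (Over.map q).obj A ⟶ G}
    (h : ∀ (X' : Over U) (g : (Over.map q).obj X' ⟶ H) (t : X' ⟶ A),
      lift g ((Over.map q).map t) ≫ φ = lift g ((Over.map q).map t) ≫ ψ) : φ = ψ := by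
  haveI := HomScheme.isIso_proj q H A
  rw [← cancel_epi (HomScheme.proj q H A)]
  exact h _ _ _

end BC

end Groth.Agent.SGA3cLib.HomSheaf
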