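import Mathlib.RingTheory.TensorProduct.Maps
import Mathlib.RingTheory.Derivation.Basic
import Mathlib.Algebra.MvPolynomial.PDeriv
import Mathlib.RingTheory.Ideal.Operations
import Mathlib.RingTheory.Nilpotent.Basic
import Mathlib.LinearAlgebra.Dimension.Finrank
import Mathlib.LinearAlgebra.Projection
import Mathlib.LinearAlgebra.Dimension.Constructions
import Mathlib.LinearAlgebra.FiniteDimensional.Basic
import Mathlib.LinearAlgebra.Basis.VectorSpace

/-!
# Invariant derivations and monomial bases of connected finite (co)augmented algebras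

`F` is a finite algebra over a field with an augmentation `ε` with nilpotent kernel and an algebra map
`Δ : F → F ⊗ F` satisfying both counit laws (coassociativity is not needed).
-/

set_option autoImplicit false

universe u v

open TensorProduct MvPolynomial

namespace Groth.Agent.SGA3cLib

/-- A finite connected coaugmented algebra. -/
structure CounitalMul (k : Type u) (F : Type v) [Field k] [CommRing F] [Algebra k F] where
  ε : F →ₐ[k] k
  Δ : F →ₐ[k] F ⊗[k] F
  counit_left : ∀ x, TensorProduct.lid k F (ε.toLinearMap.rTensor F (Δ x)) = x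
  counit_right : ∀ x, TensorProduct.rid k F (ε.toLinearMap.lTensor F (Δ x)) = x
  nilpotent : IsNilpotent (RingHom.ker ε)

variable {k : Type u} {F : Type v} [Field k] [CommRing F] [Algebra k F] (c : CounitalMul k F)

namespace CounitalMul

/-- The invariant operator attached to a functional. -/
noncomputable def op (d : F →ₗ[k] k) : F →ₗ[k] F :=
  (TensorProduct.rid k F).toLinearMap ∘ₗ d.lTensor F ∘ₗ c.Δ.toLinearMap

theorem ε_op (d : F →ₗ[k] k) (x : F) : c.ε (c.op d x) = d x := by
  conv_rhs => rw [← c.counit_left x]
  change c.ε (TensorProduct.rid k F (d.lTensor F (c.Δ x))) = _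
  induction c.Δ x using TensorProduct.induction_on with
  | zero => simp
  | tmul a b => simp [mul_comm]
  | add p q hp hq => simp only [map_add, hp, hq]

theorem op_mul (d : F →ₗ[k] k) (hd : ∀ a b, d (a * b) = c.ε a * d b + c.ε b * d a) (x y : F) :
    c.op d (x * y) = x * c.op d y + y * c.op d x := by
  have key : ∀ s t : F ⊗[k] F, TensorProduct.rid k F (d.lTensor F (s * t)) =
      TensorProduct.rid k F (c.ε.toLinearMap.lTensor F s) * TensorProduct.rid k F (d.lTensor F t) +
      TensorProduct.rid k F (c.ε.toLinearMap.lTensor F t) * TensorProduct.rid k F (d.lTensor F s) := by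
    intro s t
    induction s using TensorProduct.induction_on with
    | zero => simp
    | add p q hp hq => simp only [add_mul, map_add, mul_add, hp, hq]; abel
    | tmul a b =>
      induction t using TensorProduct.induction_on with
      | zero => simp
      | add p q hp hq => simp only [mul_add, map_add, add_mul, hp, hq]; abel
      | tmul a' b' =>
        simp only [Algebra.TensorProduct.tmul_mul_tmul, LinearMap.lTensor_tmul, TensorProduct.rid_tmul,
          hd, AlgHom.toLinearMap_apply, smul_mul_smul_comm, add_smul]
        rw [mul_comm a' a]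
  change TensorProduct.rid k F (d.lTensor F (c.Δ (x * y))) = _
  rw [map_mul, key, c.counit_right, c.counit_right]
  rfl

/-- Coordinates modulo the square of the augmentation ideal. -/
theorem exists_coords [Module.Finite k F] : ∃ (r : ℕ) (x : Fin r → F) (d : Fin r → (F →ₗ[k] k)),
    (∀ i, x i ∈ RingHom.ker c.ε) ∧
    (∀ i a b, d i (a * b) = c.ε a * d i b + c.ε b * d i a) ∧
    (∀ i j, d i (x j) = if i = j then 1 else 0) ∧
    (∀ y ∈ RingHom.ker c.ε, y - ∑ i, d i y • x i ∈ (RingHom.ker c.ε) ^ 2) := by
  classical
  set I := RingHom.ker c.ε with hI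
  let V : Submodule k F := I.restrictScalars k
  let I2 : Submodule k F := (I ^ 2).restrictScalars k
  obtain ⟨C, hC⟩ := Submodule.exists_isCompl I2
  let W : Submodule k F := V ⊓ C
  let P : F →ₗ[k] F := C.subtype ∘ₗ Submodule.linearProjOfIsCompl C I2 hC.symm
  have hsub : ∀ y, y - P y ∈ I2 := by
    intro y
    have h : Submodule.linearProjOfIsCompl C I2 hC.symm (y - P y) = 0 := by
      rw [map_sub]
      exact sub_eq_zero.mpr (Submodule.linearProjOfIsCompl_apply_left hC.symm _).symm
    exact (Submodule.linearProjOfIsCompl_apply_eq_zero_iff hC.symm).mp h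
  have hle : (I ^ 2 : Ideal F) ≤ I := Ideal.pow_le_self two_ne_zero
  let R : F →ₗ[k] F := LinearMap.id - (Algebra.linearMap k F) ∘ₗ c.ε.toLinearMap
  have hR : ∀ y, R y ∈ I := fun y => by simp [R, hI]
  have hPW : ∀ y, P (R y) ∈ W := fun y =>
    ⟨by
      have := I.sub_mem (hR y) (hle (hsub (R y)))
      rw [sub_sub_cancel] at this
      exact this, Subtype.property _⟩
  let b := Module.finBasis k W
  let d : Fin _ → (F →ₗ[k] k) := fun i => b.coord i ∘ₗ (P ∘ₗ R).codRestrict W hPW
  refine ⟨_, fun i => (b i : F), d, fun i => (b i).2.1, ?_, ?_, ?_⟩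
  · intro i p q
    have h : R (p * q) = c.ε p • R q + c.ε q • R p + R p * R q := by
      simp only [R, LinearMap.sub_apply, LinearMap.id_apply, LinearMap.comp_apply,
        AlgHom.toLinearMap_apply, Algebra.linearMap_apply, map_mul, Algebra.smul_def]
      ring
    have h0 : P (R p * R q) = 0 := by
      have hm : R p * R q ∈ I2 := by
        change R p * R q ∈ I ^ 2
        rw [pow_two]; exact Ideal.mul_mem_mul (hR p) (hR q)
      change ((Submodule.linearProjOfIsCompl C I2 hC.symm (R p * R q) : C) : F) = 0
      erw [(Submodule.linearProjOfIsCompl_apply_eq_zero_iff hC.symm).mpr hm]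
      rfl
    have e : (P ∘ₗ R).codRestrict W hPW (p * q) =
        c.ε p • (P ∘ₗ R).codRestrict W hPW q + c.ε q • (P ∘ₗ R).codRestrict W hPW p := by
      ext
      simp [h, h0]
    simp [d, e]
  · intro i j
    have hbj : (P ∘ₗ R).codRestrict W hPW (b j : F) = b j := by
      ext
      have h1 : R (b j : F) = b j := by
        have : c.ε (b j : F) = 0 := (b j).2.1
        simp [R, this]
      simp only [LinearMap.codRestrict_apply, LinearMap.comp_apply, h1]
      simp only [P, LinearMap.comp_apply, Submodule.coe_subtype]
      exact congrArg Subtype.val (Submodule.linearProjOfIsCompl_apply_left hC.symm ⟨(b j : F), (b j).2.2⟩)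
    simp [d, hbj, Finsupp.single_apply, eq_comm]
  · intro y hy
    have hyR : R y = y := by
      have : c.ε y = 0 := hy
      simp [R, this]
    have hsum : ∑ i, d i y • (b i : F) = P y := by
      have h := congrArg Subtype.val (b.sum_repr ((P ∘ₗ R).codRestrict W hPW y))
      rw [Submodule.coe_sum] at h
      simp only [SetLike.val_smul, LinearMap.codRestrict_apply, LinearMap.comp_apply, hyR] at h
      exact h
    rw [hsum]
    exact hsub y

variable {r : ℕ} (x : Fin r → F) (d : Fin r → (F →ₗ[k] k))

/-- The invariant derivations of a system of coordinates. -/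
noncomputable def der (hd : ∀ i a b, d i (a * b) = c.ε a * d i b + c.ε b * d i a) (i : Fin r) :
    Derivation k F F :=
  Derivation.mk' (c.op (d i)) fun a b => c.op_mul (d i) (hd i) a b

variable (hx : ∀ i, x i ∈ RingHom.ker c.ε)
  (hd : ∀ i a b, d i (a * b) = c.ε a * d i b + c.ε b * d i a)
  (hdx : ∀ i j, d i (x j) = if i = j then 1 else 0)

theorem der_chain (i : Fin r) (f : MvPolynomial (Fin r) k) :
    c.der d hd i (aeval x f) = ∑ j, aeval x (pderiv j f) * c.der d hd i (x j) := by
  classical
  induction f using MvPolynomial.induction_on with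
  | C a => simp
  | add p q hp hq => simp [map_add, hp, hq, add_mul, Finset.sum_add_distrib]
  | mul_X p j hp =>
    rw [map_mul, aeval_X, Derivation.leibniz, hp]
    simp only [pderiv_mul, pderiv_X, map_add, map_mul, aeval_X, add_mul, Finset.sum_add_distrib,
      smul_eq_mul, Finset.mul_sum]
    rw [add_comm]
    congr 1
    · exact Finset.sum_congr rfl fun l _ => by ring
    · rw [Finset.sum_eq_single j (fun l _ hl => by simp [Pi.single_eq_of_ne hl.symm]) (by simp)]
      simp

theorem der_mem_pow (i : Fin r) : ∀ (s : ℕ), ∀ y ∈ (RingHom.ker c.ε) ^ (s + 1),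
    c.der d hd i y ∈ (RingHom.ker c.ε) ^ s := by
  intro s
  induction s with
  | zero => intro y _; simp
  | succ s ih =>
    intro y hy
    rw [pow_succ] at hy
    refine Submodule.mul_induction_on hy (fun a ha b hb => ?_) (fun a b ha hb => by rw [map_add]; exact add_mem ha hb)
    rw [Derivation.leibniz, smul_eq_mul, smul_eq_mul]
    refine add_mem (Ideal.mul_mem_right _ _ ha) ?_
    rw [pow_succ, mul_comm b]
    exact Ideal.mul_mem_mul (ih a ha) hb

/-- Iterated invariant derivations. -/
noncomputable def derList (L : List (Fin r)) (y : F) : F :=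
  L.foldr (fun i z => c.der d hd i z) y

/-- Iterated partial derivatives. -/
noncomputable def pderList (L : List (Fin r)) (f : MvPolynomial (Fin r) k) : MvPolynomial (Fin r) k :=
  L.foldr (fun i z => pderiv i z) f

/-- The exponent of a list of indices. -/
noncomputable def expo (L : List (Fin r)) : Fin r →₀ ℕ :=
  L.foldr (fun i e => Finsupp.single i 1 + e) 0

theorem degree_expo (L : List (Fin r)) : (expo L).sum (fun _ n => n) = L.length := by
  induction L with
  | nil => simp [expo]
  | cons i L ih =>
    simp only [expo, List.foldr_cons, List.length_cons] at ih ⊢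
    rw [Finsupp.sum_add_index' (fun _ => rfl) (fun _ _ _ => rfl), ih]
    simp [add_comm]

theorem exists_list (e : Fin r →₀ ℕ) : ∃ L : List (Fin r), expo L = e := by
  classical
  induction e using Finsupp.induction with
  | zero => exact ⟨[], rfl⟩
  | single_add i n e _ _ ih =>
    obtain ⟨L, rfl⟩ := ih
    refine ⟨List.replicate n i ++ L, ?_⟩
    induction n with
    | zero => simp
    | succ n ihn =>
      by_cases hn : n = 0
      · subst hn; simp [expo]
      · simp only [List.replicate_succ, List.cons_append, expo, List.foldr_cons] at *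
        rw [ihn hn, Nat.add_comm n 1, Finsupp.single_add, add_assoc]

theorem pderList_monomial (L : List (Fin r)) : ∀ (b : Fin r →₀ ℕ) (a : k),
    ∃ (b' : Fin r →₀ ℕ) (a' : k), pderList L (monomial b a) = monomial b' a' ∧
      (a' ≠ 0 → b = b' + expo L) ∧
      (∀ e, b = e + expo L → a ≠ 0 → (∀ i n, 0 < n → n ≤ b i → (n : k) ≠ 0) → b' = e ∧ a' ≠ 0) := by
  induction L with
  | nil => intro b a; exact ⟨b, a, rfl, fun _ => by simp [expo], fun e he ha _ => ⟨by simpa [expo] using he, ha⟩⟩
  | cons i L ih =>
    intro b a
    obtain ⟨b', a', h1, h2, h3⟩ := ih b a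
    refine ⟨b' - Finsupp.single i 1, a' * (b' i : k), ?_, ?_, ?_⟩
    · change pderiv i (pderList L (monomial b a)) = _
      rw [h1, pderiv_monomial]
    · intro hne
      have hb' : b' i ≠ 0 := fun h => hne (by simp [h])
      rw [h2 (left_ne_zero_of_mul hne)]
      change _ = b' - Finsupp.single i 1 + (Finsupp.single i 1 + expo L)
      rw [← add_assoc, tsub_add_cancel_of_le]
      rw [Finsupp.single_le_iff]; omega
    · intro e he ha hsmall
      change b = e + (Finsupp.single i 1 + expo L) at he
      rw [← add_assoc] at he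
      obtain ⟨hb, ha'⟩ := h3 _ he ha hsmall
      refine ⟨by rw [hb, add_tsub_cancel_right], mul_ne_zero ha' (hsmall i _ ?_ ?_)⟩
      · rw [hb]; simp
      · rw [hb, he]; simp

include hx in
theorem aeval_monomial_mem {b : Fin r →₀ ℕ} {s : ℕ} (hs : s ≤ b.sum fun _ n => n) (a : k) :
    aeval x (monomial b a) ∈ (RingHom.ker c.ε) ^ s := by
  have hmem : (b.prod fun i n => x i ^ n) ∈ (RingHom.ker c.ε) ^ (b.sum fun _ n => n) := by
    classical
    simp only [Finsupp.prod, Finsupp.sum]
    rw [← Finset.prod_pow_eq_pow_sum]
    exact Ideal.prod_mem_prod fun i _ => Ideal.pow_mem_pow (hx i) _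
  rw [aeval_monomial]
  exact Ideal.mul_mem_left _ _ (Ideal.pow_le_pow_right hs hmem)

include hx hdx in
theorem derList_monomial (L : List (Fin r)) : ∀ (b : Fin r →₀ ℕ) (s : ℕ),
    s = (b.sum fun _ n => n) → L.length ≤ s →
    c.derList d hd L (aeval x (monomial b (1 : k))) - aeval x (pderList L (monomial b (1 : k))) ∈
      (RingHom.ker c.ε) ^ (s - L.length + 1) := by
  classical
  induction L with
  | nil => intro b s _ _; simp [derList, pderList]
  | cons i L ih =>
    intro b s hs hle
    simp only [List.length_cons] at hle ⊢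
    have he := ih b s hs (by omega)
    set I := RingHom.ker c.ε
    obtain ⟨b', a', h1, h2, -⟩ := pderList_monomial L b (1 : k)
    change c.der d hd i (c.derList d hd L (aeval x (monomial b (1 : k)))) -
      aeval x (pderiv i (pderList L (monomial b (1 : k)))) ∈ _
    set err := c.derList d hd L (aeval x (monomial b (1 : k))) - aeval x (pderList L (monomial b (1 : k)))
    have herr : c.der d hd i err ∈ I ^ (s - L.length) := c.der_mem_pow d hd i _ err he
    rw [show c.derList d hd L (aeval x (monomial b (1 : k))) = err + aeval x (pderList L (monomial b (1 : k))) by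
      simp [err], map_add, c.der_chain x d hd, add_sub_assoc]
    refine add_mem (by rwa [show s - (L.length + 1) + 1 = s - L.length by omega]) ?_
    rw [show aeval x (pderiv i (pderList L (monomial b (1 : k)))) =
      ∑ j, aeval x (pderiv j (pderList L (monomial b (1 : k)))) * (if i = j then 1 else 0) by simp,
      ← Finset.sum_sub_distrib]
    refine Submodule.sum_mem _ fun j _ => ?_
    rw [← mul_sub, pow_succ]
    refine Ideal.mul_mem_mul ?_ ?_
    · rw [h1, pderiv_monomial]
      by_cases ha : a' = 0
      · simp [ha]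
      by_cases hbj : b' j = 0
      · simp [hbj]
      refine c.aeval_monomial_mem x hx ?_ _
      have hb := congrArg (fun f : Fin r →₀ ℕ => f.sum fun _ n => n) (h2 ha)
      rw [Finsupp.sum_add_index' (fun _ => rfl) (fun _ _ _ => rfl), degree_expo, ← hs] at hb
      have hle' : Finsupp.single j 1 ≤ b' := by rw [Finsupp.single_le_iff]; omega
      have hsub := congrArg (fun f : Fin r →₀ ℕ => f.sum fun _ n => n) (tsub_add_cancel_of_le hle')
      rw [Finsupp.sum_add_index' (fun _ => rfl) (fun _ _ _ => rfl), Finsupp.sum_single_index rfl] at hsub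
      omega
    · rw [RingHom.mem_ker, map_sub, show c.ε (c.der d hd i (x j)) = d i (x j) from c.ε_op _ _, hdx]
      split <;> simp

include hx hdx in
/-- The value at the origin of `D^a` on the monomial `x^b`, for `|a| ≤ |b|`. -/
theorem ε_derList_monomial (L : List (Fin r)) (b : Fin r →₀ ℕ) (hle : L.length ≤ b.sum fun _ n => n) :
    (b ≠ expo L → c.ε (c.derList d hd L (aeval x (monomial b (1 : k)))) = 0) ∧
    (b = expo L → (∀ i n, 0 < n → n ≤ b i → (n : k) ≠ 0) →
      c.ε (c.derList d hd L (aeval x (monomial b (1 : k)))) ≠ 0) := by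
  classical
  have h := Ideal.pow_le_self (by omega) (c.derList_monomial x d hx hd hdx L b _ rfl hle)
  rw [RingHom.mem_ker, map_sub, sub_eq_zero] at h
  obtain ⟨b', a', h1, h2, h3⟩ := pderList_monomial L b (1 : k)
  rw [h, h1]
  have hev : c.ε (aeval x (monomial b' a')) = if b' = 0 then a' else 0 := by
    have hc : c.ε.comp (aeval x) = aeval (fun _ : Fin r => (0 : k)) := by
      apply MvPolynomial.algHom_ext
      intro i
      simpa using hx i
    rw [← AlgHom.comp_apply, hc, aeval_monomial]
    split_ifs with hb
    · simp [hb]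
    · obtain ⟨i, hi⟩ := Finsupp.ne_iff.mp hb
      simp only [Finsupp.prod]
      rw [Finset.prod_eq_zero (Finsupp.mem_support_iff.mpr hi) (zero_pow hi), mul_zero]
  rw [hev]
  refine ⟨fun hne => ?_, fun heq hsmall => ?_⟩
  · split_ifs with hb
    · by_contra ha
      exact hne (by rw [h2 ha, hb, zero_add])
    · rfl
  · obtain ⟨hb, ha⟩ := h3 0 (by rw [zero_add]; exact heq) one_ne_zero hsmall
    rw [if_pos hb]; exact ha

theorem derList_linear (L : List (Fin r)) {ι : Type*} (s : Finset ι) (co : ι → F) (y : ι → F)
    (hco : ∀ t ∈ s, ∀ i, c.der d hd i (co t) = 0) :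
    c.derList d hd L (∑ t ∈ s, co t * y t) = ∑ t ∈ s, co t * c.derList d hd L (y t) := by
  induction L with
  | nil => rfl
  | cons i L ih =>
    change c.der d hd i (c.derList d hd L _) = ∑ t ∈ s, co t * c.der d hd i (c.derList d hd L (y t))
    rw [ih, map_sum]
    exact Finset.sum_congr rfl fun t ht => by rw [Derivation.leibniz, hco t ht i]; simp

include hx hdx in
/-- Monomials are independent over the constants of the invariant derivations. -/
theorem linearIndependent_monomials (s : Finset (Fin r →₀ ℕ))
    (hs : ∀ b ∈ s, ∀ i n, 0 < n → n ≤ b i → (n : k) ≠ 0)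
    (co : (Fin r →₀ ℕ) → F) (hco : ∀ b ∈ s, ∀ i, c.der d hd i (co b) = 0)
    (h0 : ∑ b ∈ s, co b * aeval x (monomial b (1 : k)) = 0) : ∀ b ∈ s, co b = 0 := by
  classical
  set I := RingHom.ker c.ε
  suffices h : ∀ j, ∀ b ∈ s, co b ∈ I ^ j by
    obtain ⟨N, hN⟩ := c.nilpotent
    intro b hb
    have := h N b hb
    rwa [hN] at this
  intro j
  induction j with
  | zero => intro b _; simp
  | succ j ihj =>
    intro b hb
    induction hn : (b.sum fun _ n => n) using Nat.strong_induction_on generalizing b with
    | _ n ihn =>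
      subst hn
      obtain ⟨L, hL⟩ := exists_list b
      have hlen : L.length = b.sum fun _ n => n := by rw [← degree_expo, hL]
      have h1 := c.derList_linear d hd L s co (fun t => aeval x (monomial t (1 : k))) hco
      rw [h0] at h1
      have hz : c.derList d hd L 0 = 0 := by
        clear h1 hlen hL
        induction L with
        | nil => rfl
        | cons i L ih => change c.der d hd i (c.derList d hd L 0) = 0; rw [ih, map_zero]
      rw [hz, ← Finset.add_sum_erase s _ hb] at h1
      set v := c.derList d hd L (aeval x (monomial b (1 : k)))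
      have hrest : ∑ t ∈ s.erase b, co t * c.derList d hd L (aeval x (monomial t (1 : k))) ∈ I ^ (j + 1) := by
        refine Submodule.sum_mem _ fun t ht => ?_
        obtain ⟨htb, hts⟩ := Finset.mem_erase.mp ht
        rcases lt_or_ge (t.sum fun _ n => n) (b.sum fun _ n => n) with hlt | hge
        · exact Ideal.mul_mem_right _ _ (ihn _ hlt t hts rfl)
        · rw [pow_succ]
          refine Ideal.mul_mem_mul (ihj t hts) ?_
          exact (c.ε_derList_monomial x d hx hd hdx L t (by omega)).1 (by rw [hL]; exact htb)
      have hne := (c.ε_derList_monomial x d hx hd hdx L b hlen.le).2 hL.symm (hs b hb)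
      have hunit : IsUnit v := by
        have hnil : IsNilpotent (v - algebraMap k F (c.ε v)) := by
          obtain ⟨N, hN⟩ := c.nilpotent
          refine ⟨N, ?_⟩
          have : (v - algebraMap k F (c.ε v)) ^ N ∈ I ^ N := Ideal.pow_mem_pow (by simp [I]) N
          rwa [hN] at this
        have hu : IsUnit (algebraMap k F (c.ε v)) := (isUnit_iff_ne_zero.mpr hne).map (algebraMap k F)
        have := hnil.isUnit_add_right_of_commute hu (Commute.all _ _)
        simpa using this
      have h2 : co b * v ∈ I ^ (j + 1) := by
        rw [eq_neg_of_add_eq_zero_left h1.symm]; exact Submodule.neg_mem _ hrest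
      exact (Ideal.mul_unit_mem_iff_mem _ hunit).mp h2

include hx in
/-- The coordinates generate. -/
theorem aeval_surjective (hspan : ∀ y ∈ RingHom.ker c.ε, y - ∑ i, d i y • x i ∈ (RingHom.ker c.ε) ^ 2) :
    Function.Surjective (aeval x : MvPolynomial (Fin r) k →ₐ[k] F) := by
  set I := RingHom.ker c.ε
  set S := (aeval x : MvPolynomial (Fin r) k →ₐ[k] F).range
  have hstep : ∀ s, ∀ y ∈ I ^ s, ∃ z ∈ S, z ∈ I ^ s ∧ y - z ∈ I ^ (s + 1) := by
    intro s
    induction s with
    | zero =>
      intro y _
      exact ⟨algebraMap k F (c.ε y), S.algebraMap_mem _, by simp, by simp [I]⟩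
    | succ s ih =>
      intro y hy
      rw [pow_succ] at hy
      refine Submodule.mul_induction_on hy (fun a ha b hb => ?_) (fun a b ha hb => ?_)
      · obtain ⟨z, hzS, hzI, hz⟩ := ih a ha
        set w := ∑ i, d i b • x i
        have hwS : w ∈ S := sum_mem fun i _ => S.smul_mem ⟨X i, aeval_X _ _⟩ _
        have hwI : w ∈ I := Submodule.sum_mem _ fun i _ =>
          Submodule.smul_of_tower_mem _ _ (hx i)
        refine ⟨z * w, S.mul_mem hzS hwS, by rw [pow_succ]; exact Ideal.mul_mem_mul hzI hwI, ?_⟩
        rw [show a * b - z * w = (a - z) * b + z * (b - w) by ring]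
        refine add_mem ?_ ?_
        · rw [pow_succ]; exact Ideal.mul_mem_mul hz hb
        · rw [show s + 1 + 1 = s + 2 from rfl, pow_add]; exact Ideal.mul_mem_mul hzI (hspan b hb)
      · obtain ⟨z, h1, h1', h2⟩ := ha
        obtain ⟨z', h3, h3', h4⟩ := hb
        exact ⟨z + z', S.add_mem h1 h3, add_mem h1' h3', by rw [add_sub_add_comm]; exact add_mem h2 h4⟩
  obtain ⟨N, hN⟩ := c.nilpotent
  suffices ∀ m s, N ≤ s + m → ∀ y ∈ I ^ s, y ∈ S by
    intro y; exact this N 0 (by omega) y (by simp)
  intro m
  induction m with
  | zero =>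
    intro s hs y hy
    have : y = 0 := by
      have h := Ideal.pow_le_pow_right (show N ≤ s by omega) hy
      rwa [hN] at h
    rw [this]; exact S.zero_mem
  | succ m ih =>
    intro s hs y hy
    obtain ⟨z, hz, -, hyz⟩ := hstep s y hy
    simpa using S.add_mem (ih (s + 1) (by omega) _ hyz) hz

end CounitalMul

end Groth.Agent.SGA3cLib
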