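import Mathlib.RingTheory.RingHom.Etale
import Mathlib.RingTheory.MvPolynomial.Ideal
import Mathlib.RingTheory.Unramified.Basic
import Mathlib.RingTheory.Flat.EquationalCriterion
import Mathlib.RingTheory.Ideal.AssociatedPrime.Basic
import Mathlib.RingTheory.Ideal.MinimalPrime.Localization
import Mathlib.LinearAlgebra.TensorProduct.Quotient
import Mathlib.RingTheory.LocalRing.ResidueField.Ideal

/-!
# Taylor expansion along a section of an algebra etale over a polynomial ring

And the detection of elements of a flat algebra over a Noetherian subring by functionals.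
-/

set_option linter.style.haveILetI false
set_option autoImplicit false

universe u

open MvPolynomial TensorProduct

noncomputable section

namespace Groth.Agent.SGA3cLib.Jet

variable (R : Type u) [CommRing R] (n : ℕ)

/-- Truncated polynomials. -/
abbrev Jets (k : ℕ) : Type u := MvPolynomial (Fin n) R ⧸ idealOfVars (Fin n) R ^ (k + 1)

variable {R n}

/-- The coefficient functionals on truncated polynomials detect elements, also after a change of coefficients. -/
theorem exists_coeff (k : ℕ) :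
    ∃ C : (Fin n →₀ ℕ) → (Jets R n k →ₗ[R] R), ∀ (D : Type u) [CommRing D] [Algebra R D] (Θ : Jets R n k →ₐ[R] D)
      (j : Jets R n k), (∀ a, algebraMap R D (C a j) = 0) → Θ j = 0 := by
  classical
  have hwd : ∀ a : Fin n →₀ ℕ, ∀ p q : MvPolynomial (Fin n) R,
      Ideal.Quotient.mk (idealOfVars (Fin n) R ^ (k + 1)) p = Ideal.Quotient.mk _ q → a.degree < k + 1 →
      p.coeff a = q.coeff a := fun a p q h ha => by
    have := (mem_pow_idealOfVars_iff' _ _).mp (Ideal.Quotient.eq.mp h) a ha
    rwa [coeff_sub, sub_eq_zero] at this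
  let rep : Jets R n k → MvPolynomial (Fin n) R := fun j => Classical.choose (Ideal.Quotient.mk_surjective j)
  have hrep : ∀ j, Ideal.Quotient.mk _ (rep j) = j := fun j => Classical.choose_spec (Ideal.Quotient.mk_surjective j)
  let C : (Fin n →₀ ℕ) → (Jets R n k →ₗ[R] R) := fun a =>
    { toFun := fun j => if a.degree < k + 1 then (rep j).coeff a else 0
      map_add' := fun x y => by
        split_ifs with ha
        · rw [← coeff_add]; exact hwd a _ _ (by rw [map_add, hrep, hrep, hrep]) ha
        · simp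
      map_smul' := fun r x => by
        split_ifs with ha
        · rw [RingHom.id_apply, smul_eq_mul, ← smul_eq_mul, ← coeff_smul]
          exact hwd a _ _ (by rw [hrep, ← Ideal.Quotient.mkₐ_eq_mk R, map_smul, Ideal.Quotient.mkₐ_eq_mk, hrep]) ha
        · simp }
  refine ⟨C, fun D _ _ Θ j h => ?_⟩
  rw [← hrep j, ← Ideal.Quotient.mkₐ_eq_mk R, ← AlgHom.comp_apply, (rep j).as_sum, map_sum]
  refine Finset.sum_eq_zero fun a ha => ?_
  by_cases hd : a.degree < k + 1
  · have := h a
    simp only [C, LinearMap.coe_mk, AddHom.coe_mk, hd, if_true] at this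
    rw [show monomial a ((rep j).coeff a) = algebraMap R _ ((rep j).coeff a) * monomial a 1 by
      rw [algebraMap_eq, C_mul_monomial, _root_.mul_one], map_mul, AlgHom.commutes, this, zero_mul]
  · rw [AlgHom.comp_apply, Ideal.Quotient.mkₐ_eq_mk, Ideal.Quotient.eq_zero_iff_mem.mpr
      ((monomial_mem_pow_idealOfVars_iff _ _ (mem_support_iff.mp ha)).mpr (not_lt.mp hd)), map_zero]

/-- Taylor expansion along a section. -/
theorem exists_jet {B : Type u} [CommRing B] [Algebra R B] (σ : B →ₐ[R] R) (g : MvPolynomial (Fin n) R →ₐ[R] B)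
    (hg : g.toRingHom.Etale) (h0 : ∀ i, σ (g (X i)) = 0) (k : ℕ) :
    ∃ ψ : B →ₐ[R] Jets R n k, (∀ b ∈ RingHom.ker σ ^ (k + 1), ψ b = 0) ∧
      ∀ (D : Type u) [CommRing D] [Algebra R D] (f : B →ₐ[R] D) (N : Ideal D), N ^ (k + 1) = ⊥ →
        (∀ b, σ b = 0 → f b ∈ N) → ∃ Θ : Jets R n k →ₐ[R] D, Θ.comp ψ = f := by
  letI : Algebra (MvPolynomial (Fin n) R) B := g.toRingHom.toAlgebra
  haveI : IsScalarTower R (MvPolynomial (Fin n) R) B := IsScalarTower.of_algebraMap_eq fun r => (g.commutes r).symm
  haveI : Algebra.Etale (MvPolynomial (Fin n) R) B := hg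
  let I : Ideal (Jets R n k) := (idealOfVars (Fin n) R).map (Ideal.Quotient.mk _)
  have hI : I ^ (k + 1) = ⊥ := by
    rw [← Ideal.map_pow, Ideal.map_quotient_self]
  have hmk : ∀ p : MvPolynomial (Fin n) R,
      Ideal.Quotient.mk I (Ideal.Quotient.mk _ p) = algebraMap R _ (aeval (fun _ => (0 : R)) p) := fun p => by
    have : (Ideal.Quotient.mkₐ R I).comp (Ideal.Quotient.mkₐ R (idealOfVars (Fin n) R ^ (k + 1))) =
        (Algebra.ofId R _).comp (aeval fun _ => (0 : R)) := algHom_ext fun i => by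
      rw [AlgHom.comp_apply, AlgHom.comp_apply, aeval_X, map_zero, Ideal.Quotient.mkₐ_eq_mk, Ideal.Quotient.mkₐ_eq_mk,
        Ideal.Quotient.eq_zero_iff_mem]
      exact Ideal.mem_map_of_mem _ (Ideal.subset_span ⟨i, rfl⟩)
    exact AlgHom.congr_fun this p
  have hσg : ∀ p, σ (g p) = aeval (fun _ => (0 : R)) p := fun p =>
    AlgHom.congr_fun (algHom_ext (f := σ.comp g) (g := aeval fun _ => (0 : R)) fun i => by simp [h0]) p
  let τ : B →ₐ[MvPolynomial (Fin n) R] Jets R n k ⧸ I :=
    { ((Algebra.ofId R (Jets R n k ⧸ I)).comp σ : B →+* Jets R n k ⧸ I) with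
      commutes' := fun p => by
        show algebraMap R (Jets R n k ⧸ I) (σ (g p)) = _
        rw [hσg, ← hmk]
        rfl }
  let ψ' := Algebra.FormallySmooth.lift I ⟨k + 1, hI⟩ τ
  let ψ : B →ₐ[R] Jets R n k := ψ'.restrictScalars R
  have hψI : ∀ b, ψ b - algebraMap R (Jets R n k) (σ b) ∈ I := fun b => by
    rw [← Ideal.Quotient.eq]
    exact Algebra.FormallySmooth.mk_lift I ⟨k + 1, hI⟩ τ b
  refine ⟨ψ, fun b hb => ?_, fun D _ _ f N hN hf => ?_⟩
  · have h1 : (RingHom.ker σ).map ψ ≤ I := Ideal.map_le_iff_le_comap.mpr fun x hx => by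
      have := hψI x
      rwa [show σ x = 0 from hx, map_zero, sub_zero] at this
    have h2 := Ideal.mem_map_of_mem ψ hb
    rw [Ideal.map_pow] at h2
    have := Ideal.pow_right_mono h1 (k + 1) h2
    rwa [hI, Ideal.mem_bot] at this
  · let e : MvPolynomial (Fin n) R →ₐ[R] D := f.comp g
    have he : (idealOfVars (Fin n) R).map e ≤ N := by
      rw [idealOfVars, Ideal.map_span, Ideal.span_le]
      rintro _ ⟨_, ⟨i, rfl⟩, rfl⟩
      exact hf _ (h0 i)
    let Θ : Jets R n k →ₐ[R] D := Ideal.Quotient.liftₐ _ e fun p hp => by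
      have h2 := Ideal.mem_map_of_mem e hp
      rw [Ideal.map_pow] at h2
      have := Ideal.pow_right_mono he (k + 1) h2
      rwa [hN, Ideal.mem_bot] at this
    refine ⟨Θ, ?_⟩
    letI : Algebra (MvPolynomial (Fin n) R) D := e.toRingHom.toAlgebra
    let f' : B →ₐ[MvPolynomial (Fin n) R] D := { (f : B →+* D) with commutes' := fun p => rfl }
    let t' : B →ₐ[MvPolynomial (Fin n) R] D :=
      { ((Θ.comp ψ) : B →+* D) with
        commutes' := fun p => by
          show Θ (ψ' (algebraMap _ B p)) = e p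
          rw [AlgHom.commutes]
          rfl }
    have hΘI : ∀ x ∈ I, Θ x ∈ N := by
      intro x hx
      obtain ⟨p, hp, rfl⟩ := (Ideal.mem_map_iff_of_surjective _ Ideal.Quotient.mk_surjective).mp hx
      exact he (Ideal.mem_map_of_mem e hp)
    have key : t' = f' := Algebra.FormallyUnramified.ext N ⟨k + 1, hN⟩ fun b => by
      show Ideal.Quotient.mk N (Θ (ψ b)) = Ideal.Quotient.mk N (f b)
      rw [Ideal.Quotient.eq]
      have h1 : Θ (ψ b) - algebraMap R D (σ b) ∈ N := by
        rw [← Θ.commutes, ← map_sub]; exact hΘI _ (hψI b)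
      have h2 : f b - algebraMap R D (σ b) ∈ N := by
        rw [← f.commutes, ← map_sub]; exact hf _ (by simp)
      simpa using N.sub_mem h1 h2
    exact AlgHom.ext fun b => AlgHom.congr_fun key b

/-- Functionals on a flat algebra over a Noetherian subring detect its elements if they do so on fibres over fields
receiving the big ring. -/
theorem eq_zero_of_functionals {R₁ B : Type u} {A : Type*} {ι : Type*} [CommRing R₁] [IsNoetherianRing R₁] [CommRing B]
    [Algebra R₁ B] [Module.Flat R₁ B] [CommRing A] [Algebra R₁ A] (hinj : Function.Injective (algebraMap R₁ A))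
    (φ : ι → (B →ₗ[R₁] R₁))
    (hfield : ∀ (Q : Ideal A) [Q.IsPrime] (b : B), (∀ i, φ i b ∈ Q.comap (algebraMap R₁ A)) →
      (1 : Q.ResidueField) ⊗ₜ[R₁] b = 0)
    (b : B) (hb : ∀ i, φ i b = 0) : b = 0 := by
  classical
  by_contra hne
  let K₀ : Submodule R₁ B :=
    { carrier := {x | ∀ i, φ i x = 0}
      add_mem' := fun hx hy i => by rw [map_add, hx i, hy i, add_zero]
      zero_mem' := fun i => map_zero _
      smul_mem' := fun r x hx i => by rw [map_smul, hx i, smul_zero] }
  obtain ⟨q, hq, -⟩ := exists_le_isAssociatedPrime_of_isNoetherianRing R₁ (⟨b, hb⟩ : K₀)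
    (fun h => hne (congrArg Subtype.val h))
  obtain ⟨hqp, ⟨y, hy⟩, hqy⟩ := isAssociatedPrime_iff.mp hq
  haveI := hqp
  have hmem : ∀ r, r ∈ q ↔ r • y = 0 := fun r => by
    rw [hqy, Submodule.mem_colon_singleton, Submodule.mem_bot, Subtype.ext_iff]
    rfl
  -- a representation with coefficients killed by `q`
  let rep : ℕ → Prop := fun m => ∃ r ∉ q, ∃ (x : Fin m → R₁) (bs : Fin m → B),
    (∀ i, ∀ t ∈ q, t * x i = 0) ∧ r • y = ∑ i, x i • bs i
  have hex : ∃ m, rep m := by
    haveI : Module.Finite R₁ q := Module.Finite.iff_fg.mpr (IsNoetherian.noetherian q)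
    let f : q →ₗ[R₁] (Fin 1 →₀ R₁) := (Finsupp.lsingle 0).comp q.subtype
    let x : (Fin 1 →₀ R₁) →ₗ[R₁] B := (LinearMap.toSpanSingleton R₁ B y).comp (Finsupp.lapply 0)
    obtain ⟨m, a, z, hxz, haf⟩ := Module.Flat.exists_factorization_of_comp_eq_zero_of_free (f := f) (x := x)
      (LinearMap.ext fun t => by
        show x (Finsupp.single 0 (t : R₁)) = 0
        simp [x, (hmem t).mp t.2])
    refine ⟨m, 1, fun h => hqp.ne_top ((Ideal.eq_top_iff_one q).mpr h), fun i => a (Finsupp.single 0 1) i,
      fun i => z (Finsupp.single i 1), fun i t ht => ?_, ?_⟩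
    · have := congrArg (fun w : Fin m →₀ R₁ => w i) (LinearMap.congr_fun haf ⟨t, ht⟩)
      have e : a (Finsupp.single 0 t) = t • a (Finsupp.single 0 1) := by
        rw [← map_smul, Finsupp.smul_single_one]
      simpa [f, e] using this
    · have hy1 : y = z (a (Finsupp.single 0 1)) := by
        rw [← LinearMap.comp_apply, ← hxz]; simp [x]
      rw [one_smul, hy1]
      conv_lhs => rw [← Finsupp.univ_sum_single (a (Finsupp.single 0 1)), map_sum]
      refine Finset.sum_congr rfl fun i _ => ?_
      rw [← map_smul, Finsupp.smul_single_one]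
  obtain ⟨r, hr, x, bs, hxq, hry⟩ := Nat.find_spec hex
  have hind : ∀ a : Fin (Nat.find hex) → R₁, ∑ i, a i * x i = 0 → ∀ i, a i ∈ q := by
    intro a ha i₀
    by_contra hai
    obtain ⟨m, hm⟩ : ∃ m, Nat.find hex = m + 1 := ⟨Nat.find hex - 1, (Nat.succ_pred_eq_of_pos i₀.pos).symm⟩
    let ι' : Fin m → Fin (Nat.find hex) := fun i => Fin.cast hm.symm ((Fin.cast hm i₀).succAbove i)
    have hsum : ∀ {N : Type u} [AddCommGroup N] (F : Fin (Nat.find hex) → N), ∑ i, F i = F i₀ + ∑ i, F (ι' i) := by
      intro N _ F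
      rw [← Equiv.sum_comp (finCongr hm).symm, Fin.sum_univ_succAbove _ (Fin.cast hm i₀)]
      rfl
    refine Nat.find_min hex (show m < Nat.find hex by omega) ⟨a i₀ * r, fun h => (hqp.mem_or_mem h).elim hai hr,
      x ∘ ι', fun i => a i₀ • bs (ι' i) - a (ι' i) • bs i₀, fun i => hxq _, ?_⟩
    have h0 : a i₀ * x i₀ = -∑ i, a (ι' i) * x (ι' i) :=
      eq_neg_of_add_eq_zero_left ((hsum fun i => a i * x i).symm.trans ha)
    rw [mul_smul, hry, hsum, smul_add, smul_smul, h0, neg_smul, Finset.sum_smul, Finset.smul_sum, ← Finset.sum_neg_distrib,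
      ← Finset.sum_add_distrib]
    refine Finset.sum_congr rfl fun i _ => ?_
    simp only [Function.comp_apply, smul_sub, smul_smul]
    rw [mul_comm (a (ι' i)) (x (ι' i)), mul_comm (a i₀) (x (ι' i))]
    abel
  have hφ : ∀ i l, φ l (bs i) ∈ q := fun i l => by
    refine hind (fun i => φ l (bs i)) ?_ i
    have h0 : φ l (r • y) = 0 := by rw [map_smul, hy l, smul_zero]
    rw [hry, map_sum] at h0
    rw [← h0]
    exact Finset.sum_congr rfl fun i _ => by rw [map_smul, smul_eq_mul, mul_comm]
  refine hr ((hmem r).mpr (hry.trans (Finset.sum_eq_zero fun i _ => ?_)))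
  -- `q` is the contraction of a prime of `A`
  have hcomap : (q.map (algebraMap R₁ A)).comap (algebraMap R₁ A) = q := by
    refine le_antisymm (fun t ht => ?_) Ideal.le_comap_map
    have h1 : ∀ w ∈ q.map (algebraMap R₁ A), w * algebraMap R₁ A (x i) = 0 := by
      intro w hw
      refine Submodule.span_induction ?_ (zero_mul _) (fun _ _ _ _ h h' => by rw [add_mul, h, h', add_zero])
        (fun c _ _ h => by rw [smul_eq_mul, _root_.mul_assoc, h, mul_zero]) hw
      rintro _ ⟨u, hu, rfl⟩
      rw [← map_mul, hxq i u hu, map_zero]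
    have h2 : t * x i = 0 := hinj (by rw [map_mul, map_zero]; exact h1 _ ht)
    have := hind (Pi.single i t) (by
      rw [Finset.sum_eq_single i]
      · simpa using h2
      · intro k _ hk; simp [hk]
      · simp) i
    simpa using this
  obtain ⟨Q, hQ, -, hQq⟩ := Ideal.exists_comap_eq_of_mem_minimalPrimes (I := q.map (algebraMap R₁ A)) (algebraMap R₁ A) q
    (by rw [hcomap, Ideal.minimalPrimes_eq_subsingleton_self]; rfl)
  have hL := hfield Q (bs i) fun l => by rw [hQq]; exact hφ i l
  let ν : R₁ ⧸ q →ₗ[R₁] Q.ResidueField :=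
    Submodule.liftQ q (Algebra.linearMap R₁ Q.ResidueField) fun t ht => by
      show algebraMap R₁ Q.ResidueField t = 0
      rw [IsScalarTower.algebraMap_apply R₁ A, Ideal.algebraMap_residueField_eq_zero]
      exact hQq.ge ht
  have hν : Function.Injective ν := by
    rw [← LinearMap.ker_eq_bot, Submodule.ker_liftQ_eq_bot]
    intro t ht
    rw [LinearMap.mem_ker, Algebra.linearMap_apply, IsScalarTower.algebraMap_apply R₁ A,
      Ideal.algebraMap_residueField_eq_zero] at ht
    exact hQq.le ht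
  have h1 : (1 : R₁ ⧸ q) ⊗ₜ[R₁] bs i = 0 := by
    apply Module.Flat.rTensor_preserves_injective_linearMap (M := B) ν hν
    rw [LinearMap.rTensor_tmul, map_zero]
    rw [show ν 1 = 1 from map_one (algebraMap R₁ Q.ResidueField)]
    exact hL
  have h2 := congrArg (TensorProduct.quotTensorEquivQuotSMul B q) h1
  rw [map_zero] at h2
  change (TensorProduct.quotTensorEquivQuotSMul B q) (Ideal.Quotient.mk q (1 : R₁) ⊗ₜ[R₁] bs i) = 0 at h2
  rw [TensorProduct.quotTensorEquivQuotSMul_mk_tmul, one_smul, Submodule.Quotient.mk_eq_zero] at h2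
  refine Submodule.smul_induction_on h2 (fun t ht w _ => ?_) (fun u w hu hw => by rw [smul_add, hu, hw, add_zero])
  rw [smul_smul, mul_comm, hxq i t ht, zero_smul]

end Groth.Agent.SGA3cLib.Jet
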