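import Groth.Agent.SGA3cLib.JetAlg
import Mathlib.RingTheory.Smooth.NoetherianDescent
import Mathlib.RingTheory.RingHom.StandardSmooth
import Mathlib.RingTheory.Smooth.Flat
import Mathlib.RingTheory.Filtration

/-!
# Content ideals for standard smooth algebras with a section

If the fibres are domains, the powers of the augmentation ideal meet in zero, and for every element there is a
finitely generated ideal of the base cutting out the algebras in which the element vanishes.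
-/

set_option linter.style.haveILetI false
set_option autoImplicit false

universe u

open MvPolynomial TensorProduct

noncomputable section

namespace Groth.Agent.SGA3cLib.Jet

variable {R : Type u} [CommRing R] {B : Type u} [CommRing B] [Algebra R B]

/-- The base change of an augmentation. -/
def augBC (σ : B →ₐ[R] R) (C : Type u) [CommRing C] [Algebra R C] : C ⊗[R] B →ₐ[C] C :=
  Algebra.TensorProduct.lift (AlgHom.id C C) ((Algebra.ofId R C).comp σ) (fun _ _ => Commute.all _ _)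

theorem augBC_tmul (σ : B →ₐ[R] R) (C : Type u) [CommRing C] [Algebra R C] (c : C) (b : B) :
    augBC σ C (c ⊗ₜ b) = c * algebraMap R C (σ b) := by
  simp [augBC]

/-- An adapted map from polynomials. -/
theorem exists_adapted [Algebra.IsStandardSmooth R B] (σ : B →ₐ[R] R) :
    ∃ (n : ℕ) (g : MvPolynomial (Fin n) R →ₐ[R] B), g.toRingHom.Etale ∧ ∀ i, σ (g (X i)) = 0 := by
  obtain ⟨n, g, hgC, hg⟩ := RingHom.IsStandardSmooth.exists_etale_mvPolynomial (f := algebraMap R B)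
    (RingHom.isStandardSmooth_algebraMap.mpr inferInstance)
  let g₀ : MvPolynomial (Fin n) R →ₐ[R] B := { g with commutes' := fun r => congr($hgC r) }
  let τ : MvPolynomial (Fin n) R ≃ₐ[R] MvPolynomial (Fin n) R :=
    AlgEquiv.ofAlgHom (aeval fun i => X i - C (σ (g₀ (X i)))) (aeval fun i => X i + C (σ (g₀ (X i))))
      (algHom_ext fun i => by simp) (algHom_ext fun i => by simp)
  refine ⟨n, g₀.comp τ.toAlgHom, ?_, fun i => by simp [τ]⟩
  exact RingHom.Etale.stableUnderComposition _ _ (RingHom.Etale.of_bijective τ.bijective) hg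

/-- A Noetherian model containing a given element. -/
theorem exists_model [Algebra.IsStandardSmooth R B] (σ : B →ₐ[R] R) (b : B) :
    ∃ (R₁ : Type u) (B₁ : Type u) (_ : CommRing R₁) (_ : IsNoetherianRing R₁) (_ : Algebra R₁ R) (_ : CommRing B₁)
      (_ : Algebra R₁ B₁) (_ : Algebra.IsStandardSmooth R₁ B₁) (σ₁ : B₁ →ₐ[R₁] R₁) (e : R ⊗[R₁] B₁ ≃ₐ[R] B) (b₁ : B₁),
      Function.Injective (algebraMap R₁ R) ∧ e (1 ⊗ₜ b₁) = b ∧
        ∀ x, σ (e (1 ⊗ₜ x)) = algebraMap R₁ R (σ₁ x) := by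
  classical
  obtain ⟨n, hn⟩ : ∃ n, Algebra.IsStandardSmoothOfRelativeDimension n R B := by
    obtain ⟨ι, κ, _, _, ⟨P⟩⟩ := ‹Algebra.IsStandardSmooth R B›.out
    exact ⟨P.dimension, ⟨_, _, _, ‹_›, P, rfl⟩⟩
  haveI := hn
  obtain ⟨A₀, B₀, _, _, hA₀, _, ⟨e₀⟩⟩ := Algebra.IsStandardSmoothOfRelativeDimension.exists_subalgebra_fg
    (R := ℤ) (A := R) (B := B) n
  haveI : Algebra.IsStandardSmooth A₀ B₀ := Algebra.IsStandardSmoothOfRelativeDimension.isStandardSmooth n
  obtain ⟨t, ht⟩ := hA₀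
  obtain ⟨gs, hgs⟩ := (Algebra.FiniteType.out : (⊤ : Subalgebra A₀ B₀).FG)
  obtain ⟨rs, hrs⟩ := TensorProduct.exists_finset (e₀ b)
  let s₀ : B₀ →ₐ[A₀] R := ((σ.comp e₀.symm.toAlgHom).restrictScalars A₀).comp Algebra.TensorProduct.includeRight
  let A₁ : Subalgebra ℤ R := Algebra.adjoin ℤ ((t : Set R) ∪ s₀ '' gs ∪ Prod.fst '' (rs : Set (R × B₀)))
  have hle : A₀ ≤ A₁ := by
    rw [← ht]; exact Algebra.adjoin_mono fun x hx => Or.inl (Or.inl hx)
  letI : Algebra A₀ A₁ := (Subalgebra.inclusion hle).toRingHom.toAlgebra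
  haveI : IsScalarTower A₀ A₁ R := IsScalarTower.of_algebraMap_eq fun _ => rfl
  haveI : IsNoetherianRing A₁ := by
    haveI : Algebra.FiniteType ℤ A₁ := (Subalgebra.fg_iff_finiteType A₁).mp (Subalgebra.fg_def.mpr
      ⟨_, ((t.finite_toSet.union (gs.finite_toSet.image _)).union (rs.finite_toSet.image _)), rfl⟩)
    exact Algebra.FiniteType.isNoetherianRing ℤ A₁
  have hs₀ : ∀ x, s₀ x ∈ A₁ := by
    intro x
    have hx : x ∈ (⊤ : Subalgebra A₀ B₀) := trivial
    rw [← hgs] at hx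
    induction hx using Algebra.adjoin_induction with
    | mem x hx => exact Algebra.subset_adjoin (Or.inl (Or.inr ⟨x, hx, rfl⟩))
    | algebraMap r => rw [AlgHom.commutes]; exact hle r.2
    | add x y _ _ hx hy => rw [map_add]; exact A₁.add_mem hx hy
    | mul x y _ _ hx hy => rw [map_mul]; exact A₁.mul_mem hx hy
  let s₁ : B₀ →ₐ[A₀] A₁ :=
    { toFun := fun x => ⟨s₀ x, hs₀ x⟩
      map_one' := Subtype.ext (map_one s₀)
      map_mul' := fun x y => Subtype.ext (map_mul s₀ x y)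
      map_zero' := Subtype.ext (map_zero s₀)
      map_add' := fun x y => Subtype.ext (map_add s₀ x y)
      commutes' := fun r => Subtype.ext (s₀.commutes r) }
  let e : R ⊗[A₁] (A₁ ⊗[A₀] B₀) ≃ₐ[R] B := (Algebra.TensorProduct.cancelBaseChange A₀ A₁ R R B₀).trans e₀.symm
  have he : ∀ (c : A₁) (x : B₀), e ((1 : R) ⊗ₜ (c ⊗ₜ x)) = e₀.symm ((c : R) ⊗ₜ x) := fun c x => by
    show e₀.symm (Algebra.TensorProduct.cancelBaseChange A₀ A₁ R R B₀ (1 ⊗ₜ (c ⊗ₜ x))) = _
    rw [Algebra.TensorProduct.cancelBaseChange_tmul, Algebra.smul_def, _root_.mul_one]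
    rfl
  refine ⟨A₁, A₁ ⊗[A₀] B₀, inferInstance, inferInstance, inferInstance, inferInstance, inferInstance, inferInstance,
    Algebra.TensorProduct.lift (AlgHom.id A₁ A₁) s₁ (fun _ _ => Commute.all _ _), e,
    ∑ p ∈ rs.attach, (⟨p.1.1, Algebra.subset_adjoin (Or.inr ⟨p.1, p.2, rfl⟩)⟩ : A₁) ⊗ₜ p.1.2,
    Subtype.val_injective, ?_, fun x => ?_⟩
  · rw [TensorProduct.tmul_sum, map_sum]
    simp only [he]
    rw [← map_sum, Finset.sum_attach rs (fun p => p.1 ⊗ₜ[A₀] p.2), ← hrs, AlgEquiv.symm_apply_apply]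
  · induction x using TensorProduct.induction_on with
    | zero => simp
    | add x y hx hy => simp only [TensorProduct.tmul_add, map_add, hx, hy]
    | tmul c x =>
      rw [he, Algebra.TensorProduct.lift_tmul, map_mul]
      show σ (e₀.symm ((c : R) ⊗ₜ x)) = (c : R) * s₀ x
      rw [show (c : R) ⊗ₜ[A₀] x = algebraMap R (R ⊗[A₀] B₀) c * (1 ⊗ₜ x) by simp, map_mul, map_mul, AlgEquiv.commutes,
        AlgHom.commutes]
      rfl

/-- The kernel of the base change of an augmentation. -/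
theorem ker_augBC (σ : B →ₐ[R] R) (C : Type u) [CommRing C] [Algebra R C] :
    RingHom.ker (augBC σ C) = (RingHom.ker σ).map (Algebra.TensorProduct.includeRight : B →ₐ[R] C ⊗[R] B) := by
  refine le_antisymm (fun z hz => ?_) (Ideal.map_le_iff_le_comap.mpr fun x hx => ?_)
  · have : ∀ z, z - algebraMap C (C ⊗[R] B) (augBC σ C z) ∈
        (RingHom.ker σ).map (Algebra.TensorProduct.includeRight : B →ₐ[R] C ⊗[R] B) := by
      intro z
      induction z using TensorProduct.induction_on with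
      | zero => simp
      | add z w hz hw => simpa [map_add, add_sub_add_comm] using add_mem hz hw
      | tmul c y =>
        rw [augBC_tmul, map_mul, show c ⊗ₜ[R] y = algebraMap C (C ⊗[R] B) c * (1 ⊗ₜ y) by simp, ← mul_sub]
        refine Ideal.mul_mem_left _ _ ?_
        rw [← IsScalarTower.algebraMap_apply, ← (Algebra.TensorProduct.includeRight : B →ₐ[R] C ⊗[R] B).commutes]
        show Algebra.TensorProduct.includeRight y - Algebra.TensorProduct.includeRight _ ∈ _
        rw [← map_sub]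
        exact Ideal.mem_map_of_mem _ (show σ _ = 0 by simp)
    simpa [show augBC σ C z = 0 from hz] using this z
  · show augBC σ C ((1 : C) ⊗ₜ x) = 0
    rw [augBC_tmul, hx, map_zero, mul_zero]

/-- Congruence to zero at a given order, by coefficients. -/
theorem mem_pow_iff_coeff {n : ℕ} (σ : B →ₐ[R] R) (g : MvPolynomial (Fin n) R →ₐ[R] B) (hg : g.toRingHom.Etale)
    (h0 : ∀ i, σ (g (X i)) = 0) (k : ℕ) :
    ∃ φ : (Fin n →₀ ℕ) → (B →ₗ[R] R), ∀ (C : Type u) [CommRing C] [Algebra R C] (b : B),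
      (1 : C) ⊗ₜ[R] b ∈ RingHom.ker (augBC σ C) ^ (k + 1) ↔ ∀ a, algebraMap R C (φ a b) = 0 := by
  obtain ⟨ψ, hψ0, hψ⟩ := exists_jet σ g hg h0 k
  obtain ⟨Cf, hCf⟩ := exists_coeff (R := R) (n := n) k
  refine ⟨fun a => (Cf a).comp ψ.toLinearMap, fun C _ _ b => ⟨fun hb a => ?_, fun hb => ?_⟩⟩
  · let T : C ⊗[R] B →ₐ[R] C ⊗[R] Jets R n k := Algebra.TensorProduct.map (AlgHom.id R C) ψ
    have h1 : RingHom.ker (augBC σ C) ^ (k + 1) ≤ RingHom.ker T := by
      rw [ker_augBC, ← Ideal.map_pow, Ideal.map_le_iff_le_comap]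
      intro x hx
      show T ((1 : C) ⊗ₜ x) = 0
      simp [T, hψ0 x hx]
    have h2 : T ((1 : C) ⊗ₜ b) = 0 := h1 hb
    have h3 := congrArg (fun z => TensorProduct.rid R C ((Cf a).lTensor C z)) h2
    simpa [T, Algebra.smul_def] using h3
  · let p := RingHom.ker (augBC σ C)
    let f : B →ₐ[R] (C ⊗[R] B) ⧸ p ^ (k + 1) :=
      (Ideal.Quotient.mkₐ R (p ^ (k + 1))).comp Algebra.TensorProduct.includeRight
    obtain ⟨Θ, hΘ⟩ := hψ _ f (p.map (Ideal.Quotient.mk _)) (by rw [← Ideal.map_pow, Ideal.map_quotient_self]) fun x hx => by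
      refine Ideal.mem_map_of_mem _ ?_
      show augBC σ C ((1 : C) ⊗ₜ x) = 0
      rw [augBC_tmul, hx, map_zero, mul_zero]
    rw [← Ideal.Quotient.eq_zero_iff_mem]
    have : Θ (ψ b) = 0 := hCf _ Θ (ψ b) fun a => by
      rw [IsScalarTower.algebraMap_apply R C ((C ⊗[R] B) ⧸ p ^ (k + 1))]
      show algebraMap C _ (algebraMap R C ((Cf a) (ψ b))) = 0
      rw [show algebraMap R C ((Cf a) (ψ b)) = 0 from hb a, map_zero]
    rw [show Θ (ψ b) = f b from AlgHom.congr_fun hΘ b] at this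
    exact this

/-- The powers of the augmentation ideal meet in zero if the fibres are domains. -/
theorem eq_zero_of_forall_mem_pow [Algebra.IsStandardSmooth R B] (σ : B →ₐ[R] R)
    (hdom : ∀ (L : Type u) [Field L] [Algebra R L], IsDomain (L ⊗[R] B))
    (b : B) (hb : ∀ k, b ∈ RingHom.ker σ ^ (k + 1)) : b = 0 := by
  obtain ⟨R₁, B₁, _, _, _, _, _, _, σ₁, e, b₁, hinj, hb₁, hσ₁⟩ := exists_model σ b
  obtain ⟨n, g, hg, h0⟩ := exists_adapted σ₁
  choose φ hφ using mem_pow_iff_coeff σ₁ g hg h0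
  haveI : Module.Flat R₁ B₁ := Algebra.Smooth.flat R₁ B₁
  have hbc : ∀ k a, φ k a b₁ = 0 := by
    intro k
    have hker : (RingHom.ker σ).map e.symm.toAlgHom ≤ RingHom.ker (augBC σ₁ R) := by
      rw [Ideal.map_le_iff_le_comap]
      intro x hx
      show augBC σ₁ R (e.symm x) = 0
      have : ∀ z, augBC σ₁ R z = σ (e z) := fun z => by
        induction z using TensorProduct.induction_on with
        | zero => simp
        | add z w hz hw => simp only [map_add, hz, hw]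
        | tmul c y =>
          rw [augBC_tmul, ← hσ₁, show c ⊗ₜ[R₁] y = algebraMap R (R ⊗[R₁] B₁) c * (1 ⊗ₜ y) by simp, map_mul, map_mul,
            AlgEquiv.commutes, AlgHom.commutes]
          rfl
      rw [this, AlgEquiv.apply_symm_apply]
      exact hx
    have h2 := Ideal.mem_map_of_mem e.symm.toAlgHom (hb k)
    rw [Ideal.map_pow] at h2
    have h3 := Ideal.pow_right_mono hker (k + 1) h2
    rw [show e.symm.toAlgHom b = (1 : R) ⊗ₜ[R₁] b₁ by rw [← hb₁]; exact e.symm_apply_apply _, hφ k] at h3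
    exact fun a => hinj (by rw [map_zero]; exact h3 a)
  have hb₁0 : b₁ = 0 := eq_zero_of_functionals hinj (fun i : ℕ × (Fin n →₀ ℕ) => φ i.1 i.2) (fun Q _ y hy => by
    let L := Q.ResidueField
    haveI : IsDomain (L ⊗[R₁] B₁) :=
      haveI := hdom L
      MulEquiv.isDomain (L ⊗[R] B) ((Algebra.TensorProduct.cancelBaseChange R₁ R L L B₁).symm.trans
        (Algebra.TensorProduct.congr (AlgEquiv.refl (R := L) (A₁ := L)) e)).toMulEquiv
    haveI : IsNoetherianRing (L ⊗[R₁] B₁) := Algebra.FiniteType.isNoetherianRing L _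
    have hne : RingHom.ker (augBC σ₁ L) ≠ ⊤ := RingHom.ker_ne_top _
    have h1 : ∀ k, (1 : L) ⊗ₜ[R₁] y ∈ RingHom.ker (augBC σ₁ L) ^ (k + 1) := fun k => (hφ k L y).mpr fun a => by
      rw [IsScalarTower.algebraMap_apply R₁ R L, Ideal.algebraMap_residueField_eq_zero]
      exact hy (k, a)
    rw [← Submodule.mem_bot (L ⊗[R₁] B₁) (x := (1 : L) ⊗ₜ[R₁] y), ← Ideal.iInf_pow_eq_bot_of_isDomain _ hne, Submodule.mem_iInf]
    intro k
    cases k with
    | zero => simp
    | succ k => exact h1 k) b₁ (fun i => hbc i.1 i.2)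
  rw [← hb₁, hb₁0, TensorProduct.tmul_zero, map_zero]

/-- The content ideal of an element: it cuts out the algebras over which the element vanishes. -/
theorem exists_content [Algebra.IsStandardSmooth R B] (σ : B →ₐ[R] R)
    (hdom : ∀ (L : Type u) [Field L] [Algebra R L], IsDomain (L ⊗[R] B)) (b : B) :
    ∃ J : Ideal R, J.FG ∧ ∀ (C : Type u) [CommRing C] [Algebra R C],
      (1 : C) ⊗ₜ[R] b = 0 ↔ J ≤ RingHom.ker (algebraMap R C) := by
  obtain ⟨R₁, B₁, _, _, _, _, _, _, σ₁, e, b₁, hinj, hb₁, hσ₁⟩ := exists_model σ b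
  obtain ⟨n, g, hg, h0⟩ := exists_adapted σ₁
  choose φ hφ using mem_pow_iff_coeff σ₁ g hg h0
  refine ⟨(Ideal.span (Set.range fun i : ℕ × (Fin n →₀ ℕ) => φ i.1 i.2 b₁)).map (algebraMap R₁ R),
    Ideal.FG.map (IsNoetherian.noetherian _) _, fun C _ _ => ?_⟩
  letI : Algebra R₁ C := ((algebraMap R C).comp (algebraMap R₁ R)).toAlgebra
  haveI : IsScalarTower R₁ R C := IsScalarTower.of_algebraMap_eq fun _ => rfl
  let E : C ⊗[R] B ≃ₐ[C] C ⊗[R₁] B₁ :=
    (Algebra.TensorProduct.congr (AlgEquiv.refl (R := C) (A₁ := C)) e.symm).trans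
      (Algebra.TensorProduct.cancelBaseChange R₁ R C C B₁)
  have hE : E ((1 : C) ⊗ₜ b) = (1 : C) ⊗ₜ b₁ := by
    simp [E, ← hb₁]
  rw [← map_eq_zero_iff E E.injective, hE, Ideal.map_le_iff_le_comap, Ideal.span_le, Set.range_subset_iff]
  refine ⟨fun h i => ?_, fun h => ?_⟩
  · have h1 := (hφ i.1 C b₁).mp (by rw [h]; exact zero_mem _) i.2
    exact h1
  · refine eq_zero_of_forall_mem_pow (augBC σ₁ C) (fun L _ _ => ?_) _ fun k => ?_
    · letI : Algebra R L := ((algebraMap C L).comp (algebraMap R C)).toAlgebra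
      letI : Algebra R₁ L := ((algebraMap R L).comp (algebraMap R₁ R)).toAlgebra
      haveI : IsScalarTower R₁ R L := IsScalarTower.of_algebraMap_eq fun _ => rfl
      haveI : IsScalarTower R₁ C L := IsScalarTower.of_algebraMap_eq fun _ => rfl
      haveI := hdom L
      exact MulEquiv.isDomain (L ⊗[R] B) (((Algebra.TensorProduct.cancelBaseChange R₁ C L L B₁).trans
        (Algebra.TensorProduct.cancelBaseChange R₁ R L L B₁).symm).trans
        (Algebra.TensorProduct.congr (AlgEquiv.refl (R := L) (A₁ := L)) e)).toMulEquiv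
    · exact (hφ k C b₁).mpr fun a => h (k, a)

/-- The locus where an element vanishes near the section: it is cut out by a finitely generated ideal. -/
theorem exists_content_near [Algebra.IsStandardSmooth R B] (σ : B →ₐ[R] R) (b : B) :
    ∃ J : Ideal R, J.FG ∧ ∀ (C : Type u) [CommRing C] [Algebra R C],
      (∃ u : C ⊗[R] B, augBC σ C u = 1 ∧ u * ((1 : C) ⊗ₜ[R] b) = 0) ↔ J ≤ RingHom.ker (algebraMap R C) := by
  obtain ⟨R₁, B₁, _, _, _, _, _, _, σ₁, e, b₁, hinj, hb₁, hσ₁⟩ := exists_model σ b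
  obtain ⟨n, g, hg, h0⟩ := exists_adapted σ₁
  choose φ hφ using mem_pow_iff_coeff σ₁ g hg h0
  let J₁ : Ideal R₁ := Ideal.span (Set.range fun i : ℕ × (Fin n →₀ ℕ) => φ i.1 i.2 b₁)
  refine ⟨J₁.map (algebraMap R₁ R), Ideal.FG.map (IsNoetherian.noetherian _) _, fun C _ _ => ?_⟩
  letI : Algebra R₁ C := ((algebraMap R C).comp (algebraMap R₁ R)).toAlgebra
  haveI : IsScalarTower R₁ R C := IsScalarTower.of_algebraMap_eq fun _ => rfl
  let E : C ⊗[R] B ≃ₐ[C] C ⊗[R₁] B₁ :=
    (Algebra.TensorProduct.congr (AlgEquiv.refl (R := C) (A₁ := C)) e.symm).trans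
      (Algebra.TensorProduct.cancelBaseChange R₁ R C C B₁)
  have hE : E ((1 : C) ⊗ₜ b) = (1 : C) ⊗ₜ b₁ := by
    simp [E, ← hb₁]
  have haug : ∀ z, augBC σ₁ C z = augBC σ C (E.symm z) := fun z => by
    induction z using TensorProduct.induction_on with
    | zero => simp
    | add z w hz hw => simp only [map_add, hz, hw]
    | tmul c y =>
      have h1 : E (c ⊗ₜ e ((1 : R) ⊗ₜ y)) = c ⊗ₜ y := by simp [E]
      rw [← h1, E.symm_apply_apply, h1, augBC_tmul, augBC_tmul, hσ₁, ← IsScalarTower.algebraMap_apply]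
  rw [Ideal.map_le_iff_le_comap, Ideal.span_le, Set.range_subset_iff]
  constructor
  · rintro ⟨u, hu1, hu0⟩ i
    refine (hφ i.1 C b₁).mp ?_ i.2
    have hu : E u * ((1 : C) ⊗ₜ b₁) = 0 := by rw [← hE, ← map_mul, hu0, map_zero]
    have hker : 1 - E u ∈ RingHom.ker (augBC σ₁ C) := by
      show augBC σ₁ C (1 - E u) = 0
      rw [map_sub, map_one, haug, E.symm_apply_apply, hu1, sub_self]
    have hpow : ∀ m : ℕ, (1 - E u) ^ m * ((1 : C) ⊗ₜ[R₁] b₁) = (1 : C) ⊗ₜ b₁ := by
      intro m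
      induction m with
      | zero => simp
      | succ m ih => rw [pow_succ, _root_.mul_assoc, sub_mul, _root_.one_mul, hu, sub_zero, ih]
    rw [← hpow (i.1 + 1)]
    exact Ideal.mul_mem_right _ _ (Ideal.pow_mem_pow hker _)
  · intro h
    let R' := R₁ ⧸ J₁
    have hmem : ∀ k, (1 : R') ⊗ₜ[R₁] b₁ ∈ RingHom.ker (augBC σ₁ R') ^ (k + 1) := fun k =>
      (hφ k R' b₁).mpr fun a => Ideal.Quotient.eq_zero_iff_mem.mpr (Ideal.subset_span ⟨(k, a), rfl⟩)
    haveI : IsNoetherianRing (R' ⊗[R₁] B₁) := Algebra.FiniteType.isNoetherianRing R' _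
    have hinf : (1 : R') ⊗ₜ[R₁] b₁ ∈
        (⨅ i : ℕ, RingHom.ker (augBC σ₁ R') ^ i • ⊤ : Submodule (R' ⊗[R₁] B₁) (R' ⊗[R₁] B₁)) := by
      rw [Submodule.mem_iInf]
      intro i
      rw [smul_eq_mul, Ideal.mul_top]
      cases i with
      | zero => simp
      | succ k => exact hmem k
    obtain ⟨⟨r, hr⟩, hr'⟩ := (Ideal.mem_iInf_smul_pow_eq_bot_iff _ _).mp hinf
    simp only [smul_eq_mul] at hr'
    let lam : R' →ₐ[R₁] C := Ideal.Quotient.liftₐ J₁ (Algebra.ofId R₁ C) fun a ha =>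
      (Ideal.span_le.mpr (Set.range_subset_iff.mpr fun i => h i) : J₁ ≤ RingHom.ker (Algebra.ofId R₁ C)) ha
    let T : R' ⊗[R₁] B₁ →ₐ[R₁] C ⊗[R₁] B₁ := Algebra.TensorProduct.map lam (AlgHom.id R₁ B₁)
    have hT : ∀ z, augBC σ₁ C (T z) = lam (augBC σ₁ R' z) := fun z => by
      induction z using TensorProduct.induction_on with
      | zero => simp
      | add z w hz hw => simp only [map_add, hz, hw]
      | tmul c y =>
        simp only [T, Algebra.TensorProduct.map_tmul, AlgHom.id_apply, augBC_tmul, map_mul, AlgHom.commutes]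
    refine ⟨E.symm (T (1 - r)), ?_, ?_⟩
    · rw [← haug, hT, map_sub, map_one, show augBC σ₁ R' r = 0 from hr, sub_zero, map_one]
    · apply E.injective
      rw [map_mul, E.apply_symm_apply, hE, map_zero,
        show (1 : C) ⊗ₜ[R₁] b₁ = T ((1 : R') ⊗ₜ b₁) by simp [T], ← map_mul, sub_mul, _root_.one_mul, hr', sub_self,
        map_zero]

/-- The same for a finitely generated ideal. -/
theorem exists_content_near_ideal [Algebra.IsStandardSmooth R B] (σ : B →ₐ[R] R) {I : Ideal B} (hI : I.FG) :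
    ∃ J : Ideal R, J.FG ∧ ∀ (C : Type u) [CommRing C] [Algebra R C],
      (∃ u : C ⊗[R] B, augBC σ C u = 1 ∧ ∀ i ∈ I, u * ((1 : C) ⊗ₜ[R] i) = 0) ↔ J ≤ RingHom.ker (algebraMap R C) := by
  classical
  choose J hJ hiff using exists_content_near σ
  obtain ⟨t, rfl⟩ := hI
  refine ⟨t.sup J, Submodule.fg_finset_sup t J fun b _ => hJ b, fun C _ _ => ?_⟩
  rw [Finset.sup_le_iff]
  refine ⟨fun ⟨u, h1, h0⟩ b hb => (hiff b C).mp ⟨u, h1, h0 b (Ideal.subset_span hb)⟩, fun h => ?_⟩
  have h' : ∀ b : t, ∃ u : C ⊗[R] B, augBC σ C u = 1 ∧ u * ((1 : C) ⊗ₜ[R] (b : B)) = 0 :=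
    fun b => (hiff b C).mpr (h b b.2)
  choose u hu1 hu0 using h'
  refine ⟨∏ b : t, u b, by rw [map_prod]; exact Finset.prod_eq_one fun b _ => hu1 b, fun i hi => ?_⟩
  refine Submodule.span_induction (fun b hb => ?_) (by simp) (fun x y _ _ hx hy => ?_) (fun c x _ hx => ?_) hi
  · rw [← Finset.prod_erase_mul _ _ (Finset.mem_univ (⟨b, hb⟩ : t)), _root_.mul_assoc, hu0 ⟨b, hb⟩, mul_zero]
  · rw [TensorProduct.tmul_add, mul_add, hx, hy, add_zero]
  · rw [smul_eq_mul, show (1 : C) ⊗ₜ[R] (c * x) = ((1 : C) ⊗ₜ c) * ((1 : C) ⊗ₜ x) by simp, mul_left_comm, hx, mul_zero]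

end Groth.Agent.SGA3cLib.Jet
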