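import Groth.Agent.SGA3cLib.MultTrivialAction
import Groth.Agent.SGA3cLib.ActionPoints
import Mathlib.AlgebraicGeometry.Morphisms.FiniteType
import Mathlib.RingTheory.LocalRing.ResidueField.Ideal
import Mathlib.RingTheory.Nakayama

/-!
# Actions of groups of multiplicative type which are trivial on all fibres are trivial

For a grading of a finitely generated algebra, the pieces of nonzero degree generate a finitely generated ideal;
if it vanishes on every fibre it is zero by Nakayama's lemma.
-/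

set_option linter.style.haveILetI false
set_option autoImplicit false

universe u

open CategoryTheory CategoryTheory.Limits MonoidalCategory CartesianMonoidalCategory MonObj AlgebraicGeometry

noncomputable section

namespace Groth.Agent.SGA3cLib.MultFibTriv

open MultTriv

section Algebra

variable {R B : Type u} [CommRing R] [CommRing B] [Algebra R B] {M : Type} [CommGroup M]

/-- A coaction trivial on all fibres is trivial. -/
theorem coeff_eq_of_fibres [DecidableEq M] [Algebra.FiniteType R B] (φ : B →ₐ[R] MonoidAlgebra B M)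
    (hφ : ∀ m n b, (φ ((φ b).coeff n)).coeff m = if m = n then (φ b).coeff n else 0)
    (hfib : ∀ (p : Ideal R) [p.IsPrime] (n : M), n ≠ 1 → ∀ b, ∃ r ∉ p, r • (φ b).coeff n ∈ p.map (algebraMap R B))
    (hε : ∀ b, MonoidAlgebra.liftNCAlgHom (AlgHom.id R B) (1 : M →* B) (fun _ _ => Commute.all _ _) (φ b) = b) (b : B) :
    φ b = MonoidAlgebra.single 1 b := by
  obtain ⟨s, hs⟩ := (Algebra.FiniteType.out : (⊤ : Subalgebra R B).FG)
  let K : Ideal B := Ideal.span (⋃ g ∈ (s : Set B), (φ g).coeff '' ((φ g).coeff.support.erase 1 : Finset M))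
  have hKfg : K.FG := Submodule.fg_span (s.finite_toSet.biUnion fun g _ => ((φ g).coeff.support.erase 1).finite_toSet.image _)
  let mk := Ideal.Quotient.mk K
  have hK : ∀ b n, n ≠ 1 → (φ b).coeff n ∈ K := by
    let Φ : B →ₐ[R] MonoidAlgebra (B ⧸ K) M := (MonoidAlgebra.mapAlgHom M (Ideal.Quotient.mkₐ R K)).comp φ
    let E : Subalgebra R (MonoidAlgebra (B ⧸ K) M) := (IsScalarTower.toAlgHom R (B ⧸ K) (MonoidAlgebra (B ⧸ K) M)).range
    have h1 : (⊤ : Subalgebra R B) ≤ E.comap Φ := by
      rw [← hs, Algebra.adjoin_le_iff]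
      intro g hg
      refine ⟨mk ((φ g).coeff 1), MonoidAlgebra.ext (Finsupp.ext fun m => ?_)⟩
      by_cases hm : m = 1
      · subst hm; simp [Φ, mk, MonoidAlgebra.coe_algebraMap]
      · have : (φ g).coeff m ∈ K := by
          by_cases h0 : (φ g).coeff m = 0
          · rw [h0]; exact K.zero_mem
          · exact Ideal.subset_span (Set.mem_biUnion hg ⟨m, Finset.mem_erase.mpr ⟨hm, Finsupp.mem_support_iff.mpr h0⟩, rfl⟩)
        simp [Φ, mk, MonoidAlgebra.coe_algebraMap, Ne.symm hm, Ideal.Quotient.eq_zero_iff_mem.mpr this]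
    intro b n hn
    obtain ⟨c, hc⟩ := h1 (show b ∈ (⊤ : Subalgebra R B) from trivial)
    have := congrArg (fun y => y.coeff n) hc
    simp [Φ, MonoidAlgebra.coe_algebraMap, Ne.symm hn] at this
    exact Ideal.Quotient.eq_zero_iff_mem.mp this.symm
  have hKq : ∀ q : Ideal B, q.IsMaximal → K ≤ q • K := by
    intro q hq
    refine Ideal.span_le.mpr (Set.iUnion₂_subset fun g _ => ?_)
    rintro _ ⟨n, hn, rfl⟩
    have hn1 : n ≠ 1 := (Finset.mem_erase.mp hn).1
    have hne : ∀ r, r ∉ q.comap (algebraMap R B) → ∃ t : B, t * algebraMap R B r - 1 ∈ q := fun r hr => by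
      obtain ⟨y, i, hi, hy⟩ := hq.exists_inv (show algebraMap R B r ∉ q from hr)
      exact ⟨y, by rw [show y * algebraMap R B r - 1 = -i by linear_combination hy]; exact q.neg_mem hi⟩
    obtain ⟨r, hr, hrx⟩ := hfib (q.comap (algebraMap R B)) n hn1 g
    obtain ⟨t, ht⟩ := hne r hr
    have hk : (φ g).coeff n ∈ K := hK g n hn1
    have hproj : ∀ x ∈ (q.comap (algebraMap R B)).map (algebraMap R B), (φ x).coeff n ∈ q • K := by
      intro x hx
      have hx' : x ∈ q.comap (algebraMap R B) • (⊤ : Submodule R B) := by rw [Ideal.smul_top_eq_map]; exact hx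
      refine Submodule.smul_induction_on hx' (fun a ha y _ => ?_) (fun x y hx hy => ?_)
      · rw [map_smul, MonoidAlgebra.coeff_smul, Finsupp.smul_apply, Algebra.smul_def a]
        exact Submodule.smul_mem_smul (show algebraMap R B a ∈ q from ha) (hK y n hn1)
      · rw [map_add, MonoidAlgebra.coeff_add, Finsupp.add_apply]
        exact add_mem hx hy
    have h1 : algebraMap R B r * (φ g).coeff n ∈ q • K := by
      have := hproj _ hrx
      rwa [map_smul, MonoidAlgebra.coeff_smul, Finsupp.smul_apply, hφ, if_pos rfl, Algebra.smul_def r] at this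
    show (φ g).coeff n ∈ q • K
    rw [show (φ g).coeff n = t * (algebraMap R B r * (φ g).coeff n) - (t * algebraMap R B r - 1) * (φ g).coeff n by ring]
    exact sub_mem (Ideal.mul_mem_left _ _ h1) (by rw [← smul_eq_mul]; exact Submodule.smul_mem_smul ht hk)
  have hK0 : K = ⊥ := by
    suffices (Submodule.annihilator K) = ⊤ from Submodule.annihilator_eq_top_iff.mp this
    by_contra hne
    obtain ⟨q, hq, hle⟩ := Ideal.exists_le_maximal _ hne
    obtain ⟨r, hr1, hr0⟩ := Submodule.exists_sub_one_mem_and_smul_eq_zero_of_fg_of_le_smul q K hKfg (hKq q hq)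
    have hrq : r ∈ q := hle (Submodule.mem_annihilator.mpr hr0)
    exact hq.ne_top ((Ideal.eq_top_iff_one q).mpr (by simpa using sub_mem hrq hr1))
  have h1 : φ b = MonoidAlgebra.single 1 ((φ b).coeff 1) := by
    refine MonoidAlgebra.ext (Finsupp.ext fun m => ?_)
    by_cases hm : m = 1
    · subst hm; simp
    · have := hK b m hm
      rw [hK0, Ideal.mem_bot] at this
      simp [this, Ne.symm hm]
  have h2 := hε b
  rw [h1] at h2
  simp [MonoidAlgebra.liftNCAlgHom, MonoidAlgebra.liftNCRingHom] at h2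
  rw [h1, h2]

end Algebra

variable {S : Scheme.{u}} {R : Type u} [CommRing R] {s : Spec (CommRingCat.of R) ⟶ S}

/-- The key local statement. -/
theorem lift_act_eq {G X : Over S} [GrpObj G] [LocallyOfFiniteType X.hom] (a : AlgGrp.Action G X)
    (htriv : ∀ (A : Type u) [CommRing A] [Algebra R A] (K : Type u) [Field K] (κ : R →+* K) (ρ : K →+* A),
      ρ.comp κ = algebraMap R A → ∀ (g : Q s A ⟶ G) (x : Q s A ⟶ X), lift g x ≫ a.act = x)
    {M : Type} [CommGroup M]
    (pt : ∀ (A : Type u) [CommRing A] [Algebra R A], (M →* A) → (Q s A ⟶ G))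
    (pt_mul : ∀ (A : Type u) [CommRing A] [Algebra R A] (χ ψ : M →* A), pt A (χ * ψ) = pt A χ * pt A ψ)
    (pt_nat : ∀ (A A' : Type u) [CommRing A] [Algebra R A] [CommRing A'] [Algebra R A'] (v : A →ₐ[R] A') (χ : M →* A),
      q s v ≫ pt A χ = pt A' ((v : A →* A').comp χ))
    {A : Type u} [CommRing A] [Algebra R A] (χ : M →* A) (x : Q s A ⟶ X)
    {W : (pullback X.hom s).Opens} (hW : IsAffineOpen W) (l : Spec (CommRingCat.of A) ⟶ pullback X.hom s)
    (hl₁ : l ≫ pullback.fst X.hom s = x.left) (hl₂ : l ≫ pullback.snd X.hom s = Spec.map (CommRingCat.ofHom (algebraMap R A)))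
    (hlW : Set.range l.base ⊆ (W : Set ↥(pullback X.hom s))) :
    lift (pt A χ) x ≫ a.act = x := by
  classical
  let B : CommRingCat.{u} := Γ(pullback X.hom s, W)
  letI : Algebra R B := (Spec.preimage (hW.fromSpec ≫ pullback.snd X.hom s)).hom.toAlgebra
  have hB : Spec.map (CommRingCat.ofHom (algebraMap R B)) = hW.fromSpec ≫ pullback.snd X.hom s :=
    Spec.map_preimage _
  let j : Q s B ⟶ X := Over.homMk (hW.fromSpec ≫ pullback.fst X.hom s) (by
    show (hW.fromSpec ≫ pullback.fst X.hom s) ≫ X.hom = Spec.map _ ≫ s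
    rw [hB, Category.assoc, Category.assoc, pullback.condition])
  -- lifts to the base change and comparison in the chart
  have hlift : ∀ (A : Type u) [CommRing A] [Algebra R A] (v : B →ₐ[R] A),
      Spec.map (CommRingCat.ofHom v.toRingHom) ≫ hW.fromSpec ≫ pullback.snd X.hom s =
        Spec.map (CommRingCat.ofHom (algebraMap R A)) := fun A _ _ v => by
    rw [← hB, ← Spec.map_comp, ← CommRingCat.ofHom_comp, AlgHom.toRingHom_eq_coe, v.comp_algebraMap]
  have inj : ∀ (A : Type u) [CommRing A] [Algebra R A] (v w : B →ₐ[R] A), q s v ≫ j = q s w ≫ j → v = w := by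
    intro A _ _ v w h
    have h' : Spec.map (CommRingCat.ofHom v.toRingHom) ≫ hW.fromSpec = Spec.map (CommRingCat.ofHom w.toRingHom) ≫ hW.fromSpec := by
      refine pullback.hom_ext ?_ ?_
      · simp only [Category.assoc]
        exact congrArg CommaMorphism.left h
      · simp only [Category.assoc, hlift]
    rw [cancel_mono] at h'
    exact AlgHom.coe_ringHom_injective (congrArg CommRingCat.Hom.hom (Spec.map_injective h'))
  have exists_chart : ∀ (A : Type u) [CommRing A] [Algebra R A] (y : Q s A ⟶ X)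
      (l : Spec (CommRingCat.of A) ⟶ pullback X.hom s), l ≫ pullback.fst X.hom s = y.left →
      l ≫ pullback.snd X.hom s = Spec.map (CommRingCat.ofHom (algebraMap R A)) →
      Set.range l.base ⊆ (W : Set ↥(pullback X.hom s)) → ∃ v : B →ₐ[R] A, q s v ≫ j = y := by
    intro A _ _ y l h₁ h₂ h₃
    obtain ⟨v, hv⟩ := Spec.map_surjective (IsOpenImmersion.lift hW.fromSpec l (by rw [hW.range_fromSpec]; exact h₃))
    have hv' : Spec.map v ≫ hW.fromSpec = l := by rw [hv]; exact IsOpenImmersion.lift_fac _ _ _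
    have hcomm : CommRingCat.ofHom (algebraMap R B) ≫ v = CommRingCat.ofHom (algebraMap R A) := by
      apply Spec.map_injective
      rw [Spec.map_comp, hB, ← Category.assoc, hv', h₂]
    refine ⟨⟨v.hom, fun r => congr($hcomm r)⟩, ?_⟩
    ext1
    show Spec.map v ≫ hW.fromSpec ≫ pullback.fst X.hom s = y.left
    rw [← Category.assoc, hv', h₁]
  let incl : B →ₐ[R] (MonoidAlgebra B M) := IsScalarTower.toAlgHom R B (MonoidAlgebra B M)
  let γ : Q s (MonoidAlgebra B M) ⟶ X := lift (pt (MonoidAlgebra B M) (MonoidAlgebra.of B M)) (q s incl ≫ j) ≫ a.act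
  haveI : Algebra.FiniteType R B := by
    rw [← RingHom.finiteType_algebraMap, ← CommRingCat.hom_ofHom (algebraMap R B),
      ← HasRingHomProperty.Spec_iff (P := @LocallyOfFiniteType), hB]
    infer_instance
  let lγ : Spec (CommRingCat.of (MonoidAlgebra B M)) ⟶ pullback X.hom s :=
    pullback.lift γ.left (Spec.map (CommRingCat.ofHom (algebraMap R (MonoidAlgebra B M)))) (Over.w γ)
  have htrivγ : ∀ (A : Type u) [CommRing A] [Algebra R A] (K : Type u) [Field K] (κ : R →+* K) (ρ : K →+* A),
      ρ.comp κ = algebraMap R A → ∀ π : MonoidAlgebra B M →ₐ[R] A, q s π ≫ γ = q s π ≫ q s incl ≫ j := by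
    intro A _ _ K _ κ ρ hρ π
    show q s π ≫ lift _ _ ≫ a.act = _
    rw [← Category.assoc, comp_lift]
    exact htriv A K κ ρ hρ _ _
  have hrange : Set.range lγ.base ⊆ (W : Set ↥(pullback X.hom s)) := by
    rintro _ ⟨(p : PrimeSpectrum (MonoidAlgebra B M)), rfl⟩
    let π : MonoidAlgebra B M →ₐ[R] p.asIdeal.ResidueField := IsScalarTower.toAlgHom R _ _
    have h1 := htrivγ p.asIdeal.ResidueField p.asIdeal.ResidueField (algebraMap R _) (RingHom.id _) (RingHom.id_comp _) π
    have hlγ : Spec.map (CommRingCat.ofHom π.toRingHom) ≫ lγ =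
        Spec.map (CommRingCat.ofHom π.toRingHom) ≫ Spec.map (CommRingCat.ofHom incl.toRingHom) ≫ hW.fromSpec := by
      refine pullback.hom_ext ?_ ?_
      · simp only [lγ, Category.assoc, pullback.lift_fst]
        exact congrArg CommaMorphism.left h1
      · simp only [lγ, Category.assoc, pullback.lift_snd, hlift]
    obtain ⟨p', hp'⟩ : p ∈ Set.range (PrimeSpectrum.comap π.toRingHom) := by
      refine ⟨⊥, PrimeSpectrum.ext ?_⟩
      show Ideal.comap π.toRingHom (⊥ : Ideal p.asIdeal.ResidueField) = p.asIdeal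
      exact Ideal.ker_algebraMap_residueField p.asIdeal
    rw [← hp']
    change (Spec.map (CommRingCat.ofHom π.toRingHom) ≫ lγ).base p' ∈ _
    rw [hlγ, ← Category.assoc, Scheme.Hom.comp_apply, ← hW.range_fromSpec]
    exact ⟨_, rfl⟩
  obtain ⟨φ, hφ⟩ := exists_chart (MonoidAlgebra B M) γ lγ (pullback.lift_fst _ _ _) (pullback.lift_snd _ _ _) hrange
  -- associativity
  let c : (MonoidAlgebra B M) →ₐ[R] (MonoidAlgebra (MonoidAlgebra B M) M) := IsScalarTower.toAlgHom R (MonoidAlgebra B M) (MonoidAlgebra (MonoidAlgebra B M) M)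
  let u₁ : (MonoidAlgebra B M) →ₐ[R] (MonoidAlgebra (MonoidAlgebra B M) M) := MonoidAlgebra.mapAlgHom M φ
  let u₂ : (MonoidAlgebra B M) →ₐ[R] (MonoidAlgebra (MonoidAlgebra B M) M) := MonoidAlgebra.liftNCAlgHom (c.comp incl)
    ((MonoidAlgebra.of (MonoidAlgebra B M) M) * ((c : (MonoidAlgebra B M) →* (MonoidAlgebra (MonoidAlgebra B M) M)).comp (MonoidAlgebra.of B M))) (fun _ _ => Commute.all _ _)
  have hu₁i : u₁.comp incl = c.comp φ := AlgHom.ext fun b => by simp [u₁, c, incl, MonoidAlgebra.coe_algebraMap]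
  have hu₂i : u₂.comp incl = c.comp incl := AlgHom.ext fun b => by
    simp [u₂, c, incl, MonoidAlgebra.coe_algebraMap, MonoidAlgebra.liftNCAlgHom, MonoidAlgebra.liftNCRingHom,
      ← MonoidAlgebra.one_def]
  have hu₁o : (u₁ : (MonoidAlgebra B M) →* (MonoidAlgebra (MonoidAlgebra B M) M)).comp (MonoidAlgebra.of B M) = MonoidAlgebra.of (MonoidAlgebra B M) M := MonoidHom.ext fun m => by
    simp [u₁]
  have hu₂o : (u₂ : (MonoidAlgebra B M) →* (MonoidAlgebra (MonoidAlgebra B M) M)).comp (MonoidAlgebra.of B M) =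
      MonoidAlgebra.of (MonoidAlgebra B M) M * (c : (MonoidAlgebra B M) →* (MonoidAlgebra (MonoidAlgebra B M) M)).comp (MonoidAlgebra.of B M) := MonoidHom.ext fun m => by
    simp [u₂, MonoidAlgebra.liftNCAlgHom, MonoidAlgebra.liftNCRingHom]
  have hassoc : u₁.comp φ = u₂.comp φ := by
    refine inj _ _ _ ?_
    rw [← q_comp, ← q_comp, Category.assoc, Category.assoc, hφ]
    show q s u₁ ≫ lift _ _ ≫ a.act = q s u₂ ≫ lift _ _ ≫ a.act
    rw [← Category.assoc, ← Category.assoc, comp_lift, comp_lift, ← Category.assoc, ← Category.assoc, q_comp,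
      q_comp, hu₁i, hu₂i, pt_nat, pt_nat, hu₁o, hu₂o, pt_mul, exists_affine_coaction, ← pt_nat (MonoidAlgebra B M) (MonoidAlgebra (MonoidAlgebra B M) M) c,
      ← q_comp, Category.assoc, hφ, ← q_comp, Category.assoc]
    show lift _ (q s c ≫ lift _ _ ≫ a.act) ≫ a.act = _
    rw [← Category.assoc (q s c), comp_lift]
  have hcoact : ∀ m n b, (φ ((φ b).coeff n)).coeff m = if m = n then (φ b).coeff n else 0 := by
    intro m n b
    have h := congrArg (fun y => (y.coeff n).coeff m) (AlgHom.congr_fun hassoc b)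
    simp only [AlgHom.comp_apply] at h
    have h1 : ((u₁ (φ b)).coeff n).coeff m = (φ ((φ b).coeff n)).coeff m := by simp [u₁]
    rw [← h1, h]
    generalize φ b = z
    induction z using MonoidAlgebra.induction_linear with
    | zero => simp
    | add x y hx hy =>
      simp only [map_add, MonoidAlgebra.coeff_add, Finsupp.add_apply, hx, hy]
      split_ifs <;> simp
    | single p r =>
      simp only [u₂, c, incl, MonoidAlgebra.liftNCAlgHom, MonoidAlgebra.liftNCRingHom]
      simp [MonoidAlgebra.coe_algebraMap, MonoidAlgebra.single_mul_single, MonoidAlgebra.coeff_single,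
        Finsupp.single_apply]
      split_ifs <;> simp_all
  have hε : ∀ (π : MonoidAlgebra B M →ₐ[R] B), π.comp incl = AlgHom.id R B →
      (π : MonoidAlgebra B M →* B).comp (MonoidAlgebra.of B M) = 1 → π.comp φ = AlgHom.id R B := by
    intro π h1 h2
    refine inj _ _ _ ?_
    have h3 : pt B (1 : M →* B) = 1 := left_eq_mul.mp (show pt B (1 : M →* B) = pt B 1 * pt B 1 by rw [← pt_mul, _root_.mul_one])
    rw [← q_comp, Category.assoc, hφ]
    show q s π ≫ lift _ _ ≫ a.act = _
    rw [← Category.assoc, comp_lift, ← Category.assoc, q_comp, h1, pt_nat, h2, h3]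
    exact one_smulPt a _
  have hfib : ∀ (p : Ideal R) [p.IsPrime] (n : M), n ≠ 1 → ∀ b, ∃ r ∉ p, r • (φ b).coeff n ∈ p.map (algebraMap R B) := by
    intro p hp n hn b
    let T : Submonoid (B ⧸ p.map (algebraMap R B)) := p.primeCompl.map (algebraMap R (B ⧸ p.map (algebraMap R B)))
    let B' := Localization T
    let π : MonoidAlgebra B M →ₐ[R] MonoidAlgebra B' M := MonoidAlgebra.mapAlgHom M
      ((IsScalarTower.toAlgHom R (B ⧸ p.map (algebraMap R B)) B').comp (Ideal.Quotient.mkₐ R _))
    have hp0 : p ≤ RingHom.ker (algebraMap R B') := fun r hr => by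
      rw [RingHom.mem_ker, IsScalarTower.algebraMap_apply R (B ⧸ p.map (algebraMap R B)) B',
        IsScalarTower.algebraMap_apply R B (B ⧸ p.map (algebraMap R B)),
        show algebraMap B (B ⧸ p.map (algebraMap R B)) (algebraMap R B r) = 0 from
          Ideal.Quotient.eq_zero_iff_mem.mpr (Ideal.mem_map_of_mem _ hr), map_zero]
    have hpu : p.primeCompl ≤ (IsUnit.submonoid B').comap (algebraMap R B') := fun r hr => by
      show IsUnit (algebraMap R B' r)
      rw [IsScalarTower.algebraMap_apply R (B ⧸ p.map (algebraMap R B)) B']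
      exact IsLocalization.map_units B' (⟨_, Submonoid.mem_map_of_mem _ hr⟩ : T)
    let ρ : p.ResidueField →+* B' := Ideal.ResidueField.lift p (algebraMap R B') hp0 hpu
    have hρ : (MonoidAlgebra.singleOneRingHom.comp ρ).comp (algebraMap R p.ResidueField) =
        algebraMap R (MonoidAlgebra B' M) := by
      ext r
      simp [ρ, MonoidAlgebra.coe_algebraMap]
    have h1 := htrivγ (MonoidAlgebra B' M) p.ResidueField _ _ hρ π
    rw [← hφ, ← Category.assoc, ← Category.assoc, q_comp, q_comp] at h1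
    have h2 := congrArg (fun y => y.coeff n) (AlgHom.congr_fun (inj _ _ _ h1) b)
    simp [π, incl, MonoidAlgebra.coe_algebraMap, Finsupp.single_apply, Ne.symm hn] at h2
    obtain ⟨⟨_, r, hr, rfl⟩, h3⟩ := (IsLocalization.map_eq_zero_iff T B' _).mp h2
    refine ⟨r, hr, ?_⟩
    rw [← Ideal.Quotient.eq_zero_iff_mem, ← Ideal.Quotient.mkₐ_eq_mk R, map_smul, Algebra.smul_def]
    exact h3
  have hmain : φ = incl := AlgHom.ext fun b => by
    rw [coeff_eq_of_fibres φ hcoact hfib (fun b => AlgHom.congr_fun (hε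
      (MonoidAlgebra.liftNCAlgHom (AlgHom.id R B) 1 (fun _ _ => Commute.all _ _))
      (AlgHom.ext fun b => by simp [incl, MonoidAlgebra.coe_algebraMap, MonoidAlgebra.liftNCAlgHom, MonoidAlgebra.liftNCRingHom])
      (MonoidHom.ext fun m => by simp [MonoidAlgebra.liftNCAlgHom, MonoidAlgebra.liftNCRingHom])) b) b]
    simp [incl, MonoidAlgebra.coe_algebraMap]
  -- specialise
  obtain ⟨ψ, hψ⟩ := exists_chart A x l hl₁ hl₂ hlW
  let v : (MonoidAlgebra B M) →ₐ[R] A := MonoidAlgebra.liftNCAlgHom ψ χ (fun _ _ => Commute.all _ _)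
  have hvi : v.comp incl = ψ := AlgHom.ext fun b => by
    simp [v, incl, MonoidAlgebra.coe_algebraMap, MonoidAlgebra.liftNCAlgHom, MonoidAlgebra.liftNCRingHom]
  have hvo : (v : (MonoidAlgebra B M) →* A).comp (MonoidAlgebra.of B M) = χ := MonoidHom.ext fun m => by
    simp [v, MonoidAlgebra.liftNCAlgHom, MonoidAlgebra.liftNCRingHom]
  have h := congrArg (q s v ≫ ·) hφ
  simp only [γ] at h
  rw [hmain, ← Category.assoc, q_comp, hvi, hψ, ← Category.assoc, comp_lift, ← Category.assoc, q_comp, hvi, hψ,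
    pt_nat, hvo] at h
  exact h.symm

end Groth.Agent.SGA3cLib.MultFibTriv
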