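import Groth.Agent.SGA3cLib.NearFirst
import Groth.Agent.SGA3cLib.Separated
import Mathlib.AlgebraicGeometry.Morphisms.Immersion
import Mathlib.AlgebraicGeometry.Morphisms.FinitePresentation
import Mathlib.RingTheory.Finiteness.Basic

/-!
# Equality of homomorphisms next to a central fibre, over a local ring

No separation hypothesis is needed: the equalizer becomes closed on finite subgroups and on fibres.
-/

set_option linter.style.haveILetI false
set_option autoImplicit false

universe u

open CategoryTheory CategoryTheory.Limits MonoidalCategory CartesianMonoidalCategory MonObj AlgebraicGeometry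

noncomputable section

namespace Groth.Agent.SGA3cLib.Near

open Averaging GroupLike Rigidity

variable {R : Type u} [CommRing R] {M : Type} [CommGroup M] {G : Over (Spec (CommRingCat.of R))}

/-- `q` is an equalizer of two points on affine test schemes. -/
def Eqz {T : Type u} [CommRing T] [Algebra R T] (x y : P R T ⟶ G) {E : Scheme.{u}}
    (q : E ⟶ Spec (CommRingCat.of T)) : Prop :=
  ∀ (A : Type u) [CommRing A] [Algebra R A] (h : T →ₐ[R] A),
    sp h ≫ x = sp h ≫ y ↔ ∃ l : Spec (CommRingCat.of A) ⟶ E, l ≫ q = Spec.map (CommRingCat.ofHom h.toRingHom)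

theorem Eqz.comp {T T' : Type u} [CommRing T] [Algebra R T] [CommRing T'] [Algebra R T'] {x y : P R T ⟶ G}
    {E : Scheme.{u}} {q : E ⟶ Spec (CommRingCat.of T)} (hq : Eqz x y q) (c : T →ₐ[R] T') :
    Eqz (sp c ≫ x) (sp c ≫ y) (pullback.snd q (Spec.map (CommRingCat.ofHom c.toRingHom))) := by
  intro A _ _ h
  rw [← Category.assoc, ← Category.assoc, sp_comp, hq A (h.comp c)]
  have he : Spec.map (CommRingCat.ofHom (h.comp c).toRingHom) =
      Spec.map (CommRingCat.ofHom h.toRingHom) ≫ Spec.map (CommRingCat.ofHom c.toRingHom) := by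
    rw [← Spec.map_comp]; rfl
  rw [he]
  constructor
  · rintro ⟨l, hl⟩
    exact ⟨pullback.lift l _ hl, pullback.lift_snd _ _ _⟩
  · rintro ⟨l, hl⟩
    exact ⟨l ≫ pullback.fst _ _, by rw [Category.assoc, pullback.condition, reassoc_of% hl]⟩

/-- A closed immersion into an affine scheme is given by an ideal, in terms of factorizations. -/
theorem exists_ideal_of_immersion {T : Type u} [CommRing T] {E : Scheme.{u}}
    (q : E ⟶ Spec (CommRingCat.of T)) [IsImmersion q] (hcl : IsClosed (Set.range q.base)) :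
    ∃ I : Ideal T, (LocallyOfFinitePresentation q → I.FG) ∧
      ∀ (A : Type u) [CommRing A] (h : T →+* A),
        (∃ l : Spec (CommRingCat.of A) ⟶ E, l ≫ q = Spec.map (CommRingCat.ofHom h)) ↔ I ≤ RingHom.ker h := by
  haveI : IsClosedImmersion q := IsClosedImmersion.of_isPreimmersion q hcl
  obtain ⟨I, e, he⟩ := (IsClosedImmersion.Spec_iff (R := CommRingCat.of T) (f := q)).mp inferInstance
  refine ⟨I, fun hfp => ?_, fun A _ h => ⟨?_, fun hle => ?_⟩⟩
  · have h2 : LocallyOfFinitePresentation (Spec.map (CommRingCat.ofHom (Ideal.Quotient.mk I))) := by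
      have : LocallyOfFinitePresentation (e.inv ≫ q) := inferInstance
      rw [he, Iso.inv_hom_id_assoc] at this
      exact this
    rw [LocallyOfFinitePresentation.SpecMap_iff, CommRingCat.hom_ofHom, ← Ideal.Quotient.algebraMap_eq,
      RingHom.finitePresentation_algebraMap] at h2
    haveI := h2
    have := Algebra.FinitePresentation.ker_fG_of_surjective
      (Algebra.ofId T (T ⧸ I)) Ideal.Quotient.mk_surjective
    exact (Ideal.mk_ker (I := I)) ▸ this
  · rintro ⟨l, hl⟩
    obtain ⟨θ, hθ⟩ := Spec.map_surjective (R := CommRingCat.of (T ⧸ I)) (S := CommRingCat.of A) (l ≫ e.hom)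
    have h4 : CommRingCat.ofHom (Ideal.Quotient.mk I) ≫ θ = CommRingCat.ofHom h := by
      apply Spec.map_injective
      rw [Spec.map_comp, hθ, Category.assoc, ← he, hl]
    intro y hy
    rw [RingHom.mem_ker]
    refine (congr($h4 y)).symm.trans ?_
    show θ.hom (Ideal.Quotient.mk I y) = 0
    rw [Ideal.Quotient.eq_zero_iff_mem.mpr hy, map_zero]
  · let θ := Ideal.Quotient.lift I h fun y hy => hle hy
    refine ⟨Spec.map (CommRingCat.ofHom θ) ≫ e.inv, ?_⟩
    rw [Category.assoc, he, Iso.inv_hom_id_assoc, ← Spec.map_comp, ← CommRingCat.ofHom_comp, Ideal.Quotient.lift_comp_mk]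

/-- A closed equalizer is cut out by an ideal. -/
theorem Eqz.exists_ideal {T : Type u} [CommRing T] [Algebra R T] {x y : P R T ⟶ G} {E : Scheme.{u}}
    {q : E ⟶ Spec (CommRingCat.of T)} (hq : Eqz x y q) [IsImmersion q] (hcl : IsClosed (Set.range q.base)) :
    ∃ I : Ideal T, (LocallyOfFinitePresentation q → I.FG) ∧
      ∀ (A : Type u) [CommRing A] [Algebra R A] (h : T →ₐ[R] A), sp h ≫ x = sp h ≫ y ↔ I ≤ RingHom.ker h := by
  obtain ⟨I, hfg, hI⟩ := exists_ideal_of_immersion q hcl
  exact ⟨I, hfg, fun A _ _ h => (hq A h).trans (hI A h.toRingHom)⟩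

/-- The immersed set containing every closed point is closed. -/
theorem isClosed_range_of_closedPoints {E Y : Scheme.{u}} [CompactSpace Y] (q : E ⟶ Y) [IsImmersion q]
    (h : ∀ y : Y, IsClosed ({y} : Set Y) → y ∈ Set.range q.base) : IsClosed (Set.range q.base) := by
  rw [← coborder_eq_univ_iff]
  by_contra hne
  obtain ⟨y, hy, hyc⟩ := (q.coborderRange.2.isClosed_compl).exists_closed_singleton (Set.nonempty_compl.mpr hne)
  exact hy (subset_coborder (h y hyc))

/-- Finite quotients detect ideals of group algebras. -/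
theorem eq_bot_of_finite [Group.FG M] (I : Ideal (MonoidAlgebra R M))
    (h : ∀ (F : Type) [CommGroup F] [Finite F] (π : M →* F), I.map (MonoidAlgebra.mapDomainAlgHom R R π) = ⊥) :
    I = ⊥ := by
  classical
  rw [eq_bot_iff]
  intro x hx
  obtain ⟨F, _, _, π, hπ⟩ := exists_injOn_finite x.coeff.support
  let c := MonoidAlgebra.mapDomainAlgHom R R π
  have h1 : c x = 0 := by
    rw [← Ideal.mem_bot, ← h F π]; exact Ideal.mem_map_of_mem _ hx
  rw [Ideal.mem_bot]
  refine MonoidAlgebra.ext (Finsupp.ext fun m => ?_)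
  by_contra hm
  have hm' : m ∈ x.coeff.support := Finsupp.mem_support_iff.mpr hm
  apply hm
  have h2 := congrArg (fun y => y.coeff (π m)) h1
  simpa [c, MonoidAlgebra.coeff_mapDomain, Finsupp.mapDomain_apply' _ _ subset_rfl hπ hm'] using h2

variable [GrpObj G] [IsLocalRing R]

/-- Equality on finite subgroups. -/
theorem eq_finite {F : Type} [CommGroup F] [Finite F] {a b : P R (MonoidAlgebra R F) ⟶ G}
    (ha : IsHomPt a) (hb : IsHomPt b) (hc : CentralMod (IsLocalRing.maximalIdeal R) a)
    {E : Scheme.{u}} (q : E ⟶ Spec (CommRingCat.of (MonoidAlgebra R F))) [IsImmersion q]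
    [LocallyOfFinitePresentation q] (hq : Eqz a b q)
    (h0 : sp (mapR (IsLocalRing.maximalIdeal R)) ≫ a = sp (mapR (IsLocalRing.maximalIdeal R)) ≫ b) : a = b := by
  classical
  haveI : Module.Finite R (MonoidAlgebra R F) :=
    Module.Finite.of_surjective ((MonoidAlgebra.coeffLinearEquiv R).symm.toLinearMap) (LinearEquiv.surjective _)
  have hcl : IsClosed (Set.range q.base) := by
    refine isClosed_range_of_closedPoints q fun (y : PrimeSpectrum (MonoidAlgebra R F)) hy => ?_
    haveI : y.asIdeal.IsMaximal := (PrimeSpectrum.isClosed_singleton_iff_isMaximal y).mp hy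
    have hm : y.asIdeal.comap (algebraMap R (MonoidAlgebra R F)) = IsLocalRing.maximalIdeal R :=
      IsLocalRing.eq_maximalIdeal (Ideal.isMaximal_comap_of_isIntegral_of_isMaximal y.asIdeal)
    let h := IsScalarTower.toAlgHom R (MonoidAlgebra R F) y.asIdeal.ResidueField
    have hker : ∀ z ∈ RingHom.ker (mapR (M := F) (IsLocalRing.maximalIdeal R)), h z = 0 := fun z hz => by
      rw [mem_ker_mapR] at hz
      rw [← MonoidAlgebra.sum_coeff_single z, Finsupp.sum, map_sum]
      refine Finset.sum_eq_zero fun m _ => Ideal.algebraMap_residueField_eq_zero.mpr ?_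
      rw [show MonoidAlgebra.single m (z.coeff m) = algebraMap R _ (z.coeff m) * MonoidAlgebra.single m 1 by
        simp [MonoidAlgebra.coe_algebraMap, MonoidAlgebra.single_mul_single]]
      refine Ideal.mul_mem_right _ _ ?_
      rw [← Ideal.mem_comap, hm]
      exact hz m
    have hh : sp h ≫ a = sp h ≫ b := by
      rw [← AlgHom.liftOfSurjective_comp (mapR _) (mapR_surjective _) h hker, ← sp_comp, Category.assoc,
        Category.assoc, h0]
    obtain ⟨l, hl⟩ := (hq _ h).mp hh
    refine ⟨l.base (⊥ : PrimeSpectrum y.asIdeal.ResidueField), ?_⟩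
    rw [← Scheme.Hom.comp_apply, hl]
    exact PrimeSpectrum.ext (Ideal.ker_algebraMap_residueField y.asIdeal)
  obtain ⟨I, hIfg, hI⟩ := hq.exists_ideal hcl
  obtain ⟨W, hW, hW1, -⟩ := exists_isAffineOpen_mem_and_subset (U := (⊤ : G.left.Opens))
    (x := (1 : P R R ⟶ G).left.base (IsLocalRing.closedPoint R)) trivial
  letI : Algebra R Γ(G.left, W) := (Spec.preimage (hW.fromSpec ≫ G.hom)).hom.toAlgebra
  let j : P R Γ(G.left, W) ⟶ G := Over.homMk hW.fromSpec (Spec.map_preimage (hW.fromSpec ≫ G.hom)).symm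
  haveI : IsOpenImmersion j.left := inferInstanceAs (IsOpenImmersion hW.fromSpec)
  have hR : Set.range (1 : P R R ⟶ G).left.base ⊆ Set.range j.left.base := by
    show _ ⊆ Set.range hW.fromSpec.base
    rw [hW.range_fromSpec]
    rintro _ ⟨y, rfl⟩
    exact ((IsLocalRing.specializes_closedPoint y).map (1 : P R R ⟶ G).left.continuous).mem_open W.isOpen hW1
  obtain ⟨s, hs⟩ := hIfg inferInstance
  let J : Ideal R := Ideal.span ((fun p : MonoidAlgebra R F × F => p.1.coeff p.2) '' ((s : Set (MonoidAlgebra R F)) ×ˢ Set.univ))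
  have hJfg : J.FG := Submodule.fg_span ((s.finite_toSet.prod Set.finite_univ).image _)
  have hle : ∀ J' : Ideal R, sp (mapR J') ≫ a = sp (mapR J') ≫ b ↔ J ≤ J' := fun J' => by
    rw [hI, ← hs]
    constructor
    · intro h
      rw [Ideal.span_le]
      rintro _ ⟨⟨y, n⟩, ⟨hy, -⟩, rfl⟩
      exact mem_ker_mapR.mp (h (Submodule.subset_span hy)) n
    · intro h
      exact Submodule.span_le.mpr fun y hy => mem_ker_mapR.mpr fun n => h (Ideal.subset_span ⟨(y, n), ⟨hy, trivial⟩, rfl⟩)
  have hJm : J ≤ IsLocalRing.maximalIdeal R := (hle _).mp h0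
  have hJJ : J ≤ IsLocalRing.maximalIdeal R * J := (hle _).mp (step j hR ha hb hc J hJm ((hle J).mpr le_rfl))
  have hJ0 : J = ⊥ := Submodule.eq_bot_of_le_smul_of_le_jacobson_bot _ J hJfg hJJ (IsLocalRing.maximalIdeal_le_jacobson ⊥)
  have hI0 : I ≤ RingHom.ker (AlgHom.id R (MonoidAlgebra R F)) := by
    rw [← hs, Submodule.span_le]
    intro y hy
    show y = 0
    refine MonoidAlgebra.ext (Finsupp.ext fun n => ?_)
    have : y.coeff n ∈ J := Ideal.subset_span ⟨(y, n), ⟨hy, trivial⟩, rfl⟩
    rwa [hJ0, Ideal.mem_bot] at this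
  have := (hI _ (AlgHom.id R _)).mpr hI0
  rwa [sp_id, Category.id_comp, Category.id_comp] at this

omit [IsLocalRing R] in
/-- Over a field points agreeing on finite subgroups agree. -/
theorem eq_field [Group.FG M] {a b : P R (MonoidAlgebra R M) ⟶ G}
    (hfin : ∀ (F : Type) [CommGroup F] [Finite F] (π : M →* F),
      sp (MonoidAlgebra.mapDomainAlgHom R R π) ≫ a = sp (MonoidAlgebra.mapDomainAlgHom R R π) ≫ b)
    (K : Type u) [Field K] [Algebra R K] (rK : MonoidAlgebra R M →ₐ[R] MonoidAlgebra K M)
    (hrK : ∀ m, rK (MonoidAlgebra.single m 1) = MonoidAlgebra.single m 1) : sp rK ≫ a = sp rK ≫ b := by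
  let k := Spec.map (CommRingCat.ofHom (algebraMap R K))
  let GK := Red.bc k G
  haveI : IsSeparated GK.hom := isSeparated_of_discrete GK
  let t : Spec (CommRingCat.of (MonoidAlgebra K M)) ⟶ Spec (CommRingCat.of K) :=
    Spec.map (CommRingCat.ofHom (algebraMap K (MonoidAlgebra K M)))
  have ht : ∀ x : P R (MonoidAlgebra K M) ⟶ G, x.left ≫ G.hom = t ≫ k := fun x => by
    rw [Over.w x, ← Spec.map_comp, ← CommRingCat.ofHom_comp, ← IsScalarTower.algebraMap_eq]
    rfl
  let f : (P R (MonoidAlgebra K M) ⟶ G) → (Spec (CommRingCat.of (MonoidAlgebra K M)) ⟶ GK.left) :=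
    fun x => pullback.lift x.left t (ht x)
  let x := sp rK ≫ a
  let y := sp rK ≫ b
  let d : Spec (CommRingCat.of (MonoidAlgebra K M)) ⟶ pullback GK.hom GK.hom :=
    pullback.lift (f x) (f y) ((pullback.lift_snd _ _ _).trans (pullback.lift_snd _ _ _).symm)
  let q := pullback.snd (pullback.diagonal GK.hom) d
  haveI : IsClosedImmersion q := inferInstanceAs (IsClosedImmersion (pullback.snd (pullback.diagonal GK.hom) d))
  have hq : Eqz x y q := by
    intro A _ _ h
    constructor
    · intro e
      refine ⟨pullback.lift (Spec.map (CommRingCat.ofHom h.toRingHom) ≫ f x) (Spec.map (CommRingCat.ofHom h.toRingHom)) ?_,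
        pullback.lift_snd _ _ _⟩
      apply pullback.hom_ext
      · simp only [d, Category.assoc, pullback.diagonal_fst, pullback.lift_fst, Category.comp_id]
      · simp only [d, Category.assoc, pullback.diagonal_snd, pullback.lift_snd, Category.comp_id]
        apply pullback.hom_ext
        · simp only [f, Category.assoc, pullback.lift_fst]
          exact congrArg CommaMorphism.left e
        · simp only [f, Category.assoc, pullback.lift_snd]
    · rintro ⟨l, hl⟩
      have e1 := congrArg (fun z => l ≫ z ≫ pullback.fst GK.hom GK.hom ≫ pullback.fst G.hom k) pullback.condition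
      have e2 := congrArg (fun z => l ≫ z ≫ pullback.snd GK.hom GK.hom ≫ pullback.fst G.hom k) pullback.condition
      simp only [Category.assoc, pullback.diagonal_fst_assoc, pullback.diagonal_snd_assoc] at e1 e2
      simp only [d, f, pullback.lift_fst_assoc, pullback.lift_snd_assoc, pullback.lift_fst] at e1 e2
      ext1
      show Spec.map _ ≫ x.left = Spec.map _ ≫ y.left
      rw [← hl, Category.assoc, Category.assoc]
      exact e1.symm.trans e2
  obtain ⟨I, -, hI⟩ := hq.exists_ideal q.isClosedEmbedding.isClosed_range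
  have hI0 : I = ⊥ := eq_bot_of_finite I fun F _ _ π => by
    let cK := MonoidAlgebra.mapDomainAlgHom K K π
    let rF : MonoidAlgebra R F →ₐ[R] MonoidAlgebra K F :=
      MonoidAlgebra.lift R (MonoidAlgebra K F) F (MonoidAlgebra.of K F)
    have e : (cK.restrictScalars R).comp rK = rF.comp (MonoidAlgebra.mapDomainAlgHom R R π) := by
      ext m; simp [cK, rF, hrK]
    rw [eq_bot_iff, Ideal.map_le_iff_le_comap]
    intro z hz
    rw [Ideal.mem_comap, Ideal.mem_bot]
    refine (hI _ (cK.restrictScalars R)).mp ?_ hz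
    simp only [x, y, ← Category.assoc, sp_comp, e]
    rw [← sp_comp, Category.assoc, Category.assoc, hfin F π]
  have := (hI _ (AlgHom.id R (MonoidAlgebra K M))).mpr (hI0 ▸ bot_le)
  rwa [sp_id, Category.id_comp, Category.id_comp] at this

/-- Two homomorphisms over a local ring, the first central on the closed fibre, which agree there are equal. -/
theorem eq_of_local [Group.FG M] {a b : P R (MonoidAlgebra R M) ⟶ G}
    (ha : IsHomPt a) (hb : IsHomPt b) (hc : CentralMod (IsLocalRing.maximalIdeal R) a)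
    {E : Scheme.{u}} (q : E ⟶ Spec (CommRingCat.of (MonoidAlgebra R M))) [IsImmersion q]
    [LocallyOfFinitePresentation q] (hq : Eqz a b q)
    (h0 : sp (mapR (IsLocalRing.maximalIdeal R)) ≫ a = sp (mapR (IsLocalRing.maximalIdeal R)) ≫ b) : a = b := by
  have hfin : ∀ (F : Type) [CommGroup F] [Finite F] (π : M →* F),
      sp (MonoidAlgebra.mapDomainAlgHom R R π) ≫ a = sp (MonoidAlgebra.mapDomainAlgHom R R π) ≫ b := by
    intro F _ _ π
    refine eq_finite (ha.map π) (hb.map π) (hc.map π) _ (hq.comp _) ?_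
    let m := IsLocalRing.maximalIdeal R
    let g : MonoidAlgebra (R ⧸ m) M →ₐ[R] MonoidAlgebra (R ⧸ m) F :=
      (MonoidAlgebra.mapDomainAlgHom (R ⧸ m) (R ⧸ m) π).restrictScalars R
    have e : (mapR m).comp (MonoidAlgebra.mapDomainAlgHom R R π) = g.comp (mapR m) := by
      ext k; simp [g, mapR]
    rw [← Category.assoc, ← Category.assoc, sp_comp, e, ← sp_comp, Category.assoc, Category.assoc, h0]
  have hsurj : Function.Surjective q.base := by
    intro (y : PrimeSpectrum (MonoidAlgebra R M))
    let h := IsScalarTower.toAlgHom R (MonoidAlgebra R M) y.asIdeal.ResidueField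
    let K := y.asIdeal.ResidueField
    let rK : MonoidAlgebra R M →ₐ[R] MonoidAlgebra K M := MonoidAlgebra.lift R (MonoidAlgebra K M) M (MonoidAlgebra.of K M)
    let ev : MonoidAlgebra K M →ₐ[R] K :=
      (MonoidAlgebra.lift K K M ((h : MonoidAlgebra R M →* K).comp (MonoidAlgebra.of R M))).restrictScalars R
    have he : ev.comp rK = h := by ext m; simp [ev, rK, h, K]
    have hh : sp h ≫ a = sp h ≫ b := by
      rw [← he, ← sp_comp, Category.assoc, Category.assoc, eq_field hfin K rK (fun m => by simp [rK])]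
    obtain ⟨l, hl⟩ := (hq _ h).mp hh
    refine ⟨l.base (⊥ : PrimeSpectrum K), ?_⟩
    rw [← Scheme.Hom.comp_apply, hl]
    exact PrimeSpectrum.ext (Ideal.ker_algebraMap_residueField y.asIdeal)
  obtain ⟨I, -, hI⟩ := hq.exists_ideal (hsurj.range_eq ▸ isClosed_univ)
  have hI0 : I = ⊥ := eq_bot_of_finite I fun F _ _ π => by
    rw [eq_bot_iff, Ideal.map_le_iff_le_comap]
    intro z hz
    rw [Ideal.mem_comap, Ideal.mem_bot]
    exact (hI _ _).mp (hfin F π) hz
  have := (hI _ (AlgHom.id R (MonoidAlgebra R M))).mpr (hI0 ▸ bot_le)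
  rwa [sp_id, Category.id_comp, Category.id_comp] at this

end Groth.Agent.SGA3cLib.Near
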