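import Groth.Agent.SGA3cLib.Rigidity

/-!
# First order rigidity next to a central fibre

If two homomorphisms from a diagonalisable group agree modulo `J` and the first is central modulo `m`, then they
agree modulo `m * J` whenever `J ≤ m`.
-/

set_option linter.style.haveILetI false
set_option autoImplicit false
set_option maxHeartbeats 400000

universe u

open CategoryTheory CategoryTheory.Limits MonoidalCategory CartesianMonoidalCategory MonObj AlgebraicGeometry

noncomputable section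

namespace Groth.Agent.SGA3cLib.Near

open Averaging GroupLike Rigidity

variable {R : Type u} [CommRing R] {M : Type} [CommGroup M] {G : Over (Spec (CommRingCat.of R))} [GrpObj G]

/-- The values of a point commute with all points above `V(J)`. -/
def CentralMod (J : Ideal R) (a : P R (MonoidAlgebra R M) ⟶ G) : Prop :=
  ∀ (A : Type u) [CommRing A] [Algebra R A], J.map (algebraMap R A) = ⊥ →
    ∀ (h : MonoidAlgebra R M →ₐ[R] A) (g : P R A ⟶ G), g * (sp h ≫ a) = (sp h ≫ a) * g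

theorem CentralMod.map {J : Ideal R} {a : P R (MonoidAlgebra R M) ⟶ G} (hc : CentralMod J a)
    {N : Type} [CommGroup N] (π : M →* N) : CentralMod J (sp (MonoidAlgebra.mapDomainAlgHom R R π) ≫ a) := by
  intro A _ _ hA h g
  rw [← Category.assoc, sp_comp]
  exact hc A hA _ g

/-- Ideals of the coefficients of a group algebra. -/
theorem coeff_mem_of_mem_map {E : Type u} [CommRing E] (J : Ideal E) {z : MonoidAlgebra E M}
    (hz : z ∈ J.map (algebraMap E (MonoidAlgebra E M))) (m : M) : z.coeff m ∈ J := by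
  have hz' : z ∈ J • (⊤ : Submodule E (MonoidAlgebra E M)) := by rw [Ideal.smul_top_eq_map]; exact hz
  refine Submodule.smul_induction_on hz' (fun r hr y _ => ?_) (fun x y hx hy => ?_)
  · simpa using J.mul_mem_right (y.coeff m) hr
  · simpa using J.add_mem hx hy

theorem exists_swap (A : Type u) [CommRing A] :
    ∃ sw : MonoidAlgebra A (M × M) →ₐ[A] MonoidAlgebra A (M × M), sw.comp dg = dg ∧ sw.comp i₁ = i₂ ∧ sw.comp i₂ = i₁ := by
  let swh : M × M →* M × M := { toFun := Prod.swap, map_one' := rfl, map_mul' := fun _ _ => rfl }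
  refine ⟨MonoidAlgebra.mapDomainAlgHom A A swh, ?_, ?_, ?_⟩ <;> ext m <;> simp [swh, dg, i₁, i₂]

theorem exists_lift {E A : Type u} [CommRing E] [Algebra R E] [CommRing A] [Algebra R A] (v : E →ₐ[R] A)
    (h : MonoidAlgebra R M →ₐ[R] A) :
    ∃ w : MonoidAlgebra E M →ₐ[R] A, w.comp (IsScalarTower.toAlgHom R E (MonoidAlgebra E M)) = v ∧
      w.comp (MonoidAlgebra.lift R (MonoidAlgebra E M) M (MonoidAlgebra.of E M)) = h := by
  refine ⟨MonoidAlgebra.liftNCAlgHom v ((h : MonoidAlgebra R M →* A).comp (MonoidAlgebra.of R M))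
    (fun _ _ => Commute.all _ _), AlgHom.ext fun b => ?_, ?_⟩
  · simp [MonoidAlgebra.coe_algebraMap, MonoidAlgebra.liftNCAlgHom, MonoidAlgebra.liftNCRingHom, ← MonoidAlgebra.one_def]
  · ext m
    simp [MonoidAlgebra.liftNCAlgHom, MonoidAlgebra.liftNCRingHom]

theorem one_of_mod {E₁ E₂ : Type u} [CommRing E₁] [Algebra R E₁] [CommRing E₂] [Algebra R E₂] (f : E₁ →ₐ[R] E₂)
    (I₁ : Ideal E₁) (I₂ : Ideal E₂) (hle : ∀ e ∈ I₁, f e ∈ I₂) (x : P R E₁ ⟶ G)
    (hx : sp (Ideal.Quotient.mkₐ R I₁) ≫ x = 1) : sp (Ideal.Quotient.mkₐ R I₂) ≫ sp f ≫ x = 1 := by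
  let g : (E₁ ⧸ I₁) →ₐ[R] (E₂ ⧸ I₂) := Ideal.Quotient.liftₐ _ ((Ideal.Quotient.mkₐ R I₂).comp f) fun e he =>
    Ideal.Quotient.eq_zero_iff_mem.mpr (hle e he)
  rw [← Category.assoc, sp_comp, show (Ideal.Quotient.mkₐ R I₂).comp f = g.comp (Ideal.Quotient.mkₐ R I₁) from
    AlgHom.ext fun e => rfl, ← sp_comp, Category.assoc, hx, MonObj.comp_one]

/-- First order points commute with the values of a homomorphism central modulo `I`. -/
theorem commute_first {B : Type u} [CommRing B] [Algebra R B] (j : P R B ⟶ G) [IsOpenImmersion j.left]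
    (hR : Set.range (1 : P R R ⟶ G).left.base ⊆ Set.range j.left.base)
    {I₀ : Ideal R} {a : P R (MonoidAlgebra R M) ⟶ G} (hc : CentralMod I₀ a)
    {A : Type u} [CommRing A] [Algebra R A] (K : Ideal A) (hK : K * K = ⊥)
    (hIK : I₀.map (algebraMap R A) * K = ⊥) (g : P R A ⟶ G) (hg : sp (Ideal.Quotient.mkₐ R K) ≫ g = 1)
    (h : MonoidAlgebra R M →ₐ[R] A) : g * (sp h ≫ a) = (sp h ≫ a) * g := by
  classical
  have hnil : ∀ x ∈ K, IsNilpotent x := fun x hx => ⟨2, by
    rw [pow_two, ← Ideal.mem_bot, ← hK]; exact Ideal.mul_mem_mul hx hx⟩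
  obtain ⟨v, hv⟩ := exists_chart j g ((range_subset K hnil g 1 (by rw [hg, MonObj.comp_one])).trans (range_one j hR A))
  obtain ⟨ε₀, hε⟩ := exists_chart j (1 : P R R ⟶ G) hR
  let I := RingHom.ker ε₀
  have hvI : ∀ b ∈ I, v b ∈ K := by
    have h1 : (Ideal.Quotient.mkₐ R K).comp v = (Algebra.ofId R (A ⧸ K)).comp ε₀ := chart_inj j (by
      rw [← sp_comp, Category.assoc, hv, hg, ← sp_comp, Category.assoc, hε, MonObj.comp_one])
    intro b hb
    rw [← Ideal.Quotient.eq_zero_iff_mem]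
    simpa [show ε₀ b = 0 from hb] using AlgHom.congr_fun h1 b
  let I₁ : Ideal B := I * I ⊔ I₀.map (algebraMap R B) * I
  have hI₁ : I₁ ≤ I := sup_le Ideal.mul_le_right Ideal.mul_le_right
  let mk : B →ₐ[R] B ⧸ I₁ := Ideal.Quotient.mkₐ R I₁
  let η₁ : B ⧸ I₁ →ₐ[R] R := Ideal.Quotient.liftₐ I₁ ε₀ fun x hx => hI₁ hx
  let K₁ : Ideal (B ⧸ I₁) := I.map (Ideal.Quotient.mk I₁)
  have hK₁ : K₁ * K₁ = ⊥ := by
    rw [← Ideal.map_mul, Ideal.map_eq_bot_iff_le_ker, Ideal.mk_ker]
    exact le_sup_left 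
  have hmem : ∀ e, e ∈ K₁ → η₁ e = 0 := by
    intro e he
    obtain ⟨b, hb, rfl⟩ := (Ideal.mem_map_iff_of_surjective _ Ideal.Quotient.mk_surjective).mp he
    exact hb
  have hI₀ : ∀ e ∈ I₀.map (algebraMap R (B ⧸ I₁)), e = algebraMap R _ (η₁ e) := by
    intro e he
    have he' : e ∈ I₀ • (⊤ : Submodule R (B ⧸ I₁)) := by rw [Ideal.smul_top_eq_map]; exact he
    refine Submodule.smul_induction_on he' (fun r hr y _ => ?_) (fun x y hx hy => ?_)
    · obtain ⟨b, rfl⟩ := Ideal.Quotient.mk_surjective y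
      rw [Algebra.smul_def, map_mul, AlgHom.commutes, Algebra.algebraMap_self_apply, map_mul, ← sub_eq_zero, ← mul_sub]
      show Ideal.Quotient.mk I₁ (algebraMap R B r) * (Ideal.Quotient.mk I₁ b - Ideal.Quotient.mk I₁ (algebraMap R B (ε₀ b))) = 0
      rw [← map_sub, ← map_mul, Ideal.Quotient.eq_zero_iff_mem]
      refine Submodule.mem_sup_right (Ideal.mul_mem_mul (Ideal.mem_map_of_mem _ hr) ?_)
      show ε₀ (b - algebraMap R B (ε₀ b)) = 0
      simp
    · rw [map_add, map_add, ← hx, ← hy]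
  -- the universal point
  let T := MonoidAlgebra (B ⧸ I₁) M
  let incl : (B ⧸ I₁) →ₐ[R] T := IsScalarTower.toAlgHom R (B ⧸ I₁) (MonoidAlgebra (B ⧸ I₁) M)
  let r : MonoidAlgebra R M →ₐ[R] T := MonoidAlgebra.lift R T M (MonoidAlgebra.of (B ⧸ I₁) M)
  let gT : P R T ⟶ G := sp (incl.comp mk) ≫ j
  let cT : P R T ⟶ G := (sp r ≫ a) * gT * (sp r ≫ a)⁻¹
  let KT : @Ideal T CommRing.toCommSemiring.toSemiring := K₁.map (algebraMap (B ⧸ I₁) (MonoidAlgebra (B ⧸ I₁) M))
  have hKT : KT * KT = ⊥ := by rw [← Ideal.map_mul, hK₁, Ideal.map_bot]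
  have hgT : sp (Ideal.Quotient.mkₐ R KT) ≫ gT = 1 := by
    have : (Ideal.Quotient.mkₐ R KT).comp (incl.comp mk) = (Algebra.ofId R (T ⧸ KT)).comp ε₀ := by
      refine AlgHom.ext fun b => ?_
      show Ideal.Quotient.mk KT (incl (mk b)) = algebraMap R (T ⧸ KT) (ε₀ b)
      rw [← Ideal.Quotient.mk_algebraMap, Ideal.Quotient.mk_eq_mk_iff_sub_mem, ← incl.commutes (ε₀ b), ← map_sub]
      refine Ideal.mem_map_of_mem _ ?_
      rw [← mk.commutes (ε₀ b), ← map_sub]
      exact Ideal.mem_map_of_mem _ (show ε₀ (b - algebraMap R B (ε₀ b)) = 0 by simp)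
    rw [← Category.assoc, sp_comp, this, ← sp_comp, Category.assoc, hε, MonObj.comp_one]
  have hcT : sp (Ideal.Quotient.mkₐ R KT) ≫ cT = 1 := by
    simp only [cT, MonObj.comp_mul, GrpObj.comp_inv, hgT, _root_.mul_one, mul_inv_cancel]
  have hnilT : ∀ x ∈ KT, IsNilpotent x := fun x hx => ⟨2, by
    rw [pow_two, ← Ideal.mem_bot, ← hKT]; exact Ideal.mul_mem_mul hx hx⟩
  obtain ⟨φ, hφ⟩ := exists_chart j cT ((range_subset KT hnilT cT 1 (by rw [hcT, MonObj.comp_one])).trans (range_one j hR T))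
  have hφ' : φ = incl.comp mk := by
    let JT : @Ideal T CommRing.toCommSemiring.toSemiring := I₀.map (algebraMap R T)
    have h1 : (Ideal.Quotient.mkₐ R KT).comp φ = (Ideal.Quotient.mkₐ R KT).comp (incl.comp mk) := chart_inj j (by
      rw [← sp_comp, Category.assoc, hφ, hcT, ← sp_comp, Category.assoc, hgT])
    have h2 : (Ideal.Quotient.mkₐ R JT).comp φ = (Ideal.Quotient.mkₐ R JT).comp (incl.comp mk) := by
      apply chart_inj j
      rw [← sp_comp, Category.assoc, hφ, ← sp_comp, Category.assoc, show sp (incl.comp mk) ≫ j = gT from rfl]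
      have hbot : I₀.map (algebraMap R (T ⧸ JT)) = ⊥ := by
        rw [IsScalarTower.algebraMap_eq R T (T ⧸ JT), ← Ideal.map_map, Ideal.Quotient.algebraMap_eq, Ideal.map_quotient_self]
      have := hc (T ⧸ JT) hbot ((Ideal.Quotient.mkₐ R JT).comp r) (sp (Ideal.Quotient.mkₐ R JT) ≫ gT)
      simp only [cT, MonObj.comp_mul, GrpObj.comp_inv, ← Category.assoc, sp_comp] at this ⊢
      rw [mul_inv_eq_iff_eq_mul, ← this]
    refine AlgHom.ext fun b => MonoidAlgebra.ext (Finsupp.ext fun m => sub_eq_zero.mp ?_)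
    have d1 : φ b - incl (mk b) ∈ KT := Ideal.Quotient.eq.mp (AlgHom.congr_fun h1 b)
    have d2 : φ b - incl (mk b) ∈ (I₀.map (algebraMap R (B ⧸ I₁))).map (algebraMap (B ⧸ I₁) T) := by
      rw [Ideal.map_map, ← IsScalarTower.algebraMap_eq]
      exact Ideal.Quotient.eq.mp (AlgHom.congr_fun h2 b)
    have e1 := hmem _ (coeff_mem_of_mem_map K₁ d1 m)
    have e2 := hI₀ _ (coeff_mem_of_mem_map _ d2 m)
    rw [e1, map_zero] at e2
    exact (map_sub (cf m) (φ b) (incl (mk b))).symm.trans e2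
  have key : gT * (sp r ≫ a) = (sp r ≫ a) * gT := by
    have : cT = gT := by rw [← hφ, hφ']
    exact (mul_inv_eq_iff_eq_mul.mp this).symm
  -- specialisation
  let vbar : (B ⧸ I₁) →ₐ[R] A := Ideal.Quotient.liftₐ I₁ v (by
    show I₁ ≤ RingHom.ker v
    refine sup_le (Ideal.mul_le.mpr fun x hx y hy => ?_) (Ideal.mul_le.mpr fun x hx y hy => ?_)
    · rw [RingHom.mem_ker, map_mul, ← Ideal.mem_bot, ← hK]
      exact Ideal.mul_mem_mul (hvI x hx) (hvI y hy)
    · rw [RingHom.mem_ker, map_mul, ← Ideal.mem_bot, ← hIK]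
      refine Ideal.mul_mem_mul ?_ (hvI y hy)
      have := Ideal.mem_map_of_mem v.toRingHom hx
      rwa [Ideal.map_map, AlgHom.toRingHom_eq_coe, v.comp_algebraMap] at this)
  obtain ⟨w, hwi, hwr⟩ := exists_lift (E := B ⧸ I₁) vbar h
  have hwg : w.comp (incl.comp mk) = v := by
    rw [← AlgHom.comp_assoc, hwi]
    exact AlgHom.ext fun b => rfl
  have hwr' : w.comp r = h := hwr
  have hfin := congrArg (sp w ≫ ·) key
  simp only [gT, MonObj.comp_mul, ← Category.assoc, sp_comp, hwg, hwr, hv] at hfin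
  rw [hwr'] at hfin
  exact hfin

theorem step_gen {B : Type u} [CommRing B] [Algebra R B] (j : P R B ⟶ G) [IsOpenImmersion j.left]
    (hR : Set.range (1 : P R R ⟶ G).left.base ⊆ Set.range j.left.base)
    {I₀ : Ideal R} {a b : P R (MonoidAlgebra R M) ⟶ G} (ha : IsHomPt a) (hb : IsHomPt b) (hc : CentralMod I₀ a)
    (J : Ideal R) (hJ : J ≤ I₀) (h : sp (mapR J) ≫ a = sp (mapR J) ≫ b)
    {A : Type u} [CommRing A] [Algebra R A] (hbot : (I₀ * J).map (algebraMap R A) = ⊥)
    (r : ∀ N : Type, ∀ [CommGroup N], MonoidAlgebra R N →ₐ[R] MonoidAlgebra A N)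
    (hr : ∀ (N : Type) [CommGroup N] (n : N) c, r N (MonoidAlgebra.single n c) = MonoidAlgebra.single n (algebraMap R A c)) :
    sp (r M) ≫ a = sp (r M) ≫ b := by
  classical
  let K : Ideal A := J.map (algebraMap R A)
  have hK : K * K = ⊥ := by
    rw [← Ideal.map_mul, eq_bot_iff, ← hbot]; exact Ideal.map_mono (Ideal.mul_mono hJ le_rfl)
  let d : P R (MonoidAlgebra R M) ⟶ G := a * b⁻¹
  have hd : sp (mapR J) ≫ d = 1 := by simp only [d, MonObj.comp_mul, GrpObj.comp_inv, h, mul_inv_cancel]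
  have hd1 := mod_eq_one d J hd (r M) (hr M)
  suffices sp (r M) ≫ d = 1 by
    simpa only [d, MonObj.comp_mul, GrpObj.comp_inv, mul_inv_eq_one] using this
  refine eq_one_of_squareZero j hR K hK _ ?_ hd1
  let E := MonoidAlgebra A (M × M)
  obtain ⟨sw, hswd, hsw₁, hsw₂⟩ := exists_swap (M := M) A
  let p : (MonoidAlgebra A M →ₐ[A] E) → (P R (MonoidAlgebra R M) ⟶ G) → (P R E ⟶ G) :=
    fun f x => sp (f.restrictScalars R) ≫ sp (r M) ≫ x
  have hp : ∀ x, IsHomPt x → p dg x = p i₂ x * p i₁ x := by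
    intro x hx
    have := congrArg (sp (sw.restrictScalars R) ≫ ·) (hx.changeCoeff r hr)
    have e3 : ∀ f : MonoidAlgebra A M →ₐ[A] E,
        sp (sw.restrictScalars R) ≫ sp (f.restrictScalars R) ≫ sp (r M) ≫ x = p (sw.comp f) x := fun f => by
      rw [← Category.assoc, sp_comp]; rfl
    simp only [MonObj.comp_mul, e3] at this
    rw [hswd, hsw₁, hsw₂] at this
    exact this
  have hcomm : p i₁ d * p i₂ a = p i₂ a * p i₁ d := by
    simp only [p, ← Category.assoc _ _ a, sp_comp]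
    refine commute_first j hR hc (K.map (algebraMap A E)) (by rw [← Ideal.map_mul, hK, Ideal.map_bot]) ?_ _ ?_ _
    · rw [IsScalarTower.algebraMap_eq R A E, ← Ideal.map_map, ← Ideal.map_mul, ← Ideal.map_mul, hbot, Ideal.map_bot]
    · refine one_of_mod (R := R) (E₁ := MonoidAlgebra A M) (E₂ := MonoidAlgebra A (M × M))
        ((i₁ (A := A) (M := M)).restrictScalars R) (K.map (algebraMap A (MonoidAlgebra A M)))
        (K.map (algebraMap A (MonoidAlgebra A (M × M)))) (fun e he => ?_) (sp (r M) ≫ d) hd1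
      have := Ideal.mem_map_of_mem (i₁ (A := A) (M := M)).toRingHom he
      rwa [Ideal.map_map, AlgHom.toRingHom_eq_coe, AlgHom.comp_algebraMap] at this
  show p dg d = p i₁ d * p i₂ d
  have e : ∀ f : MonoidAlgebra A M →ₐ[A] E, p f d = p f a * (p f b)⁻¹ := fun f => by
    simp only [p, d, MonObj.comp_mul, GrpObj.comp_inv]
  rw [e dg, hp a ha, hp b hb, mul_inv_rev, e i₂, show p i₂ a * p i₁ a * ((p i₁ b)⁻¹ * (p i₂ b)⁻¹) =
    p i₂ a * p i₁ d * (p i₂ b)⁻¹ by rw [e i₁]; simp only [_root_.mul_assoc], ← hcomm, _root_.mul_assoc]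

/-- Two homomorphisms congruent modulo `J ≤ I₀`, the first central modulo `I₀`, are congruent modulo `I₀ * J`. -/
theorem step {B : Type u} [CommRing B] [Algebra R B] (j : P R B ⟶ G) [IsOpenImmersion j.left]
    (hR : Set.range (1 : P R R ⟶ G).left.base ⊆ Set.range j.left.base)
    {I₀ : Ideal R} {a b : P R (MonoidAlgebra R M) ⟶ G} (ha : IsHomPt a) (hb : IsHomPt b) (hc : CentralMod I₀ a)
    (J : Ideal R) (hJ : J ≤ I₀) (h : sp (mapR J) ≫ a = sp (mapR J) ≫ b) :
    sp (mapR (I₀ * J)) ≫ a = sp (mapR (I₀ * J)) ≫ b :=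
  step_gen j hR ha hb hc J hJ h (A := R ⧸ I₀ * J)
    (by rw [Ideal.Quotient.algebraMap_eq, Ideal.map_quotient_self])
    (fun N _ => mapR (M := N) (I₀ * J)) (fun N _ n c => by rw [mapR_eq, MonoidAlgebra.mapRingHom_single]; rfl)

end Groth.Agent.SGA3cLib.Near
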