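import Groth.Agent.SGA3cLib.NearTheta
import Groth.Agent.SGA3cLib.MultEssFree

/-!
# Coincidence of subgroups over local rings and nearby

The local statement at a central point and its propagation to an open subscheme of a chart.
-/

set_option linter.style.haveILetI false
set_option autoImplicit false

universe u

open CategoryTheory CategoryTheory.Limits MonoidalCategory CartesianMonoidalCategory MonObj AlgebraicGeometry

noncomputable section

namespace Groth.Agent.SGA3cLib.Near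

open CentralEq CentralOpen Averaging GroupLike Rigidity

variable {S : Scheme.{u}} {G H₁ H₂ : Over S} (i₁ : H₁ ⟶ G) (i₂ : H₂ ⟶ G)
  [IsImmersion i₁.left] [IsImmersion i₂.left]
  [GrpObj G] [GrpObj H₁] [GrpObj H₂] [IsMonHom i₁] [IsMonHom i₂]
  [LocallyOfFinitePresentation H₁.hom] [LocallyOfFinitePresentation H₂.hom]

/-- Over a local ring with central, coinciding closed fibres the subgroups coincide. -/
theorem good_local (hG : IsLocallyNoetherian S ∨ (LocallyOfFiniteType G.hom ∧ QuasiSeparated G.hom))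
    (R : Type u) [CommRing R] [IsLocalRing R] (g : Spec (CommRingCat.of R) ⟶ S)
    {M₁ M₂ : Type} [AddCommGroup M₁] [AddCommGroup M₂] [AddGroup.FG M₁] [AddGroup.FG M₂]
    (σ₁ : Red.bc g H₁ ≅ Red.DS (Spec (CommRingCat.of R)) M₁) [IsMonHom σ₁.hom]
    (σ₂ : Red.bc g H₂ ≅ Red.DS (Spec (CommRingCat.of R)) M₂) [IsMonHom σ₂.hom]
    (hcen : CentralAt i₁ (Spec.map (CommRingCat.ofHom (algebraMap R (IsLocalRing.maximalIdeal R).ResidueField)) ≫ g))
    (hp : Good i₁ i₂ (Spec.map (CommRingCat.ofHom (algebraMap R (IsLocalRing.maximalIdeal R).ResidueField)) ≫ g)) :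
    Good i₁ i₂ g := by
  classical
  obtain ⟨θ, hθ, hθi, hθk⟩ := exists_theta i₁ i₂ R g σ₁ σ₂ (IsLocalRing.closedPoint R) hp
  haveI := hθ
  haveI := hθi
  let k : Spec (CommRingCat.of (IsLocalRing.maximalIdeal R).ResidueField) ⟶ Spec (CommRingCat.of R) :=
    Spec.map (CommRingCat.ofHom (algebraMap R (IsLocalRing.maximalIdeal R).ResidueField))
  change (Over.pullback k).map θ ≫ (Over.pullback k).map ((Over.pullback g).map i₂) =
      (Over.pullback k).map ((Over.pullback g).map i₁) at hθk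
  let a_ : Red.bc g H₁ ⟶ Red.bc g G := (Over.pullback g).map i₁
  let b_ : Red.bc g H₂ ⟶ Red.bc g G := (Over.pullback g).map i₂
  haveI : IsMonHom a_ := inferInstanceAs (IsMonHom ((Over.pullback g).map i₁))
  haveI : IsMonHom b_ := inferInstanceAs (IsMonHom ((Over.pullback g).map i₂))
  suffices hab : a_ = θ ≫ b_ by
    exact (good_iff i₁ i₂ g).mpr ⟨asIso θ, hab.symm⟩
  -- the splitting
  let β := GrpBC.bcCongr g (𝟙 (Spec (CommRingCat.of R))) g (Category.id_comp g)
  obtain ⟨hb, -⟩ := GrpBC.isMonHom_app β H₁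
  let β₁ : Red.bc (𝟙 (Spec (CommRingCat.of R))) (Red.bc g H₁) ≅ Red.bc g H₁ := β.app H₁
  haveI : IsMonHom β₁.hom := hb
  haveI : IsMonHom (β₁ ≪≫ σ₁).hom := by show IsMonHom (β₁.hom ≫ σ₁.hom); infer_instance
  obtain ⟨σ⟩ := exists_split (H := Red.bc g H₁) (𝟙 _) (Grp.mkIso (β₁ ≪≫ σ₁) (IsMonHom.one_hom _) (IsMonHom.mul_hom _))
    (R := R) (𝟙 _) (by rw [Category.id_comp]; exact (Spec.map_id _).symm)
  let N := Multiplicative M₁
  haveI : Group.FG N := inferInstance
  let T := MonoidAlgebra R N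
  let x₀ : P R (MonoidAlgebra R N) ⟶ Red.bc g H₁ := σ.pt _ (MonoidAlgebra.of R N)
  have hx₀ : ∀ (A : Type u) [CommRing A] [Algebra R A] (y : P R A ⟶ Red.bc g H₁),
      ∃ h : MonoidAlgebra R N →ₐ[R] A, sp h ≫ x₀ = y := by
    intro A _ _ y
    obtain ⟨ξ, rfl⟩ := σ.pt_surj A y
    refine ⟨MonoidAlgebra.lift R A N ξ, (σ.pt_nat _ _ (MonoidAlgebra.lift R A N ξ) (MonoidAlgebra.of R N)).trans ?_⟩
    congr 1
    exact MonoidHom.ext fun m => by simp [MonoidAlgebra.of_apply, N]
  refine hom_ext_points _ _ fun A _ _ y => ?_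
  obtain ⟨h, rfl⟩ := hx₀ A y
  suffices he : x₀ ≫ a_ = x₀ ≫ θ ≫ b_ by rw [Category.assoc, Category.assoc, he]
  have hom : ∀ (c : Red.bc g H₁ ⟶ Red.bc g G) [IsMonHom c], IsHomPt (x₀ ≫ c) := by
    intro c _
    have e1 : ∀ φ : N →* N × N, sp (MonoidAlgebra.mapDomainAlgHom R R φ) ≫ x₀ =
        σ.pt _ ((MonoidAlgebra.of R (N × N)).comp φ) := fun φ => by
      have h := σ.pt_nat _ _ (MonoidAlgebra.mapDomainAlgHom R R φ) (MonoidAlgebra.of R N)
      refine h.trans ?_
      congr 1
      exact MonoidHom.ext fun m => by simp [MonoidAlgebra.of_apply, N]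
    show sp _ ≫ x₀ ≫ c = (sp _ ≫ x₀ ≫ c) * (sp _ ≫ x₀ ≫ c)
    unfold GroupLike.dg GroupLike.i₁ GroupLike.i₂
    rw [← Category.assoc, ← Category.assoc, ← Category.assoc, e1, e1, e1, ← MonObj.mul_comp, ← σ.pt_mul]
    congr 2
    exact MonoidHom.ext fun m => by simp [MonoidAlgebra.single_mul_single, MonoidHom.inl_apply, MonoidHom.inr_apply, N]
  -- points killed by the maximal ideal lie over the closed point
  have hlift : ∀ (A : Type u) [CommRing A] [Algebra R A], (IsLocalRing.maximalIdeal R).map (algebraMap R A) = ⊥ →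
      ∃ ρ : (IsLocalRing.maximalIdeal R).ResidueField →+* A, ρ.comp (algebraMap R _) = algebraMap R A := by
    intro A _ _ hA
    refine ⟨Ideal.ResidueField.lift _ (algebraMap R A) (fun r hr => ?_) (fun r hr => ?_), RingHom.ext fun r => by simp⟩
    · rw [RingHom.mem_ker, ← Ideal.mem_bot, ← hA]; exact Ideal.mem_map_of_mem _ hr
    · exact (IsLocalRing.notMem_maximalIdeal.mp hr).map (algebraMap R A)
  have hc : CentralMod (IsLocalRing.maximalIdeal R) (x₀ ≫ a_) := by
    intro A _ _ hA h gA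
    obtain ⟨ρ, hρ⟩ := hlift A hA
    obtain ⟨g₀, rfl⟩ := (BCPoints.pt g G (P R A)).surjective gA
    obtain ⟨y₀, hy₀⟩ := (BCPoints.pt g H₁ (P R A)).surjective (sp h ≫ x₀)
    rw [← Category.assoc, ← hy₀, show BCPoints.pt g H₁ (P R A) y₀ ≫ a_ = BCPoints.pt g G (P R A) (y₀ ≫ i₁) from
      (BCPoints.pt_comp g y₀ i₁).symm, ← BCPoints.pt_mul, ← BCPoints.pt_mul]
    refine congrArg _ (hcen _ (Over.homMk (Spec.map (CommRingCat.ofHom ρ)) ?_) g₀ y₀)
    show Spec.map _ ≫ Spec.map _ ≫ g = Spec.map (CommRingCat.ofHom (algebraMap R A)) ≫ g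
    rw [← Spec.map_comp_assoc, ← CommRingCat.ofHom_comp, hρ]
  have h0 : sp (mapR (IsLocalRing.maximalIdeal R)) ≫ x₀ ≫ a_ = sp (mapR (IsLocalRing.maximalIdeal R)) ≫ x₀ ≫ θ ≫ b_ := by
    let A := MonoidAlgebra (R ⧸ IsLocalRing.maximalIdeal R) N
    have hA : (IsLocalRing.maximalIdeal R).map (algebraMap R A) = ⊥ := by
      rw [IsScalarTower.algebraMap_eq R (R ⧸ IsLocalRing.maximalIdeal R) A, ← Ideal.map_map,
        Ideal.Quotient.algebraMap_eq, Ideal.map_quotient_self, Ideal.map_bot]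
    obtain ⟨ρ, hρ⟩ := hlift A hA
    let Y' : Over (Spec (CommRingCat.of (IsLocalRing.maximalIdeal R).ResidueField)) := Over.mk (Spec.map (CommRingCat.ofHom ρ))
    have hY : Spec.map (CommRingCat.ofHom ρ) ≫ k = Spec.map (CommRingCat.ofHom (algebraMap R A)) := by
      rw [← Spec.map_comp, ← CommRingCat.ofHom_comp, hρ]
    let e : P R A ⟶ (Over.map k).obj Y' := Over.homMk (𝟙 _) ((Category.id_comp _).trans hY)
    let e' : (Over.map k).obj Y' ⟶ P R A := Over.homMk (𝟙 _) ((Category.id_comp _).trans hY.symm)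
    have hee : e ≫ e' = 𝟙 _ := Over.OverMorphism.ext (Category.id_comp _)
    let y : (Over.map k).obj Y' ⟶ Red.bc g H₁ := e' ≫ sp (mapR (IsLocalRing.maximalIdeal R)) ≫ x₀
    have hy : y ≫ a_ = y ≫ θ ≫ b_ := by
      apply (BCPoints.pt k (Red.bc g G) Y').injective
      rw [BCPoints.pt_comp, BCPoints.pt_comp k y (θ ≫ b_), Functor.map_comp, hθk]
    have hy' := congrArg (e ≫ ·) hy
    simp only [y, ← Category.assoc, hee, Category.id_comp] at hy'
    simp only [← Category.assoc]
    exact hy'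
  -- the equalizer
  obtain ⟨hmi, hmfp, -⟩ := graph_props i₁ i₂ hG
  haveI := hmi
  haveI := hmfp
  let pr : ∀ H : Over S, (Red.bc g H).left ⟶ H.left := fun H => pullback.fst H.hom g
  have hpr : ∀ (H H' : Over S) (f : H ⟶ H'), ((Over.pullback g).map f).left ≫ pr H' = pr H ≫ f.left :=
    fun H H' f => MultHomLocus.map_left_fst f g
  let u₁ : Spec (CommRingCat.of T) ⟶ H₁.left := x₀.left ≫ pr H₁
  let u₂ : Spec (CommRingCat.of T) ⟶ H₂.left := (x₀ ≫ θ).left ≫ pr H₂
  have hu : u₁ ≫ i₁.left ≫ G.hom = u₂ ≫ i₂.left ≫ G.hom := by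
    rw [Over.w i₁, Over.w i₂]
    simp only [u₁, u₂, Category.assoc]
    show x₀.left ≫ pullback.fst H₁.hom g ≫ H₁.hom = (x₀ ≫ θ).left ≫ pullback.fst H₂.hom g ≫ H₂.hom
    rw [pullback.condition, pullback.condition]
    have := (Over.w x₀).trans (Over.w (x₀ ≫ θ)).symm
    exact (Category.assoc _ _ _).symm.trans ((congrArg (· ≫ g) this).trans (Category.assoc _ _ _))
  let r : Spec (CommRingCat.of T) ⟶ pullback (i₁.left ≫ G.hom) (i₂.left ≫ G.hom) := pullback.lift u₁ u₂ hu
  let q := pullback.snd (pullback.mapDesc i₁.left i₂.left G.hom) r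
  haveI : IsImmersion q := MorphismProperty.pullback_snd _ _ hmi
  haveI : LocallyOfFinitePresentation q := MorphismProperty.pullback_snd _ _ hmfp
  have hq : Eqz (x₀ ≫ a_) (x₀ ≫ θ ≫ b_) q := by
    intro A _ _ h
    let v : Spec (CommRingCat.of A) ⟶ Spec (CommRingCat.of T) := Spec.map (CommRingCat.ofHom h.toRingHom)
    have e1 : (sp h ≫ x₀ ≫ a_).left ≫ pr G = v ≫ u₁ ≫ i₁.left := by
      simp only [Over.comp_left, Category.assoc, u₁, ← hpr]
      rfl
    have e2 : (sp h ≫ x₀ ≫ θ ≫ b_).left ≫ pr G = v ≫ u₂ ≫ i₂.left := by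
      simp only [Over.comp_left, Category.assoc, u₂, ← hpr]
      rfl
    constructor
    · intro e
      have h' : (v ≫ u₁) ≫ i₁.left = (v ≫ u₂) ≫ i₂.left := by
        exact (Category.assoc _ _ _).trans (e1.symm.trans ((congrArg (fun z => CommaMorphism.left z ≫ pr G) e).trans (e2.trans (Category.assoc _ _ _).symm)))
      refine ⟨pullback.lift (pullback.lift (v ≫ u₁) (v ≫ u₂) h') v ?_, pullback.lift_snd _ _ _⟩
      apply pullback.hom_ext
      · simp only [r, pullback.mapDesc, pullback.map, Category.assoc, pullback.lift_fst, pullback.lift_fst_assoc, Category.comp_id]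
      · simp only [r, pullback.mapDesc, pullback.map, Category.assoc, pullback.lift_snd, pullback.lift_snd_assoc, Category.comp_id]
    · rintro ⟨l, hl⟩
      let m := l ≫ pullback.fst (pullback.mapDesc i₁.left i₂.left G.hom) r
      have hm : m ≫ pullback.mapDesc i₁.left i₂.left G.hom = v ≫ r := by
        show _ = Spec.map (CommRingCat.ofHom h.toRingHom) ≫ r
        rw [← hl, Category.assoc, Category.assoc, pullback.condition]
      have f1 : m ≫ pullback.fst i₁.left i₂.left = v ≫ u₁ := by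
        have := congrArg (· ≫ pullback.fst _ _) hm
        simpa only [r, pullback.mapDesc, pullback.map, Category.assoc, pullback.lift_fst, pullback.lift_snd, pullback.lift_fst_assoc, pullback.lift_snd_assoc, Category.comp_id] using this
      have f2 : m ≫ pullback.snd i₁.left i₂.left = v ≫ u₂ := by
        have := congrArg (· ≫ pullback.snd _ _) hm
        simpa only [r, pullback.mapDesc, pullback.map, Category.assoc, pullback.lift_fst, pullback.lift_snd, pullback.lift_fst_assoc, pullback.lift_snd_assoc, Category.comp_id] using this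
      apply Over.OverMorphism.ext
      apply pullback.hom_ext
      · show (sp h ≫ x₀ ≫ a_).left ≫ pr G = (sp h ≫ x₀ ≫ θ ≫ b_).left ≫ pr G
        rw [e1, e2, ← reassoc_of% f1, ← reassoc_of% f2, pullback.condition]
      · exact (Over.w (sp h ≫ x₀ ≫ a_)).trans (Over.w (sp h ≫ x₀ ≫ θ ≫ b_)).symm
  exact eq_of_local (hom a_) (hom (θ ≫ b_)) hc q hq h0

/-- Coincidence over a localization spreads to a basic open subscheme. -/
theorem good_spread (hG : IsLocallyNoetherian S ∨ (LocallyOfFiniteType G.hom ∧ QuasiSeparated G.hom))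
    [QuasiSeparated H₁.hom] [QuasiSeparated H₂.hom] [QuasiCompact H₁.hom] [QuasiCompact H₂.hom]
    (R : Type u) [CommRing R] (g : Spec (CommRingCat.of R) ⟶ S)
    {M₁ M₂ : Type} [AddCommGroup M₁] [AddCommGroup M₂]
    (σ₁ : Red.bc g H₁ ≅ Red.DS (Spec (CommRingCat.of R)) M₁)
    (σ₂ : Red.bc g H₂ ≅ Red.DS (Spec (CommRingCat.of R)) M₂) (p : Ideal R) [p.IsPrime]
    (hp : Good i₁ i₂ (Spec.map (CommRingCat.ofHom (algebraMap R (Localization.AtPrime p))) ≫ g)) :
    ∃ r ∉ p, ∀ (R' : Type u) [CommRing R'] [Algebra R R'], IsUnit (algebraMap R R' r) →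
      Good i₁ i₂ (Spec.map (CommRingCat.ofHom (algebraMap R R')) ≫ g) := by
  obtain ⟨hmi, hmfp, hmqc⟩ := graph_props i₁ i₂ hG
  have hinter : LocallyOfFinitePresentation (inter i₁ i₂).hom ∧ QuasiCompact (inter i₁ i₂).hom := by
    have e : (inter i₁ i₂).hom = pullback.mapDesc i₁.left i₂.left G.hom ≫
        pullback.fst (i₁.left ≫ G.hom) (i₂.left ≫ G.hom) ≫ i₁.left ≫ G.hom := by
      show pullback.fst i₁.left i₂.left ≫ H₁.hom = _
      simp only [pullback.mapDesc, pullback.map, pullback.lift_fst_assoc, Category.id_comp, Category.assoc]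
      exact congrArg (pullback.fst i₁.left i₂.left ≫ ·) (Over.w i₁).symm
    haveI := hmfp
    haveI := hmqc
    haveI : LocallyOfFinitePresentation (i₂.left ≫ G.hom) := by rw [Over.w i₂]; infer_instance
    haveI : QuasiCompact (i₂.left ≫ G.hom) := by rw [Over.w i₂]; infer_instance
    haveI : LocallyOfFinitePresentation (i₁.left ≫ G.hom) := by rw [Over.w i₁]; infer_instance
    haveI : QuasiCompact (i₁.left ≫ G.hom) := by rw [Over.w i₁]; infer_instance
    rw [e]
    exact ⟨MorphismProperty.comp_mem _ _ _ hmfp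
        (MorphismProperty.comp_mem (W := @LocallyOfFinitePresentation) _ _ inferInstance inferInstance),
      MorphismProperty.comp_mem _ _ _ hmqc (MorphismProperty.comp_mem (W := @QuasiCompact) _ _ inferInstance inferInstance)⟩
  haveI : LocallyOfFinitePresentation ((pr₁ i₁ i₂).left ≫ H₁.hom) := by rw [Over.w]; exact hinter.1
  haveI : LocallyOfFinitePresentation ((pr₂ i₁ i₂).left ≫ H₂.hom) := by rw [Over.w]; exact hinter.1
  haveI : QuasiCompact ((pr₁ i₁ i₂).left ≫ H₁.hom) := by rw [Over.w]; exact hinter.2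
  haveI : QuasiCompact ((pr₂ i₁ i₂).left ≫ H₂.hom) := by rw [Over.w]; exact hinter.2
  have aux : ∀ {X H : Over S} (f : X ⟶ H) [IsImmersion f.left] [LocallyOfFinitePresentation f.left] [QuasiCompact f.left]
      [LocallyOfFinitePresentation H.hom] {M : Type} [AddCommGroup M] (σ : Red.bc g H ≅ Red.DS (Spec (CommRingCat.of R)) M),
      IsIso ((Over.pullback (Spec.map (CommRingCat.ofHom (algebraMap R (Localization.AtPrime p))) ≫ g)).map f).left →
      ∃ r ∉ p, ∀ (R' : Type u) [CommRing R'] [Algebra R R'], IsUnit (algebraMap R R' r) →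
        IsIso ((Over.pullback (Spec.map (CommRingCat.ofHom (algebraMap R R')) ≫ g)).map f).left := by
    intro X H f _ _ _ _ M _ σ hf
    haveI : IsAffine (Red.DS (Spec (CommRingCat.of R)) M).left := MultEssFree.isAffine_DS M
    haveI : IsIso σ.hom.left := ((Over.forget _).mapIso σ).isIso_hom
    haveI : IsAffine (Red.bc g H).left := IsAffine.of_isIso σ.hom.left
    haveI : LocallyOfFinitePresentation (Red.bc g H).hom := inferInstanceAs (LocallyOfFinitePresentation (pullback.snd H.hom g))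
    let F := (Over.pullback g).map f
    haveI : IsImmersion F.left := MorphismProperty.of_isPullback (MultHomLocus.isPullback_map f g) ‹IsImmersion f.left›
    haveI : LocallyOfFinitePresentation F.left :=
      MorphismProperty.of_isPullback (MultHomLocus.isPullback_map f g) ‹LocallyOfFinitePresentation f.left›
    haveI : QuasiCompact F.left := MorphismProperty.of_isPullback (MultHomLocus.isPullback_map f g) ‹QuasiCompact f.left›
    obtain ⟨r, hr, h⟩ := exists_away_isIso (X := Red.bc g X) (Y := Red.bc g H) F p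
      ((MultHomLocus.iff_map_map f (MorphismProperty.isomorphisms Scheme.{u}) g _ _ rfl).mpr hf)
    exact ⟨r, hr, fun R' _ _ hu =>
      (MultHomLocus.iff_map_map f (MorphismProperty.isomorphisms Scheme.{u}) g _ _ rfl).mp (h R' hu)⟩
  haveI : IsImmersion (pr₁ i₁ i₂).left := inferInstanceAs (IsImmersion (pullback.fst i₁.left i₂.left))
  haveI : IsImmersion (pr₂ i₁ i₂).left := inferInstanceAs (IsImmersion (pullback.snd i₁.left i₂.left))
  haveI : LocallyOfFinitePresentation (pr₁ i₁ i₂).left := EGA43.Limit.locallyOfFinitePresentation_of_comp _ H₁.hom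
  haveI : LocallyOfFinitePresentation (pr₂ i₁ i₂).left := EGA43.Limit.locallyOfFinitePresentation_of_comp _ H₂.hom
  haveI : QuasiCompact (pr₁ i₁ i₂).left := QuasiCompact.of_comp _ H₁.hom
  haveI : QuasiCompact (pr₂ i₁ i₂).left := QuasiCompact.of_comp _ H₂.hom
  obtain ⟨r₁, hr₁, h₁⟩ := aux (pr₁ i₁ i₂) σ₁ hp.1
  obtain ⟨r₂, hr₂, h₂⟩ := aux (pr₂ i₁ i₂) σ₂ hp.2
  refine ⟨r₁ * r₂, fun h => (Ideal.IsPrime.mem_or_mem ‹_› h).elim hr₁ hr₂, fun R' _ _ hu => ?_⟩
  rw [map_mul, IsUnit.mul_iff] at hu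
  exact ⟨h₁ R' hu.1, h₂ R' hu.2⟩

end Groth.Agent.SGA3cLib.Near
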