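import Groth.Agent.SGA3cLib.NearEq
import Groth.Agent.SGA3cLib.MultHomLocus
import Mathlib.AlgebraicGeometry.AffineScheme
import Mathlib.RingTheory.Spectrum.Prime.ConstructibleSet
import Mathlib.RingTheory.Spectrum.Prime.Chevalley

/-!
# An immersion which is an isomorphism over a local ring is one nearby

For affine targets of finite presentation.
-/

set_option linter.style.haveILetI false
set_option autoImplicit false

universe u

open CategoryTheory CategoryTheory.Limits AlgebraicGeometry

noncomputable section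

namespace Groth.Agent.SGA3cLib.Near

variable {R : Type u} [CommRing R]

/-- A constructible set whose image avoids the generalizations of `p` avoids a basic neighbourhood of `p`. -/
theorem exists_notMem_of_isConstructible (p : Ideal R) [p.IsPrime] (D : Set (PrimeSpectrum R))
    (hD : Topology.IsConstructible D) (h : ∀ x : PrimeSpectrum R, x.asIdeal ≤ p → x ∉ D) :
    ∃ r ∉ p, ∀ x ∈ D, r ∈ x.asIdeal := by
  obtain ⟨C, _, φ, hφ⟩ := PrimeSpectrum.exists_range_eq_of_isConstructible hD
  by_cases h0 : ∃ r ∉ p, φ r = 0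
  · obtain ⟨r, hr, hr0⟩ := h0
    refine ⟨r, hr, fun x hx => ?_⟩
    rw [← hφ] at hx
    obtain ⟨y, rfl⟩ := hx
    show φ r ∈ y.asIdeal
    rw [hr0]
    exact zero_mem _
  · push_neg at h0
    have hdisj : Disjoint ((⊥ : Ideal C) : Set C) (p.primeCompl.map φ : Set C) := by
      rw [Set.disjoint_left]
      rintro x hx ⟨r, hr, rfl⟩
      exact h0 r hr hx
    obtain ⟨q, hq, -, hqd⟩ := Ideal.exists_le_prime_disjoint _ _ hdisj
    exfalso
    refine h (PrimeSpectrum.comap φ ⟨q, hq⟩) (fun r hr => ?_) (hφ ▸ ⟨_, rfl⟩)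
    by_contra hrp
    exact Set.disjoint_left.mp hqd hr ⟨r, hrp, rfl⟩

/-- An immersion through which everything over `R_p` factors is an isomorphism over some `R_r`. -/
theorem exists_away_factor {T : Type u} [CommRing T] [Algebra R T] [Algebra.FinitePresentation R T]
    {E : Scheme.{u}} (q : E ⟶ Spec (CommRingCat.of T)) [IsImmersion q] [LocallyOfFinitePresentation q] [QuasiCompact q]
    (p : Ideal R) [p.IsPrime]
    (hp : ∀ (A : Type u) [CommRing A] (φ : T →+* A), (∀ r ∉ p, IsUnit (φ (algebraMap R T r))) →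
      ∃ l : Spec (CommRingCat.of A) ⟶ E, l ≫ q = Spec.map (CommRingCat.ofHom φ)) :
    ∃ r ∉ p, ∀ (A : Type u) [CommRing A] (φ : T →+* A), IsUnit (φ (algebraMap R T r)) →
      ∃ l : Spec (CommRingCat.of A) ⟶ E, l ≫ q = Spec.map (CommRingCat.ofHom φ) := by
  classical
  let C : Set (PrimeSpectrum T) := Set.range q.base
  have hC : Topology.IsConstructible C := by
    have h1 : Topology.IsLocallyConstructible (X := ↥(Spec (CommRingCat.of T))) (q.base '' Set.univ) :=
      q.isLocallyConstructible_image (Topology.IsConstructible.univ.isLocallyConstructible)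
    rw [Set.image_univ] at h1
    exact h1.isConstructible
  obtain ⟨r₁, hr₁, hr₁'⟩ := exists_notMem_of_isConstructible p (PrimeSpectrum.comap (algebraMap R T) '' Cᶜ)
    (PrimeSpectrum.isConstructible_comap_image (RingHom.finitePresentation_algebraMap.mpr ‹_›) hC.compl) (by
      rintro _ hle ⟨y, hy, rfl⟩
      apply hy
      obtain ⟨l, hl⟩ := hp y.asIdeal.ResidueField (algebraMap T _) fun r hr => by
        refine isUnit_iff_ne_zero.mpr fun h0 => hr (hle ?_)
        show algebraMap R T r ∈ y.asIdeal
        exact Ideal.algebraMap_residueField_eq_zero.mp h0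
      refine ⟨l.base (⊥ : PrimeSpectrum y.asIdeal.ResidueField), ?_⟩
      rw [← Scheme.Hom.comp_apply, hl]
      exact PrimeSpectrum.ext (Ideal.ker_algebraMap_residueField y.asIdeal))
  let T₁ := Localization.Away (algebraMap R T r₁)
  let c : Spec (CommRingCat.of T₁) ⟶ Spec (CommRingCat.of T) := Spec.map (CommRingCat.ofHom (algebraMap T T₁))
  let q₁ := pullback.snd q c
  haveI : LocallyOfFinitePresentation q₁ := inferInstanceAs (LocallyOfFinitePresentation (pullback.snd q c))
  have hcl : IsClosed (Set.range q₁.base) := by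
    suffices Set.range q₁.base = Set.univ by rw [this]; exact isClosed_univ
    rw [Scheme.Pullback.range_snd, Set.eq_univ_iff_forall]
    intro (z : PrimeSpectrum T₁)
    show (c.base z : PrimeSpectrum T) ∈ C
    by_contra hz
    have := hr₁' _ ⟨_, hz, rfl⟩
    exact z.2.ne_top (Ideal.eq_top_of_isUnit_mem _ this (IsLocalization.Away.algebraMap_isUnit _))
  obtain ⟨I, hIfg, hI⟩ := exists_ideal_of_immersion q₁ hcl
  obtain ⟨gs, hgs⟩ := hIfg inferInstance
  let W := Algebra.algebraMapSubmonoid T p.primeCompl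
  let L := Localization W
  have hW : ∀ r ∉ p, IsUnit (algebraMap T L (algebraMap R T r)) := fun r hr =>
    IsLocalization.map_units L (⟨_, r, hr, rfl⟩ : W)
  let ψ : T₁ →+* L := IsLocalization.Away.lift (algebraMap R T r₁) (hW r₁ hr₁)
  have hψI : I ≤ RingHom.ker ψ := by
    refine (hI L ψ).mp ?_
    obtain ⟨l, hl⟩ := hp L (algebraMap T L) hW
    refine ⟨pullback.lift l (Spec.map (CommRingCat.ofHom ψ)) ?_, pullback.lift_snd _ _ _⟩
    rw [hl, ← Spec.map_comp, ← CommRingCat.ofHom_comp, IsLocalization.Away.lift_comp]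
  have hann : ∀ x ∈ gs, ∃ r ∉ p, algebraMap T T₁ (algebraMap R T r) * x = 0 := by
    intro x hx
    obtain ⟨⟨t, ⟨_, n, rfl⟩⟩, ht⟩ := IsLocalization.surj (Submonoid.powers (algebraMap R T r₁)) x
    have h1 := congrArg ψ ht
    rw [map_mul, show ψ x = 0 from hψI (hgs ▸ Submodule.subset_span hx), zero_mul, IsLocalization.Away.lift_eq] at h1
    obtain ⟨⟨_, r, hr, rfl⟩, hrt⟩ := (IsLocalization.map_eq_zero_iff W L t).mp h1.symm
    refine ⟨r, hr, ?_⟩
    have hu : IsUnit (algebraMap T T₁ ((algebraMap R T r₁) ^ n)) := by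
      rw [map_pow]; exact (IsLocalization.Away.algebraMap_isUnit _).pow n
    refine hu.mul_left_eq_zero.mp ?_
    rw [_root_.mul_assoc, ht, ← map_mul, hrt, map_zero]
  choose! fx hfx hfx0 using hann
  refine ⟨r₁ * ∏ x ∈ gs, fx x, fun h => ?_, fun A _ φ hu => ?_⟩
  · rcases Ideal.IsPrime.mem_or_mem ‹_› h with h | h
    · exact hr₁ h
    · obtain ⟨x, hx, hxp⟩ := Ideal.IsPrime.prod_mem_iff.mp h
      exact hfx x hx hxp
  · rw [map_mul, map_mul, IsUnit.mul_iff] at hu
    let φ₁ : T₁ →+* A := IsLocalization.Away.lift (algebraMap R T r₁) hu.1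
    obtain ⟨l, hl⟩ := (hI A φ₁).mpr (by
      rw [← hgs, Submodule.span_le]
      intro x hx
      show φ₁ x = 0
      have h2 : IsUnit (φ₁ (algebraMap T T₁ (algebraMap R T (fx x)))) := by
        rw [IsLocalization.Away.lift_eq]
        rw [← Finset.mul_prod_erase gs fx hx, map_mul, map_mul, IsUnit.mul_iff] at hu
        exact hu.2.1
      refine h2.mul_right_eq_zero.mp ?_
      rw [← map_mul, hfx0 x hx, map_zero])
    refine ⟨l ≫ pullback.fst q c, ?_⟩
    rw [Category.assoc, pullback.condition, reassoc_of% hl, ← Spec.map_comp, ← CommRingCat.ofHom_comp,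
      IsLocalization.Away.lift_comp]

/-- An immersion to an affine scheme over `R` which is an isomorphism over `R_p` is one over some `R_r`. -/
theorem exists_away_isIso {X Y : Over (Spec (CommRingCat.of R))} (f : X ⟶ Y) [IsAffine Y.left]
    [LocallyOfFinitePresentation Y.hom] [IsImmersion f.left] [LocallyOfFinitePresentation f.left] [QuasiCompact f.left]
    (p : Ideal R) [p.IsPrime]
    (hp : IsIso ((Over.pullback (Spec.map (CommRingCat.ofHom (algebraMap R (Localization.AtPrime p))))).map f).left) :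
    ∃ r ∉ p, ∀ (R' : Type u) [CommRing R'] [Algebra R R'], IsUnit (algebraMap R R' r) →
      IsIso ((Over.pullback (Spec.map (CommRingCat.ofHom (algebraMap R R')))).map f).left := by
  let T : CommRingCat.{u} := Γ(Y.left, ⊤)
  let e : Y.left ≅ Spec T := Y.left.isoSpec
  letI : Algebra R T := (Spec.preimage (e.inv ≫ Y.hom)).hom.toAlgebra
  have hT : Spec.map (CommRingCat.ofHom (algebraMap R T)) = e.inv ≫ Y.hom := Spec.map_preimage _
  haveI : Algebra.FinitePresentation R T := by
    rw [← RingHom.finitePresentation_algebraMap, ← CommRingCat.hom_ofHom (algebraMap R T),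
      ← LocallyOfFinitePresentation.SpecMap_iff, hT]
    infer_instance
  let q : X.left ⟶ Spec T := f.left ≫ e.hom
  haveI : LocallyOfFinitePresentation q := inferInstanceAs (LocallyOfFinitePresentation (f.left ≫ e.hom))
  obtain ⟨r, hr, hrf⟩ := exists_away_factor (T := T) q p fun A _ φ hu => by
    let k := Spec.map (CommRingCat.ofHom (algebraMap R (Localization.AtPrime p)))
    let ψ : Localization.AtPrime p →+* A :=
      IsLocalization.lift (M := p.primeCompl) (g := φ.comp (algebraMap R T)) fun r => hu r r.2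
    let z : Spec (CommRingCat.of A) ⟶ pullback Y.hom k :=
      pullback.lift (Spec.map (CommRingCat.ofHom φ) ≫ e.inv) (Spec.map (CommRingCat.ofHom ψ)) (by
        rw [Category.assoc, ← hT, ← Spec.map_comp, ← Spec.map_comp, ← CommRingCat.ofHom_comp, ← CommRingCat.ofHom_comp,
          IsLocalization.lift_comp])
    haveI := hp
    refine ⟨z ≫ inv ((Over.pullback k).map f).left ≫ pullback.fst X.hom k, ?_⟩
    have h1 : pullback.fst X.hom k ≫ f.left = ((Over.pullback k).map f).left ≫ pullback.fst Y.hom k :=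
      (MultHomLocus.map_left_fst f k).symm
    simp only [q, Category.assoc]
    rw [reassoc_of% h1, IsIso.inv_hom_id_assoc]
    refine (pullback.lift_fst_assoc _ _ _ _).trans ?_
    rw [Category.assoc, Iso.inv_hom_id, Category.comp_id]
  refine ⟨r, hr, fun R' _ _ hu => ?_⟩
  let k := Spec.map (CommRingCat.ofHom (algebraMap R R'))
  let F := ((Over.pullback k).map f).left
  have hF : IsImmersion F :=
    MorphismProperty.of_isPullback (MultHomLocus.isPullback_map f k) ‹IsImmersion f.left›
  haveI := hF
  let Z := pullback Y.hom k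
  haveI : IsAffine Z := inferInstanceAs (IsAffine (pullback Y.hom k))
  let A : CommRingCat.{u} := Γ(Z, ⊤)
  obtain ⟨φ, hφ⟩ := Spec.map_surjective (R := T) (S := A) (Z.isoSpec.inv ≫ pullback.fst Y.hom k ≫ e.hom)
  obtain ⟨ψ, hψ⟩ := Spec.map_surjective (R := CommRingCat.of R') (S := A) (Z.isoSpec.inv ≫ pullback.snd Y.hom k)
  have hφψ : φ.hom.comp (algebraMap R T) = ψ.hom.comp (algebraMap R R') := by
    have : CommRingCat.ofHom (algebraMap R T) ≫ φ = CommRingCat.ofHom (algebraMap R R') ≫ ψ := by
      apply Spec.map_injective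
      rw [Spec.map_comp, Spec.map_comp, hφ, hψ, hT]
      simp [k, pullback.condition]
    exact congrArg CommRingCat.Hom.hom this
  obtain ⟨l, hl⟩ := hrf A φ.hom (by
    rw [← RingHom.comp_apply, hφψ, RingHom.comp_apply]; exact hu.map ψ.hom)
  have hl' : l ≫ f.left = Z.isoSpec.inv ≫ pullback.fst Y.hom k := by
    rw [← cancel_mono e.hom, Category.assoc, Category.assoc, ← hφ]
    exact hl
  let sec : Z ⟶ pullback X.hom k := pullback.lift (Z.isoSpec.hom ≫ l) (pullback.snd Y.hom k) (by
    rw [← pullback.condition, Category.assoc, ← Over.w f, reassoc_of% hl', Iso.hom_inv_id_assoc])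
  have hsec : sec ≫ F = 𝟙 Z := by
    apply pullback.hom_ext
    · rw [Category.assoc, MultHomLocus.map_left_fst, Category.id_comp, pullback.lift_fst_assoc, Category.assoc, hl',
        Iso.hom_inv_id_assoc]
    · rw [Category.assoc, MultHomLocus.map_left_snd, Category.id_comp, pullback.lift_snd]
  haveI : IsSplitEpi F := IsSplitEpi.mk' ⟨sec, hsec⟩
  exact isIso_of_mono_of_isSplitEpi F

end Groth.Agent.SGA3cLib.Near
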