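import Groth.Agent.SGA3cLib.NearSpread
import Groth.Agent.SGA3cLib.CentralEq
import Groth.Agent.SGA3cLib.CentralOpen

/-!
# Coincidence of two subgroups of multiplicative type near a central fibre

No separation or connectedness hypothesis is made on the ambient group.
-/

set_option linter.style.haveILetI false
set_option autoImplicit false

universe u

open CategoryTheory CategoryTheory.Limits MonoidalCategory CartesianMonoidalCategory MonObj AlgebraicGeometry

noncomputable section

namespace Groth.Agent.SGA3cLib.Near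

open CentralEq CentralOpen Averaging GroupLike Rigidity

variable {S : Scheme.{u}} {G H₁ H₂ : Over S} (i₁ : H₁ ⟶ G) (i₂ : H₂ ⟶ G)
  [IsImmersion i₁.left] [IsImmersion i₂.left]

/-- Finiteness of the kernel of the difference. -/
theorem graph_props (hG : IsLocallyNoetherian S ∨ (LocallyOfFiniteType G.hom ∧ QuasiSeparated G.hom))
    [LocallyOfFinitePresentation H₁.hom] [LocallyOfFinitePresentation H₂.hom] :
    IsImmersion (pullback.mapDesc i₁.left i₂.left G.hom) ∧
      LocallyOfFinitePresentation (pullback.mapDesc i₁.left i₂.left G.hom) ∧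
      QuasiCompact (pullback.mapDesc i₁.left i₂.left G.hom) := by
  have himm : IsImmersion (pullback.mapDesc i₁.left i₂.left G.hom) :=
    MorphismProperty.of_isPullback (pullback_map_diagonal_isPullback i₁.left i₂.left G.hom) inferInstance
  refine ⟨himm, ?_⟩
  rcases hG with h | ⟨h, h'⟩
  · haveI := h
    haveI : LocallyOfFiniteType (i₁.left ≫ G.hom) := by rw [Over.w i₁]; infer_instance
    haveI : LocallyOfFiniteType (i₂.left ≫ G.hom) := by rw [Over.w i₂]; infer_instance
    haveI : IsLocallyNoetherian (pullback (i₁.left ≫ G.hom) (i₂.left ≫ G.hom)) :=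
      LocallyOfFiniteType.isLocallyNoetherian (pullback.fst (i₁.left ≫ G.hom) (i₂.left ≫ G.hom) ≫ i₁.left ≫ G.hom)
    haveI := himm
    refine ⟨LocallyOfFinitePresentation.iff_locallyOfFiniteType.mpr inferInstance, ?_⟩
    rw [← Scheme.Hom.liftCoborder_ι (pullback.mapDesc i₁.left i₂.left G.hom)]
    infer_instance
  · haveI := h
    haveI := h'
    haveI : LocallyOfFinitePresentation (pullback.diagonal G.hom ≫ pullback.fst G.hom G.hom) := by
      rw [pullback.diagonal_fst]; infer_instance
    haveI : LocallyOfFinitePresentation (pullback.diagonal G.hom) :=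
      EGA43.Limit.locallyOfFinitePresentation_of_comp _ (pullback.fst G.hom G.hom)
    exact ⟨MorphismProperty.of_isPullback (pullback_map_diagonal_isPullback i₁.left i₂.left G.hom) inferInstance,
      MorphismProperty.of_isPullback (pullback_map_diagonal_isPullback i₁.left i₂.left G.hom) inferInstance⟩

variable [GrpObj G] [GrpObj H₁] [GrpObj H₂] [IsMonHom i₁] [IsMonHom i₂]

/-- An isomorphism of the split groups lifting the one on a fibre. -/
theorem exists_theta (R : Type u) [CommRing R] (g : Spec (CommRingCat.of R) ⟶ S)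
    {M₁ M₂ : Type} [AddCommGroup M₁] [AddCommGroup M₂] [AddGroup.FG M₁] [AddGroup.FG M₂]
    (σ₁ : Red.bc g H₁ ≅ Red.DS (Spec (CommRingCat.of R)) M₁) [IsMonHom σ₁.hom]
    (σ₂ : Red.bc g H₂ ≅ Red.DS (Spec (CommRingCat.of R)) M₂) [IsMonHom σ₂.hom]
    (p : PrimeSpectrum R)
    (hp : Good i₁ i₂ (Spec.map (CommRingCat.ofHom (algebraMap R p.asIdeal.ResidueField)) ≫ g)) :
    ∃ θ : Red.bc g H₁ ⟶ Red.bc g H₂, IsMonHom θ ∧ IsIso θ ∧
      (Over.pullback (Spec.map (CommRingCat.ofHom (algebraMap R p.asIdeal.ResidueField)))).map θ ≫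
        (Over.pullback (Spec.map (CommRingCat.ofHom (algebraMap R p.asIdeal.ResidueField)))).map ((Over.pullback g).map i₂) =
      (Over.pullback (Spec.map (CommRingCat.ofHom (algebraMap R p.asIdeal.ResidueField)))).map ((Over.pullback g).map i₁) := by
  let k := Spec.map (CommRingCat.ofHom (algebraMap R p.asIdeal.ResidueField))
  let a : Red.bc g H₁ ⟶ Red.bc g G := (Over.pullback g).map i₁
  let b : Red.bc g H₂ ⟶ Red.bc g G := (Over.pullback g).map i₂
  haveI : IsMonHom a := inferInstanceAs (IsMonHom ((Over.pullback g).map i₁))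
  haveI : IsMonHom b := inferInstanceAs (IsMonHom ((Over.pullback g).map i₂))
  haveI : Mono a := mono_map g i₁
  haveI : Mono b := mono_map g i₂
  have hsq := isPullback_map g (isPullback_inter i₁ i₂)
  -- a property on a further base change
  have hgood : ∀ {T : Scheme.{u}} (k : T ⟶ Spec (CommRingCat.of R)),
      Good i₁ i₂ (k ≫ g) ↔ ∃ ψ : (Over.pullback k).obj (Red.bc g H₁) ≅ (Over.pullback k).obj (Red.bc g H₂),
        ψ.hom ≫ (Over.pullback k).map b = (Over.pullback k).map a := by
    intro T k
    haveI : (Over.pullback k).IsRightAdjoint := (Over.mapPullbackAdj k).isRightAdjoint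
    haveI : Mono ((Over.pullback k).map a) := inferInstance
    haveI : Mono ((Over.pullback k).map b) := inferInstance
    rw [← isIso_pr_iff (isPullback_map k hsq), ← isIso_left_iff, ← isIso_left_iff]
    exact and_congr (MultHomLocus.iff_map_map _ (MorphismProperty.isomorphisms _) g k _ rfl).symm
      (MultHomLocus.iff_map_map _ (MorphismProperty.isomorphisms _) g k _ rfl).symm
  obtain ⟨ψ, hψ⟩ := (hgood k).mp hp
  obtain ⟨cD, hcD, hcnat⟩ := exists_bc_DS k
  -- the homomorphism of character groups
  haveI : (Over.pullback k).IsRightAdjoint := (Over.mapPullbackAdj k).isRightAdjoint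
  haveI : Mono ((Over.pullback k).map b) := inferInstance
  haveI : IsMonHom ((Over.pullback k).map a) := inferInstanceAs (IsMonHom ((Over.pullback k).map a))
  haveI : IsMonHom ((Over.pullback k).map b) := inferInstanceAs (IsMonHom ((Over.pullback k).map b))
  haveI hψm : IsMonHom ψ.hom := BCPoints.isMonHom_of_mul ψ.hom fun X x y => by
    rw [← cancel_mono ((Over.pullback k).map b)]
    refine Eq.trans ?_ (MonObj.mul_comp (x ≫ ψ.hom) (y ≫ ψ.hom) ((Over.pullback k).map b)).symm
    rw [Category.assoc, Category.assoc, Category.assoc, hψ]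
    exact MonObj.mul_comp x y _
  haveI := hcD M₁
  haveI := hcD M₂
  haveI : IsMonHom ((Over.pullback k).map σ₁.inv) := inferInstanceAs (IsMonHom ((Over.pullback k).map σ₁.inv))
  haveI : IsMonHom ((Over.pullback k).map σ₂.hom) := inferInstanceAs (IsMonHom ((Over.pullback k).map σ₂.hom))
  let u : Red.DS (Spec (CommRingCat.of p.asIdeal.ResidueField)) M₁ ⟶ Red.DS (Spec (CommRingCat.of p.asIdeal.ResidueField)) M₂ :=
    (cD M₁).inv ≫ (Over.pullback k).map σ₁.inv ≫ ψ.hom ≫ (Over.pullback k).map σ₂.hom ≫ (cD M₂).hom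
  haveI : IsMonHom u := inferInstance
  haveI : IsIso u := inferInstance
  obtain ⟨φ, hφ, huφ⟩ := exists_addEquiv u
  let D := Red.DSmap (Spec (CommRingCat.of R)) φ
  haveI : IsIso D := (isIso_left_iff D).mp (MultHomLocus.isIso_of_bijective φ hφ _)
  haveI : IsMonHom D := BCPoints.isMonHom_of_mul D fun X x y => dsFn_injective (MonoidHom.ext fun m => by
    rw [S5427.dsFn_DSmap, dsFn_mul, dsFn_mul, S5427.dsFn_DSmap, S5427.dsFn_DSmap])
  let θ : Red.bc g H₁ ⟶ Red.bc g H₂ := σ₁.hom ≫ D ≫ σ₂.inv
  haveI : IsMonHom θ := inferInstance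
  haveI : IsIso θ := inferInstance
  have hθk : (Over.pullback k).map θ = ψ.hom := by
    have h1 : (Over.pullback k).map D = (cD M₁).hom ≫ u ≫ (cD M₂).inv := by
      rw [huφ, ← Category.assoc, ← hcnat M₁ M₂ φ, Category.assoc, Iso.hom_inv_id, Category.comp_id]
    rw [Functor.map_comp, Functor.map_comp, h1]
    simp only [u, Category.assoc, Iso.hom_inv_id_assoc, Iso.hom_inv_id, Category.comp_id]
    rw [← Functor.map_comp_assoc, Iso.hom_inv_id, CategoryTheory.Functor.map_id]
    rw [Category.id_comp, ← Functor.map_comp, Iso.hom_inv_id, CategoryTheory.Functor.map_id, Category.comp_id]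
  exact ⟨θ, inferInstance, inferInstance, by rw [hθk]; exact hψ⟩

end Groth.Agent.SGA3cLib.Near
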