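import Groth.Agent.H8ProCons.Image
import Mathlib.AlgebraicGeometry.Morphisms.UniversallyInjective
import Mathlib.AlgebraicGeometry.Stalk
import Mathlib.RingTheory.Ideal.MinimalPrime.Localization
import Mathlib.RingTheory.Spectrum.Prime.ConstructibleSet

/-!
# Ind-constructible subsets with representable functor of points are open

For a monomorphism `i : Z ⟶ X` such that `g : T ⟶ X` factors through `i` iff the image of `g` lies in
`N`, the set `N` is open as soon as it is ind-constructible (no finiteness on `i`).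
-/

set_option autoImplicit false
set_option linter.style.haveILetI false
set_option backward.isDefEq.respectTransparency.types false

universe u

open CategoryTheory Limits AlgebraicGeometry TopologicalSpace Topology

namespace Groth.Agent.SGA3cLib.RepSubset

theorem comap_closedPoint_of_surjective {A B : Type u} [CommRing A] [IsLocalRing A] [CommRing B] [IsLocalRing B]
    (f : A →+* B) (hf : Function.Surjective f) :
    PrimeSpectrum.comap f (IsLocalRing.closedPoint B) = IsLocalRing.closedPoint A :=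
  PrimeSpectrum.ext ((IsLocalRing.eq_maximalIdeal
    (Ideal.comap_isMaximal_of_surjective f hf (K := IsLocalRing.maximalIdeal B))))

variable {X Z : Scheme.{u}} (i : Z ⟶ X) [Mono i] (N : Set X)
  (hrep : ∀ (T : Scheme.{u}) (g : T ⟶ X), (∃ z : T ⟶ Z, z ≫ i = g) ↔ Set.range g.base ⊆ N)

include hrep

omit [Mono i] in
theorem range_subset : Set.range i.base ⊆ N := (hrep Z i).1 ⟨𝟙 Z, Category.id_comp i⟩

/-- On a local domain, if all points but the generic one map into `N`, so does the generic one. -/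
theorem mem_bot {A : Type u} [CommRing A] [IsDomain A] [IsLocalRing A] (h : Spec (CommRingCat.of A) ⟶ X)
    (hne : ∀ p : PrimeSpectrum A, p.asIdeal ≠ ⊥ → h.base p ∈ N) (hcl : h.base (IsLocalRing.closedPoint A) ∈ N) :
    h.base (⟨⊥, Ideal.isPrime_bot⟩ : PrimeSpectrum A) ∈ N := by
  by_cases hm : IsLocalRing.maximalIdeal A = ⊥
  · rw [show (⟨⊥, Ideal.isPrime_bot⟩ : PrimeSpectrum A) = IsLocalRing.closedPoint A from PrimeSpectrum.ext hm.symm]
    exact hcl
  let π : pullback i h ⟶ Spec (CommRingCat.of A) := pullback.snd i h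
  have lifts : ∀ a : A, a ≠ 0 → a ∈ IsLocalRing.maximalIdeal A →
      ∃ l : Spec (CommRingCat.of (A ⧸ Ideal.span {a})) ⟶ pullback i h,
        l ≫ π = Spec.map (CommRingCat.ofHom (Ideal.Quotient.mk (Ideal.span {a}))) := by
    intro a ha _
    let q := Spec.map (CommRingCat.ofHom (Ideal.Quotient.mk (Ideal.span {a})))
    obtain ⟨z, hz⟩ := (hrep _ (q ≫ h)).2 (by
      rintro _ ⟨p, rfl⟩
      rw [Scheme.Hom.comp_apply]
      refine hne _ fun hb => ha ?_
      have hmem : a ∈ (PrimeSpectrum.comap (Ideal.Quotient.mk (Ideal.span {a})) p).asIdeal := by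
        show Ideal.Quotient.mk (Ideal.span {a}) a ∈ p.asIdeal
        rw [Ideal.Quotient.eq_zero_iff_mem.2 (Ideal.mem_span_singleton_self a)]
        exact p.asIdeal.zero_mem
      exact (hb ▸ hmem : a ∈ (⊥ : Ideal A)))
    exact ⟨pullback.lift z q hz, pullback.lift_snd _ _ _⟩
  obtain ⟨a₀, ha₀m, ha₀⟩ := Submodule.exists_mem_ne_zero_of_ne_bot hm
  have hloc : ∀ a : A, a ∈ IsLocalRing.maximalIdeal A → Nontrivial (A ⧸ Ideal.span {a}) := fun a ha =>
    Ideal.Quotient.nontrivial_iff.2 fun h1 =>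
      (IsLocalRing.maximalIdeal.isMaximal A).ne_top (top_le_iff.1 (h1 ▸ (Ideal.span_singleton_le_iff_mem _).2 ha))
  obtain ⟨l₀, hl₀⟩ := lifts a₀ ha₀ ha₀m
  haveI := hloc a₀ ha₀m
  haveI : IsLocalRing (A ⧸ Ideal.span {a₀}) :=
    IsLocalRing.of_surjective' _ Ideal.Quotient.mk_surjective
  obtain ⟨U, hU, hzU, -⟩ := exists_isAffineOpen_mem_and_subset (x := l₀.base (IsLocalRing.closedPoint _)) (U := ⊤) trivial
  let φ : CommRingCat.of A ⟶ Γ(pullback i h, U) := Spec.preimage (hU.fromSpec ≫ π)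
  have hker : ∀ (c : A), φ.hom c = 0 → ∀ a : A, a ≠ 0 → a ∈ IsLocalRing.maximalIdeal A → c ∈ Ideal.span {a} := by
    intro c hc a ha ham
    obtain ⟨l, hl⟩ := lifts a ha ham
    haveI := hloc a ham
    haveI : IsLocalRing (A ⧸ Ideal.span {a}) := IsLocalRing.of_surjective' _ Ideal.Quotient.mk_surjective
    have hcp : π.base (l.base (IsLocalRing.closedPoint _)) = π.base (l₀.base (IsLocalRing.closedPoint _)) := by
      rw [← Scheme.Hom.comp_apply, hl, ← Scheme.Hom.comp_apply, hl₀]
      exact (comap_closedPoint_of_surjective _ Ideal.Quotient.mk_surjective).trans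
        (comap_closedPoint_of_surjective _ Ideal.Quotient.mk_surjective).symm
    have heq := π.injective hcp
    have hlU : Set.range l.base ⊆ Set.range hU.fromSpec.base := by
      rintro _ ⟨p, rfl⟩
      rw [hU.range_fromSpec]
      refine ((IsLocalRing.specializes_closedPoint p).map l.continuous).mem_open U.isOpen ?_
      rw [heq]
      exact hzU
    let l' := IsOpenImmersion.lift hU.fromSpec l hlU
    have hψ : φ ≫ Spec.preimage l' = CommRingCat.ofHom (Ideal.Quotient.mk (Ideal.span {a})) := by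
      apply Spec.map_injective
      rw [Spec.map_comp, Spec.map_preimage, Spec.map_preimage, IsOpenImmersion.lift_fac_assoc, hl]
    rw [← Ideal.Quotient.eq_zero_iff_mem]
    have := congrArg (fun ψ : CommRingCat.of A ⟶ CommRingCat.of (A ⧸ Ideal.span {a}) => ψ.hom c) hψ
    simp only [CommRingCat.hom_comp, RingHom.comp_apply, hc, map_zero, CommRingCat.hom_ofHom] at this
    exact this.symm
  have hinj : Function.Injective φ.hom := by
    refine (injective_iff_map_eq_zero _).2 fun c hc => ?_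
    by_contra hc0
    have hcm : c ∈ IsLocalRing.maximalIdeal A :=
      (Ideal.span_singleton_le_iff_mem _).2 ha₀m (hker c hc a₀ ha₀ ha₀m)
    obtain ⟨r, hr⟩ := Ideal.mem_span_singleton'.1
      (hker c hc (c * c) (mul_ne_zero hc0 hc0) (Ideal.mul_mem_left _ _ hcm))
    have h1 : c * (r * c) = c * 1 := by rw [mul_one]; linear_combination hr
    exact hcm (IsUnit.of_mul_eq_one r (by rw [mul_comm]; exact mul_left_cancel₀ hc0 h1))
  obtain ⟨P, hP, hPb⟩ := Ideal.exists_comap_eq_of_mem_minimalPrimes_of_injective hinj (⊥ : Ideal A)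
    (by rw [IsDomain.minimalPrimes_eq_singleton_bot]; rfl)
  let u := hU.fromSpec.base ⟨P, hP⟩
  have hπu : π.base u = (⟨⊥, Ideal.isPrime_bot⟩ : PrimeSpectrum A) := by
    show (hU.fromSpec ≫ π).base ⟨P, hP⟩ = _
    rw [← Spec.map_preimage (hU.fromSpec ≫ π)]
    exact PrimeSpectrum.ext hPb
  rw [← hπu, ← Scheme.Hom.comp_apply, ← pullback.condition, Scheme.Hom.comp_apply]
  exact range_subset i N hrep ⟨_, rfl⟩

/-- An ind-constructible representable subset is open. -/
theorem isOpen (hind : ProCons.IsIndConstructible N) : IsOpen N := by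
  rw [← subset_interior_iff_isOpen]
  intro x hx
  refine (H8ProCons.mem_interior_iff hind x).2 fun x' hx' => ?_
  let A : Type u := X.presheaf.stalk x
  let h₀ : Spec (CommRingCat.of A) ⟶ X := X.fromSpecStalk x
  obtain ⟨p₀, hp₀⟩ : x' ∈ Set.range h₀.base := by
    rw [show h₀ = X.fromSpecStalk x from rfl, Scheme.range_fromSpecStalk]
    exact hx'
  by_contra hx'N
  let C : Set (PrimeSpectrum A) := {p | h₀.base p ∉ N}
  have hchain : ∀ c ⊆ C, IsChain (· ≤ ·) c → ∀ y ∈ c, ∃ ub ∈ C, ∀ z ∈ c, z ≤ ub := by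
    intro c hc hch y hy
    haveI : Nonempty c := ⟨⟨y, hy⟩⟩
    have hdir : Directed (· ≤ ·) (fun p : c => p.1.asIdeal) := fun a b => by
      rcases hch.total a.2 b.2 with hab | hab
      · exact ⟨b, hab, le_rfl⟩
      · exact ⟨a, le_rfl, hab⟩
    let I : Ideal A := ⨆ p : c, p.1.asIdeal
    have hI : ∀ a, a ∈ I ↔ ∃ p : c, a ∈ p.1.asIdeal := fun a => Submodule.mem_iSup_of_directed _ hdir
    have hIp : I.IsPrime := ⟨fun htop => by
        obtain ⟨p, hp⟩ := (hI 1).1 (htop ▸ Submodule.mem_top)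
        exact p.1.isPrime.ne_top ((Ideal.eq_top_iff_one _).2 hp), fun {a b} hab => by
        obtain ⟨p, hp⟩ := (hI _).1 hab
        exact (p.1.isPrime.mem_or_mem hp).imp (fun h => (hI a).2 ⟨p, h⟩) (fun h => (hI b).2 ⟨p, h⟩)⟩
    refine ⟨⟨I, hIp⟩, fun hq => ?_, fun z hz => le_iSup (fun p : c => p.1.asIdeal) ⟨z, hz⟩⟩
    obtain ⟨D, hD, hqD, hDN⟩ := H8ProCons.exists_constructible_nhd
      (H8ProCons.isIndConstructible_preimage h₀ hind) (isAffineOpen_top (Spec (CommRingCat.of A)))
      (x := (⟨I, hIp⟩ : PrimeSpectrum A)) trivial hq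
    have hD' : IsConstructible (Subtype.val '' D : Set (PrimeSpectrum A)) :=
      hD.image_of_isOpenEmbedding (isOpen_univ.isOpenEmbedding_subtypeVal) (by simp)
    obtain ⟨dat, hdat⟩ := PrimeSpectrum.exists_constructibleSetData_iff.2 hD'
    have hmem : (⟨I, hIp⟩ : PrimeSpectrum A) ∈ dat.toSet := hdat.ge ⟨_, hqD, rfl⟩
    obtain ⟨B, hB, hqB⟩ := Set.mem_iUnion₂.1 hmem
    have hg : ∀ j, ∃ p : c, B.g j ∈ p.1.asIdeal := fun j => (hI _).1 (hqB.1 ⟨j, rfl⟩)
    choose pj hpj using hg
    obtain ⟨m, hm⟩ := hdir.finite_le pj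
    have hmD : m.1 ∈ Subtype.val '' D := hdat.le (Set.mem_iUnion₂.2 ⟨B, hB, fun a ⟨j, hj⟩ => hj ▸ hm j (hpj j),
      fun hf => hqB.2 fun a ha => (hI a).2 ⟨m, hf ha⟩⟩)
    obtain ⟨d, hd, hdm⟩ := hmD
    exact hc m.2 (hdm ▸ hDN hd)
  obtain ⟨q, hpq, hq⟩ := zorn_le_nonempty₀ C hchain p₀ (show h₀.base p₀ ∉ N by rw [hp₀]; exact hx'N)
  let mk : A →+* A ⧸ q.asIdeal := Ideal.Quotient.mk q.asIdeal
  haveI : IsLocalRing (A ⧸ q.asIdeal) := IsLocalRing.of_surjective' _ Ideal.Quotient.mk_surjective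
  have hcl : h₀.base (IsLocalRing.closedPoint A) ∈ N := by
    rw [show h₀.base (IsLocalRing.closedPoint A) = x from Scheme.fromSpecStalk_closedPoint]; exact hx
  refine hq.1 ?_
  have key := mem_bot i N hrep (Spec.map (CommRingCat.ofHom mk) ≫ h₀) (fun p hp => ?_) ?_
  · rw [Scheme.Hom.comp_apply] at key
    have : PrimeSpectrum.comap mk ⟨⊥, Ideal.isPrime_bot⟩ = q :=
      PrimeSpectrum.ext ((RingHom.ker_eq_comap_bot mk).symm.trans Ideal.mk_ker)
    exact this ▸ key
  · rw [Scheme.Hom.comp_apply]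
    by_contra hpN
    have hle : q ≤ PrimeSpectrum.comap mk p := fun a ha => by
      show mk a ∈ p.asIdeal
      rw [Ideal.Quotient.eq_zero_iff_mem.2 ha]
      exact p.asIdeal.zero_mem
    have := hq.2 (show PrimeSpectrum.comap mk p ∈ C from hpN) hle
    refine hp (eq_bot_iff.2 fun b hb => ?_)
    obtain ⟨a, rfl⟩ := Ideal.Quotient.mk_surjective b
    exact Ideal.Quotient.eq_zero_iff_mem.2 (this hb)
  · rw [Scheme.Hom.comp_apply]
    show h₀.base (PrimeSpectrum.comap mk (IsLocalRing.closedPoint _)) ∈ N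
    rw [comap_closedPoint_of_surjective mk Ideal.Quotient.mk_surjective]
    exact hcl

end Groth.Agent.SGA3cLib.RepSubset
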