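import Groth.Agent.SGA3cLib.Averaging
import Groth.Agent.SGA3cLib.GroupLike
import Mathlib.GroupTheory.FiniteAbelian.Basic
import Mathlib.RingTheory.Nakayama

/-!
# Rigidity of homomorphisms from diagonalisable groups over local rings

A homomorphism from `D(M)`, `M` finitely generated, into a separated group which is trivial on the closed fibre is
trivial, provided the ideal of the equalizer with the trivial homomorphism is finitely generated.
-/

set_option linter.style.haveILetI false
set_option autoImplicit false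

universe u

open CategoryTheory CategoryTheory.Limits MonoidalCategory CartesianMonoidalCategory MonObj AlgebraicGeometry

noncomputable section

namespace Groth.Agent.SGA3cLib.Rigidity

open Averaging GroupLike

variable {R : Type u} [CommRing R] {M : Type} [CommGroup M]

/-- Reduction of the coefficients modulo an ideal. -/
def mapR (I : Ideal R) : MonoidAlgebra R M →ₐ[R] MonoidAlgebra (R ⧸ I) M :=
  MonoidAlgebra.lift R _ M (MonoidAlgebra.of (R ⧸ I) M)

theorem mapR_eq (I : Ideal R) (x : MonoidAlgebra R M) :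
    mapR I x = MonoidAlgebra.mapRingHom M (Ideal.Quotient.mk I) x := by
  induction x using MonoidAlgebra.induction_linear with
  | zero => simp
  | add x y hx hy => simp only [map_add, hx, hy]
  | single m r => simp [mapR, Algebra.smul_def]

theorem mem_ker_mapR {I : Ideal R} {x : MonoidAlgebra R M} :
    x ∈ RingHom.ker (mapR (M := M) I) ↔ ∀ m, x.coeff m ∈ I := by
  rw [RingHom.mem_ker, mapR_eq]
  constructor
  · intro h m
    have := congrArg (fun y => y.coeff m) h
    simpa [Ideal.Quotient.eq_zero_iff_mem] using this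
  · intro h
    refine MonoidAlgebra.ext (Finsupp.ext fun m => ?_)
    simpa [Ideal.Quotient.eq_zero_iff_mem] using h m

theorem mapR_surjective (I : Ideal R) : Function.Surjective (mapR (M := M) I) := by
  intro y
  induction y using MonoidAlgebra.induction_linear with
  | zero => exact ⟨0, map_zero _⟩
  | add x y hx hy =>
    obtain ⟨a, rfl⟩ := hx
    obtain ⟨b, rfl⟩ := hy
    exact ⟨a + b, map_add _ a b⟩
  | single m r =>
    obtain ⟨r, rfl⟩ := Ideal.Quotient.mk_surjective r
    exact ⟨MonoidAlgebra.single m r, by rw [mapR_eq, MonoidAlgebra.mapRingHom_single]⟩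

/-- Points of `D(M)` which are homomorphisms. -/
def IsHomPt {G : Over (Spec (CommRingCat.of R))} [GrpObj G] (a : P R (MonoidAlgebra R M) ⟶ G) : Prop :=
  sp (dg (A := R) (M := M)) ≫ a = (sp (i₁ (A := R) (M := M)) ≫ a) * (sp (i₂ (A := R) (M := M)) ≫ a)

theorem IsHomPt.map {G : Over (Spec (CommRingCat.of R))} [GrpObj G] {a : P R (MonoidAlgebra R M) ⟶ G} (ha : IsHomPt a)
    {N : Type} [CommGroup N] (π : M →* N) : IsHomPt (sp (MonoidAlgebra.mapDomainAlgHom R R π) ≫ a) := by
  let π₂ : MonoidAlgebra R (M × M) →ₐ[R] MonoidAlgebra R (N × N) := MonoidAlgebra.mapDomainAlgHom R R (π.prodMap π)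
  have h : ∀ (f : MonoidAlgebra R M →ₐ[R] MonoidAlgebra R (M × M)) (f' : MonoidAlgebra R N →ₐ[R] MonoidAlgebra R (N × N)),
      f'.comp (MonoidAlgebra.mapDomainAlgHom R R π) = π₂.comp f →
      sp f' ≫ sp (MonoidAlgebra.mapDomainAlgHom R R π) ≫ a = sp π₂ ≫ sp f ≫ a := fun f f' e => by
    rw [← Category.assoc, sp_comp, e, ← sp_comp, Category.assoc]
  unfold IsHomPt at *
  rw [h dg dg (by ext m; simp [π₂, dg]), h i₁ i₁ (by ext m; simp [π₂, i₁]), h i₂ i₂ (by ext m; simp [π₂, i₂]),
    ← MonObj.comp_mul, ha]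

/-- The coefficient at `n`. -/
def cf {A : Type u} [CommRing A] {N : Type} [CommGroup N] (n : N) : MonoidAlgebra A N →ₗ[A] A where
  toFun e := e.coeff n
  map_add' x y := by simp
  map_smul' r x := by simp

@[simp] theorem cf_apply {A : Type u} [CommRing A] {N : Type} [CommGroup N] (n : N) (e : MonoidAlgebra A N) :
    cf n e = e.coeff n := rfl

/-- Linear forms with value one at one are multiplicative on `A + K E`. -/
def linHom {A : Type u} [CommRing A] {E : Type u} [CommRing E] [Algebra A E] {K : Ideal A} (hK : K * K = ⊥)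
    (l : E →ₗ[A] A) (hl : l 1 = 1) : adj K E →ₐ[A] A where
  toFun e := l e
  map_one' := hl
  map_zero' := map_zero l
  map_add' x y := map_add l _ _
  commutes' a := by
    show l (algebraMap A E a) = a
    rw [Algebra.algebraMap_eq_smul_one, map_smul, hl, smul_eq_mul, _root_.mul_one]
  map_mul' := by
    rintro ⟨e, a, ha⟩ ⟨e', a', ha'⟩
    show l (e * e') = l e * l e'
    have hmem : ∀ k ∈ K.map (algebraMap A E), l k ∈ K := fun k hk => by
      have hk' : k ∈ K • (⊤ : Submodule A E) := by rw [Ideal.smul_top_eq_map]; exact hk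
      refine Submodule.smul_induction_on hk' (fun r hr y _ => ?_) (fun x y hx hy => ?_)
      · rw [map_smul, smul_eq_mul]; exact K.mul_mem_right _ hr
      · rw [map_add]; exact K.add_mem hx hy
    obtain ⟨k, hk, rfl⟩ : ∃ k ∈ K.map (algebraMap A E), e = algebraMap A _ a + k := ⟨_, ha, by ring⟩
    obtain ⟨k', hk', rfl⟩ : ∃ k ∈ K.map (algebraMap A E), e' = algebraMap A _ a' + k := ⟨_, ha', by ring⟩
    have hkk : k * k' = 0 := mul_eq_zero_of_mem hK hk hk'
    have h0 : l k * l k' = 0 := by
      have := Ideal.mul_mem_mul (hmem _ hk) (hmem _ hk')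
      rwa [hK, Ideal.mem_bot] at this
    have e1 : (algebraMap A E a + k) * (algebraMap A _ a' + k') = (a * a') • (1 : E) + a • k' + a' • k := by
      rw [Algebra.smul_def, Algebra.smul_def, Algebra.smul_def, map_mul]; linear_combination hkk
    rw [e1, Algebra.algebraMap_eq_smul_one, Algebra.algebraMap_eq_smul_one]
    simp only [map_add, map_smul, hl, smul_eq_mul]
    linear_combination -h0

variable {G : Over (Spec (CommRingCat.of R))} [GrpObj G]

/-- Homomorphisms congruent to one modulo a square-zero ideal are trivial. -/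
theorem eq_one_of_squareZero {B : Type u} [CommRing B] [Algebra R B] (j : P R B ⟶ G) [IsOpenImmersion j.left]
    (hR : Set.range (1 : P R R ⟶ G).left.base ⊆ Set.range j.left.base)
    {A : Type u} [CommRing A] [Algebra R A] (K : Ideal A) (hK : K * K = ⊥) (a' : P R (MonoidAlgebra A M) ⟶ G)
    (ha' : sp ((dg (A := A) (M := M)).restrictScalars R) ≫ a' =
      (sp ((i₁ (A := A) (M := M)).restrictScalars R) ≫ a') * (sp ((i₂ (A := A) (M := M)).restrictScalars R) ≫ a'))
    (h0 : sp (Ideal.Quotient.mkₐ R (K.map (algebraMap A (MonoidAlgebra A M)))) ≫ a' = 1) : a' = 1 := by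
  classical
  obtain ⟨z, hz, hz1⟩ := exists_extend (A := A) j hR hK (E := MonoidAlgebra A M) a' h0
  -- two variables
  have hlift : ∀ f : MonoidAlgebra A M →ₐ[A] MonoidAlgebra A (M × M),
      ∃ f' : adj K (MonoidAlgebra A M) →ₐ[A] adj K (MonoidAlgebra A (M × M)),
        (∀ e, (f' e : MonoidAlgebra A (M × M)) = f e) ∧
        sp (Ideal.Quotient.mkₐ R (red K (MonoidAlgebra A (M × M)))) ≫
          sp (A' := adj K (MonoidAlgebra A (M × M))) (f'.restrictScalars R) ≫ z = 1 ∧
        sp ((adj K (MonoidAlgebra A (M × M))).val.restrictScalars R) ≫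
          sp (A' := adj K (MonoidAlgebra A (M × M))) (f'.restrictScalars R) ≫ z = sp (f.restrictScalars R) ≫ a' := by
    intro f
    have hfK : ∀ e ∈ K.map (algebraMap A (MonoidAlgebra A M)), f e ∈ K.map (algebraMap A (MonoidAlgebra A (M × M))) := by
      intro e he
      have := Ideal.mem_map_of_mem f.toRingHom he
      rwa [Ideal.map_map, AlgHom.toRingHom_eq_coe, AlgHom.comp_algebraMap] at this
    let f' := (f.comp (adj K (MonoidAlgebra A M)).val).codRestrict (adj K (MonoidAlgebra A (M × M))) (by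
      rintro ⟨e, r, hr⟩
      refine ⟨r, ?_⟩
      show f e - _ ∈ _
      rw [← f.commutes r, ← map_sub]
      exact hfK _ hr)
    refine ⟨f', fun e => rfl, ?_, ?_⟩
    · let g : (adj K (MonoidAlgebra A M) ⧸ red K (MonoidAlgebra A M)) →ₐ[R]
          (adj K (MonoidAlgebra A (M × M)) ⧸ red K (MonoidAlgebra A (M × M))) :=
        Ideal.Quotient.liftₐ _ ((Ideal.Quotient.mkₐ R _).comp (f'.restrictScalars R)) fun e he =>
          Ideal.Quotient.eq_zero_iff_mem.mpr (mem_red.mpr (hfK _ he))
      rw [← Category.assoc, sp_comp, show (Ideal.Quotient.mkₐ R _).comp (f'.restrictScalars R) =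
        g.comp (Ideal.Quotient.mkₐ R (red K (MonoidAlgebra A M))) from AlgHom.ext fun e => rfl,
        ← sp_comp (A' := adj K (MonoidAlgebra A M) ⧸ red K (MonoidAlgebra A M)), Category.assoc, hz1, MonObj.comp_one]
    · rw [← hz, ← Category.assoc, ← Category.assoc, sp_comp, sp_comp]
      congr 1
  obtain ⟨fd, hfd, hd1, hd⟩ := hlift dg
  obtain ⟨f₁, hf₁, h11, h12⟩ := hlift i₁
  obtain ⟨f₂, hf₂, h21, h22⟩ := hlift i₂
  let T₁ := adj K (MonoidAlgebra A (M × M))
  have key : sp (A' := T₁) (fd.restrictScalars R) ≫ z =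
      (sp (A' := T₁) (f₁.restrictScalars R) ≫ z) * (sp (A' := T₁) (f₂.restrictScalars R) ≫ z) := by
    refine eq_of_val j hR hK _ _ hd1 (by rw [MonObj.comp_mul, h11, h21, _root_.one_mul]) ?_
    rw [MonObj.comp_mul, hd, h12, h22]
    exact ha'
  -- the linear forms
  let c₁ : adj K (MonoidAlgebra A M) →ₐ[A] A := linHom hK (cf 1) (by simp [MonoidAlgebra.one_def])
  let L₁ : T₁ →ₐ[A] A := linHom hK (cf 1) (by simp [MonoidAlgebra.one_def])
  have hd' : ∀ (y : MonoidAlgebra A M) (p q : M), (dg y).coeff (p, q) = if p = q then y.coeff p else 0 := fun y p q => by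
    induction y using MonoidAlgebra.induction_linear with
    | zero => simp
    | add x y hx hy => simp only [map_add, MonoidAlgebra.coeff_add, Finsupp.add_apply, hx, hy]; split_ifs <;> simp
    | single m r =>
      simp [dg, MonoidAlgebra.coeff_single, Finsupp.single_apply, Prod.ext_iff]
      split_ifs <;> first | rfl | (rename_i hh hn; exact absurd (hh.1.symm.trans hh.2) hn) | simp_all
  have hi' : ∀ (y : MonoidAlgebra A M) (p q : M), (i₁ y).coeff (p, q) = (if q = 1 then y.coeff p else 0) ∧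
      (i₂ y).coeff (p, q) = (if p = 1 then y.coeff q else 0) := fun y p q => by
    induction y using MonoidAlgebra.induction_linear with
    | zero => simp
    | add x y hx hy =>
      refine ⟨?_, ?_⟩
      · simp only [map_add, MonoidAlgebra.coeff_add, Finsupp.add_apply, hx.1, hy.1]; split_ifs <;> simp
      · simp only [map_add, MonoidAlgebra.coeff_add, Finsupp.add_apply, hx.2, hy.2]; split_ifs <;> simp
    | single m r =>
      refine ⟨?_, ?_⟩ <;>
      · simp [i₁, i₂, MonoidAlgebra.coeff_single, Finsupp.single_apply, Prod.ext_iff]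
        split_ifs <;> simp_all
  have hone : ∀ (x : MonoidAlgebra A M), cf 1 x = x.coeff 1 := fun x => rfl
  have t1 : ∀ (L : T₁ →ₐ[A] A) (f' : adj K (MonoidAlgebra A M) →ₐ[A] T₁) (c : adj K (MonoidAlgebra A M) →ₐ[A] A),
      L.comp f' = c → sp (L.restrictScalars R) ≫ sp (A' := T₁) (f'.restrictScalars R) ≫ z = sp (c.restrictScalars R) ≫ z := fun L f' c e => by
    rw [← Category.assoc, sp_comp, ← e]; rfl
  have hc : sp (c₁.restrictScalars R) ≫ z = 1 := by
    have h2 := congrArg (sp (L₁.restrictScalars R) ≫ ·) key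
    simp only [MonObj.comp_mul] at h2
    rw [t1 L₁ fd c₁ (AlgHom.ext fun e => by show cf 1 (fd e : MonoidAlgebra A (M × M)) = _; rw [hfd]; exact (hd' _ 1 1).trans (if_pos rfl)),
      t1 L₁ f₁ c₁ (AlgHom.ext fun e => by show cf 1 (f₁ e : MonoidAlgebra A (M × M)) = _; rw [hf₁]; exact (hi' _ 1 1).1.trans (if_pos rfl)),
      t1 L₁ f₂ c₁ (AlgHom.ext fun e => by show cf 1 (f₂ e : MonoidAlgebra A (M × M)) = _; rw [hf₂]; exact (hi' _ 1 1).2.trans (if_pos rfl))] at h2
    exact left_eq_mul.mp h2
  -- conclude in the chart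
  have h1A := range_one j hR (adj K (MonoidAlgebra A M))
  obtain ⟨φ, hφ⟩ := exists_chart j z
    ((range_subset _ (red_nilpotent hK) z 1 (by rw [hz1, MonObj.comp_one])).trans h1A)
  obtain ⟨ψ, hψ⟩ := exists_chart j (1 : P R A ⟶ G) (range_one j hR A)
  have hc' : ∀ b, (φ b : MonoidAlgebra A M).coeff 1 = ψ b := fun b => by
    have : (c₁.restrictScalars R).comp φ = ψ := chart_inj j (by rw [← sp_comp, Category.assoc, hφ, hc, hψ])
    exact AlgHom.congr_fun this b
  have hcm : ∀ m ≠ (1 : M), ∀ b, (φ b : MonoidAlgebra A M).coeff m = 0 := fun m hm b => by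
    have hmm : (m, m) ≠ (1 : M × M) := fun e => hm (congrArg Prod.fst e)
    let L : T₁ →ₐ[A] A := linHom hK (cf 1 + cf (m, m)) (by simp [MonoidAlgebra.one_def, MonoidAlgebra.coeff_single, Finsupp.single_apply, hmm, hmm.symm])
    let c : adj K (MonoidAlgebra A M) →ₐ[A] A := linHom hK (cf 1 + cf m) (by simp [MonoidAlgebra.one_def, MonoidAlgebra.coeff_single, MonoidAlgebra.coeff_single, Finsupp.single_apply, Ne.symm hm])
    have h2 := congrArg (sp (L.restrictScalars R) ≫ ·) key
    simp only [MonObj.comp_mul] at h2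
    rw [t1 L fd c (AlgHom.ext fun e => by
          show (fd e : MonoidAlgebra A (M × M)).coeff 1 + (fd e : MonoidAlgebra A (M × M)).coeff (m, m) =
            (e : MonoidAlgebra A M).coeff 1 + (e : MonoidAlgebra A M).coeff m
          rw [hfd, show (1 : M × M) = (1, 1) from rfl, hd', hd', if_pos rfl, if_pos rfl]),
      t1 L f₁ c₁ (AlgHom.ext fun e => by
          show (f₁ e : MonoidAlgebra A (M × M)).coeff 1 + (f₁ e : MonoidAlgebra A (M × M)).coeff (m, m) =
            (e : MonoidAlgebra A M).coeff 1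
          rw [hf₁, show (1 : M × M) = (1, 1) from rfl, (hi' _ 1 1).1, (hi' _ m m).1, if_pos rfl, if_neg hm, add_zero]),
      t1 L f₂ c₁ (AlgHom.ext fun e => by
          show (f₂ e : MonoidAlgebra A (M × M)).coeff 1 + (f₂ e : MonoidAlgebra A (M × M)).coeff (m, m) =
            (e : MonoidAlgebra A M).coeff 1
          rw [hf₂, show (1 : M × M) = (1, 1) from rfl, (hi' _ 1 1).2, (hi' _ m m).2, if_pos rfl, if_neg hm, add_zero]),
      hc, _root_.one_mul] at h2
    have h3 : (c.restrictScalars R).comp φ = ψ := chart_inj j (by rw [← sp_comp, Category.assoc, hφ, h2, hψ])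
    have h4 : (φ b : MonoidAlgebra A M).coeff 1 + (φ b : MonoidAlgebra A M).coeff m = ψ b := AlgHom.congr_fun h3 b
    rw [hc'] at h4
    exact left_eq_add.mp h4.symm
  have hφψ : φ = (IsScalarTower.toAlgHom R A (adj K (MonoidAlgebra A M))).comp ψ := AlgHom.ext fun b => Subtype.ext <| by
    show (φ b : MonoidAlgebra A M) = algebraMap A (MonoidAlgebra A M) (ψ b)
    refine MonoidAlgebra.ext (Finsupp.ext fun m => ?_)
    by_cases hm : m = 1
    · subst hm; rw [hc']; simp [MonoidAlgebra.coe_algebraMap]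
    · rw [hcm m hm]; simp [MonoidAlgebra.coe_algebraMap, Ne.symm hm]
  rw [← hz, ← hφ, hφψ, ← Category.assoc, sp_comp, ← AlgHom.comp_assoc, ← sp_comp, Category.assoc, hψ, MonObj.comp_one]

/-- A change of coefficients respects reduction. -/
theorem mod_eq_one (a : P R (MonoidAlgebra R M) ⟶ G) (J : Ideal R) (h : sp (mapR J) ≫ a = 1)
    {A : Type u} [CommRing A] [Algebra R A] (r : MonoidAlgebra R M →ₐ[R] MonoidAlgebra A M)
    (hr : ∀ m c, r (MonoidAlgebra.single m c) = MonoidAlgebra.single m (algebraMap R A c)) :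
    sp (Ideal.Quotient.mkₐ R ((J.map (algebraMap R A)).map (algebraMap A (MonoidAlgebra A M)))) ≫ sp r ≫ a = 1 := by
  let Q := (J.map (algebraMap R A)).map (algebraMap A (MonoidAlgebra A M))
  have hker : ∀ x, x ∈ RingHom.ker (mapR (M := M) J) → (Ideal.Quotient.mkₐ R Q).comp r x = 0 := by
    intro x hx
    rw [mem_ker_mapR] at hx
    rw [AlgHom.comp_apply, Ideal.Quotient.mkₐ_eq_mk, Ideal.Quotient.eq_zero_iff_mem,
      ← MonoidAlgebra.sum_coeff_single x, Finsupp.sum, map_sum]
    refine Ideal.sum_mem _ fun m _ => ?_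
    rw [hr, show MonoidAlgebra.single m (algebraMap R A (x.coeff m)) =
      MonoidAlgebra.single m (1 : A) * algebraMap A (MonoidAlgebra A M) (algebraMap R A (x.coeff m)) by
      simp [MonoidAlgebra.coe_algebraMap, MonoidAlgebra.single_mul_single]]
    exact Ideal.mul_mem_left _ _ (Ideal.mem_map_of_mem _ (Ideal.mem_map_of_mem _ (hx m)))
  let g := AlgHom.liftOfSurjective (mapR J) (mapR_surjective J) ((Ideal.Quotient.mkₐ R Q).comp r) hker
  have hg : g.comp (mapR J) = (Ideal.Quotient.mkₐ R Q).comp r := AlgHom.liftOfSurjective_comp _ _ _ _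
  rw [← Category.assoc, sp_comp, ← hg, ← sp_comp, Category.assoc, h, MonObj.comp_one]

theorem IsHomPt.changeCoeff {a : P R (MonoidAlgebra R M) ⟶ G} (ha : IsHomPt a) {A : Type u} [CommRing A] [Algebra R A]
    (r : ∀ N : Type, ∀ [CommGroup N], MonoidAlgebra R N →ₐ[R] MonoidAlgebra A N)
    (hr : ∀ (N : Type) [CommGroup N] (n : N) c, r N (MonoidAlgebra.single n c) = MonoidAlgebra.single n (algebraMap R A c)) :
    sp ((dg (A := A) (M := M)).restrictScalars R) ≫ sp (r M) ≫ a =
      (sp ((i₁ (A := A) (M := M)).restrictScalars R) ≫ sp (r M) ≫ a) *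
        (sp ((i₂ (A := A) (M := M)).restrictScalars R) ≫ sp (r M) ≫ a) := by
  have e : ∀ (φ : M →* M × M), sp ((MonoidAlgebra.mapDomainAlgHom A A φ).restrictScalars R) ≫
      sp (r M) ≫ a = sp (r (M × M)) ≫ sp (MonoidAlgebra.mapDomainAlgHom R R φ) ≫ a := fun φ => by
    rw [← Category.assoc, ← Category.assoc, sp_comp, sp_comp]
    congr 2
    ext m
    simp only [AlgHom.comp_apply, AlgHom.restrictScalars_apply, hr,
      MonoidAlgebra.mapDomainAlgHom_apply, MonoidAlgebra.mapDomain_single]
  unfold GroupLike.dg GroupLike.i₁ GroupLike.i₂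
  rw [e, e, e, ← MonObj.comp_mul]
  exact congrArg (sp (r (M × M)) ≫ ·) ha

theorem step_aux {B : Type u} [CommRing B] [Algebra R B] (j : P R B ⟶ G) [IsOpenImmersion j.left]
    (hR : Set.range (1 : P R R ⟶ G).left.base ⊆ Set.range j.left.base)
    (a : P R (MonoidAlgebra R M) ⟶ G) (ha : IsHomPt a) (J : Ideal R) (h : sp (mapR J) ≫ a = 1)
    {A : Type u} [CommRing A] [Algebra R A] (hA : (J * J).map (algebraMap R A) = ⊥)
    (r : ∀ N : Type, ∀ [CommGroup N], MonoidAlgebra R N →ₐ[R] MonoidAlgebra A N)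
    (hr : ∀ (N : Type) [CommGroup N] (n : N) c, r N (MonoidAlgebra.single n c) = MonoidAlgebra.single n (algebraMap R A c)) :
    sp (r M) ≫ a = 1 :=
  eq_one_of_squareZero j hR (J.map (algebraMap R A)) (by rw [← Ideal.map_mul, hA]) _
    (ha.changeCoeff r hr) (mod_eq_one a J h (r M) (hr M))

variable [IsLocalRing R]

/-- Triviality improves from `J` to `J * J`. -/
theorem step (a : P R (MonoidAlgebra R M) ⟶ G) (ha : IsHomPt a) (J : Ideal R)
    (h : sp (mapR J) ≫ a = 1) : sp (mapR (J * J)) ≫ a = 1 := by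
  -- the chart
  obtain ⟨W, hW, hW1, -⟩ := exists_isAffineOpen_mem_and_subset (U := (⊤ : G.left.Opens))
    (x := (1 : P R R ⟶ G).left.base (IsLocalRing.closedPoint R)) trivial
  letI : Algebra R Γ(G.left, W) := (Spec.preimage (hW.fromSpec ≫ G.hom)).hom.toAlgebra
  let j : P R Γ(G.left, W) ⟶ G := Over.homMk hW.fromSpec (Spec.map_preimage (hW.fromSpec ≫ G.hom)).symm
  haveI : IsOpenImmersion j.left := inferInstanceAs (IsOpenImmersion hW.fromSpec)
  have hR : Set.range (1 : P R R ⟶ G).left.base ⊆ Set.range j.left.base := by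
    show _ ⊆ Set.range hW.fromSpec.base
    rw [hW.range_fromSpec]
    rintro _ ⟨y, rfl⟩
    exact ((IsLocalRing.specializes_closedPoint y).map (1 : P R R ⟶ G).left.continuous).mem_open W.isOpen hW1
  exact step_aux j hR a ha J h (A := R ⧸ (J * J)) (by rw [Ideal.Quotient.algebraMap_eq, Ideal.map_quotient_self])
    (fun N _ => mapR (M := N) (J * J)) (fun N _ n c => by rw [mapR_eq, MonoidAlgebra.mapRingHom_single]; rfl)

/-- Finitely generated abelian groups are residually finite. -/
theorem exists_injOn_finite {M : Type} [CommGroup M] [Group.FG M] (s : Finset M) :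
    ∃ (F : Type) (_ : CommGroup F) (_ : Finite F) (π : M →* F), Set.InjOn π s := by
  classical
  haveI : AddGroup.FG (Additive M) := inferInstance
  obtain ⟨r, κι, _, p, hp, e, ⟨f⟩⟩ := AddCommGroup.equiv_free_prod_directSum_zmod (G := Additive M)
  let k : ℕ := 1 + 2 * ∑ x ∈ s, ∑ i, ((f (Additive.ofMul x)).1 i).natAbs
  haveI : NeZero k := ⟨by omega⟩
  haveI : ∀ i, NeZero (p i ^ e i) := fun i => ⟨pow_ne_zero _ (hp i).ne_zero⟩
  let D := DirectSum κι fun i => ZMod (p i ^ e i)
  haveI : Finite D := Finite.of_equiv _ (DirectSum.linearEquivFunOnFintype ℤ κι fun i => ZMod (p i ^ e i)).toEquiv.symm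
  let g : (Fin r →₀ ℤ) × D →+ (Fin r →₀ ZMod k) × D :=
    (Finsupp.mapRange.addMonoidHom (Int.castAddHom (ZMod k))).prodMap (AddMonoidHom.id D)
  let π : M →* Multiplicative ((Fin r →₀ ZMod k) × D) :=
    { toFun := fun x => Multiplicative.ofAdd (g (f (Additive.ofMul x)))
      map_one' := by simp
      map_mul' := fun x y => by rw [ofMul_mul, map_add, map_add, ofAdd_add] }
  refine ⟨_, inferInstance, inferInstance, π, fun x hx y hy hxy => ?_⟩
  have h : g (f (Additive.ofMul x)) = g (f (Additive.ofMul y)) := congrArg Multiplicative.toAdd hxy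
  suffices f (Additive.ofMul x) = f (Additive.ofMul y) from Additive.ofMul.injective (f.injective this)
  refine Prod.ext (Finsupp.ext fun i => ?_) (Prod.ext_iff.mp h).2
  have h1 : (((f (Additive.ofMul x)).1 i : ℤ) : ZMod k) = (((f (Additive.ofMul y)).1 i : ℤ) : ZMod k) := by
    simpa [g] using congrArg (fun z => z.1 i) h
  rw [ZMod.intCast_eq_intCast_iff_dvd_sub] at h1
  have hb : ∀ z ∈ s, ((f (Additive.ofMul z)).1 i).natAbs ≤ ∑ x ∈ s, ∑ i, ((f (Additive.ofMul x)).1 i).natAbs :=
    fun z hz => (Finset.single_le_sum (f := fun i => ((f (Additive.ofMul z)).1 i).natAbs) (fun _ _ => Nat.zero_le _)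
      (Finset.mem_univ i)).trans
      (Finset.single_le_sum (f := fun x => ∑ i, ((f (Additive.ofMul x)).1 i).natAbs) (fun _ _ => Nat.zero_le _) hz)
  have := hb x hx
  have := hb y hy
  have h2 := Int.eq_zero_of_dvd_of_natAbs_lt_natAbs h1
  omega

/-- Rigidity over a local ring. -/
theorem eq_bot [Group.FG M] (a : P R (MonoidAlgebra R M) ⟶ G) (ha : IsHomPt a) (I : Ideal (MonoidAlgebra R M))
    (hfg : I.FG)
    (hI : ∀ (A : Type u) [CommRing A] [Algebra R A] (g : MonoidAlgebra R M →ₐ[R] A), sp g ≫ a = 1 ↔ I ≤ RingHom.ker g)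
    (h0 : sp (mapR (IsLocalRing.maximalIdeal R)) ≫ a = 1) : I = ⊥ := by
  classical
  rw [eq_bot_iff]
  intro x hx
  obtain ⟨F, _, _, π, hπ⟩ := exists_injOn_finite x.coeff.support
  let c := MonoidAlgebra.mapDomainAlgHom R R π
  suffices hcI : I.map c = ⊥ by
    have h1 : c x = 0 := by
      rw [← Ideal.mem_bot, ← hcI]; exact Ideal.mem_map_of_mem _ hx
    rw [Ideal.mem_bot]
    refine MonoidAlgebra.ext (Finsupp.ext fun m => ?_)
    by_contra hm
    have hm' : m ∈ x.coeff.support := Finsupp.mem_support_iff.mpr hm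
    apply hm
    have h2 := congrArg (fun y => y.coeff (π m)) h1
    simpa [c, MonoidAlgebra.coeff_mapDomain, Finsupp.mapDomain_apply' _ _ subset_rfl hπ hm'] using h2
  -- the finite case
  obtain ⟨s, hs⟩ := hfg.map c.toRingHom
  let J : Ideal R := Ideal.span ((fun p : MonoidAlgebra R F × F => p.1.coeff p.2) '' ((s : Set (MonoidAlgebra R F)) ×ˢ Set.univ))
  have hJfg : J.FG := Submodule.fg_span ((s.finite_toSet.prod Set.finite_univ).image _)
  have hle : ∀ J' : Ideal R, sp (mapR J') ≫ sp c ≫ a = 1 ↔ J ≤ J' := fun J' => by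
    rw [← Category.assoc, sp_comp, hI]
    constructor
    · intro h
      rw [Ideal.span_le]
      rintro _ ⟨⟨y, n⟩, ⟨hy, -⟩, rfl⟩
      have h1 : I.map c.toRingHom ≤ RingHom.ker (mapR (M := F) J') := by
        rw [Ideal.map_le_iff_le_comap]; exact fun z hz => h hz
      exact mem_ker_mapR.mp (h1 (hs ▸ Submodule.subset_span hy)) n
    · intro h z hz
      have h1 : I.map c.toRingHom ≤ RingHom.ker (mapR (M := F) J') := by
        rw [← hs, Submodule.span_le]
        exact fun y hy => mem_ker_mapR.mpr fun n => h (Ideal.subset_span ⟨(y, n), ⟨hy, trivial⟩, rfl⟩)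
      exact h1 (Ideal.mem_map_of_mem c.toRingHom hz)
  have h0' : sp (mapR (IsLocalRing.maximalIdeal R)) ≫ sp c ≫ a = 1 := by
    let k := R ⧸ IsLocalRing.maximalIdeal R
    let g : MonoidAlgebra k M →ₐ[R] MonoidAlgebra k F :=
      AlgHom.restrictScalars R (MonoidAlgebra.mapDomainAlgHom k k π : MonoidAlgebra k M →ₐ[k] MonoidAlgebra k F)
    rw [← Category.assoc, sp_comp, show (mapR (IsLocalRing.maximalIdeal R)).comp c = g.comp (mapR _) from
      by ext m; simp [g, c, mapR], ← sp_comp, Category.assoc, h0,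
      MonObj.comp_one]
  have hJm : J ≤ IsLocalRing.maximalIdeal R := (hle _).mp h0'
  have hJJ : J ≤ J * J := (hle _).mp (step _ (ha.map π) J ((hle J).mpr le_rfl))
  have hJ0 : J = ⊥ := Submodule.eq_bot_of_le_smul_of_le_jacobson_bot J J hJfg hJJ
    (hJm.trans (IsLocalRing.maximalIdeal_le_jacobson ⊥))
  change I.map c.toRingHom = ⊥
  rw [← hs, eq_bot_iff, Submodule.span_le]
  intro y hy
  show y ∈ (⊥ : Ideal _)
  rw [Ideal.mem_bot]
  refine MonoidAlgebra.ext (Finsupp.ext fun n => ?_)
  have : y.coeff n ∈ J := Ideal.subset_span ⟨(y, n), ⟨hy, trivial⟩, rfl⟩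
  rwa [hJ0, Ideal.mem_bot] at this

end Groth.Agent.SGA3cLib.Rigidity
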