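import Groth.Agent.SGA3cLib.JetContent
import Groth.Agent.SGA3cLib.WeilRes
import Mathlib.RingTheory.Finiteness.Descent

/-!
# Purity of faithfully flat standard smooth algebras with geometrically integral fibres
-/

set_option linter.style.haveILetI false
set_option autoImplicit false

universe u

open TensorProduct

noncomputable section

namespace Groth.Agent.SGA3cLib.Jet

variable {R : Type u} [CommRing R] {B : Type u} [CommRing B] [Algebra R B]

/-- The fibres of the diagonal chart. -/
theorem isDomain_diag (hdom : ∀ (L : Type u) [Field L] [Algebra R L], IsDomain (L ⊗[R] B)) (R' : Type u) [CommRing R']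
    [Algebra R R'] (L : Type u) [Field L] [Algebra R' L] : IsDomain (L ⊗[R'] (R' ⊗[R] B)) := by
  letI : Algebra R L := ((algebraMap R' L).comp (algebraMap R R')).toAlgebra
  haveI : IsScalarTower R R' L := IsScalarTower.of_algebraMap_eq fun _ => rfl
  haveI := hdom L
  exact MulEquiv.isDomain (L ⊗[R] B) (Algebra.TensorProduct.cancelBaseChange R R' L L B).toMulEquiv

/-- Enlarging the coefficients along an injective map does not create new zeros. -/
theorem tmul_eq_zero_iff_of_injective [Module.Flat R B] {C C' : Type u} [CommRing C] [Algebra R C] [CommRing C'] [Algebra R C']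
    (ν : C →ₐ[R] C') (hν : Function.Injective ν) (b : B) : (1 : C) ⊗ₜ[R] b = 0 ↔ (1 : C') ⊗ₜ[R] b = 0 := by
  rw [← map_one ν]
  refine ⟨fun h => ?_, fun h => ?_⟩
  · simpa using congrArg (ν.toLinearMap.rTensor B) h
  · refine Module.Flat.rTensor_preserves_injective_linearMap (M := B) ν.toLinearMap hν ?_
    simpa using h

/-- For a faithfully flat standard smooth algebra with geometrically integral fibres, the locus where an ideal
vanishes is cut out by an ideal of the base. -/
theorem exists_content_ff [Algebra.IsStandardSmooth R B] [Module.FaithfullyFlat R B]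
    (hdom : ∀ (L : Type u) [Field L] [Algebra R L], IsDomain (L ⊗[R] B)) (I : Ideal B) :
    ∃ J : Ideal R, (I.FG → J.FG) ∧ ∀ (C : Type u) [CommRing C] [Algebra R C],
      (∀ i ∈ I, (1 : C) ⊗ₜ[R] i = 0) ↔ J ≤ RingHom.ker (algebraMap R C) := by
  classical
  let σ : B ⊗[R] B →ₐ[B] B :=
    Algebra.TensorProduct.lift (AlgHom.id B B) (AlgHom.id R B) (fun _ _ => Commute.all _ _)
  choose Jb hJb hJbiff using fun i : B => exists_content σ (fun L _ _ => isDomain_diag hdom B L) ((1 : B) ⊗ₜ[R] i)
  let J' : Ideal B := ⨆ i : I, Jb i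
  -- the condition for algebras over `B`
  have hB : ∀ (C : Type u) [CommRing C] [Algebra R C] [Algebra B C] [IsScalarTower R B C] (i : B),
      (1 : C) ⊗ₜ[R] i = 0 ↔ Jb i ≤ RingHom.ker (algebraMap B C) := by
    intro C _ _ _ _ i
    rw [← hJbiff i C]
    let E := Algebra.TensorProduct.cancelBaseChange R B C C B
    rw [show (1 : C) ⊗ₜ[R] i = E ((1 : C) ⊗ₜ[B] ((1 : B) ⊗ₜ[R] i)) by simp [E], map_eq_zero_iff E E.injective]
  have hB' : ∀ (C : Type u) [CommRing C] [Algebra R C] [Algebra B C] [IsScalarTower R B C],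
      (∀ i ∈ I, (1 : C) ⊗ₜ[R] i = 0) ↔ J' ≤ RingHom.ker (algebraMap B C) := by
    intro C _ _ _ _
    rw [iSup_le_iff, Subtype.forall]
    exact forall₂_congr fun i _ => hB C i
  have hfg : I.FG → J'.FG := by
    rintro ⟨t, ht⟩
    refine (?_ : J' = t.sup Jb) ▸ Submodule.fg_finset_sup t Jb fun i _ => hJb i
    refine le_antisymm ?_ (Finset.sup_le fun i hi => le_iSup (fun i : I => Jb i) ⟨i, ht ▸ Ideal.subset_span hi⟩)
    let C := B ⧸ t.sup Jb
    have hC : RingHom.ker (algebraMap B C) = t.sup Jb := Ideal.mk_ker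
    rw [← hC]
    refine (hB' C).mp fun i hi => ?_
    rw [← ht] at hi
    refine Submodule.span_induction (fun b hb => ?_) (by simp) (fun x y _ _ hx hy => ?_) (fun c x _ hx => ?_) hi
    · exact (hB C b).mpr (hC.symm ▸ Finset.le_sup (f := Jb) hb)
    · rw [TensorProduct.tmul_add, hx, hy, add_zero]
    · rw [smul_eq_mul, show (1 : C) ⊗ₜ[R] (c * x) = ((1 : C) ⊗ₜ c) * ((1 : C) ⊗ₜ x) by simp, hx, mul_zero]
  let J := J'.comap (algebraMap R B)
  have hmap : J' = J.map (algebraMap R B) := by
    refine le_antisymm (WeilRes.le_map_comap J' fun y hy => ?_) Ideal.map_comap_le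
    let C := (B ⧸ J') ⊗[R] B
    have h1 : ∀ i ∈ I, (1 : C) ⊗ₜ[R] i = 0 := (hB' C).mpr fun a ha => by
      show (algebraMap B (B ⧸ J') a) ⊗ₜ[R] (1 : B) = 0
      rw [Ideal.Quotient.algebraMap_eq, Ideal.Quotient.eq_zero_iff_mem.2 ha, TensorProduct.zero_tmul]
    let alg : Algebra B C := Algebra.TensorProduct.rightAlgebra
    have tw : @IsScalarTower R B C _ alg.toSMul _ := Algebra.TensorProduct.right_isScalarTower
    exact (@hB' C _ _ alg tw).mp h1 hy
  refine ⟨J, fun h => Ideal.FG.of_FG_map_of_faithfullyFlat (S := B) (hmap ▸ hfg h), fun C _ _ => ?_⟩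
  let C' := C ⊗[R] B
  letI : Algebra B C' := Algebra.TensorProduct.rightAlgebra
  haveI : IsScalarTower R B C' := Algebra.TensorProduct.right_isScalarTower
  let ν : C →ₐ[R] C' := Algebra.TensorProduct.includeLeft
  have hν : Function.Injective ν := fun c c' h =>
    Module.FaithfullyFlat.tensorProduct_mk_injective (A := R) (B := B) C (congrArg (TensorProduct.comm R C B) h)
  rw [forall₂_congr fun i _ => tmul_eq_zero_iff_of_injective ν hν i, hB' C', hmap, Ideal.map_le_iff_le_comap]
  refine forall₂_congr fun a _ => ?_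
  simp only [Ideal.mem_comap, RingHom.mem_ker]
  rw [← IsScalarTower.algebraMap_apply R B C', ← ν.commutes, map_eq_zero_iff ν hν]

/-- An element vanishing on an open subset meeting a fibre kills no element outside that prime. -/
theorem exists_not_mem_of_vanish [Algebra.IsStandardSmooth R B]
    (hdom : ∀ (L : Type u) [Field L] [Algebra R L], IsDomain (L ⊗[R] B))
    (i v : B) (hi : ∃ N, v ^ N * i = 0) (P : Ideal B) [P.IsPrime] (hv : v ∉ P) (J : Ideal R)
    (hJ : ∀ (C : Type u) [CommRing C] [Algebra R C], (1 : C) ⊗ₜ[R] i = 0 ↔ J ≤ RingHom.ker (algebraMap R C))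
    (a : R) (ha : a ∈ J) : ∃ r : R, r * a = 0 ∧ algebraMap R B r ∉ P := by
  let R' := Localization.Away v
  let σ : R' ⊗[R] B →ₐ[R'] R' :=
    Algebra.TensorProduct.lift (AlgHom.id R' R') (IsScalarTower.toAlgHom R B R') (fun _ _ => Commute.all _ _)
  obtain ⟨N, hN⟩ := hi
  have hzero : (1 : R') ⊗ₜ[R] i = 0 := by
    let y : R' ⊗[R] B := (IsLocalization.Away.invSelf v : R') ⊗ₜ v
    have hy : σ y = 1 := by
      show σ ((IsLocalization.Away.invSelf v : R') ⊗ₜ[R] v) = 1
      simp only [σ, Algebra.TensorProduct.lift_tmul, AlgHom.id_apply, IsScalarTower.coe_toAlgHom']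
      rw [mul_comm]
      exact IsLocalization.Away.mul_invSelf v
    have hy0 : y ^ N * ((1 : R') ⊗ₜ[R] i) = 0 := by
      show ((IsLocalization.Away.invSelf v : R') ⊗ₜ[R] v) ^ N * _ = 0
      rw [Algebra.TensorProduct.tmul_pow, Algebra.TensorProduct.tmul_mul_tmul, hN, TensorProduct.tmul_zero]
    have hker : 1 - y ^ N ∈ RingHom.ker σ := by
      show σ (1 - y ^ N) = 0
      rw [map_sub, map_one, map_pow, hy, one_pow, sub_self]
    have hpow : ∀ m : ℕ, (1 - y ^ N) ^ m * ((1 : R') ⊗ₜ[R] i) = (1 : R') ⊗ₜ i := by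
      intro m
      induction m with
      | zero => simp
      | succ m ih => rw [pow_succ, _root_.mul_assoc, sub_mul, _root_.one_mul, hy0, sub_zero, ih]
    exact eq_zero_of_forall_mem_pow σ (fun L _ _ => isDomain_diag hdom R' L) _ fun k => by
      rw [← hpow (k + 1)]
      exact Ideal.mul_mem_right _ _ (Ideal.pow_mem_pow hker _)
  have h0 : algebraMap B R' (algebraMap R B a) = 0 := by
    rw [← IsScalarTower.algebraMap_apply]
    exact (hJ R').mp hzero ha
  obtain ⟨⟨_, m, rfl⟩, hm⟩ := (IsLocalization.map_eq_zero_iff (Submonoid.powers v) _ _).mp h0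
  -- the annihilator of `a` in `B` is extended from `R`
  let A : Ideal R := LinearMap.ker (LinearMap.toSpanSingleton R R a)
  let ν : R ⧸ A →ₗ[R] R := Submodule.liftQ A (LinearMap.toSpanSingleton R R a) le_rfl
  have hν : Function.Injective ν := by
    rw [← LinearMap.ker_eq_bot, Submodule.ker_liftQ_eq_bot]
    exact le_rfl
  haveI : Module.Flat R B := Algebra.Smooth.flat R B
  have h1 : (1 : R ⧸ A) ⊗ₜ[R] (v ^ m) = 0 := by
    apply Module.Flat.rTensor_preserves_injective_linearMap (M := B) ν hν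
    rw [LinearMap.rTensor_tmul, map_zero]
    apply (TensorProduct.lid R B).injective
    have : ν 1 = a := by
      show Submodule.liftQ A (LinearMap.toSpanSingleton R R a) _ (Submodule.Quotient.mk 1) = a
      erw [Submodule.liftQ_apply]
      exact LinearMap.toSpanSingleton_apply_one R R a
    rw [TensorProduct.lid_tmul, this, map_zero, Algebra.smul_def, mul_comm]
    exact hm
  have h2 := congrArg (TensorProduct.quotTensorEquivQuotSMul B A) h1
  rw [map_zero] at h2
  change (TensorProduct.quotTensorEquivQuotSMul B A) (Ideal.Quotient.mk A (1 : R) ⊗ₜ[R] (v ^ m)) = 0 at h2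
  rw [TensorProduct.quotTensorEquivQuotSMul_mk_tmul, one_smul, Submodule.Quotient.mk_eq_zero,
    Ideal.smul_top_eq_map] at h2
  by_contra hcon
  push Not at hcon
  exact hv (Ideal.IsPrime.mem_of_pow_mem ‹_› m
    ((Ideal.map_le_iff_le_comap.mpr fun r hr => hcon r (by simpa [A] using hr) : A.map (algebraMap R B) ≤ P) h2))

/-- An element vanishing on an open subset meeting all fibres is zero. -/
theorem eq_zero_of_vanish [Algebra.IsStandardSmooth R B] [Module.FaithfullyFlat R B]
    (hdom : ∀ (L : Type u) [Field L] [Algebra R L], IsDomain (L ⊗[R] B)) (i : B)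
    (hi : ∀ p : PrimeSpectrum R, ∃ (P : PrimeSpectrum B) (v : B),
      P.comap (algebraMap R B) = p ∧ v ∉ P.asIdeal ∧ ∃ N, v ^ N * i = 0) : i = 0 := by
  classical
  obtain ⟨J, -, hJ⟩ := exists_content_ff hdom (Ideal.span {i})
  have hJ' : ∀ (C : Type u) [CommRing C] [Algebra R C], (1 : C) ⊗ₜ[R] i = 0 ↔ J ≤ RingHom.ker (algebraMap R C) := by
    intro C _ _
    rw [← hJ C]
    refine ⟨fun h x hx => ?_, fun h => h i (Ideal.mem_span_singleton_self i)⟩
    obtain ⟨c, rfl⟩ := Ideal.mem_span_singleton'.mp hx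
    rw [show (1 : C) ⊗ₜ[R] (c * i) = ((1 : C) ⊗ₜ c) * ((1 : C) ⊗ₜ i) by simp, h, mul_zero]
  have hJ0 : J ≤ RingHom.ker (algebraMap R R) := by
    intro a ha
    by_contra hne
    have hne' : a ≠ 0 := hne
    let A : Ideal R := LinearMap.ker (LinearMap.toSpanSingleton R R a)
    obtain ⟨Q, hQ, hle⟩ := Ideal.exists_le_maximal A fun h => hne' (by
      have : (1 : R) ∈ A := h ▸ Submodule.mem_top
      simpa [A] using this)
    obtain ⟨P, v, hP, hv, hN⟩ := hi ⟨Q, hQ.isPrime⟩
    obtain ⟨r, hr0, hrP⟩ := exists_not_mem_of_vanish hdom i v hN P.asIdeal hv J hJ' a ha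
    exact hrP ((congrArg PrimeSpectrum.asIdeal hP).ge (hle (by simpa [A] using hr0)))
  have h0 := congrArg (TensorProduct.lid R B) ((hJ' R).mpr hJ0)
  simpa using h0

end Groth.Agent.SGA3cLib.Jet
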