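import Groth.Agent.SGA3cLib.Averaging
import Groth.Agent.SGA3cLib.GroupLike

/-! Homomorphisms between split groups of multiplicative type lift uniquely along nilpotent thickenings. -/

set_option linter.style.haveILetI false
set_option autoImplicit false

universe u

open CategoryTheory CategoryTheory.Limits MonoidalCategory CartesianMonoidalCategory MonObj AlgebraicGeometry

noncomputable section

namespace Groth.Agent.SGA3cLib.SplitHom

open Averaging GroupLike

variable {R₀ : Type u} [CommRing R₀] (J : Ideal R₀)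

/-- A point of `Spec (R₀ / J)` is determined by its source. -/
theorem quot_ext {A : Type u} [CommRing A] [Algebra R₀ A] (p p' : P R₀ A ⟶ P R₀ (R₀ ⧸ J)) : p = p' := by
  obtain ⟨θ, hθ⟩ := Spec.map_surjective (R := CommRingCat.of (R₀ ⧸ J)) (S := CommRingCat.of A) p.left
  obtain ⟨θ', hθ'⟩ := Spec.map_surjective (R := CommRingCat.of (R₀ ⧸ J)) (S := CommRingCat.of A) p'.left
  have h : CommRingCat.ofHom (algebraMap R₀ (R₀ ⧸ J)) ≫ θ = CommRingCat.ofHom (algebraMap R₀ (R₀ ⧸ J)) ≫ θ' := by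
    apply Spec.map_injective
    rw [Spec.map_comp, Spec.map_comp, hθ, hθ']
    exact (Over.w p).trans (Over.w p').symm
  apply Over.OverMorphism.ext
  rw [← hθ, ← hθ']
  exact congrArg _ (CommRingCat.hom_ext (Ideal.Quotient.ringHom_ext (congrArg CommRingCat.Hom.hom h)))

theorem le_ker_of_hom {A : Type u} [CommRing A] [Algebra R₀ A] (p : P R₀ A ⟶ P R₀ (R₀ ⧸ J)) :
    J ≤ RingHom.ker (algebraMap R₀ A) := by
  obtain ⟨θ, hθ⟩ := Spec.map_surjective (R := CommRingCat.of (R₀ ⧸ J)) (S := CommRingCat.of A) p.left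
  have h : CommRingCat.ofHom (algebraMap R₀ (R₀ ⧸ J)) ≫ θ = CommRingCat.ofHom (algebraMap R₀ A) := by
    apply Spec.map_injective
    rw [Spec.map_comp, hθ]
    exact Over.w p
  intro r hr
  rw [RingHom.mem_ker, ← show θ (algebraMap R₀ (R₀ ⧸ J) r) = algebraMap R₀ A r from congr($h r),
    Ideal.Quotient.algebraMap_eq, Ideal.Quotient.eq_zero_iff_mem.mpr hr, map_zero]

/-- The point of `Spec (R₀ / J)` given by an algebra killed by `J`. -/
def toQuot {A : Type u} [CommRing A] [Algebra R₀ A] (h : J ≤ RingHom.ker (algebraMap R₀ A)) : P R₀ A ⟶ P R₀ (R₀ ⧸ J) :=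
  sp (Ideal.Quotient.liftₐ J (Algebra.ofId R₀ A) fun _ ha => h ha)

variable {H H' : Over (Spec (CommRingCat.of R₀))} [GrpObj H] [GrpObj H']
variable {R : Type u} [CommRing R] [Algebra R₀ R] {M N : Type} [CommGroup M] [CommGroup N]

/-- A natural multiplicative family of maps of points over `R`. -/
structure Fam (H H' : Over (Spec (CommRingCat.of R₀))) [GrpObj H] [GrpObj H'] (R : Type u) [CommRing R] [Algebra R₀ R] where
  F : ∀ (A : Type u) [CommRing A] [Algebra R₀ A] [Algebra R A] [IsScalarTower R₀ R A], (P R₀ A ⟶ H) → (P R₀ A ⟶ H')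
  map_mul : ∀ (A : Type u) [CommRing A] [Algebra R₀ A] [Algebra R A] [IsScalarTower R₀ R A] (x y : P R₀ A ⟶ H),
    F A (x * y) = F A x * F A y
  nat : ∀ (A A' : Type u) [CommRing A] [Algebra R₀ A] [Algebra R A] [IsScalarTower R₀ R A]
    [CommRing A'] [Algebra R₀ A'] [Algebra R A'] [IsScalarTower R₀ R A'] (v : A →ₐ[R] A') (x : P R₀ A ⟶ H),
    sp (v.restrictScalars R₀) ≫ F A x = F A' (sp (v.restrictScalars R₀) ≫ x)

/-- The family is given modulo `J` by `φ₀`. -/
def Fam.Congr (Φ : Fam H H' R) (φ₀ : P R₀ (R₀ ⧸ J) ⊗ H ⟶ H') : Prop :=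
  ∀ (A : Type u) [CommRing A] [Algebra R₀ A] [Algebra R A] [IsScalarTower R₀ R A]
    (p : P R₀ A ⟶ P R₀ (R₀ ⧸ J)) (x : P R₀ A ⟶ H), Φ.F A x = lift p x ≫ φ₀

variable (σ : Split H R M) (τ : Split H' R N)

/-- The family is given by the character map `χ`. -/
def Fam.Given (Φ : Fam H H' R) (χ : N →* MonoidAlgebra R M) : Prop :=
  ∀ (A : Type u) [CommRing A] [Algebra R₀ A] [Algebra R A] [IsScalarTower R₀ R A] (ξ : M →* A),
    Φ.F A (σ.pt A ξ) = τ.pt A ((MonoidAlgebra.lift R A M ξ : MonoidAlgebra R M →* A).comp χ)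

theorem Fam.exists_given (Φ : Fam H H' R) :
    ∃ χ : N →* MonoidAlgebra R M, (∀ n, IsGL (χ n)) ∧ Φ.Given σ τ χ := by
  obtain ⟨χ, hχ⟩ := τ.pt_surj (MonoidAlgebra R M) (Φ.F _ (σ.pt _ (MonoidAlgebra.of R M)))
  have hgiven : Φ.Given σ τ χ := by
    intro A _ _ _ _ ξ
    rw [← τ.pt_nat, hχ, Φ.nat, σ.pt_nat]
    congr 2
    exact MonoidHom.ext fun m => by simp
  refine ⟨χ, fun n => ⟨?_, ?_⟩, hgiven⟩
  · have h1 : Φ.F R (1 : P R₀ R ⟶ H) = 1 := by
      have := Φ.map_mul R 1 1
      rw [_root_.one_mul] at this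
      exact left_eq_mul.mp this
    rw [← σ.pt_one R, hgiven R 1, ← τ.pt_one R] at h1
    exact DFunLike.congr_fun (τ.pt_inj R h1) n
  · have e : (MonoidAlgebra.of R (M × M)).comp ((MonoidHom.id M).prod (MonoidHom.id M)) =
        (MonoidAlgebra.of R (M × M)).comp (MonoidHom.inl M M) * (MonoidAlgebra.of R (M × M)).comp (MonoidHom.inr M M) :=
      MonoidHom.ext fun m => by simp [MonoidAlgebra.single_mul_single]
    have hl : ∀ φ : M →* M × M, MonoidAlgebra.lift R (MonoidAlgebra R (M × M)) M ((MonoidAlgebra.of R (M × M)).comp φ) =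
        MonoidAlgebra.mapDomainAlgHom R R φ := fun φ => by ext m; simp
    have h2 := hgiven _ ((MonoidAlgebra.of R (M × M)).comp ((MonoidHom.id M).prod (MonoidHom.id M)))
    conv_lhs at h2 => rw [e, σ.pt_mul, Φ.map_mul, hgiven, hgiven, ← τ.pt_mul]
    rw [hl, hl, hl] at h2
    exact (DFunLike.congr_fun (τ.pt_inj _ h2) n).symm

variable {σ τ}

theorem lift_mapRingHom {A : Type u} [CommRing A] [Algebra R A] (I : Ideal R) [Algebra (R ⧸ I) A]
    [IsScalarTower R (R ⧸ I) A] (ξ : M →* A) (x : MonoidAlgebra R M) :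
    MonoidAlgebra.lift (R ⧸ I) A M ξ (MonoidAlgebra.mapRingHom M (algebraMap R (R ⧸ I)) x) =
      MonoidAlgebra.lift R A M ξ x := by
  induction x using MonoidAlgebra.induction_linear with
  | zero => simp
  | add x y hx hy => simp only [map_add, hx, hy]
  | single m r =>
    rw [MonoidAlgebra.mapRingHom_single, MonoidAlgebra.lift_single, MonoidAlgebra.lift_single, algebraMap_smul]

theorem isNilpotent_ker (hJ : ∀ a ∈ J, IsNilpotent a) :
    ∀ a ∈ RingHom.ker (algebraMap R (R ⧸ J.map (algebraMap R₀ R))), IsNilpotent a := by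
  intro a ha
  rw [Ideal.Quotient.algebraMap_eq, Ideal.mk_ker] at ha
  have : J.map (algebraMap R₀ R) ≤ nilradical R := by
    rw [Ideal.map_le_iff_le_comap]
    exact fun r hr => mem_nilradical.mpr ((hJ r hr).map _)
  exact mem_nilradical.mp (this ha)

theorem le_ker (A : Type u) [CommRing A] [Algebra R₀ A] [Algebra R A] [IsScalarTower R₀ R A]
    [Algebra (R ⧸ J.map (algebraMap R₀ R)) A] [IsScalarTower R (R ⧸ J.map (algebraMap R₀ R)) A] :
    J ≤ RingHom.ker (algebraMap R₀ A) := by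
  intro r hr
  rw [RingHom.mem_ker, IsScalarTower.algebraMap_apply R₀ R A,
    IsScalarTower.algebraMap_apply R (R ⧸ J.map (algebraMap R₀ R)) A, Ideal.Quotient.algebraMap_eq,
    Ideal.Quotient.eq_zero_iff_mem.mpr (Ideal.mem_map_of_mem _ hr), map_zero]

theorem lift_of (I : Ideal R) (x : MonoidAlgebra R M) :
    MonoidAlgebra.lift R (MonoidAlgebra (R ⧸ I) M) M (MonoidAlgebra.of (R ⧸ I) M) x =
      MonoidAlgebra.mapRingHom M (algebraMap R (R ⧸ I)) x := by
  induction x using MonoidAlgebra.induction_linear with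
  | zero => simp
  | add x y hx hy => simp only [map_add, hx, hy]
  | single m r =>
    rw [MonoidAlgebra.mapRingHom_single, MonoidAlgebra.lift_single]
    simp [Algebra.smul_def]

variable (σ τ)
include σ τ

/-- Families congruent to the same homomorphism agree. -/
theorem ext (hJ : ∀ a ∈ J, IsNilpotent a) (φ₀ : P R₀ (R₀ ⧸ J) ⊗ H ⟶ H') (Φ Φ' : Fam H H' R)
    (h : Φ.Congr J φ₀) (h' : Φ'.Congr J φ₀) (A : Type u) [CommRing A] [Algebra R₀ A] [Algebra R A] [IsScalarTower R₀ R A]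
    (x : P R₀ A ⟶ H) : Φ.F A x = Φ'.F A x := by
  obtain ⟨χ, hχ, g⟩ := Φ.exists_given σ τ
  obtain ⟨χ', hχ', g'⟩ := Φ'.exists_given σ τ
  let K := R ⧸ J.map (algebraMap R₀ R)
  let p := toQuot J (le_ker (R := R) J (MonoidAlgebra K M))
  have e := (h _ p (σ.pt _ (MonoidAlgebra.of K M))).trans (h' _ p _).symm
  rw [g, g'] at e
  have : χ = χ' := MonoidHom.ext fun n => by
    have e' := DFunLike.congr_fun (τ.pt_inj _ e) n
    refine (hχ n).ext_of_map _ (isNilpotent_ker J hJ) (hχ' n) ?_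
    rw [← lift_of, ← lift_of]
    exact e'
  obtain ⟨ξ, rfl⟩ := σ.pt_surj A x
  rw [g, g', this]

/-- A homomorphism modulo `J` extends to a family. -/
theorem exists_fam (hJ : ∀ a ∈ J, IsNilpotent a) (φ₀ : P R₀ (R₀ ⧸ J) ⊗ H ⟶ H')
    (hmul : ∀ (X : Over (Spec (CommRingCat.of R₀))) (p : X ⟶ P R₀ (R₀ ⧸ J)) (x y : X ⟶ H),
      lift p (x * y) ≫ φ₀ = (lift p x ≫ φ₀) * (lift p y ≫ φ₀)) :
    ∃ Φ : Fam H H' R, Φ.Congr J φ₀ := by
  classical
  let K := R ⧸ J.map (algebraMap R₀ R)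
  let p₀ := toQuot J (le_ker (R := R) J (MonoidAlgebra K M))
  obtain ⟨χ₀, hχ₀⟩ := τ.pt_surj (MonoidAlgebra K M) (lift p₀ (σ.pt _ (MonoidAlgebra.of K M)) ≫ φ₀)
  have hy : ∀ (A : Type u) [CommRing A] [Algebra R₀ A] [Algebra R A] [IsScalarTower R₀ R A]
      [Algebra K A] [IsScalarTower R K A] (p : P R₀ A ⟶ P R₀ (R₀ ⧸ J)) (ξ : M →* A),
      lift p (σ.pt A ξ) ≫ φ₀ = τ.pt A ((MonoidAlgebra.lift K A M ξ : MonoidAlgebra K M →* A).comp χ₀) := by
    intro A _ _ _ _ _ _ p ξ
    let g : MonoidAlgebra K M →ₐ[R] A := (MonoidAlgebra.lift K A M ξ).restrictScalars R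
    rw [show ((MonoidAlgebra.lift K A M ξ : MonoidAlgebra K M →* A).comp χ₀) = (g : _ →* A).comp χ₀ from rfl,
      ← τ.pt_nat, hχ₀, ← Category.assoc, comp_lift, σ.pt_nat]
    congr 2
    · exact quot_ext J _ _
    · congr 1
      exact MonoidHom.ext fun m => by simp [g]
  have hGL : ∀ n, IsGL (χ₀ n) := fun n => by
    refine ⟨?_, ?_⟩
    · let p := toQuot J (le_ker (R := R) J K)
      have h1 : lift p (1 : P R₀ K ⟶ H) ≫ φ₀ = 1 := by
        have := hmul _ p 1 1
        rw [_root_.one_mul] at this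
        exact left_eq_mul.mp this
      rw [← σ.pt_one K, hy K p 1, ← τ.pt_one K] at h1
      exact DFunLike.congr_fun (τ.pt_inj K h1) n
    · let A₂ := MonoidAlgebra K (M × M)
      let p := toQuot J (le_ker (R := R) J A₂)
      have e : (MonoidAlgebra.of K (M × M)).comp ((MonoidHom.id M).prod (MonoidHom.id M)) =
          (MonoidAlgebra.of K (M × M)).comp (MonoidHom.inl M M) * (MonoidAlgebra.of K (M × M)).comp (MonoidHom.inr M M) :=
        MonoidHom.ext fun m => by simp [MonoidAlgebra.single_mul_single]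
      have hl : ∀ φ : M →* M × M, MonoidAlgebra.lift K (MonoidAlgebra K (M × M)) M ((MonoidAlgebra.of K (M × M)).comp φ) =
          MonoidAlgebra.mapDomainAlgHom K K φ := fun φ => by ext m; simp
      have h2 := hy _ p ((MonoidAlgebra.of K (M × M)).comp ((MonoidHom.id M).prod (MonoidHom.id M)))
      conv_lhs at h2 => rw [e, σ.pt_mul, hmul, hy, hy, ← τ.pt_mul]
      rw [hl, hl, hl] at h2
      exact (DFunLike.congr_fun (τ.pt_inj _ h2) n).symm
  have hK := isNilpotent_ker (R := R) J hJ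
  choose χf hχ hχmap using fun n => exists_isGL_lift (algebraMap R K) hK Ideal.Quotient.mk_surjective (hGL n)
  let χ : N →* MonoidAlgebra R M :=
    { toFun := χf
      map_one' := (hχ 1).ext_of_map _ hK .one' (by rw [hχmap, map_one, map_one])
      map_mul' := fun a b => (hχ _).ext_of_map _ hK ((hχ a).mul (hχ b)) (by
        rw [hχmap, map_mul, map_mul, hχmap, hχmap]) }
  have hsel : ∀ (A : Type u) [CommRing A] [Algebra R₀ A] [Algebra R A] [IsScalarTower R₀ R A] (x : P R₀ A ⟶ H),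
      ∃ ξ : M →* A, σ.pt A ξ = x := fun A _ _ _ _ x => σ.pt_surj A x
  choose inv hinv using hsel
  have hinv' : ∀ (A : Type u) [CommRing A] [Algebra R₀ A] [Algebra R A] [IsScalarTower R₀ R A] (ξ : M →* A),
      inv A (σ.pt A ξ) = ξ := fun A _ _ _ _ ξ => σ.pt_inj A (hinv A _)
  refine ⟨{
    F := fun A _ _ _ _ x => τ.pt A ((MonoidAlgebra.lift R A M (inv A x) : MonoidAlgebra R M →* A).comp χ)
    map_mul := fun A _ _ _ _ x y => ?_
    nat := fun A A' _ _ _ _ _ _ _ _ v x => ?_ }, ?_⟩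
  · rw [← τ.pt_mul]
    congr 1
    have : inv A (x * y) = inv A x * inv A y := σ.pt_inj A (by rw [hinv, σ.pt_mul, hinv, hinv])
    rw [this]
    exact MonoidHom.ext fun n => (hχ n).lift_mul _ _
  · rw [τ.pt_nat]
    congr 1
    have : inv A' (sp (v.restrictScalars R₀) ≫ x) = (v : A →* A').comp (inv A x) :=
      σ.pt_inj A' (by rw [hinv, ← σ.pt_nat, hinv])
    rw [this]
    refine MonoidHom.ext fun n => ?_
    show v (MonoidAlgebra.lift R A M _ (χ n)) = MonoidAlgebra.lift R A' M _ (χ n)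
    rw [← AlgHom.comp_apply]
    congr 1
    ext m
    simp
  · intro A _ _ _ _ p x
    letI : Algebra K A := (Ideal.Quotient.lift _ (algebraMap R A) fun a ha => by
      refine (show J.map (algebraMap R₀ R) ≤ RingHom.ker (algebraMap R A) from ?_) ha
      rw [Ideal.map_le_iff_le_comap]
      intro r hr
      show algebraMap R A (algebraMap R₀ R r) = 0
      rw [← IsScalarTower.algebraMap_apply]
      exact le_ker_of_hom J p hr).toAlgebra
    haveI : IsScalarTower R K A := IsScalarTower.of_algebraMap_eq fun r => rfl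
    show τ.pt A _ = _
    conv_rhs => rw [← hinv A x, hy A p]
    congr 1
    refine MonoidHom.ext fun n => ?_
    show MonoidAlgebra.lift R A M (inv A x) (χf n) = MonoidAlgebra.lift K A M (inv A x) (χ₀ n)
    rw [← hχmap, lift_mapRingHom]

end Groth.Agent.SGA3cLib.SplitHom
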