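import Groth.Agent.SGA3cLib.TrivLocus

/-! The triviality locus over a chart, for a homomorphism whose kernel is closed and of finite presentation. -/

set_option linter.style.haveILetI false
set_option autoImplicit false

universe u

open CategoryTheory CategoryTheory.Limits MonoidalCategory CartesianMonoidalCategory MonObj AlgebraicGeometry

noncomputable section

namespace Groth.Agent.SGA3cLib.TrivLocusEq

open Averaging Rigidity TrivLocus

variable {S : Scheme.{u}} {H G : Over S} [GrpObj H] [GrpObj G] (u : H ⟶ G) [IsMonHom u]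

/-- Over a chart, triviality is cut out by a finitely generated ideal; over a local ring it is detected at the closed point. -/
theorem exists_coeff [IsSeparated G.hom] (heq : ∃ (Z : Scheme.{u}) (e : Z ⟶ H.left), IsClosedImmersion e ∧
    LocallyOfFinitePresentation e ∧ ∀ (X : Over S) (x : X ⟶ H), x ≫ u = 1 ↔ ∃ l : X.left ⟶ Z, l ≫ e = x.left)
       {U : Scheme.{u}} (fU : U ⟶ S) {M : Type} [AddCommGroup M] [AddGroup.FG M]
    (e : Grp.mk (Red.bc fU H) ≅ Grp.mk (Red.DS U M)) (R : Type u) [CommRing R]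
    (t : Spec (CommRingCat.of R) ⟶ U) :
    ∃ c : Ideal R, c.FG ∧
      (∀ (A : Type u) [CommRing A] (α : R →+* A), Triv u (Spec.map (CommRingCat.ofHom α) ≫ t ≫ fU) ↔ c ≤ RingHom.ker α) ∧
      ∀ [IsLocalRing R], c ≤ IsLocalRing.maximalIdeal R → c = ⊥ := by
  classical
  let g : Spec (CommRingCat.of R) ⟶ S := t ≫ fU
  let HR := Red.bc g H
  let GR := Red.bc g G
  let uR : HR ⟶ GR := (Over.pullback g).map u
  haveI : IsMonHom uR := inferInstanceAs (IsMonHom ((Over.pullback g).map u))
  -- the splitting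
  obtain ⟨i, hi, -⟩ := GrpBC.nonempty_iso_restrict fU t g rfl H e
  let β := GrpBC.bcCongr g (𝟙 (Spec (CommRingCat.of R))) g (Category.id_comp g)
  obtain ⟨hb, -⟩ := GrpBC.isMonHom_app β H
  let b : Red.bc (𝟙 (Spec (CommRingCat.of R))) HR ≅ Red.bc g H := β.app H
  haveI : IsMonHom b.hom := hb
  haveI := hi
  haveI : IsMonHom (b ≪≫ i).hom := by show IsMonHom (b.hom ≫ i.hom); infer_instance
  obtain ⟨σ⟩ := exists_split (H := HR) (𝟙 _) (Grp.mkIso (b ≪≫ i) (IsMonHom.one_hom _) (IsMonHom.mul_hom _))
    (R := R) (𝟙 _) (by rw [Category.id_comp]; exact (Spec.map_id _).symm)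
  let N := Multiplicative M
  haveI : Group.FG N := inferInstance
  let x₀ : P R (MonoidAlgebra R N) ⟶ HR := σ.pt _ (MonoidAlgebra.of R N)
  let a : P R (MonoidAlgebra R N) ⟶ GR := x₀ ≫ uR
  have ha : IsHomPt a := by
    have e1 : ∀ φ : N →* N × N, sp (MonoidAlgebra.mapDomainAlgHom R R φ) ≫ x₀ =
        σ.pt _ ((MonoidAlgebra.of R (N × N)).comp φ) := fun φ => by
      have h := σ.pt_nat _ _ (MonoidAlgebra.mapDomainAlgHom R R φ) (MonoidAlgebra.of R N)
      refine h.trans ?_
      congr 1
      exact MonoidHom.ext fun m => by simp [MonoidAlgebra.of_apply, N]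
    show sp _ ≫ x₀ ≫ uR = (sp _ ≫ x₀ ≫ uR) * (sp _ ≫ x₀ ≫ uR)
    unfold GroupLike.dg GroupLike.i₁ GroupLike.i₂
    rw [← Category.assoc, ← Category.assoc, ← Category.assoc, e1, e1, e1, ← MonObj.mul_comp, ← σ.pt_mul]
    congr 2
    exact MonoidHom.ext fun m => by simp [MonoidAlgebra.single_mul_single, MonoidHom.inl_apply, MonoidHom.inr_apply, N]
  -- the equalizer ideal
  obtain ⟨Z, ez, hez, hezfp, hZ⟩ := heq
  let X₀ : Over S := (Over.map g).obj (P R (MonoidAlgebra R N))
  let xS : X₀ ⟶ H := (BCPoints.pt g H _).symm x₀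
  let q : pullback ez xS.left ⟶ Spec (CommRingCat.of (MonoidAlgebra R N)) := pullback.snd ez xS.left
  haveI : IsClosedImmersion q := inferInstanceAs (IsClosedImmersion (pullback.snd ez xS.left))
  haveI : LocallyOfFinitePresentation q := inferInstanceAs (LocallyOfFinitePresentation (pullback.snd ez xS.left))
  obtain ⟨I, ε, hε⟩ := (IsClosedImmersion.Spec_iff (R := CommRingCat.of (MonoidAlgebra R N)) (f := q)).mp inferInstance
  have hIfg : I.FG := by
    have h2 : LocallyOfFinitePresentation (Spec.map (CommRingCat.ofHom (Ideal.Quotient.mk I))) := by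
      have : LocallyOfFinitePresentation (ε.inv ≫ q) := inferInstance
      rw [hε, Iso.inv_hom_id_assoc] at this
      exact this
    rw [LocallyOfFinitePresentation.SpecMap_iff, CommRingCat.hom_ofHom, ← Ideal.Quotient.algebraMap_eq,
      RingHom.finitePresentation_algebraMap] at h2
    haveI := h2
    have := Algebra.FinitePresentation.ker_fG_of_surjective
      (Algebra.ofId (MonoidAlgebra R N) (MonoidAlgebra R N ⧸ I)) Ideal.Quotient.mk_surjective
    exact (Ideal.mk_ker (I := I)) ▸ this
  have hIiff : ∀ (A : Type u) [CommRing A] [Algebra R A] (h : MonoidAlgebra R N →ₐ[R] A),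
      sp h ≫ a = 1 ↔ I ≤ RingHom.ker h := by
    intro A _ _ h
    have h1 : sp h ≫ a = 1 ↔ ((Over.map g).map (sp h) ≫ xS) ≫ u = 1 := by
      have hone : BCPoints.pt g G (P R A) 1 = 1 :=
        map_one (MonoidHom.mk' (BCPoints.pt g G (P R A)) (BCPoints.pt_mul g))
      have h3 : BCPoints.pt g G (P R A) (((Over.map g).map (sp h) ≫ xS) ≫ u) = sp h ≫ a := by
        rw [BCPoints.pt_comp, BCPoints.pt_map_comp, Equiv.apply_symm_apply, Category.assoc]
      rw [← h3]
      exact ⟨fun h => (BCPoints.pt g G (P R A)).injective (h.trans hone.symm), fun h => by rw [h, hone]⟩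
    rw [h1, hZ]
    constructor
    · rintro ⟨l, hl⟩
      let m : Spec (CommRingCat.of A) ⟶ pullback ez xS.left := pullback.lift l (Spec.map (CommRingCat.ofHom h.toRingHom)) hl
      obtain ⟨θ, hθ⟩ := Spec.map_surjective (R := CommRingCat.of (MonoidAlgebra R N ⧸ I)) (S := CommRingCat.of A) (m ≫ ε.hom)
      have h4 : CommRingCat.ofHom (Ideal.Quotient.mk I) ≫ θ = CommRingCat.ofHom h.toRingHom := by
        apply Spec.map_injective
        rw [Spec.map_comp, hθ, Category.assoc, ← hε]
        exact pullback.lift_snd _ _ _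
      intro y hy
      rw [RingHom.mem_ker]
      refine (congr($h4 y)).symm.trans ?_
      show θ.hom (Ideal.Quotient.mk I y) = 0
      rw [Ideal.Quotient.eq_zero_iff_mem.mpr hy, map_zero]
    · intro hle
      let θ := Ideal.Quotient.lift I h.toRingHom fun y hy => hle hy
      refine ⟨Spec.map (CommRingCat.ofHom θ) ≫ ε.inv ≫ pullback.fst ez xS.left, ?_⟩
      rw [Category.assoc, Category.assoc, pullback.condition]
      show Spec.map _ ≫ ε.inv ≫ q ≫ xS.left = Spec.map (CommRingCat.ofHom h.toRingHom) ≫ xS.left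
      rw [hε, ← Category.assoc ε.inv, Iso.inv_hom_id_assoc]
      erw [← Category.assoc, ← Spec.map_comp]
      rw [← CommRingCat.ofHom_comp, Ideal.Quotient.lift_comp_mk]
  -- coefficients
  obtain ⟨s, hs⟩ := hIfg
  let c : Ideal R := Ideal.span (⋃ x ∈ (s : Set (MonoidAlgebra R N)), x.coeff '' (x.coeff.support : Set N))
  have hcfg : c.FG := Submodule.fg_span (s.finite_toSet.biUnion fun x _ => x.coeff.support.finite_toSet.image _)
  have hc : ∀ (A : Type u) [CommRing A] [Algebra R A],
      I ≤ RingHom.ker (MonoidAlgebra.lift R (MonoidAlgebra A N) N (MonoidAlgebra.of A N)) ↔ c ≤ RingHom.ker (algebraMap R A) := by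
    intro A _ _
    have hv : ∀ x : MonoidAlgebra R N, MonoidAlgebra.lift R (MonoidAlgebra A N) N (MonoidAlgebra.of A N) x =
        MonoidAlgebra.mapRingHom N (algebraMap R A) x := fun x => by
      induction x using MonoidAlgebra.induction_linear with
      | zero => simp
      | add x y hx hy => simp only [map_add, hx, hy]
      | single m r => simp [Algebra.smul_def]
    rw [← hs]
    constructor
    · intro h
      refine Ideal.span_le.mpr (Set.iUnion₂_subset fun x hx => ?_)
      rintro _ ⟨m, -, rfl⟩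
      have h1 := congrArg (fun y => y.coeff m) ((hv x).symm.trans (h (Submodule.subset_span hx)))
      simpa using h1
    · intro h
      refine Submodule.span_le.mpr fun x hx => ?_
      refine (hv x).trans (MonoidAlgebra.ext (Finsupp.ext fun m => ?_))
      by_cases hm : m ∈ x.coeff.support
      · simpa using h (Ideal.subset_span (Set.mem_biUnion hx ⟨m, hm, rfl⟩))
      · simp [Finsupp.notMem_support_iff.mp hm]
  have hmain : ∀ (A : Type u) [CommRing A] (α : R →+* A), Triv u (Spec.map (CommRingCat.ofHom α) ≫ t ≫ fU) ↔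
      c ≤ RingHom.ker α := by
    intro A _ α
    letI : Algebra R A := α.toAlgebra
    rw [show RingHom.ker α = RingHom.ker (algebraMap R A) from rfl, ← hc A, ← hIiff]
    let gA := Spec.map (CommRingCat.ofHom α) ≫ t ≫ fU
    let hA : MonoidAlgebra R N →ₐ[R] MonoidAlgebra A N := MonoidAlgebra.lift R (MonoidAlgebra A N) N (MonoidAlgebra.of A N)
    have hone : ∀ (B : Type u) [CommRing B] [Algebra R B], BCPoints.pt g G (P R B) 1 = 1 := fun B _ _ =>
      map_one (MonoidHom.mk' (BCPoints.pt g G (P R B)) (BCPoints.pt_mul g))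
    constructor
    · intro h
      have h1 := h ((Over.map g).obj (P R (MonoidAlgebra A N)))
        (Over.homMk (Spec.map (CommRingCat.ofHom (algebraMap A (MonoidAlgebra A N)))) (by
          show Spec.map _ ≫ Spec.map _ ≫ g = Spec.map _ ≫ g
          rw [← Spec.map_comp_assoc, ← CommRingCat.ofHom_comp, IsScalarTower.algebraMap_eq R A (MonoidAlgebra A N)]
          try rfl))
        ((Over.map g).map (sp hA) ≫ xS)
      have h2 := congrArg (BCPoints.pt g G _) h1
      rw [BCPoints.pt_comp, BCPoints.pt_map_comp, Equiv.apply_symm_apply, hone, Category.assoc] at h2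
      exact h2
    · intro h X p x
      apply Over.OverMorphism.ext
      refine Scheme.Cover.hom_ext X.left.affineCover _ _ fun j => ?_
      obtain ⟨B, w, q', hq⟩ : ∃ (B : CommRingCat.{u}) (w : Spec B ⟶ X.left) (q' : X.left.affineCover.X j ⟶ Spec B),
          q' ≫ w = X.left.affineCover.f j :=
        ⟨_, (X.left.affineCover.X j).isoSpec.inv ≫ X.left.affineCover.f j, (X.left.affineCover.X j).isoSpec.hom,
          Iso.hom_inv_id_assoc _ _⟩
      obtain ⟨θ, hθ⟩ := Spec.map_surjective (R := CommRingCat.of A) (w ≫ p.left)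
      letI : Algebra A B := θ.hom.toAlgebra
      letI : Algebra R B := (θ.hom.comp α).toAlgebra
      haveI : IsScalarTower R A B := IsScalarTower.of_algebraMap_eq fun r => rfl
      let X' : Over S := (Over.map g).obj (P R B)
      let r : X' ⟶ X := Over.homMk w (by
        show w ≫ X.hom = Spec.map (CommRingCat.ofHom (θ.hom.comp α)) ≫ g
        rw [CommRingCat.ofHom_comp, Spec.map_comp, Category.assoc, ← Over.w p, ← Category.assoc w, ← hθ]
        rfl)
      obtain ⟨ξ, hξ⟩ := σ.pt_surj B (BCPoints.pt g H _ (r ≫ x))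
      let l : MonoidAlgebra A N →ₐ[R] B := (MonoidAlgebra.lift A B N ξ).restrictScalars R
      have h2 : BCPoints.pt g G _ ((r ≫ x) ≫ u) = 1 := by
        rw [BCPoints.pt_comp, ← hξ]
        have h4 : sp (l.comp hA) ≫ x₀ = σ.pt B ξ := by
          refine (σ.pt_nat _ _ (l.comp hA) (MonoidAlgebra.of R N)).trans ?_
          congr 1
          exact MonoidHom.ext fun m => by simp [l, hA, MonoidAlgebra.of_apply, N]
        rw [← h4, Category.assoc, ← sp_comp, Category.assoc]
        show sp l ≫ sp hA ≫ a = 1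
        rw [h, MonObj.comp_one]
      have h5 := (BCPoints.pt g G _).injective (h2.trans (hone B).symm)
      rw [Category.assoc, ← MonObj.comp_one r] at h5
      have h6 := congrArg CommaMorphism.left h5
      change w ≫ (x ≫ u).left = w ≫ (1 : X ⟶ G).left at h6
      rw [← hq, Category.assoc, Category.assoc, h6]
  refine ⟨c, hcfg, hmain, fun {_} hcm => ?_⟩
  have h0 : sp (mapR (IsLocalRing.maximalIdeal R)) ≫ a = 1 := by
    rw [hIiff]
    refine (hc (R ⧸ IsLocalRing.maximalIdeal R)).mpr ?_
    rw [Ideal.Quotient.algebraMap_eq, Ideal.mk_ker]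
    exact hcm
  have hI0 : I = ⊥ := Rigidity.eq_bot a ha I (hs ▸ Submodule.fg_span s.finite_toSet) hIiff h0
  have := (hc R).mp (by rw [hI0]; exact bot_le)
  rw [Algebra.algebraMap_self, show RingHom.ker (RingHom.id R) = ⊥ from (RingHom.injective_iff_ker_eq_bot _).mp fun _ _ h => h] at this
  exact le_bot_iff.mp this

/-- The local form of `exists_coeff`. -/
theorem exists_chart [IsSeparated G.hom] (heq : ∃ (Z : Scheme.{u}) (e : Z ⟶ H.left), IsClosedImmersion e ∧
    LocallyOfFinitePresentation e ∧ ∀ (X : Over S) (x : X ⟶ H), x ≫ u = 1 ↔ ∃ l : X.left ⟶ Z, l ≫ e = x.left)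
    {U : Scheme.{u}} (fU : U ⟶ S) {M : Type} [AddCommGroup M] [AddGroup.FG M]
    (e : Grp.mk (Red.bc fU H) ≅ Grp.mk (Red.DS U M)) (R : Type u) [CommRing R]
    (t : Spec (CommRingCat.of R) ⟶ U) :
    ∃ c : Ideal R,
      (∀ (A : Type u) [CommRing A] (α : R →+* A), Triv u (Spec.map (CommRingCat.ofHom α) ≫ t ≫ fU) ↔ c ≤ RingHom.ker α) ∧
      ∀ p : PrimeSpectrum R, c ≤ p.asIdeal → ∃ f ∉ p.asIdeal, ∀ x ∈ c, f * x = 0 := by
  classical
  obtain ⟨c, hcfg, hc, -⟩ := exists_coeff u heq fU e R t
  refine ⟨c, hc, fun p hp => ?_⟩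
  let L := Localization.AtPrime p.asIdeal
  obtain ⟨c', -, hc', hloc⟩ := exists_coeff u heq fU e L (Spec.map (CommRingCat.ofHom (algebraMap R L)) ≫ t)
  have hiff : ∀ (A : Type u) [CommRing A] (α : L →+* A),
      c' ≤ RingHom.ker α ↔ c ≤ RingHom.ker (α.comp (algebraMap R L)) := fun A _ α => by
    rw [← hc' A α, ← hc A, CommRingCat.ofHom_comp (algebraMap R L) α, Spec.map_comp]
    exact iff_of_eq (congrArg (Triv u) (by simp only [Category.assoc]))
  have h1 : c' ≤ IsLocalRing.maximalIdeal L := by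
    have h2 : c ≤ RingHom.ker ((IsLocalRing.residue L).comp (algebraMap R L)) := fun x hx => by
      rw [RingHom.mem_ker, RingHom.comp_apply, IsLocalRing.residue_eq_zero_iff,
        IsLocalization.AtPrime.to_map_mem_maximal_iff L p.asIdeal]
      exact hp hx
    have h3 := (hiff _ (IsLocalRing.residue L)).mpr h2
    rwa [IsLocalRing.ker_residue] at h3
  have h2 : c ≤ RingHom.ker (algebraMap R L) := by
    have := (hiff L (RingHom.id L)).mp (by rw [hloc h1]; exact bot_le)
    rwa [RingHom.id_comp] at this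
  obtain ⟨s, rfl⟩ := hcfg
  have hs : ∀ x ∈ s, ∃ f ∉ p.asIdeal, f * x = 0 := fun x hx => by
    obtain ⟨⟨f, hf⟩, hfx⟩ := (IsLocalization.map_eq_zero_iff p.asIdeal.primeCompl L x).mp (h2 (Submodule.subset_span hx))
    exact ⟨f, hf, hfx⟩
  choose! fx hfx hfx0 using hs
  refine ⟨∏ x ∈ s, fx x, fun h => ?_, fun y hy => ?_⟩
  · obtain ⟨x, hx, hxp⟩ := p.2.prod_mem_iff.mp h
    exact hfx x hx hxp
  · refine Submodule.span_induction (fun x hx => ?_) (mul_zero _) (fun x y _ _ hx hy => by rw [mul_add, hx, hy, add_zero])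
      (fun r x _ hx => by rw [smul_eq_mul, mul_left_comm, hx, mul_zero]) hy
    rw [← Finset.mul_prod_erase s fx hx, mul_right_comm, hfx0 x hx, zero_mul]

end Groth.Agent.SGA3cLib.TrivLocusEq
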