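import Groth.Agent.SGA3cLib.FrobRank
import Mathlib.RingTheory.Ideal.Quotient.Operations
import Mathlib.LinearAlgebra.Pi

/-!
# Height one algebras are truncated polynomial algebras
-/

set_option autoImplicit false

universe u v

open TensorProduct MvPolynomial

namespace Groth.Agent.SGA3cLib

/-- The truncated monomial map attached to a family `x`. -/
noncomputable def monoMap (R : Type u) {A : Type v} [CommSemiring R] [CommSemiring A] [Algebra R A]
    {n : ℕ} (p : ℕ) (x : Fin n → A) : ((Fin n → Fin p) → R) →ₗ[R] A :=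
  Fintype.linearCombination R fun a => ∏ i, x i ^ (a i : ℕ)

theorem monoMap_apply {R : Type u} {A : Type v} [CommSemiring R] [CommSemiring A] [Algebra R A]
    {n p : ℕ} (x : Fin n → A) (g : (Fin n → Fin p) → R) :
    monoMap R p x g = ∑ a, g a • ∏ i, x i ^ (a i : ℕ) := by
  simp [monoMap, Fintype.linearCombination_apply]

/-- An algebra with a basis of `p`-truncated monomials in elements whose `p`-th powers vanish is a
truncated polynomial algebra. -/
theorem nonempty_algEquiv_truncated {R : Type u} {A : Type v} [CommRing R] [CommRing A] [Algebra R A]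
    {n p : ℕ} (x : Fin n → A) (hxp : ∀ i, x i ^ p = 0) (hb : Function.Bijective (monoMap R p x)) :
    Nonempty (A ≃ₐ[R] (MvPolynomial (Fin n) R ⧸
      Ideal.span (Set.range fun i : Fin n => (MvPolynomial.X i : MvPolynomial (Fin n) R) ^ p))) := by
  classical
  set P := Ideal.span (Set.range fun i : Fin n => (MvPolynomial.X i : MvPolynomial (Fin n) R) ^ p)
  let φ : (MvPolynomial (Fin n) R ⧸ P) →ₐ[R] A := Ideal.Quotient.liftₐ P (aeval x) fun a ha => by
    have : P ≤ RingHom.ker (aeval (R := R) x) := Ideal.span_le.mpr (by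
      rintro _ ⟨i, rfl⟩; simp [hxp i])
    exact this ha
  let Ψ := monoMap R p fun i => (Ideal.Quotient.mk P (X i) : MvPolynomial (Fin n) R ⧸ P)
  have hφΨ : ∀ g, φ (Ψ g) = monoMap R p x g := fun g => by
    simp only [Ψ, monoMap_apply, map_sum, map_smul, map_prod, map_pow]
    refine Finset.sum_congr rfl fun a _ => ?_
    congr 1
    refine Finset.prod_congr rfl fun i _ => ?_
    congr 1
    exact aeval_X _ _
  have hΨ : Function.Surjective Ψ := by
    intro y
    obtain ⟨f, rfl⟩ := Ideal.Quotient.mk_surjective y
    change Ideal.Quotient.mkₐ R P f ∈ LinearMap.range Ψ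
    induction f using MvPolynomial.induction_on' with
    | add a b ha hb => rw [map_add]; exact add_mem ha hb
    | monomial b t =>
      rw [show monomial b t = t • monomial b (1 : R) by simp [smul_monomial], map_smul]
      refine Submodule.smul_mem _ _ ?_
      by_cases hlt : ∀ i, b i < p
      · refine ⟨Pi.single (fun i => ⟨b i, hlt i⟩) 1, ?_⟩
        simp only [Ψ, monoMap]
        rw [Fintype.linearCombination_apply_single, one_smul]
        rw [monomial_eq, Finsupp.prod_fintype _ _ (fun _ => pow_zero _), map_one, one_mul,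
          map_prod]
        simp
      · push Not at hlt
        obtain ⟨i, hi⟩ := hlt
        refine ⟨0, ?_⟩
        rw [map_zero, eq_comm, Ideal.Quotient.mkₐ_eq_mk, Ideal.Quotient.eq_zero_iff_mem,
          monomial_eq, Finsupp.prod_fintype _ _ (fun _ => pow_zero _), map_one, one_mul,
          ← Finset.mul_prod_erase _ _ (Finset.mem_univ i), ← Nat.sub_add_cancel hi, pow_add, mul_comm,
          ← mul_assoc]
        exact Ideal.mul_mem_left _ _ (Ideal.subset_span ⟨i, rfl⟩)
  have hφ : Function.Bijective φ := by
    refine ⟨fun a b h => ?_, fun a => ?_⟩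
    · obtain ⟨g, rfl⟩ := hΨ a
      obtain ⟨g', rfl⟩ := hΨ b
      rw [hφΨ, hφΨ] at h
      rw [hb.1 h]
    · obtain ⟨g, rfl⟩ := hb.2 a
      exact ⟨Ψ g, hφΨ g⟩
  exact ⟨(AlgEquiv.ofBijective φ hφ).symm⟩

namespace CounitalMul

variable {k F : Type u} [Field k] [CommRing F] [Algebra k F] (c : CounitalMul k F)

include c

/-- A connected coaugmented algebra of height one has a basis of truncated monomials. -/
theorem exists_truncated_coords (p : ℕ) [Fact p.Prime] [CharP k p] [Module.Finite k F]
    (h1 : ∀ y ∈ RingHom.ker c.ε, y ^ p = 0) :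
    ∃ (r : ℕ) (x : Fin r → F) (d : Fin r → (F →ₗ[k] k)),
      (∀ i, x i ∈ RingHom.ker c.ε) ∧
      (∀ i a b, d i (a * b) = c.ε a * d i b + c.ε b * d i a) ∧
      (∀ i j, d i (x j) = if i = j then 1 else 0) ∧
      (∀ y ∈ RingHom.ker c.ε, y - ∑ i, d i y • x i ∈ (RingHom.ker c.ε) ^ 2) ∧
      Function.Bijective (monoMap k p x) := by
  classical
  obtain ⟨r, x, d, hx, hd, hdx, hspan⟩ := c.exists_coords
  refine ⟨r, x, d, hx, hd, hdx, hspan, ?_, ?_⟩
  · let ι : (Fin r → Fin p) → (Fin r →₀ ℕ) := fun a => Finsupp.equivFunOnFinite.symm fun i => (a i : ℕ)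
    have hι : Function.Injective ι := fun a b h => funext fun i => Fin.ext (by
      simpa [ι] using DFunLike.congr_fun h i)
    have hm : ∀ a, aeval x (monomial (ι a) (1 : k)) = ∏ i, x i ^ (a i : ℕ) := fun a => by
      rw [aeval_monomial, Finsupp.prod_fintype _ _ (fun _ => pow_zero _), map_one, one_mul]
      simp [ι]
    rw [← LinearMap.ker_eq_bot, LinearMap.ker_eq_bot']
    intro g hg
    rw [monoMap_apply] at hg
    let co : (Fin r →₀ ℕ) → F := fun b => ∑ a, if ι a = b then algebraMap k F (g a) else 0
    have hcoι : ∀ a, co (ι a) = algebraMap k F (g a) := fun a => by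
      simp only [co]
      rw [Finset.sum_eq_single a (fun t _ ht => if_neg (hι.ne ht)) (by simp), if_pos rfl]
    haveI : Nontrivial F := RingHom.domain_nontrivial c.ε.toRingHom
    have key := c.linearIndependent_monomials x d hx hd hdx (Finset.univ.image ι) ?_ co ?_ ?_
    · funext a
      apply (algebraMap k F).injective
      rw [Pi.zero_apply, map_zero, ← hcoι]
      exact key _ (Finset.mem_image_of_mem _ (Finset.mem_univ a))
    · intro b hb i m hm0 hmb
      obtain ⟨a, -, rfl⟩ := Finset.mem_image.mp hb
      rw [Ne, CharP.cast_eq_zero_iff k p]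
      exact fun h => by
        have := Nat.le_of_dvd hm0 h
        have := (a i).2
        simp [ι] at hmb
        omega
    · intro b hb i
      obtain ⟨a, -, rfl⟩ := Finset.mem_image.mp hb
      rw [hcoι, Derivation.map_algebraMap]
    · rw [Finset.sum_image hι.injOn]
      simpa only [hcoι, hm, ← Algebra.smul_def] using hg
  · intro y
    obtain ⟨f, rfl⟩ := c.aeval_surjective x d hx hspan y
    change aeval x f ∈ LinearMap.range (monoMap k p x)
    induction f using MvPolynomial.induction_on' with
    | add a b ha hb => rw [map_add]; exact add_mem ha hb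
    | monomial b t =>
      rw [show monomial b t = t • monomial b (1 : k) by simp [smul_monomial], map_smul]
      refine Submodule.smul_mem _ _ ?_
      rw [aeval_monomial, Finsupp.prod_fintype _ _ (fun _ => pow_zero _), map_one, one_mul]
      by_cases hlt : ∀ i, b i < p
      · refine ⟨Pi.single (fun i => ⟨b i, hlt i⟩) 1, ?_⟩
        simp only [monoMap]
        rw [Fintype.linearCombination_apply_single, one_smul]
      · push Not at hlt
        obtain ⟨i, hi⟩ := hlt
        refine ⟨0, ?_⟩
        rw [map_zero, ← Finset.mul_prod_erase _ _ (Finset.mem_univ i), ← Nat.sub_add_cancel hi,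
          pow_add, h1 _ (hx i), mul_zero, zero_mul]

end CounitalMul

end Groth.Agent.SGA3cLib
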